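import Groth.Agent.Misc4.RpushTrunc
import Groth.Agent.SiteCohomology.ModulesGrothendieck

/-!
# Unbounded direct images of objects with cohomology bounded above

If the higher direct images of a class of modules vanish above a degree and their cohomology on small objects is
bounded, then the unbounded derived direct image raises an upper bound on cohomology by at most that degree.
-/

universe u

set_option backward.defeqAttrib.useBackward true
set_option backward.isDefEq.respectTransparency false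
set_option linter.unusedSectionVars false
set_option linter.style.haveILetI false
set_option synthInstance.maxHeartbeats 400000
set_option maxHeartbeats 1000000

open CategoryTheory CategoryTheory.Limits CategoryTheory.Pretriangulated DerivedCategory Opposite

attribute [local instance] HasDerivedCategory.standard

namespace Groth.AdicLinTop.RpushBound

variable {C : Type u} [SmallCategory C] {J : GrothendieckTopology C} {O_C : Sheaf J CommRingCat.{u}}
  {D : Type u} [SmallCategory D] {K : GrothendieckTopology D} {O_D : Sheaf K CommRingCat.{u}}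
  (A : ObjectProperty (ModSite.Mod O_C)) [WSerre.IsWeakSerre A]
  (f : ModSite.RMor O_C O_D) [HasInjectiveResolutions (ModSite.Mod O_C)] [SiteCmp.HasRpushD f]

/-- The bound for bounded objects. -/
theorem isZero_homology_of_bounded (N : ℤ) (hN : 0 ≤ N)
    (h4 : ∀ F : ModSite.Mod O_C, A F → ∀ p : ℕ, N < (p : ℤ) → IsZero ((f.Rpush p).obj F))
    (a : ℤ) : ∀ (k : ℕ) (X : DerivedCategory (ModSite.Mod O_C)) (b : ℤ), b < a + k → X.IsGE a → X.IsLE b →
      WSerre.cohIn A X → ∀ i : ℤ, b + N < i →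
        IsZero ((homologyFunctor (ModSite.Mod O_D) i).obj ((SiteCmp.RpushD f).obj X)) := by
  let β := (SiteCmp.pushKh f).totalRightDerivedUnit DerivedCategory.Qh
      (HomotopyCategory.quasiIso (ModSite.Mod O_C) (ComplexShape.up ℤ))
  intro k
  induction k with
  | zero =>
    intro X b hb hge hle hX i hi
    have hz : IsZero X := TStructure.t.isZero X b a (by simpa using hb)
    have : X.IsGE (i + 1) := TStructure.t.isGE_of_isZero hz _
    have := Misc4.RFBounded.isGE_obj f.push (SiteCmp.RpushD f) β X (i + 1)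
    exact isZero_of_isGE _ (i + 1) i (by lia)
  | succ k ih =>
    intro X b hb hge hle hX i hi
    obtain ⟨T, hT, h1, ⟨e₂⟩, e₁, ⟨e₃⟩⟩ := Groth.DerivedAdj.exists_top_triangle X b (b - 1) (by lia)
    have hge₁ : IsGE T.obj₁ a := (isGE_iff _ _).2 fun q hq => by
      by_cases hqb : q ≤ b - 1
      · exact (isZero_of_isGE X a q hq).of_iso (e₁ q hqb).some
      · exact isZero_of_isLE T.obj₁ (b - 1) q (by lia)
    have hX₁ : WSerre.cohIn A T.obj₁ := fun q => by
      by_cases hqb : q ≤ b - 1
      · exact A.prop_of_iso (e₁ q hqb).some.symm (hX q)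
      · exact A.prop_of_isZero (isZero_of_isLE T.obj₁ (b - 1) q (by lia))
    have z₁ := ih T.obj₁ (b - 1) (by lia) hge₁ h1 hX₁ i (by lia)
    have z₃ : IsZero ((homologyFunctor (ModSite.Mod O_D) i).obj ((SiteCmp.RpushD f).obj T.obj₃)) := by
      obtain ⟨e'⟩ := Misc4.RFBounded.nonempty_homology_single f.push (SiteCmp.RpushD f) β
        ((homologyFunctor (ModSite.Mod O_C) b).obj X) b i (i - b).toNat (by lia)
      exact (h4 _ (hX b) _ (by lia)).of_iso ((homologyFunctor _ i).mapIso ((SiteCmp.RpushD f).mapIso e₃) ≪≫ e')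
    obtain ⟨δ, hδ⟩ := Groth.DAlg.RFTriangle.exists_distinguished f.push (SiteCmp.RpushD f) β T hT
    exact ((HomologySequence.exact₂ _ hδ i).isZero_X₂ (z₁.eq_of_src _ _) (z₃.eq_of_tgt _ _)).of_iso
      ((homologyFunctor _ i).mapIso ((SiteCmp.RpushD f).mapIso e₂.symm))

/-- Unbounded direct images of objects with cohomology bounded above are bounded above. -/
theorem isZero_homology_RpushD (B : Set C) (B' : Set D)
    (hB : ∀ U : C, ∃ (ι : Type u) (Y : ι → C) (g : ∀ i, Y i ⟶ U), Sieve.ofArrows Y g ∈ J U ∧ ∀ i, Y i ∈ B)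
    (hA : ∀ V ∈ B, ∃ d : ℕ, ∀ T ∈ J V, ∃ (ι : Type u) (Y : ι → C) (g : ∀ i, Y i ⟶ V),
      (∀ i, T.arrows (g i)) ∧ Sieve.ofArrows Y g ∈ J V ∧
      ∀ (i : ι) (F : ModSite.Mod O_C), A F → ∀ k : ℕ, d < k → Subsingleton (ModSite.HU O_C F k (Y i)))
    (hB' : ∀ U : D, ∃ (ι : Type u) (Y : ι → D) (g : ∀ i, Y i ⟶ U), Sieve.ofArrows Y g ∈ K U ∧ ∀ i, Y i ∈ B')
    (hA' : ∀ V ∈ B', ∃ d : ℕ, ∀ T ∈ K V, ∃ (ι : Type u) (Y : ι → D) (g : ∀ i, Y i ⟶ V),
      (∀ i, T.arrows (g i)) ∧ Sieve.ofArrows Y g ∈ K V ∧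
      ∀ (i : ι) (F : ModSite.Mod O_C), A F → ∀ k : ℕ, d < k → Subsingleton (ModSite.HU O_C F k (f.fn.obj (Y i))))
    (N : ℤ) (hN : 0 ≤ N)
    (h4 : ∀ F : ModSite.Mod O_C, A F → ∀ p : ℕ, N < (p : ℤ) → IsZero ((f.Rpush p).obj F))
    (X : DerivedCategory (ModSite.Mod O_C)) (hX : WSerre.cohIn A X) (e : ℤ) [X.IsLE e]
    (i : ℤ) (hi : e + N < i) :
    IsZero ((homologyFunctor (ModSite.Mod O_D) i).obj ((SiteCmp.RpushD f).obj X)) := by
  let n : ℕ := (N - i).toNat
  have := Misc4.RpushTrunc.isIso_homology_upstairs X A f B B' hB hA hB' hA' N h4 hX n i (by lia)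
  refine IsZero.of_iso ?_ (asIso ((homologyFunctor (ModSite.Mod O_D) i).map
      ((SiteCmp.RpushD f).map (CohCx.toTruncTower X n))))
  have hge : (CohCx.truncTower X n).IsGE (-(n : ℤ)) := inferInstanceAs (TStructure.t.IsGE _ _)
  have hiso : ∀ q : ℤ, -(n : ℤ) ≤ q → IsIso ((homologyFunctor (ModSite.Mod O_C) q).map (CohCx.toTruncTower X n)) :=
    fun q hq => Misc4.RlimTrunc.isIso_homology_toTrunc X n q hq
  have hle : (CohCx.truncTower X n).IsLE e := (isLE_iff _ _).2 fun q hq => by
    by_cases h : -(n : ℤ) ≤ q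
    · have := hiso q h
      exact (isZero_of_isLE X e q hq).of_iso (asIso ((homologyFunctor _ q).map (CohCx.toTruncTower X n))).symm
    · exact isZero_of_isGE _ (-(n : ℤ)) q (by lia)
  have hcoh : WSerre.cohIn A (CohCx.truncTower X n) := fun q => by
    by_cases h : -(n : ℤ) ≤ q
    · have := hiso q h
      exact A.prop_of_iso (asIso ((homologyFunctor _ q).map (CohCx.toTruncTower X n))) (hX q)
    · exact A.prop_of_isZero (isZero_of_isGE _ (-(n : ℤ)) q (by lia))
  exact isZero_homology_of_bounded A f N hN h4 (-(n : ℤ)) (e + n + 1).toNat _ e (by lia) hge hle hcoh i hi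

end Groth.AdicLinTop.RpushBound
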