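import Groth.Agent.AdicLinTop.CechHigher
import Groth.Agent.LocCohZBase.AcyclicDerived
import Groth.Agent.SiteCohomology.HigherDirectImage
import Groth.Agent.SiteCohomology.HK
import Groth.Agent.Misc7.SitePush.Modules
import Groth.Agent.CohBase.RpushAb
import Mathlib.AlgebraicGeometry.Morphisms.Affine

/-!
# Vanishing of higher direct images of modules from vanishing of cohomology on a basis

Along an affine morphism of formal schemes the higher direct images of filtered colimits of coherent modules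
vanish.
-/

set_option autoImplicit false

universe u

open CategoryTheory CategoryTheory.Limits TopologicalSpace Opposite

set_option backward.defeqAttrib.useBackward true
set_option backward.isDefEq.respectTransparency false
set_option backward.isDefEq.respectTransparency.types false
set_option synthInstance.maxHeartbeats 400000

namespace Groth.AdicLinTop.RpushVanish

open Groth.SitesTopoi.ModH

variable {X Y : TopCat.{u}} (b : X ⟶ Y)

instance preservesFiniteLimits_pushTop : PreservesFiniteLimits (CohTop.push b) :=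
  (TopCat.Sheaf.pullbackPushforwardAdjunction AddCommGrpCat.{u} b).rightAdjoint_preservesLimits.{0, 0}.preservesFiniteLimits

open ZeroObject in
/-- The sheaf associated to a presheaf whose sections vanish locally is zero. -/
theorem isZero_sheafify_of_locally {P : (Opens Y)ᵒᵖ ⥤ AddCommGrpCat.{u}}
    (h : ∀ (V : Opens Y), ∀ y ∈ V, ∃ (W : Opens Y) (_ : W ≤ V), y ∈ W ∧ Subsingleton (P.obj (op W))) :
    IsZero ((presheafToSheaf (Opens.grothendieckTopology Y) AddCommGrpCat.{u}).obj P) := by
  obtain ⟨e⟩ := Groth.CohBase.nonempty_sheafify_iso (P := P) (G := (0 : Groth.CohBase.AbSheaf Y)) 0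
    (fun V s _ y hy => by
      obtain ⟨W, hW, hyW, hsub⟩ := h V y hy
      exact ⟨W, hW, hyW, Subsingleton.elim _ _⟩)
    (fun V t y hy => by
      refine ⟨V, le_rfl, 0, hy, ?_⟩
      have : IsZero ((0 : Groth.CohBase.AbSheaf Y).obj.obj (op V)) :=
        ((sheafToPresheaf _ _ ⋙ (evaluation _ _).obj (op V))).map_isZero (isZero_zero _)
      exact (AddCommGrpCat.subsingleton_of_isZero this).elim _ _)
  exact (isZero_zero _).of_iso e

section Mod

variable {O' : Sheaf (Opens.grothendieckTopology X) CommRingCat.{u}}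
  {O : Sheaf (Opens.grothendieckTopology Y) CommRingCat.{u}}
  (P : ModSite.Mod O' ⥤ ModSite.Mod O) [P.Additive] [HasInjectiveResolutions (ModSite.Mod O')]
  (e : P ⋙ SheafOfModules.toSheaf.{u} (ModSite.ringSh O) ≅
    SheafOfModules.toSheaf.{u} (ModSite.ringSh O') ⋙ CohTop.push b)

include e in
/-- Higher direct images vanish when cohomology vanishes on preimages of small opens. -/
theorem isZero_rightDerived_push (M : ModSite.Mod O') (q : ℕ)
    (h : ∀ (V : Opens Y), ∀ y ∈ V, ∃ (W : Opens Y) (_ : W ≤ V), y ∈ W ∧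
      Subsingleton (CohTop.HU (ModSite.toAb M) (q + 1) ((Opens.map b).obj W))) :
    IsZero ((P.rightDerived (q + 1)).obj M) := by
  let G := SheafOfModules.toSheaf.{u} (ModSite.ringSh O')
  let W := SheafOfModules.toSheaf.{u} (ModSite.ringSh O)
  obtain ⟨i₁⟩ := Groth.SiteCohomology.nonempty_rightDerived_comp_exact P W (G ⋙ CohTop.push b) e.symm M (q + 1)
  let R : InjectiveResolution M := injectiveResolution M
  let A := (G.mapHomologicalComplex (ComplexShape.up ℕ)).obj R.cocomplex
  have hι : Mono (G.map (R.ι.f 0)) := by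
    have : Mono (R.ι.f 0) := inferInstance
    exact G.map_mono _
  obtain ⟨i₂⟩ := Groth.LocCohZBase.nonempty_homology_iso_of_acyclic (CohTop.push b) (q + 1) A (G.obj M)
    (G.map (R.ι.f 0))
    ((G.map_comp _ _).symm.trans ((congrArg G.map R.ι_f_zero_comp_complex_d).trans (G.map_zero _ _)))
    hι (R.exact₀.map G)
    (fun m => by
      rw [HomologicalComplex.exactAt_iff' _ m (m + 1) (m + 2) (by simp) (by simp)]
      exact (R.exact_succ m).map G)
    (fun m j => Groth.SiteCohomology.isZero_Rpush_top_of_subsingleton b _ (j + 1) fun V =>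
      Groth.SiteCohomology.subsingleton_HU_of_totallyAcyclic _ _
        (Groth.Misc7.SitePush.isTotallyAcyclic_toSheaf (ModSite.ringSh O') (R.cocomplex.X m)) _ j)
  have h0 : IsZero (((CohTop.push b).rightDerived (q + 1)).obj (G.obj M)) := by
    obtain ⟨i₃⟩ := Groth.SiteCohomology.nonempty_Rpush_top_iso b (G.obj M) (q + 1)
    exact (isZero_sheafify_of_locally h).of_iso i₃
  have h1 : IsZero (((G ⋙ CohTop.push b).rightDerived (q + 1)).obj M) :=
    (h0.of_iso i₂).of_iso (R.isoRightDerivedObj (G ⋙ CohTop.push b) (q + 1))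
  have h2 : IsZero (W.obj ((P.rightDerived (q + 1)).obj M)) := h1.of_iso i₁.symm
  rw [IsZero.iff_id_eq_zero] at h2 ⊢
  exact W.map_injective (by rw [W.map_id, W.map_zero]; exact h2)

end Mod

section Formal

open AlgebraicGeometry

/-- Higher direct images along affine morphisms of formal schemes vanish. -/
theorem isZero_RpushF {𝔛 𝔜 : FSch.Sys.{u}} (h𝔛 : 𝔛.IsLocNoethFormal) (h𝔜 : 𝔜.IsFormal) (g : 𝔛 ⟶ 𝔜)
    [AlgebraicGeometry.IsAffineHom ((g : FSch.Hom 𝔛 𝔜).app 0)] [HasInjectiveResolutions (FSch.ModF 𝔛 h𝔛.1)]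
    (M : FSch.ModF 𝔛 h𝔛.1) (hM : ObjectProperty.ind.{u} (IndCoh.cohP h𝔛) M) (q : ℕ) :
    IsZero ((FSch.RpushF g h𝔛.1 h𝔜 (q + 1)).obj M) :=
  isZero_rightDerived_push ((g : FSch.Hom 𝔛 𝔜).app 0).base (O' := 𝔛.Osh h𝔛.1) (O := 𝔜.Osh h𝔜)
    (FSch.pushF g h𝔛.1 h𝔜) (Iso.refl _) M q fun V y hy => by
      obtain ⟨_, ⟨W, hW, rfl⟩, hyW, hWV⟩ := (𝔜.X 0).isBasis_affineOpens.exists_subset_of_mem_open hy V.2
      exact ⟨W, hWV, hyW, CechHigher.hVanish_of_ind h𝔛 hM q (hW.preimage ((g : FSch.Hom 𝔛 𝔜).app 0))⟩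

end Formal

end Groth.AdicLinTop.RpushVanish
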