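import Mathlib.RingTheory.AdicCompletion.Algebra
import Mathlib.RingTheory.AdicCompletion.Completeness
import Mathlib.RingTheory.AdicCompletion.RingHom
import Mathlib.RingTheory.RingHom.Flat
import Mathlib.LinearAlgebra.TensorProduct.Tower
import Mathlib.RingTheory.Flat.Stability
import Mathlib.RingTheory.Ideal.Quotient.Operations

/-!
Quotients of adic completions by powers of the ideal; flatness of quotient maps.
-/

open TensorProduct

universe u v w

namespace Groth.AdicLinTop.CompletionQuot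

variable {R : Type u} [CommRing R] (I : Ideal R)

theorem evalₐ_algebraMap (n : ℕ) (r : R) :
    AdicCompletion.evalₐ I n (algebraMap R (AdicCompletion I R) r) = Ideal.Quotient.mk (I ^ n) r :=
  (AdicCompletion.evalₐ I n).commutes r

theorem ker_evalₐ (hI : I.FG) (n : ℕ) :
    RingHom.ker (AdicCompletion.evalₐ I n).toRingHom = (I.map (algebraMap R (AdicCompletion I R))) ^ n := by
  refine le_antisymm (fun x hx => ?_) ?_
  · have hx' : x ∈ (AdicCompletion.eval I R n).ker := by
      rw [LinearMap.mem_ker, ← AdicCompletion.factor_evalₐ_eq_eval I (n := n) x (by simp)]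
      rw [show AdicCompletion.evalₐ I n x = 0 from hx, map_zero]
    rw [← AdicCompletion.pow_smul_top_eq_ker_eval hI, Ideal.smul_top_eq_map] at hx'
    rw [← Ideal.map_pow]
    exact hx'
  · rw [← Ideal.map_pow, Ideal.map_le_iff_le_comap]
    intro r hr
    show AdicCompletion.evalₐ I n _ = 0
    rw [evalₐ_algebraMap, Ideal.Quotient.eq_zero_iff_mem.mpr hr]

theorem isAdicComplete_map (hI : I.FG) :
    IsAdicComplete (I.map (algebraMap R (AdicCompletion I R))) (AdicCompletion I R) :=
  (IsAdicComplete.map_algebraMap_iff (S := AdicCompletion I R) (I := I) (AdicCompletion I R)).mpr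
    (AdicCompletion.isAdicComplete hI)

variable {C : Type v} [CommRing C] [Algebra R C] {N : Type w} [CommRing N] (h : R ⧸ I →+* N)
  (p : C →+* N)

theorem exists_linearEquiv (hp : Function.Surjective p)
    (hker : RingHom.ker p ≤ I.map (algebraMap R C))
    (hcomm : ∀ r, p (algebraMap R C r) = h (Ideal.Quotient.mk I r)) :
    letI := h.toAlgebra
    Nonempty ((R ⧸ I) ⊗[R] C ≃ₗ[R ⧸ I] N) := by
  letI := h.toAlgebra
  letI : Algebra R N := (h.comp (Ideal.Quotient.mk I)).toAlgebra
  haveI : IsScalarTower R (R ⧸ I) N := IsScalarTower.of_algebraMap_eq fun r => rfl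
  let pl : C →ₗ[R] N := ({ p with commutes' := hcomm } : C →ₐ[R] N).toLinearMap
  let F : (R ⧸ I) ⊗[R] C →ₗ[R ⧸ I] N := pl.liftBaseChange (R ⧸ I)
  have hmk : ∀ z : (R ⧸ I) ⊗[R] C, ∃ c, z = 1 ⊗ₜ c := fun z => by
    induction z using TensorProduct.induction_on with
    | zero => exact ⟨0, by simp⟩
    | tmul q c =>
      obtain ⟨r, rfl⟩ := Ideal.Quotient.mk_surjective q
      refine ⟨r • c, ?_⟩
      rw [← TensorProduct.smul_tmul]
      congr 1
      simp [Algebra.smul_def]
    | add a b ha hb =>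
      obtain ⟨c, rfl⟩ := ha
      obtain ⟨d, rfl⟩ := hb
      exact ⟨c + d, (TensorProduct.tmul_add _ _ _).symm⟩
  have hF : ∀ c, F (1 ⊗ₜ c) = p c := fun c => by simp [F, pl]
  refine ⟨LinearEquiv.ofBijective F ⟨(injective_iff_map_eq_zero _).mpr fun z hz => ?_, fun y => ?_⟩⟩
  · obtain ⟨c, rfl⟩ := hmk z
    rw [hF] at hz
    have hc : c ∈ I • (⊤ : Submodule R C) := by
      rw [Ideal.smul_top_eq_map]
      exact hker hz
    refine Submodule.smul_induction_on hc (fun r hr m _ => ?_) (fun a b ha hb => ?_)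
    · rw [← TensorProduct.smul_tmul,
        show r • (1 : R ⧸ I) = 0 by rw [Algebra.smul_def, mul_one]; exact Ideal.Quotient.eq_zero_iff_mem.mpr hr,
        TensorProduct.zero_tmul]
    · rw [TensorProduct.tmul_add, ha, hb, add_zero]
  · obtain ⟨c, rfl⟩ := hp y
    exact ⟨1 ⊗ₜ c, hF c⟩

theorem flat_tensor_of_flat (hp : Function.Surjective p)
    (hker : RingHom.ker p ≤ I.map (algebraMap R C))
    (hcomm : ∀ r, p (algebraMap R C r) = h (Ideal.Quotient.mk I r)) (hflat : h.Flat) :
    Module.Flat (R ⧸ I) ((R ⧸ I) ⊗[R] C) := by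
  obtain ⟨e⟩ := exists_linearEquiv I h p hp hker hcomm
  letI := h.toAlgebra
  haveI : Module.Flat (R ⧸ I) N := hflat
  exact Module.Flat.of_linearEquiv e

theorem flat_of_flat (hp : Function.Surjective p)
    (hker : RingHom.ker p ≤ I.map (algebraMap R C))
    (hcomm : ∀ r, p (algebraMap R C r) = h (Ideal.Quotient.mk I r)) [Module.Flat R C] : h.Flat := by
  obtain ⟨e⟩ := exists_linearEquiv I h p hp hker hcomm
  letI := h.toAlgebra
  show Module.Flat (R ⧸ I) N
  exact Module.Flat.of_linearEquiv e.symm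

/-- Universal property: a ring map into a complete ring extends to the completion. -/
theorem exists_lift {S : Type v} [CommRing S] (K : Ideal S) [IsAdicComplete K S] (ψ : R →+* S)
    (hK : I.map ψ ≤ K) :
    ∃ F : AdicCompletion I R →+* S, F.comp (algebraMap R (AdicCompletion I R)) = ψ := by
  have hle : ∀ n, I ^ n ≤ (K ^ n).comap ψ := fun n => by
    rw [← Ideal.map_le_iff_le_comap, Ideal.map_pow]
    exact Ideal.pow_right_mono hK n
  let f : (n : ℕ) → AdicCompletion I R →+* S ⧸ K ^ n := fun n =>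
    (Ideal.quotientMap (K ^ n) ψ (hle n)).comp (AdicCompletion.evalₐ I n).toRingHom
  have hf : ∀ {m n : ℕ} (h : m ≤ n), (Ideal.Quotient.factorPow K h).comp (f n) = f m := by
    intro m n h
    refine RingHom.ext fun x => ?_
    obtain ⟨y, rfl⟩ := AdicCompletion.mk_surjective I _ x
    simp only [f, RingHom.coe_comp, Function.comp_apply, AlgHom.toRingHom_eq_coe, RingHom.coe_coe]
    rw [AdicCompletion.evalₐ_mk, AdicCompletion.evalₐ_mk, Ideal.quotientMap_mk, Ideal.quotientMap_mk,
      Ideal.Quotient.factorPow, Ideal.Quotient.factor_mk, Ideal.Quotient.eq, ← map_sub]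
    refine hle m ?_
    have hy := y.2 h
    rw [SModEq.sub_mem, smul_eq_mul, Ideal.mul_top] at hy
    rw [← neg_sub]
    exact (I ^ m).neg_mem hy
  refine ⟨IsAdicComplete.liftRingHom K f hf, RingHom.ext fun p => ?_⟩
  refine sub_eq_zero.mp (IsHausdorff.haus' (I := K) _ fun n => ?_)
  rw [RingHom.comp_apply, SModEq.zero, smul_eq_mul, Ideal.mul_top, ← Ideal.Quotient.eq_zero_iff_mem,
    map_sub, IsAdicComplete.mk_liftRingHom, sub_eq_zero]
  simp only [f, RingHom.coe_comp, Function.comp_apply, AlgHom.toRingHom_eq_coe, RingHom.coe_coe]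
  rw [evalₐ_algebraMap, Ideal.quotientMap_mk]

theorem exists_sub_mem (hI : I.FG) (n : ℕ) (x : AdicCompletion I R) :
    ∃ r, x - algebraMap R (AdicCompletion I R) r ∈ (I.map (algebraMap R (AdicCompletion I R))) ^ n := by
  obtain ⟨r, hr⟩ := Ideal.Quotient.mk_surjective (AdicCompletion.evalₐ I n x)
  refine ⟨r, ?_⟩
  rw [← ker_evalₐ I hI n]
  show AdicCompletion.evalₐ I n (x - algebraMap R (AdicCompletion I R) r) = 0
  rw [map_sub, evalₐ_algebraMap, hr, sub_self]

end Groth.AdicLinTop.CompletionQuot
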