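import Mathlib.RingTheory.AdicCompletion.AsTensorProduct
import Mathlib.RingTheory.AdicCompletion.Exactness
import Mathlib.RingTheory.AdicCompletion.Noetherian
import Mathlib.RingTheory.AdicCompletion.Completeness
import Mathlib.RingTheory.Flat.FaithfullyFlat.Algebra
import Mathlib.RingTheory.Filtration
import Mathlib.RingTheory.Nakayama
import Mathlib.RingTheory.Jacobson.Ideal
import Mathlib.RingTheory.Finiteness.Basic
import Mathlib.LinearAlgebra.Matrix.Charpoly.LinearMap
import Mathlib.RingTheory.Ideal.Maximal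
import Mathlib.Tactic.TFAE

/-!
Elementary facts on adically complete rings and finite modules.
-/

set_option autoImplicit false

open TensorProduct

namespace Groth.AdicLinTop.Adic

variable {A : Type*} [CommRing A] {I : Ideal A} {M N : Type*} [AddCommGroup M] [Module A M]
  [AddCommGroup N] [Module A N]

theorem mem_pow_smul_pi {ι : Type*} [Finite ι] (J : Ideal A) (x : ι → A) :
    x ∈ J • (⊤ : Submodule A (ι → A)) ↔ ∀ i, x i ∈ J := by
  classical
  haveI := Fintype.ofFinite ι
  refine ⟨fun hx i => ?_, fun h => ?_⟩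
  · refine Submodule.smul_induction_on hx (fun r hr y _ => J.mul_mem_right _ hr) fun y z hy hz => ?_
    exact J.add_mem hy hz
  · rw [pi_eq_sum_univ x]
    exact sum_mem fun i _ => Submodule.smul_mem_smul (h i) Submodule.mem_top

theorem isPrecomplete_pi {ι : Type*} [Finite ι] [IsPrecomplete I A] : IsPrecomplete I (ι → A) := by
  refine ⟨fun f hf => ?_⟩
  have h : ∀ i, ∃ L, ∀ k, f k i ≡ L [SMOD (I ^ k • ⊤ : Submodule A A)] := fun i =>
    IsPrecomplete.prec inferInstance fun {p q} hpq => by
      rw [SModEq.sub_mem, smul_eq_mul, Ideal.mul_top]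
      exact (mem_pow_smul_pi _ _).mp (SModEq.sub_mem.mp (hf hpq)) i
  choose L hL using h
  refine ⟨L, fun k => SModEq.sub_mem.mpr ((mem_pow_smul_pi _ _).mpr fun i => ?_)⟩
  simpa [SModEq.sub_mem] using hL i k

theorem isPrecomplete_of_surjective [IsPrecomplete I M] (φ : M →ₗ[A] N) (h : Function.Surjective φ) :
    IsPrecomplete I N := by
  refine AdicCompletion.of_surjective_iff.mp fun z => ?_
  obtain ⟨w, rfl⟩ := AdicCompletion.map_surjective (I := I) h z
  obtain ⟨m, rfl⟩ := AdicCompletion.of_surjective I M w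
  exact ⟨φ m, (AdicCompletion.map_of (I := I) φ m).symm⟩

theorem isPrecomplete_of_finite [IsPrecomplete I A] [Module.Finite A M] : IsPrecomplete I M := by
  obtain ⟨m, φ, hφ⟩ := Module.Finite.exists_fin' A M
  haveI : IsPrecomplete I (Fin m → A) := isPrecomplete_pi
  exact isPrecomplete_of_surjective φ hφ

theorem isAdicComplete_of_finite [IsNoetherianRing A] [IsAdicComplete I A] [Module.Finite A M] :
    IsAdicComplete I M :=
  haveI := IsHausdorff.of_le_jacobson I M (IsAdicComplete.le_jacobson_bot I)
  haveI := isPrecomplete_of_finite (I := I) (M := M)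
  {}

theorem range_le_of_mem {n : ℕ} {w : M →ₗ[A] N}
    (hw : w ∈ I ^ n • (⊤ : Submodule A (M →ₗ[A] N))) :
    LinearMap.range w ≤ I ^ n • ⊤ := by
  rintro _ ⟨x, rfl⟩
  refine Submodule.smul_induction_on hw (fun r hr y _ => ?_) fun y z hy hz => ?_
  · exact Submodule.smul_mem_smul hr Submodule.mem_top
  · exact add_mem hy hz

theorem exists_range_le_imp [IsNoetherianRing A] [Module.Finite A M] [Module.Finite A N] (n : ℕ) :
    ∃ m : ℕ, ∀ u : M →ₗ[A] N, LinearMap.range u ≤ I ^ m • (⊤ : Submodule A N) →
      u ∈ I ^ n • (⊤ : Submodule A (M →ₗ[A] N)) := by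
  classical
  obtain ⟨r, g, hg⟩ := Submodule.fg_iff_exists_fin_generating_family.mp
    (Module.Finite.fg_top (R := A) (M := M))
  let ev : (M →ₗ[A] N) →ₗ[A] (Fin r → N) := LinearMap.pi fun i => LinearMap.applyₗ (g i)
  have hev : Function.Injective ev := fun u v h => LinearMap.ext_on_range hg fun i => congrFun h i
  obtain ⟨c, hc⟩ := Ideal.exists_pow_inf_eq_pow_smul I (LinearMap.range ev)
  refine ⟨n + c, fun u hu => ?_⟩
  have h1 : ev u ∈ I ^ (n + c) • (⊤ : Submodule A (Fin r → N)) := by
    have he : ev u = ∑ i, LinearMap.single A (fun _ => N) i (ev u i) := by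
      ext j; simp [Pi.single_apply]
    rw [he]
    refine sum_mem fun i _ => ?_
    refine (Submodule.map_smul'' (I ^ (n + c)) ⊤ (LinearMap.single A (fun _ => N) i)).le.trans
      (Submodule.smul_mono le_rfl le_top) ⟨_, hu ⟨g i, rfl⟩, rfl⟩
  have h2 : ev u ∈ I ^ n • (I ^ c • ⊤ ⊓ LinearMap.range ev) := by
    have h3 := hc (n + c) (Nat.le_add_left c n)
    rw [Nat.add_sub_cancel] at h3
    rw [← h3]
    exact ⟨h1, u, rfl⟩
  have h4 : ev u ∈ Submodule.map ev (I ^ n • ⊤) := by
    rw [Submodule.map_smul'', Submodule.map_top]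
    exact Submodule.smul_mono le_rfl inf_le_right h2
  obtain ⟨u', hu', he⟩ := h4
  exact hev he ▸ hu'

theorem exists_injective_add [IsNoetherianRing A] [IsAdicComplete I A] [Module.Finite A M]
    [Module.Finite A N] (v : M →ₗ[A] N) (hv : Function.Injective v) :
    ∃ k : ℕ, ∀ w ∈ I ^ k • (⊤ : Submodule A (M →ₗ[A] N)), Function.Injective (v + w) := by
  haveI := IsHausdorff.of_le_jacobson I M (IsAdicComplete.le_jacobson_bot I)
  obtain ⟨c, hc⟩ := Ideal.exists_pow_inf_eq_pow_smul I (LinearMap.range v)
  refine ⟨c + 1, fun w hw => (injective_iff_map_eq_zero _).mpr fun x hx => ?_⟩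
  have key : ∀ j, x ∈ I ^ j • (⊤ : Submodule A M) := by
    intro j
    induction j with
    | zero => simp
    | succ j ih =>
      have h1 : v x ∈ I ^ (j + (c + 1)) • (⊤ : Submodule A N) := by
        have h2 : w x ∈ I ^ (j + (c + 1)) • (⊤ : Submodule A N) := by
          have h4 := Submodule.mem_map_of_mem (f := w) ih
          rw [Submodule.map_smul'', Submodule.map_top] at h4
          have h5 := Submodule.smul_mono le_rfl (range_le_of_mem hw) h4
          rwa [← Submodule.smul_assoc, smul_eq_mul, ← pow_add] at h5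
        have h3 : v x = -(w x) := eq_neg_of_add_eq_zero_left hx
        rw [h3]
        exact neg_mem h2
      have h3 := hc (j + (c + 1)) (by omega)
      rw [show j + (c + 1) - c = j + 1 by omega] at h3
      have h4 : v x ∈ I ^ (j + 1) • (I ^ c • ⊤ ⊓ LinearMap.range v) := h3 ▸ ⟨h1, x, rfl⟩
      have h5 : v x ∈ Submodule.map v (I ^ (j + 1) • ⊤) := by
        rw [Submodule.map_smul'', Submodule.map_top]
        exact Submodule.smul_mono le_rfl inf_le_right h4
      obtain ⟨x', hx', he⟩ := h5
      exact hv he ▸ hx'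
  exact IsHausdorff.haus' (I := I) x fun j => SModEq.zero.mpr (key j)

theorem surjective_add [IsAdicComplete I A] [Module.Finite A N] {v w : M →ₗ[A] N}
    (hv : Function.Surjective v) (hw : w ∈ I • (⊤ : Submodule A (M →ₗ[A] N))) :
    Function.Surjective (v + w) := by
  have h : (⊤ : Submodule A N) ≤ LinearMap.range (v + w) ⊔ I • ⊤ := fun y _ => by
    obtain ⟨x, rfl⟩ := hv y
    have hwx : w x ∈ I • (⊤ : Submodule A N) := by
      have := range_le_of_mem (n := 1) (w := w) (I := I) (by rwa [pow_one]) ⟨x, rfl⟩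
      rwa [pow_one] at this
    rw [show v x = (v + w) x - w x by simp]
    exact sub_mem (Submodule.mem_sup_left ⟨x, rfl⟩) (Submodule.mem_sup_right hwx)
  intro y
  exact Submodule.le_of_le_smul_of_le_jacobson_bot Module.Finite.fg_top
    (IsAdicComplete.le_jacobson_bot I) h (Submodule.mem_top (x := y))

end Groth.AdicLinTop.Adic

namespace Groth.AdicLinTop.Adic

universe u

theorem le_jacobson_tfae (A : Type u) [CommRing A] [IsNoetherianRing A] (I : Ideal A) :
    List.TFAE [I ≤ (⊥ : Ideal A).jacobson,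
      Module.FaithfullyFlat A (AdicCompletion I A),
      ∀ (M : Type u) [AddCommGroup M] [Module A M], Module.Finite A M → IsHausdorff I M,
      ∀ (M : Type u) [AddCommGroup M] [Module A M], Module.Finite A M →
        ∀ P : Submodule A M, (⨅ n : ℕ, P ⊔ I ^ n • (⊤ : Submodule A M)) = P] := by
  tfae_have 1 → 2 := by
    intro h
    refine { toFlat := AdicCompletion.flat_of_isNoetherian I, submodule_ne_top := fun m hm he => ?_ }
    have hIm : I ≤ m := h.trans (sInf_le ⟨bot_le, hm⟩)
    have h1 : (AdicCompletion.of I A 1) ∈ m • (⊤ : Submodule A (AdicCompletion I A)) :=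
      he.ge Submodule.mem_top
    have h2 := Submodule.mem_map_of_mem (f := AdicCompletion.eval I A 1) h1
    rw [Submodule.map_smul'', AdicCompletion.eval_of] at h2
    have h3 : Submodule.mkQ _ (1 : A) ∈ Submodule.map (I ^ 1 • ⊤ : Submodule A A).mkQ
        (m • ⊤) := by
      rw [Submodule.map_smul'', Submodule.map_top, Submodule.range_mkQ]
      exact Submodule.smul_mono le_rfl le_top h2
    obtain ⟨y, hy, hy1⟩ := h3
    rw [smul_eq_mul, Ideal.mul_top] at hy
    rw [Submodule.mkQ_apply, Submodule.mkQ_apply, Submodule.Quotient.eq, smul_eq_mul,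
      Ideal.mul_top, pow_one] at hy1
    exact hm.ne_top ((Ideal.eq_top_iff_one m).mpr (by simpa using m.sub_mem hy (hIm hy1)))
  tfae_have 2 → 3 := by
    intro h M _ _ hM
    refine AdicCompletion.of_injective_iff.mp ?_
    have hc : ⇑(AdicCompletion.of I M) =
        ⇑(AdicCompletion.ofTensorProduct I M) ∘ ⇑(TensorProduct.mk A (AdicCompletion I A) M 1) := by
      funext x
      simp [AdicCompletion.ofTensorProduct_tmul]
    rw [hc]
    exact (AdicCompletion.ofTensorProduct_bijective_of_finite_of_isNoetherian I M).1.comp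
      (Module.FaithfullyFlat.tensorProduct_mk_injective (B := AdicCompletion I A) M)
  tfae_have 3 → 4 := by
    intro h M _ _ hM P
    refine le_antisymm (fun x hx => ?_) (le_iInf fun n => le_sup_left)
    rw [← Submodule.Quotient.mk_eq_zero]
    refine (h (M ⧸ P) inferInstance).haus' _ fun n => SModEq.zero.mpr ?_
    obtain ⟨a, ha, b, hb, rfl⟩ := Submodule.mem_sup.mp ((Submodule.mem_iInf _).mp hx n)
    have := Submodule.mem_map_of_mem (f := P.mkQ) hb
    rw [Submodule.map_smul'', Submodule.map_top, Submodule.range_mkQ] at this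
    rwa [Submodule.Quotient.mk_add, (Submodule.Quotient.mk_eq_zero P).mpr ha, zero_add]
  tfae_have 4 → 1 := by
    intro h
    refine le_sInf fun m hm => ?_
    by_contra hI
    have htop : ∀ n : ℕ, (m ⊔ I ^ n • (⊤ : Submodule A A)) = ⊤ := fun n => by
      rw [smul_eq_mul, Ideal.mul_top]
      rcases n with _ | n
      · simp
      · exact Ideal.sup_pow_eq_top (hm.2.1.2 _ (lt_of_le_of_ne le_sup_left fun h => hI (h ▸ le_sup_right)))
    exact hm.2.ne_top (top_le_iff.mp ((le_iInf fun n => (htop n).ge).trans (h A inferInstance m).le))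
  tfae_finish

end Groth.AdicLinTop.Adic
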