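import Groth.Agent.AdicLinTop.GlobalGen

/-!
# Cocycles of a finitely generated module on an affine open of a formal scheme split
-/

set_option autoImplicit false

universe u

open CategoryTheory CategoryTheory.Limits AlgebraicGeometry TopologicalSpace Opposite

set_option backward.defeqAttrib.useBackward true
set_option backward.isDefEq.respectTransparency false
set_option backward.isDefEq.respectTransparency.types false
set_option synthInstance.maxHeartbeats 400000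

namespace Groth.AdicLinTop.CechOne

open Groth.SitesTopoi.ModH Groth.AdicLinTop.SpacePres Groth.AdicLinTop.CohKer Groth.AdicLinTop.FormalLevels
open Groth.AdicLinTop.FormalAffine Groth.AdicLinTop.AffineGlue Groth.AdicLinTop.AffineSections
open Groth.AdicLinTop.GlobalGen

variable {𝔛 : FSch.Sys.{u}} (h𝔛 : 𝔛.IsLocNoethFormal) {F : FSch.ModF 𝔛 h𝔛.1} {U : (𝔛.X 0).Opens}
variable {J : Type u} (f : J → RS h𝔛.1 U)

/-- A family on the overlaps satisfying the cocycle condition. -/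
def IsCocycle (δ : ∀ l m, sc F.val (ov2 h𝔛 f l m)) : Prop :=
  ∀ l m r,
    rm F (le_inf (inf_le_left.trans inf_le_left) inf_le_right : ov2 h𝔛 f l m ⊓ bas h𝔛 (f r) ≤ ov2 h𝔛 f l r) (δ l r) -
      rm F (le_inf (inf_le_left.trans inf_le_right) inf_le_right : ov2 h𝔛 f l m ⊓ bas h𝔛 (f r) ≤ ov2 h𝔛 f m r) (δ m r) =
    rm F (inf_le_left : ov2 h𝔛 f l m ⊓ bas h𝔛 (f r) ≤ ov2 h𝔛 f l m) (δ l m)

/-- The differences of a family. -/
noncomputable def diff (σ : ∀ l, sc F.val (bas h𝔛 (f l))) (l m : J) : sc F.val (ov2 h𝔛 f l m) :=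
  rm F (inf_le_left : ov2 h𝔛 f l m ≤ _) (σ l) - rm F (inf_le_right : ov2 h𝔛 f l m ≤ _) (σ m)

lemma isCocycle_sub {δ : ∀ l m, sc F.val (ov2 h𝔛 f l m)} (hδ : IsCocycle h𝔛 f δ)
    (σ : ∀ l, sc F.val (bas h𝔛 (f l))) : IsCocycle h𝔛 f fun l m => δ l m - diff h𝔛 f σ l m := fun l m r => by
  simp only [diff, map_sub, rm_rm, ← hδ l m r]
  abel

variable [Finite J] {n : J → ℕ} (D : ∀ l, GenData (O := 𝔛.Osh h𝔛.1) F (bas h𝔛 (f l)) (n l))

include D in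
/-- A cocycle divisible by a power of the ideal splits up to a higher power. -/
theorem exists_split_step (hU : IsAffineOpen U) (hF : RelFin (O := 𝔛.Osh h𝔛.1) F)
    (hcov : ∀ x ∈ U, ∃ l, x ∈ bas h𝔛 (f l)) {k : ℕ} (δ : ∀ l m, sc F.val (ov2 h𝔛 f l m))
    (hδ : IsCocycle h𝔛 f δ) (hk : ∀ l m, δ l m ∈ Ipow h𝔛 (ov2 h𝔛 f l m) k) :
    ∃ σ : ∀ l, sc F.val (bas h𝔛 (f l)), (∀ l, σ l ∈ Ipow h𝔛 (bas h𝔛 (f l)) k) ∧
      ∀ l m, δ l m - diff h𝔛 f σ l m ∈ Ipow h𝔛 (ov2 h𝔛 f l m) (k + 1) := by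
  classical
  have := Fintype.ofFinite J
  have hV := fun l => isAffineOpen_bas h𝔛 hU (f l)
  have hext := fun l m => exists_extend' h𝔛 (hV l) hF (D l) (resR h𝔛.1 (bas_le h𝔛 (f l)) (f m))
    (inf_le_left : ov2 h𝔛 f l m ≤ _) (ov2_eq h𝔛 f l m) (show k ≤ k + 1 by omega) (hk l m)
  choose q ε₀ hε₀ hε₀' using hext
  let N := Finset.univ.sup fun lm : J × J => q lm.1 lm.2
  let ε₁ : ∀ l, J → sc F.val (bas h𝔛 (f l)) := fun l m =>
    resR h𝔛.1 (bas_le h𝔛 (f l)) (f m) ^ (N - q l m) • ε₀ l m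
  have hε₁ : ∀ l m, resR h𝔛.1 (inf_le_left.trans (bas_le h𝔛 (f l)) : ov2 h𝔛 f l m ≤ U) (f m) ^ N • δ l m -
      rm F (inf_le_left : ov2 h𝔛 f l m ≤ _) (ε₁ l m) ∈ Ipow h𝔛 (ov2 h𝔛 f l m) (k + 1) := fun l m => by
    have h := Submodule.smul_mem _
      (resR h𝔛.1 (inf_le_left.trans (bas_le h𝔛 (f l)) : ov2 h𝔛 f l m ≤ U) (f m) ^ (N - q l m)) (hε₀' l m)
    rw [smul_sub, rr_rr, smul_smul, ← pow_add, Nat.sub_add_cancel (Finset.le_sup
      (f := fun lm : J × J => q lm.1 lm.2) (Finset.mem_univ (l, m)) : q l m ≤ N)] at h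
    simp only [ε₁, rm_smul, map_pow, rr_rr]
    exact h
  have htriple : ∀ l m r, ∃ t : ℕ, resR h𝔛.1 (inf_le_left.trans (bas_le h𝔛 (f l)) : ov2 h𝔛 f l m ≤ U) (f r) ^ t •
      (resR h𝔛.1 (inf_le_left.trans (bas_le h𝔛 (f l)) : ov2 h𝔛 f l m ≤ U) (f r) ^ N • δ l m -
        (rm F (inf_le_left : ov2 h𝔛 f l m ≤ _) (ε₁ l r) - rm F (inf_le_right : ov2 h𝔛 f l m ≤ _) (ε₁ m r))) ∈
        Ipow h𝔛 (ov2 h𝔛 f l m) (k + 1) := fun l m r => by
    refine exists_pow_smul_mem' h𝔛 (isAffineOpen_ov2 h𝔛 f hU l m) hF ((D l).restrict inf_le_left) _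
      (inf_le_left : ov2 h𝔛 f l m ⊓ bas h𝔛 (f r) ≤ _) (ov3_eq h𝔛 f l m r) k ?_
    have hl : ov2 h𝔛 f l m ⊓ bas h𝔛 (f r) ≤ ov2 h𝔛 f l r := le_inf (inf_le_left.trans inf_le_left) inf_le_right
    have hm : ov2 h𝔛 f l m ⊓ bas h𝔛 (f r) ≤ ov2 h𝔛 f m r := le_inf (inf_le_left.trans inf_le_right) inf_le_right
    have hW := isAffineOpen_ov3 h𝔛 f hU l m r
    have a := rm_mem h𝔛 (isAffineOpen_ov2 h𝔛 f hU l r) hW hl (hε₁ l r)
    have b := rm_mem h𝔛 (isAffineOpen_ov2 h𝔛 f hU m r) hW hm (hε₁ m r)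
    have c := sub_mem a b
    simp only [map_sub, rm_smul, map_pow, rm_rm, rr_rr, smul_sub] at c ⊢
    rw [← hδ l m r, smul_sub]
    convert c using 1
    abel
  choose t ht using htriple
  let t₀ := Finset.univ.sup fun x : J × J × J => t x.1 x.2.1 x.2.2
  let ε : ∀ l, J → sc F.val (bas h𝔛 (f l)) := fun l r => resR h𝔛.1 (bas_le h𝔛 (f l)) (f r) ^ t₀ • ε₁ l r
  have hε : ∀ l r, ε l r ∈ Ipow h𝔛 (bas h𝔛 (f l)) k := fun l r =>
    Submodule.smul_mem _ _ (Submodule.smul_mem _ _ (hε₀ l r))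
  have hε' : ∀ l m r, resR h𝔛.1 (inf_le_left.trans (bas_le h𝔛 (f l)) : ov2 h𝔛 f l m ≤ U) (f r) ^ (t₀ + N) • δ l m -
      (rm F (inf_le_left : ov2 h𝔛 f l m ≤ _) (ε l r) - rm F (inf_le_right : ov2 h𝔛 f l m ≤ _) (ε m r)) ∈
      Ipow h𝔛 (ov2 h𝔛 f l m) (k + 1) := fun l m r => by
    have h := Submodule.smul_mem _
      (resR h𝔛.1 (inf_le_left.trans (bas_le h𝔛 (f l)) : ov2 h𝔛 f l m ≤ U) (f r) ^ (t₀ - t l m r)) (ht l m r)
    rw [smul_smul, ← pow_add, Nat.sub_add_cancel (Finset.le_sup (f := fun x : J × J × J => t x.1 x.2.1 x.2.2)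
      (Finset.mem_univ (l, m, r)) : t l m r ≤ t₀), smul_sub, smul_smul, ← pow_add, smul_sub] at h
    simp only [ε, rm_smul, map_pow, rr_rr]
    exact h
  obtain ⟨u, hu⟩ := exists_partition h𝔛 f hU hcov (t₀ + N)
  refine ⟨fun l => ∑ r, resR h𝔛.1 (bas_le h𝔛 (f l)) (u r) • ε l r,
    fun l => Submodule.sum_mem _ fun r _ => Submodule.smul_mem _ _ (hε l r), fun l m => ?_⟩
  let e : ov2 h𝔛 f l m ≤ U := inf_le_left.trans (bas_le h𝔛 (f l))
  have h1 : ∑ r, resR h𝔛.1 e (u r) • (resR h𝔛.1 e (f r) ^ (t₀ + N) • δ l m -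
      (rm F (inf_le_left : ov2 h𝔛 f l m ≤ _) (ε l r) - rm F (inf_le_right : ov2 h𝔛 f l m ≤ _) (ε m r))) ∈
      Ipow h𝔛 (ov2 h𝔛 f l m) (k + 1) :=
    Submodule.sum_mem _ fun r _ => Submodule.smul_mem _ _ (hε' l m r)
  have h2 : (∑ r, resR h𝔛.1 e (u r) * resR h𝔛.1 e (f r) ^ (t₀ + N) - 1) • δ l m ∈
      Ipow h𝔛 (ov2 h𝔛 f l m) (k + 1) := by
    have hI : ∑ r, resR h𝔛.1 e (u r) * resR h𝔛.1 e (f r) ^ (t₀ + N) - 1 ∈ idl h𝔛.1 (ov2 h𝔛 f l m) := by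
      rw [← map_idl h𝔛 hU (isAffineOpen_ov2 h𝔛 f hU l m) e]
      have h := Ideal.mem_map_of_mem (resR h𝔛.1 e) hu
      simpa only [map_sub, map_sum, map_mul, map_pow, map_one] using h
    rw [Ipow, pow_succ' (idl h𝔛.1 (ov2 h𝔛 f l m)) k, Submodule.mul_smul]
    exact Submodule.smul_mem_smul hI (hk l m)
  have h3 := sub_mem h1 h2
  simp only [diff, map_sub, map_sum, rm_smul, rr_rr]
  convert h3 using 1
  simp only [sub_smul, Finset.sum_smul, smul_sub, mul_smul, one_smul, Finset.sum_sub_distrib]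
  abel

include D in
/-- Cocycles split. -/
theorem exists_split (hU : IsAffineOpen U) (hF : RelFin (O := 𝔛.Osh h𝔛.1) F)
    (hcov : ∀ x ∈ U, ∃ l, x ∈ bas h𝔛 (f l)) (δ : ∀ l m, sc F.val (ov2 h𝔛 f l m))
    (hδ : IsCocycle h𝔛 f δ) :
    ∃ σ : ∀ l, sc F.val (bas h𝔛 (f l)), ∀ l m, diff h𝔛 f σ l m = δ l m := by
  classical
  have := Fintype.ofFinite J
  let Approx : ℕ → (∀ l, sc F.val (bas h𝔛 (f l))) → Prop := fun k s =>
    ∀ l m, δ l m - diff h𝔛 f s l m ∈ Ipow h𝔛 (ov2 h𝔛 f l m) k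
  have hstep : ∀ k s, Approx k s → ∃ s', Approx (k + 1) s' ∧ ∀ l, s' l - s l ∈ Ipow h𝔛 (bas h𝔛 (f l)) k := by
    intro k s hs
    obtain ⟨σ, hσ, hσ'⟩ := exists_split_step h𝔛 f D hU hF hcov _ (isCocycle_sub h𝔛 f hδ s) hs
    refine ⟨fun l => s l + σ l, fun l m => ?_, fun l => by simpa only [add_sub_cancel_left] using hσ l⟩
    convert hσ' l m using 1
    simp only [diff, map_add]
    abel
  have h0 : Approx 0 0 := fun l m => by
    rw [Ipow, pow_zero, Ideal.one_eq_top, Submodule.top_smul]; exact Submodule.mem_top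
  choose nxt hnxt hnxt' using hstep
  let seq : ∀ k, {s // Approx k s} := fun k =>
    Nat.recOn (motive := fun k => {s // Approx k s}) k ⟨0, h0⟩ fun k s => ⟨nxt k s.1 s.2, hnxt k s.1 s.2⟩
  have hlim := fun l => exists_limit h𝔛 (isAffineOpen_bas h𝔛 hU (f l)) hF (D l) (fun k => (seq (k + 1)).1 l)
    fun k => hnxt' (k + 1) (seq (k + 1)).1 (seq (k + 1)).2 l
  choose σ hσ using hlim
  refine ⟨σ, fun l m => ?_⟩
  have hW := isAffineOpen_ov2 h𝔛 f hU l m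
  have : Module.Finite (RS h𝔛.1 (ov2 h𝔛 f l m)) (sc F.val (ov2 h𝔛 f l m)) :=
    ⟨⟨Finset.univ.image ((D l).restrict (inf_le_left : ov2 h𝔛 f l m ≤ _)).s, by
      rw [Finset.coe_image, Finset.coe_univ, Set.image_univ]
      exact span_eq_top h𝔛 hW hF ((D l).restrict inf_le_left)⟩⟩
  rw [← sub_eq_zero, ← Submodule.mem_bot (RS h𝔛.1 (ov2 h𝔛 f l m))]
  refine mem_of_forall_mem_sup h𝔛 hW _ fun k => Submodule.mem_sup_right ?_
  have a := rm_mem h𝔛 (isAffineOpen_bas h𝔛 hU (f l)) hW inf_le_left (hσ l k)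
  have b := rm_mem h𝔛 (isAffineOpen_bas h𝔛 hU (f m)) hW inf_le_right (hσ m k)
  have c := sub_mem (sub_mem a b) ((seq (k + 1)).2 l m)
  simp only [diff, map_sub] at c ⊢
  convert c using 1
  abel

end Groth.AdicLinTop.CechOne
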