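import Groth.Agent.AdicLinTop.CohKer

/-!
# The submodule spanned by finitely many sections over an open
-/

set_option autoImplicit false

universe u

open CategoryTheory CategoryTheory.Limits Opposite TopologicalSpace

set_option backward.defeqAttrib.useBackward true
set_option backward.isDefEq.respectTransparency false
set_option backward.isDefEq.respectTransparency.types false
set_option synthInstance.maxHeartbeats 400000

namespace Groth.AdicLinTop.SpanImage

open Groth.SitesTopoi.ModH Groth.Misc4.FreeOn Groth.AdicLinTop.SpacePres Groth.AdicLinTop.CohKer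

variable {T : Type u} [TopologicalSpace T] {O : Sheaf (Opens.grothendieckTopology T) CommRingCat.{u}}
  {C C' : ModSite.Mod O} {U : Opens T}

/-- Finitely many copies of the presheaf of sets of an open. -/
def copies (U : Opens T) (n : ℕ) : (Opens T)ᵒᵖ ⥤ Type u where
  obj V := (V.unop ⟶ U) × ULift.{u} (Fin n)
  map f := ↾fun e => (f.unop ≫ e.1, e.2)

/-- The free presheaf on finitely many copies of an open. -/
noncomputable abbrev freeCopies (O : Sheaf (Opens.grothendieckTopology T) CommRingCat.{u}) (U : Opens T) (n : ℕ) :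
    PM O :=
  PresheafOfModules.freeObj (R := O.obj ⋙ forget₂ CommRingCat.{u} RingCat.{u}) (copies U n)

/-- A generator. -/
noncomputable def gen {W : Opens T} (h : W ≤ U) {n : ℕ} (i : Fin n) : sc (freeCopies O U n) W :=
  ModuleCat.freeMk (X := (copies U n).obj (op W)) (homOfLE h, ⟨i⟩)

lemma rsm_gen {W W' : Opens T} (h : W ≤ U) (h' : W' ≤ W) {n : ℕ} (i : Fin n) :
    rsm (freeCopies O U n) (homOfLE h') (gen (O := O) h i) = gen (O := O) (h'.trans h) i :=
  ModuleCat.freeDesc_apply _ _

lemma exists_comb_gen {W : Opens T} (h : W ≤ U) {n : ℕ} (y : sc (freeCopies O U n) W) :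
    ∃ a : Fin n → rsec O W, y = ∑ i, a i • gen (O := O) h i := by
  classical
  have hy : y ∈ Submodule.span (rsec O W) (Set.range fun i => gen (O := O) h i) := by
    let y' : (copies U n).obj (op W) →₀ rsec O W := y
    rw [show y = y' from rfl]
    induction y' using Finsupp.induction_linear with
    | zero => exact Submodule.zero_mem _
    | add a b ha hb => exact Submodule.add_mem _ ha hb
    | single e r =>
      have e1 : (Finsupp.single e r : (copies U n).obj (op W) →₀ rsec O W) =
          r • (gen (O := O) h e.2.down : sc (freeCopies O U n) W) := by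
        show _ = r • (Finsupp.single (homOfLE h, e.2) 1 : (copies U n).obj (op W) →₀ rsec O W)
        rw [Finsupp.smul_single', mul_one]
        rfl
      rw [e1]
      exact Submodule.smul_mem _ _ (Submodule.subset_span ⟨e.2.down, rfl⟩)
  obtain ⟨a, ha⟩ := (Submodule.mem_span_range_iff_exists_fun _).1 hy
  exact ⟨a, ha.symm⟩

/-- The free module on finitely many copies of an open is generated by the tautological sections. -/
noncomputable def genDataFree (n : ℕ) : GenData ((aP O).obj (freeCopies O U n)) U n where
  s i := apm (etaP (freeCopies O U n)) U (gen (O := O) le_rfl i)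
  gen W hW t x hx := by
    obtain ⟨S, hS, hS'⟩ := locSurj_etaP (freeCopies O U n) W t
    obtain ⟨V, hV, hxV, hSV⟩ := exists_nhd_of_mem hS hx
    obtain ⟨y, hy⟩ := hS' (homOfLE hV) hSV
    obtain ⟨a, ha⟩ := exists_comb_gen (hV.trans hW) y
    refine ⟨V, hV, hxV, a, ?_⟩
    rw [ha, map_sum] at hy
    refine hy.symm.trans (Finset.sum_congr rfl fun i _ => ?_)
    rw [map_smul]
    refine congrArg (a i • ·) ?_
    show _ = rsm ((aP O).obj (freeCopies O U n)).val (homOfLE (hV.trans hW)) _
    rw [← apm_rsm, rsm_gen]

/-- The map given by sections. -/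
noncomputable def mapCopies {n : ℕ} (g : Fin n → sc C.val U) : (aP O).obj (freeCopies O U n) ⟶ C :=
  ((adjP O).homEquiv _ _).symm (PresheafOfModules.freeObjDesc
    { app := fun V => ↾fun e => rsm C.val e.1 (g e.2.down)
      naturality := fun V W f => by
        ext e
        exact (rsm_rsm C.val e.1 f.unop (g e.2.down)).symm })

lemma apm_mapCopies {n : ℕ} (g : Fin n → sc C.val U) (i : Fin n) :
    apm (mapCopies g).val U ((genDataFree (O := O) n).s i) = g i := by
  have h := congrArg (fun k => apm k U (gen (O := O) (le_refl U) i))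
    (((adjP O).homEquiv_unit (f := mapCopies g)).symm.trans (Equiv.apply_symm_apply _ _))
  refine h.trans ?_
  refine (ModuleCat.freeDesc_apply _ _).trans ?_
  exact rsm_id C.val (g i)

/-- The submodule spanned by finitely many sections. -/
theorem exists_span_module {n : ℕ} (g : Fin n → sc C.val U) :
    ∃ (C' : ModSite.Mod O) (ι : C' ⟶ C), Mono ι ∧ Nonempty (GenData C' U n) ∧
      ∀ i, ∃ s : sc C'.val U, apm ι.val U s = g i := by
  refine ⟨Abelian.image (mapCopies g), Abelian.image.ι _, inferInstance,
    nonempty_genData_of_epi (Abelian.factorThruImage (mapCopies g)) (genDataFree n),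
    fun i => ⟨apm (Abelian.factorThruImage (mapCopies g)).val U ((genDataFree (O := O) n).s i), ?_⟩⟩
  refine Eq.trans ?_ (apm_mapCopies g i)
  exact congrArg (fun k : (aP O).obj (freeCopies O U n) ⟶ C => apm k.val U ((genDataFree (O := O) n).s i))
    (Abelian.image.fac (mapCopies g))

/-- A section lying locally in a submodule lies in it. -/
theorem exists_sec_of_local (ι : C' ⟶ C) [Mono ι] (t : sc C.val U)
    (h : ∀ x ∈ U, ∃ (V : Opens T) (hV : V ≤ U), x ∈ V ∧ ∃ s : sc C'.val V, apm ι.val V s = rm C hV t) :
    ∃ s : sc C'.val U, apm ι.val U s = t := by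
  have h0 : apm (cokernel.π ι).val U t = 0 := by
    refine eq_zero_of_local fun x hx => ?_
    obtain ⟨V, hV, hxV, s, hs⟩ := h x hx
    refine ⟨V, hV, hxV, ?_⟩
    refine (apm_rsm _ _ _).symm.trans ((congrArg (apm (cokernel.π ι).val V) hs.symm).trans ?_)
    exact congrArg (fun k : C' ⟶ cokernel ι => apm k.val V s) (cokernel.condition ι)
  have h1 : (homEquiv U C).symm t ≫ cokernel.π ι = 0 := by
    apply (homEquiv U (cokernel ι)).injective
    rw [homEquiv_comp, Equiv.apply_symm_apply, h0]
    have h := homEquiv_comp U (0 : ModSite.freeOn O U ⟶ C) (0 : C ⟶ cokernel ι)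
    rw [zero_comp] at h
    exact h.symm
  refine ⟨homEquiv U _ (Abelian.monoLift ι _ h1), ?_⟩
  rw [← homEquiv_comp, Abelian.monoLift_comp, Equiv.apply_symm_apply]

end Groth.AdicLinTop.SpanImage
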