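import Groth.Agent.AdicLinTop.QcohLocal
import Groth.Agent.AdicLinTop.SpanImage
import Groth.Agent.AdicLinTop.CechOne

/-!
# Extensions of quasi-coherent modules on a locally Noetherian formal scheme

Sections of a quotient lift over affine opens when the kernel is quasi-coherent; hence extensions of
quasi-coherent modules are quasi-coherent, and so is the middle term of an exact sequence of five.
-/

set_option autoImplicit false

universe u

open CategoryTheory CategoryTheory.Limits AlgebraicGeometry TopologicalSpace Opposite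

set_option backward.defeqAttrib.useBackward true
set_option backward.isDefEq.respectTransparency false
set_option backward.isDefEq.respectTransparency.types false
set_option synthInstance.maxHeartbeats 400000

namespace Groth.AdicLinTop.QcohExt

open Groth.SitesTopoi.ModH Groth.AdicLinTop.SpacePres Groth.AdicLinTop.CohKer Groth.AdicLinTop.QcohLocal
open Groth.AdicLinTop.FormalAffine Groth.AdicLinTop.AffineGlue Groth.AdicLinTop.GlobalGen Groth.SitesTopoi

section Generic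

variable {T : Type u} [TopologicalSpace T] {O : Sheaf (Opens.grothendieckTopology T) CommRingCat.{u}}
  {F G : ModSite.Mod O} {U : Opens T}

/-- Over a quasi-compact open, a section is locally a combination of one finite set of generators. -/
lemma exists_finset_local {κ : Type u} {g : κ → sc F.val U} (hg : Gens g) {W : Opens T} (hW : W ≤ U)
    (hWc : IsCompact (W : Set T)) (t : sc F.val W) :
    ∃ s : Finset κ, ∀ y ∈ W, ∃ (V : Opens T) (hV : V ≤ W), y ∈ V ∧ ∃ a : κ → rsec O V,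
      rm F hV t = ∑ i ∈ s, a i • rm F (hV.trans hW) (g i) := by
  classical
  choose V hV hyV s a ha using fun y : W => hg W hW t y.1 y.2
  obtain ⟨S, hS⟩ := hWc.elim_finite_subcover (fun y : W => (V y : Set T)) (fun y => (V y).2)
    fun z hz => Set.mem_iUnion.2 ⟨⟨z, hz⟩, hyV ⟨z, hz⟩⟩
  refine ⟨S.biUnion s, fun y hy => ?_⟩
  obtain ⟨z, hz, hyz⟩ := Set.mem_iUnion₂.1 (hS hy)
  refine ⟨V z, hV z, hyz, fun i => if i ∈ s z then a z i else 0, (ha z).trans ?_⟩
  refine (Finset.sum_congr rfl fun i hi => ?_).trans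
    (Finset.sum_subset (fun i hi => Finset.mem_biUnion.2 ⟨z, hz, hi⟩) fun i _ hi => ?_)
  · simp only [if_pos hi]
  · simp only [if_neg hi, zero_smul]

lemma apm_kernel_ι_zero (π : F ⟶ G) (k : sc (kernel π).val U) : apm π.val U (apm (kernel.ι π).val U k) = 0 :=
  apm_kernel_ι_comp π k

/-- Restriction commutes with morphisms. -/
lemma apm_rm (φ : F ⟶ G) {W W' : Opens T} (h : W' ≤ W) (t : sc F.val W) :
    apm φ.val W' (rm F h t) = rm G h (apm φ.val W t) := apm_rsm _ _ _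

/-- Relations in an extension. -/
theorem relFin_of_ext (π : F ⟶ G) (hC : RelFin (kernel π)) (hG : RelFin G) : RelFin F := by
  intro U N g x hx
  obtain ⟨V', hV', l, hxV', ⟨R⟩⟩ := hG U N (fun i => apm π.val U (g i)) x hx
  choose z hz using fun q => exists_kernel_sec π (∑ i, R.e q i • rm F hV' (g i)) (by
    rw [map_sum]
    refine Eq.trans (Finset.sum_congr rfl fun i _ => ?_) (R.zero q)
    rw [map_smul, apm_rsm])
  obtain ⟨V, hV, m, hxV, ⟨R'⟩⟩ := hC V' l z x hxV'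
  refine ⟨V, hV.trans hV', m, hxV, ⟨{
      e := fun p i => (∑ q, R'.e p q * rr hV (R.e q i))
      zero := fun p => ?_
      rel := fun W hW a ha y hy => ?_ }⟩⟩
  · have h := congrArg (apm (kernel.ι π).val V) (R'.zero p)
    simp only [map_sum, map_smul, apm_rsm, hz, map_zero] at h
    simp only [rm_smul, rm_rm, Finset.smul_sum] at h
    simp only [Finset.sum_smul, mul_smul]
    rw [Finset.sum_comm]
    exact h
  · obtain ⟨W₁, hW₁, hy₁, d, hd⟩ := R.rel W (hW.trans hV) a (by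
      have h := congrArg (apm π.val W) ha
      simp only [map_sum, map_smul, apm_rsm, map_zero, rm_rm] at h
      simp only [apm_rsm, rm_rm]
      exact h) y hy
    have hd0 : ∑ q, d q • rm (kernel π) (hW₁.trans hW) (rm (kernel π) hV (z q)) = 0 := by
      apply injective_of_mono (kernel.ι π) W₁
      rw [map_sum, map_zero]
      simp only [map_smul, apm_rsm, hz, map_sum, rm_smul, rm_rm, Finset.smul_sum, smul_smul]
      rw [Finset.sum_comm]
      simp only [← Finset.sum_smul]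
      have h := congrArg (rm F hW₁) ha
      simp only [map_sum, rm_smul, rm_rm, map_zero] at h
      refine Eq.trans (Finset.sum_congr rfl fun i _ => ?_) h
      rw [hd i]
    obtain ⟨W₂, hW₂, hy₂, d', hd'⟩ := R'.rel W₁ (hW₁.trans hW) d hd0 y hy₁
    refine ⟨W₂, hW₂.trans hW₁, hy₂, d', fun i => ?_⟩
    have h := congrArg (rr hW₂) (hd i)
    simp only [map_sum, map_mul, rr_rr, hd'] at h
    simp only [map_sum, map_mul, rr_rr, Finset.mul_sum, ← mul_assoc]
    rw [h]
    simp only [Finset.sum_mul]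
    exact Finset.sum_comm

/-- Differences of local lifts form a cocycle. -/
lemma kernel_cocycle (π : F ⟶ G) {J : Type*} {V : J → Opens T} (s : ∀ l, sc F.val (V l))
    (δ : ∀ l m, sc (kernel π).val (V l ⊓ V m))
    (hδ : ∀ l m, apm (kernel.ι π).val _ (δ l m) =
      rm F (inf_le_left : V l ⊓ V m ≤ _) (s l) - rm F (inf_le_right : V l ⊓ V m ≤ _) (s m)) (l m r : J) :
    rm (kernel π) (le_inf (inf_le_left.trans inf_le_left) inf_le_right : V l ⊓ V m ⊓ V r ≤ V l ⊓ V r) (δ l r) -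
      rm (kernel π) (le_inf (inf_le_left.trans inf_le_right) inf_le_right : V l ⊓ V m ⊓ V r ≤ V m ⊓ V r) (δ m r) =
    rm (kernel π) (inf_le_left : V l ⊓ V m ⊓ V r ≤ V l ⊓ V m) (δ l m) := by
  apply injective_of_mono (kernel.ι π)
  rw [map_sub, apm_rm, apm_rm, apm_rm, hδ, hδ, hδ]
  simp only [map_sub, rm_rm]
  abel

/-- Corrected local lifts glue to a lift. -/
theorem exists_lift_of_split (π : F ⟶ G) {J : Type*} {W : Opens T} {V : J → Opens T} (hVW : ∀ l, V l ≤ W)
    (hcov : ∀ x ∈ W, ∃ l, x ∈ V l) (t : sc G.val W) (s : ∀ l, sc F.val (V l))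
    (hs : ∀ l, apm π.val _ (s l) = rm G (hVW l) t) (δ : ∀ l m, sc (kernel π).val (V l ⊓ V m))
    (hδ : ∀ l m, apm (kernel.ι π).val _ (δ l m) =
      rm F (inf_le_left : V l ⊓ V m ≤ _) (s l) - rm F (inf_le_right : V l ⊓ V m ≤ _) (s m))
    (σ : ∀ l, sc (kernel π).val (V l))
    (hσ : ∀ l m, rm (kernel π) (inf_le_left : V l ⊓ V m ≤ _) (σ l) -
      rm (kernel π) (inf_le_right : V l ⊓ V m ≤ _) (σ m) = δ l m) :
    ∃ τ : sc F.val W, apm π.val W τ = t := by
  let s' : ∀ l, sc F.val (V l) := fun l => s l - apm (kernel.ι π).val _ (σ l)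
  have hcomp : ∀ l m, rm F (inf_le_left : V l ⊓ V m ≤ _) (s' l) =
      rm F (inf_le_right : V l ⊓ V m ≤ _) (s' m) := fun l m => by
    have h := congrArg (apm (kernel.ι π).val (V l ⊓ V m)) (hσ l m)
    rw [hδ, map_sub, apm_rm, apm_rm] at h
    simp only [s', map_sub]
    rw [← sub_eq_zero, ← sub_eq_zero.2 h.symm]
    abel
  have hπs' : ∀ l, apm π.val _ (s' l) = rm G (hVW l) t := fun l => by
    simp only [s', map_sub]
    rw [hs, apm_kernel_ι_zero π, sub_zero]
  have hpair : ∀ {W' : Opens T} {l m : J} (hl : W' ≤ V l) (hm : W' ≤ V m),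
      rm F hl (s' l) = rm F hm (s' m) := fun {W' l m} hl hm => by
    have h := congrArg (rm F (le_inf hl hm : W' ≤ V l ⊓ V m)) (hcomp l m)
    simpa only [rm_rm] using h
  let Sv : Sieve W :=
    { arrows := fun W' _ => ∃ l, W' ≤ V l
      downward_closed := fun {Y Z} {g} hg g' => ⟨hg.choose, g'.le.trans hg.choose_spec⟩ }
  have hSv : Sv ∈ Opens.grothendieckTopology _ W := mem_of_nhds Sv fun x hx => by
    obtain ⟨l, hl⟩ := hcov x hx
    exact ⟨_, hVW l, hl, l, le_rfl⟩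
  obtain ⟨τ, hτ⟩ := glueM F hSv (fun W' g hg => rm F hg.choose_spec (s' hg.choose))
    (fun W' W'' g hg h => (rm_rm F _ h.le _).trans (hpair _ _))
  refine ⟨τ, sec_extM G hSv fun W' g hg => ?_⟩
  rw [← apm_rsm, hτ g hg, apm_rm, hπs', rm_rm]
  rfl

/-- Generators of an extension. -/
theorem gens_of_ext (π : F ⟶ G) {κ μ : Type u} {cg : κ → sc (kernel π).val U} (hcg : Gens cg)
    {kg : μ → sc G.val U} (hkg : Gens kg) (s : μ → sc F.val U) (hs : ∀ b, apm π.val U (s b) = kg b) :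
    Gens (Sum.elim (fun i => apm (kernel.ι π).val U (cg i)) s) := by
  classical
  intro W hW t y hy
  obtain ⟨W₁, hW₁, hy₁, S, a, ha⟩ := hkg W hW (apm π.val W t) y hy
  obtain ⟨k, hk⟩ := exists_kernel_sec π (rm F hW₁ t - ∑ b ∈ S, a b • rm F (hW₁.trans hW) (s b)) (by
    rw [map_sub, map_sum, apm_rm, sub_eq_zero]
    refine ha.trans (Finset.sum_congr rfl fun b _ => ?_)
    rw [map_smul, apm_rm, hs])
  obtain ⟨W₂, hW₂, hy₂, S', c, hc⟩ := hcg W₁ (hW₁.trans hW) k y hy₁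
  refine ⟨W₂, hW₂.trans hW₁, hy₂, S'.disjSum S, Sum.elim c fun b => rr hW₂ (a b), ?_⟩
  rw [Finset.sum_disjSum]
  simp only [Sum.elim_inl, Sum.elim_inr]
  have h := congrArg (apm (kernel.ι π).val W₂) hc
  rw [apm_rm, hk, map_sum] at h
  simp only [map_smul, apm_rm, map_sub, map_sum, rm_smul, rm_rm] at h ⊢
  rw [← h]
  abel

end Generic

variable {𝔛 : FSch.Sys.{u}} (h𝔛 : 𝔛.IsLocNoethFormal) {F G : FSch.ModF 𝔛 h𝔛.1}

include h𝔛 in
/-- Cocycles of a module generated by its sections split over an affine open. -/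
theorem exists_split_gens {C : FSch.ModF 𝔛 h𝔛.1} (hC : RelFin (O := 𝔛.Osh h𝔛.1) C) {V : (𝔛.X 0).Opens}
    (hV : IsAffineOpen V) {κ : Type u} {cg : κ → sc C.val V} (hcg : Gens (O := 𝔛.Osh h𝔛.1) cg) {J : Type u}
    [Finite J] (f : J → RS h𝔛.1 V) (hcov : ∀ x ∈ V, ∃ l, x ∈ bas h𝔛 (f l))
    (δ : ∀ l m, sc C.val (ov2 h𝔛 f l m)) (hδ : CechOne.IsCocycle h𝔛 f δ) :
    ∃ σ : ∀ l, sc C.val (bas h𝔛 (f l)), ∀ l m, CechOne.diff h𝔛 f σ l m = δ l m := by
  classical
  have := Fintype.ofFinite J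
  choose S hS using fun l m => exists_finset_local hcg (inf_le_left.trans (bas_le h𝔛 (f l)) : ov2 h𝔛 f l m ≤ V)
    (isAffineOpen_ov2 h𝔛 f hV l m).isCompact (δ l m)
  let S₀ : Finset κ := Finset.univ.biUnion fun lm : J × J => S lm.1 lm.2
  obtain ⟨C', ι, hι, ⟨D⟩, he⟩ := SpanImage.exists_span_module (O := 𝔛.Osh h𝔛.1)
    (fun k : Fin S₀.card => cg (S₀.equivFin.symm k).1)
  have := hι
  choose e he using he
  have hmem : ∀ l m, ∃ d : sc C'.val (ov2 h𝔛 f l m), apm ι.val _ d = δ l m := fun l m => by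
    refine SpanImage.exists_sec_of_local (O := 𝔛.Osh h𝔛.1) ι (δ l m) fun y hy => ?_
    obtain ⟨W, hW, hyW, a, ha⟩ := hS l m y hy
    have hWV : W ≤ V := (hW.trans inf_le_left).trans (bas_le h𝔛 (f l))
    let a' : κ → rsec (𝔛.Osh h𝔛.1) W := fun i => if i ∈ S l m then a i else 0
    refine ⟨W, hW, hyW, ∑ k, a' (S₀.equivFin.symm k).1 • rm C' hWV (e k), ?_⟩
    rw [ha, map_sum]
    refine Eq.trans (Finset.sum_congr rfl fun k _ => ?_)
      ((sum_fin S₀ a' fun i => rm C hWV (cg i)).symm.trans ?_)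
    · rw [map_smul, apm_rsm, he]
    · refine Eq.trans (Finset.sum_subset (fun i hi => Finset.mem_biUnion.2 ⟨(l, m), Finset.mem_univ _, hi⟩)
        fun i _ hi => ?_).symm (Finset.sum_congr rfl fun i hi => ?_)
      · simp only [a', if_neg hi, zero_smul]
      · simp only [a', if_pos hi]
  choose δ' hδ' using hmem
  have hcoc : CechOne.IsCocycle h𝔛 f δ' := fun l m r => by
    apply injective_of_mono ι
    rw [map_sub, apm_rsm, apm_rsm, apm_rsm, hδ', hδ', hδ']
    exact hδ l m r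
  obtain ⟨σ, hσ⟩ := CechOne.exists_split h𝔛 f (fun l => D.restrict (bas_le h𝔛 (f l))) hV
    (relFin_of_mono ι hC) hcov δ' hcoc
  refine ⟨fun l => apm ι.val _ (σ l), fun l m => ?_⟩
  have h := congrArg (apm ι.val (ov2 h𝔛 f l m)) (hσ l m)
  rw [hδ', CechOne.diff, map_sub, apm_rsm, apm_rsm] at h
  exact h

include h𝔛 in
/-- Sections of a quotient lift over an affine open when the kernel is generated by its sections there. -/
theorem exists_lift (π : F ⟶ G) [Epi π] (hC : RelFin (O := 𝔛.Osh h𝔛.1) (kernel π)) {V : (𝔛.X 0).Opens}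
    (hV : IsAffineOpen V) {κ : Type u} {cg : κ → sc (kernel π).val V} (hcg : Gens (O := 𝔛.Osh h𝔛.1) cg)
    (t : sc G.val V) : ∃ s : sc F.val V, apm π.val V s = t := by
  classical
  have hloc : ∀ x : V, ∃ p : RS h𝔛.1 V, x.1 ∈ bas h𝔛 p ∧ ∃ s : sc F.val (bas h𝔛 p),
      apm π.val _ s = rm G (bas_le h𝔛 p) t := fun x => by
    obtain ⟨S, hS, hS'⟩ := locSurj_of_epi π V t
    obtain ⟨W, hW, hxW, hSW⟩ := exists_nhd_of_mem hS x.2
    obtain ⟨s, hs⟩ := hS' (homOfLE hW) hSW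
    obtain ⟨p, hxp, hpW⟩ := exists_bas_le h𝔛 hV x.2 W hxW
    exact ⟨p, hxp, rm F hpW s, (apm_rm _ _ _).trans ((congrArg (rm G hpW) hs).trans (rm_rm G hW hpW t))⟩
  choose f₀ hxf s₀ hs₀ using hloc
  obtain ⟨T, hT⟩ := hV.isCompact.elim_finite_subcover (fun x : V => (bas h𝔛 (f₀ x) : Set (𝔛.X 0)))
    (fun x => (bas h𝔛 (f₀ x)).2) fun z hz => Set.mem_iUnion.2 ⟨⟨z, hz⟩, hxf ⟨z, hz⟩⟩
  let f : T → RS h𝔛.1 V := fun x => f₀ x.1
  let s : ∀ l : T, sc F.val (bas h𝔛 (f l)) := fun l => s₀ l.1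
  have hcov : ∀ z ∈ V, ∃ j : T, z ∈ bas h𝔛 (f j) := fun z hz => by
    obtain ⟨x, hx, hzx⟩ := Set.mem_iUnion₂.1 (hT hz)
    exact ⟨⟨x, hx⟩, hzx⟩
  have hker : ∀ l m, ∃ d : sc (kernel π).val (ov2 h𝔛 f l m), apm (kernel.ι π).val _ d =
      rm F (inf_le_left : ov2 h𝔛 f l m ≤ _) (s l) - rm F (inf_le_right : ov2 h𝔛 f l m ≤ _) (s m) := fun l m => by
    refine exists_kernel_sec (O := 𝔛.Osh h𝔛.1) π _ ?_
    rw [map_sub, apm_rm, apm_rm, hs₀, hs₀, sub_eq_zero]
    exact (rm_rm G _ _ t).trans (rm_rm G _ _ t).symm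
  choose δ hδ using hker
  obtain ⟨σ, hσ⟩ := exists_split_gens h𝔛 hC hV hcg f hcov δ
    (kernel_cocycle (O := 𝔛.Osh h𝔛.1) π (V := fun l => bas h𝔛 (f l)) s δ hδ)
  exact exists_lift_of_split (O := 𝔛.Osh h𝔛.1) π (V := fun l => bas h𝔛 (f l)) (fun l => bas_le h𝔛 (f l))
    hcov t s (fun l => hs₀ l.1) δ hδ σ hσ

/-- Extensions of quasi-coherent modules are quasi-coherent. -/
theorem isQuasicoherent_of_ext (π : F ⟶ G) [Epi π] [SheafOfModules.IsQuasicoherent.{u} (kernel π)]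
    [SheafOfModules.IsQuasicoherent.{u} G] : SheafOfModules.IsQuasicoherent.{u} F := by
  classical
  refine isQuasicoherent_of_gens h𝔛 (relFin_of_ext π (relFin h𝔛) (relFin h𝔛)) fun x => ?_
  obtain ⟨V₁, -, hx₁, -, κ, cg, hcg⟩ := exists_gens_affine h𝔛 (F := kernel π) x ⊤ trivial
  obtain ⟨V, hV, hxV, hVV, μ, kg, hkg⟩ := exists_gens_affine h𝔛 (F := G) x V₁ hx₁
  choose s hs using fun b => exists_lift h𝔛 π (relFin h𝔛) hV (hcg.restrict hVV) (kg b)
  exact ⟨V, _, _, hxV, gens_of_ext (O := 𝔛.Osh h𝔛.1) π (hcg.restrict hVV) hkg s hs⟩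

include h𝔛 in
lemma isQuasicoherent_of_iso (e : F ≅ G) [SheafOfModules.IsQuasicoherent.{u} F] :
    SheafOfModules.IsQuasicoherent.{u} G :=
  isQuasicoherent_of_gens h𝔛 (relFin_of_mono e.inv (relFin h𝔛)) fun x => by
    obtain ⟨U, κ, g, hxU, hgen⟩ := exists_gens (O := 𝔛.Osh h𝔛.1) (F := F) x
    exact ⟨U, κ, _, hxU, gens_of_epi e.hom hgen⟩

include h𝔛 in
/-- The middle term of an exact sequence of five with the other terms quasi-coherent is quasi-coherent. -/
theorem isQuasicoherent_of_exact_five {F₀ F₁ F₂ F₃ F₄ : FSch.ModF 𝔛 h𝔛.1} (a : F₀ ⟶ F₁) (b : F₁ ⟶ F₂)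
    (c : F₂ ⟶ F₃) (d : F₃ ⟶ F₄) (hab : a ≫ b = 0) (hbc : b ≫ c = 0) (hcd : c ≫ d = 0)
    (h1 : (ShortComplex.mk a b hab).Exact) (h2 : (ShortComplex.mk b c hbc).Exact)
    (h3 : (ShortComplex.mk c d hcd).Exact)
    [SheafOfModules.IsQuasicoherent.{u} F₀] [SheafOfModules.IsQuasicoherent.{u} F₁]
    [SheafOfModules.IsQuasicoherent.{u} F₃] [SheafOfModules.IsQuasicoherent.{u} F₄] :
    SheafOfModules.IsQuasicoherent.{u} F₂ := by
  have := isQuasicoherent_cokernel h𝔛 a
  have := isQuasicoherent_kernel h𝔛 d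
  let π : F₂ ⟶ kernel d := kernel.lift d c hcd
  have : Epi π := ((ShortComplex.mk c d hcd).exact_iff_epi_kernel_lift).1 h3
  let ψ : cokernel a ⟶ kernel c := kernel.lift c (cokernel.desc a b hab) (by
    rw [← cancel_epi (cokernel.π a), cokernel.π_desc_assoc, hbc, comp_zero])
  have : Mono ψ := by
    have : Mono (ψ ≫ kernel.ι c) := by
      rw [kernel.lift_ι]
      exact ((ShortComplex.mk a b hab).exact_iff_mono_cokernel_desc).1 h1
    exact mono_of_mono ψ (kernel.ι c)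
  have : Epi ψ := by
    have : Epi (cokernel.π a ≫ ψ) := by
      rw [show cokernel.π a ≫ ψ = kernel.lift c b hbc from by
        rw [← cancel_mono (kernel.ι c)]; simp [ψ]]
      exact ((ShortComplex.mk b c hbc).exact_iff_epi_kernel_lift).1 h2
    exact epi_of_epi (cokernel.π a) ψ
  have : IsIso ψ := isIso_of_mono_of_epi ψ
  have := isQuasicoherent_of_iso h𝔛 (asIso ψ ≪≫ kernelIsoOfEq (kernel.lift_ι d c hcd).symm ≪≫
    kernelCompMono π (kernel.ι d))
  exact isQuasicoherent_of_ext h𝔛 π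

end Groth.AdicLinTop.QcohExt
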