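import Groth.Agent.AdicLinTop.CechHigher
import Groth.Agent.AdicLinTop.RpushVanish
import Groth.Agent.AdicLinTop.QcohExt
import Groth.Prelude.Def_WeakSerre

/-!
# Modules generated over every affine open

On a formal scheme the modules with locally finitely generated relations which are generated by their sections
over every affine open form a weak Serre class; it contains the filtered colimits of coherent modules, and its
members have no higher cohomology on affine opens.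
-/

set_option autoImplicit false

universe u

open CategoryTheory CategoryTheory.Limits AlgebraicGeometry TopologicalSpace Opposite

set_option backward.defeqAttrib.useBackward true
set_option backward.isDefEq.respectTransparency false
set_option backward.isDefEq.respectTransparency.types false
set_option synthInstance.maxHeartbeats 400000

namespace Groth.AdicLinTop.AffineGens

open Groth.SitesTopoi.ModH Groth.AdicLinTop.SpacePres Groth.AdicLinTop.CohKer Groth.AdicLinTop.QcohLocal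

variable {𝔛 : FSch.Sys.{u}} (h𝔛 : 𝔛.IsLocNoethFormal)

/-- Finitely generated relations locally and generators over every affine open. -/
def affGen : ObjectProperty (FSch.ModF 𝔛 h𝔛.1) := fun F =>
  RelFin (O := 𝔛.Osh h𝔛.1) F ∧ ∀ V : (𝔛.X 0).Opens, IsAffineOpen V →
    ∃ (κ : Type u) (g : κ → sc F.val V), Gens (O := 𝔛.Osh h𝔛.1) g

variable {h𝔛} {F G : FSch.ModF 𝔛 h𝔛.1}

theorem affGen.of_iso (e : F ≅ G) (hF : affGen h𝔛 F) : affGen h𝔛 G :=
  ⟨relFin_of_mono e.inv hF.1, fun V hV => by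
    obtain ⟨κ, g, hg⟩ := hF.2 V hV
    exact ⟨κ, _, gens_of_epi e.hom hg⟩⟩

theorem affGen.isQuasicoherent (hF : affGen h𝔛 F) : SheafOfModules.IsQuasicoherent.{u} F :=
  isQuasicoherent_of_gens h𝔛 hF.1 fun x => by
    obtain ⟨V, hV, hxV, -⟩ := (IndCoh.goodBasis h𝔛).exists_mem x ⊤ trivial
    obtain ⟨κ, g, hg⟩ := hF.2 V hV
    exact ⟨V, κ, g, hxV, hg⟩

/-- Filtered colimits of coherent modules. -/
theorem of_ind (hF : ObjectProperty.ind.{u} (IndCoh.cohP h𝔛) F) : affGen h𝔛 F :=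
  ⟨IndCoh.relFin_of_ind h𝔛 hF, fun V hV => by
    obtain ⟨p⟩ := IndQcoh.nonempty_presentation_of_ind h𝔛 hV hF
    refine ⟨_, QuotFP.gv p le_rfl, fun W hW t x hx => ?_⟩
    obtain ⟨V', hV', hxV, s, a, ha⟩ := QuotFP.exists_gv_comb p hW t hx
    exact ⟨V', hV', hxV, s, a, ha.trans (Finset.sum_congr rfl fun i _ => by rw [QuotFP.rm_gv])⟩⟩

/-- No higher cohomology over affine opens. -/
theorem affGen.hVanish (hF : affGen h𝔛 F) (n : ℕ) {W : (𝔛.X 0).Opens} (hW : IsAffineOpen W) :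
    Groth.CohBase.HVanish (X := (𝔛.X 0).toTopCat) (ModSite.toAb F) (n + 1) W :=
  CechHigher.hVanish h𝔛 hF.1 hF.2 n hW

variable (h𝔛)

instance : (affGen h𝔛).ContainsZero :=
  ⟨⟨_, isZero_zero _, of_ind ((IndCoh.cohP h𝔛).le_ind _ (FPSmall.fp_of_isZero (O := 𝔛.Osh h𝔛.1) (isZero_zero _)))⟩⟩

instance : (affGen h𝔛).IsClosedUnderKernels := by
  refine ⟨?_⟩
  rintro _ ⟨f, k, hk, hX, hY⟩
  refine affGen.of_iso (IsLimit.conePointUniqueUpToIso (kernelIsKernel f) hk)
    ⟨relFin_of_mono (kernel.ι f) hX.1, fun V hV => ?_⟩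
  obtain ⟨κ, g, hg⟩ := hX.2 V hV
  exact exists_gens_kernel f hg fun n gs => AffineSections.exists_relData_of_relFin h𝔛 hV hY.1 gs

instance : (affGen h𝔛).IsClosedUnderCokernels := by
  refine ⟨?_⟩
  rintro _ ⟨f, k, hk, hX, hY⟩
  have := affGen.isQuasicoherent hX
  have := affGen.isQuasicoherent hY
  refine affGen.of_iso (IsColimit.coconePointUniqueUpToIso (cokernelIsCokernel f) hk)
    ⟨QcohLocal.relFin_cokernel h𝔛 f, fun V hV => ?_⟩
  obtain ⟨κ, g, hg⟩ := hY.2 V hV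
  exact ⟨κ, _, gens_of_epi (cokernel.π f) hg⟩

instance : (affGen h𝔛).IsClosedUnderExtensions := by
  refine ⟨fun {S} hS h₁ h₃ => ?_⟩
  have := hS.epi_g
  have hk : affGen h𝔛 (kernel S.g) :=
    affGen.of_iso (IsLimit.conePointUniqueUpToIso hS.fIsKernel (limit.isLimit _)) h₁
  refine ⟨QcohExt.relFin_of_ext S.g hk.1 h₃.1, fun V hV => ?_⟩
  obtain ⟨κ, cg, hcg⟩ := hk.2 V hV
  obtain ⟨μ, kg, hkg⟩ := h₃.2 V hV
  choose s hs using fun b => QcohExt.exists_lift h𝔛 S.g hk.1 hV hcg (kg b)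
  exact ⟨_, _, QcohExt.gens_of_ext (O := 𝔛.Osh h𝔛.1) S.g hcg hkg s hs⟩

instance isWeakSerre : WSerre.IsWeakSerre (affGen h𝔛) where

/-- Affine opens cover, with coverings refining any given one. -/
theorem exists_affine_cover (U : (𝔛.X 0).Opens) (T : Sieve U)
    (hT : T ∈ Opens.grothendieckTopology (𝔛.X 0) U) :
    ∃ (ι : Type u) (Y : ι → (𝔛.X 0).Opens) (g : ∀ i, Y i ⟶ U), (∀ i, T.arrows (g i)) ∧
      Sieve.ofArrows Y g ∈ Opens.grothendieckTopology (𝔛.X 0) U ∧ ∀ i, IsAffineOpen (Y i) := by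
  refine ⟨{p : (𝔛.X 0).Opens // ∃ h : p ≤ U, IsAffineOpen p ∧ T.arrows (homOfLE h)}, fun p => p.1,
    fun p => homOfLE p.2.choose, fun p => p.2.choose_spec.2, fun x hx => ?_, fun p => p.2.choose_spec.1⟩
  obtain ⟨W, g, hg, hxW⟩ := hT x hx
  obtain ⟨_, ⟨V, hV, rfl⟩, hxV, hVW⟩ := (𝔛.X 0).isBasis_affineOpens.exists_subset_of_mem_open hxW W.2
  have h : V ≤ U := (show V ≤ W from hVW).trans g.le
  refine ⟨V, homOfLE h, ?_, hxV⟩
  have hp : ∃ h : V ≤ U, IsAffineOpen V ∧ T.arrows (homOfLE h) := ⟨h, hV, by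
    rw [Subsingleton.elim (homOfLE h) (homOfLE (show V ≤ W from hVW) ≫ g)]
    exact T.downward_closed hg _⟩
  exact Sieve.ofArrows_mk _ _ (⟨V, hp⟩ : {p : (𝔛.X 0).Opens // ∃ h : p ≤ U, IsAffineOpen p ∧ T.arrows (homOfLE h)})

end Groth.AdicLinTop.AffineGens
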