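import Groth.Agent.FlatMorOne.LocalCriterion
import Mathlib.RingTheory.RingHom.Flat
import Mathlib.RingTheory.TensorProduct.Quotient

/-!
# Flatness of maps of complete Noetherian rings from flatness of the levels
-/

set_option autoImplicit false

universe u

open TensorProduct

namespace Groth.AdicLinTop.FlatComplete

/-- A map of Noetherian rings is flat if it is flat on all levels and the ideal lands in the radical. -/
theorem flat_of_levels {A B : Type u} [CommRing A] [CommRing B] [Algebra A B]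
    [IsNoetherianRing A] [IsNoetherianRing B] (I : Ideal A)
    (hI : I.map (algebraMap A B) ≤ Ideal.jacobson ⊥)
    {A' B' : ℕ → Type u} [∀ k, CommRing (A' k)] [∀ k, CommRing (B' k)]
    (p : ∀ k, A →+* A' k) (q : ∀ k, B →+* B' k) (f : ∀ k, A' k →+* B' k)
    (hp : ∀ k, Function.Surjective (p k)) (hq : ∀ k, Function.Surjective (q k))
    (hkp : ∀ k, RingHom.ker (p k) = I ^ (k + 1))
    (hkq : ∀ k, RingHom.ker (q k) = (I.map (algebraMap A B)) ^ (k + 1))
    (hf : ∀ k, (f k).comp (p k) = (q k).comp (algebraMap A B))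
    (hflat : ∀ k, (f k).Flat) : Module.Flat A B := by
  refine Groth.FlatMorOne.flat_of_forall_flat_mod_pow (S := B) I hI fun k hk J _ => ?_
  obtain ⟨k, rfl⟩ : ∃ j, k = j + 1 := ⟨k - 1, by omega⟩
  let eA : A ⧸ I ^ (k + 1) ≃+* A' k :=
    (Ideal.quotEquivOfEq (hkp k).symm).trans (RingHom.quotientKerEquivOfSurjective (hp k))
  let eB : B ⧸ (I ^ (k + 1)).map (algebraMap A B) ≃+* B' k :=
    (Ideal.quotEquivOfEq (by rw [hkq, Ideal.map_pow])).trans
      (RingHom.quotientKerEquivOfSurjective (hq k))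
  have heq : algebraMap (A ⧸ I ^ (k + 1)) (B ⧸ (I ^ (k + 1)).map (algebraMap A B)) =
      eB.symm.toRingHom.comp ((f k).comp eA.toRingHom) := by
    refine Ideal.Quotient.ringHom_ext (RingHom.ext fun a => eB.injective ?_)
    simp only [RingHom.comp_apply, RingEquiv.toRingHom_eq_coe, RingEquiv.coe_toRingHom,
      RingEquiv.apply_symm_apply]
    show q k (algebraMap A B a) = f k (p k a)
    exact (RingHom.congr_fun (hf k) a).symm
  have h0 : (algebraMap (A ⧸ I ^ (k + 1)) (B ⧸ (I ^ (k + 1)).map (algebraMap A B))).Flat := by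
    rw [heq]
    exact ((RingHom.Flat.of_bijective eA.bijective).comp (hflat k)).comp
      (RingHom.Flat.of_bijective eB.symm.bijective)
  have h1 : Module.Flat (A ⧸ I ^ (k + 1)) (B ⧸ (I ^ (k + 1)).map (algebraMap A B)) :=
    RingHom.flat_algebraMap_iff.1 h0
  have : Module.Flat (A ⧸ I ^ (k + 1)) ((A ⧸ I ^ (k + 1)) ⊗[A] B) :=
    Module.Flat.of_linearEquiv
      (Algebra.TensorProduct.quotIdealMapEquivQuotTensor B (I ^ (k + 1))).toLinearEquiv.symm
  exact Groth.FlatMorOne.injective_lTensor_of_flat_quotient _ _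

end Groth.AdicLinTop.FlatComplete
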