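import Groth.Agent.QCohMod.PullbackSections
import Groth.Agent.QCohMod.FTCriterion
import Mathlib.AlgebraicGeometry.Morphisms.Flat
import Mathlib.LinearAlgebra.TensorProduct.RightExactness
import Mathlib.RingTheory.Flat.EquationalCriterion

/-!
# Restriction of sections of quasi-coherent modules between affine opens
-/

set_option autoImplicit false

universe u

open CategoryTheory Limits AlgebraicGeometry Opposite TopologicalSpace TensorProduct

namespace Groth.AdicLinTop.QcohRes

open Groth.QCohMod (res resFun sectionsAlg)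
open Groth.PicAux (pullSec pullSec_smul)

variable {X : Scheme.{u}} (M : X.Modules) [M.IsQuasicoherent] {U V : X.Opens}
  (hU : IsAffineOpen U) (hV : IsAffineOpen V) (e : V ≤ U)

/-- A semilinear map from a base change with sections along the restriction. -/
noncomputable def resBC :
    letI := (resFun X e).toAlgebra
    Γ(X, V) ⊗[Γ(X, U)] Γ(M, U) →ₗ[Γ(X, V)] Γ(M, V) :=
  letI := (resFun X e).toAlgebra
  letI : Module Γ(X, U) Γ(M, V) := Module.compHom _ (resFun X e)
  haveI : IsScalarTower Γ(X, U) Γ(X, V) Γ(M, V) := IsScalarTower.of_algebraMap_smul fun _ _ => rfl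
  LinearMap.liftBaseChange Γ(X, V)
    ({ toFun := res M e, map_add' := map_add _, map_smul' := fun r m => Groth.QCohMod.res_smul M e r m } :
      Γ(M, U) →ₗ[Γ(X, U)] Γ(M, V))

omit [M.IsQuasicoherent] in
lemma resBC_tmul (b : Γ(X, V)) (m : Γ(M, U)) :
    letI := (resFun X e).toAlgebra
    resBC M e (b ⊗ₜ m) = b • res M e m := rfl

include hU hV in
/-- Sections over the smaller affine open are the base change. -/
theorem resBC_bijective :
    letI := (resFun X e).toAlgebra
    Function.Bijective (resBC M e) := by
  let adj := Scheme.Modules.pullbackPushforwardAdjunction (𝟙 X)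
  have : (Scheme.Modules.pullback (𝟙 X)).Full :=
    Functor.Full.of_iso (Scheme.Modules.pullbackId X).symm
  have : (Scheme.Modules.pullback (𝟙 X)).Faithful :=
    Functor.Faithful.of_iso (Scheme.Modules.pullbackId X).symm
  have : IsIso (adj.unit.app M) := inferInstance
  let η := adj.unit.app M
  -- the unit on sections over `V`
  have hb : Function.Bijective (η.app V) := ConcreteCategory.bijective_of_isIso _
  have hsm : ∀ (b : Γ(X, V)) (m : Γ(M, V)),
      pullSec (𝟙 X) M (b • m) =
        (show Γ(X, (𝟙 X : X ⟶ X) ⁻¹ᵁ V) from b) • pullSec (𝟙 X) M m := fun b m => pullSec_smul _ _ b m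
  letI := (resFun X e).toAlgebra
  let q : Γ(X, V) ⊗[Γ(X, U)] Γ(M, U) →ₗ[Γ(X, V)] Γ((Scheme.Modules.pullback (𝟙 X)).obj M, V) :=
    Groth.QCohMod.pullSecTensor (𝟙 X) M (U := U) (V := V) e
  have hq : Function.Bijective q :=
    Groth.QCohMod.pullSecTensor_bijective (𝟙 X) M (U := U) (V := V) e hU hV
  let p : Γ(M, V) → Γ((Scheme.Modules.pullback (𝟙 X)).obj M, V) := fun m => pullSec (𝟙 X) M m
  have hp : Function.Bijective p := hb
  have key : ∀ z, p (resBC M e z) = q z := by
    intro z
    induction z using TensorProduct.induction_on with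
    | zero => rw [map_zero, map_zero]; exact map_zero (η.app V).hom
    | add a b ha hb => rw [map_add, map_add, ← ha, ← hb]; exact map_add (η.app V).hom _ _
    | tmul b m =>
      rw [resBC_tmul]
      refine (hsm b (res M e m)).trans ?_
      refine Eq.trans ?_ (Groth.QCohMod.pullSecTensor_tmul (𝟙 X) M (U := U) (V := V) e b m).symm
      exact congrArg (fun z : Γ((Scheme.Modules.pullback (𝟙 X)).obj M, V) => b • z)
        (congr($(η.mapPresheaf.naturality (homOfLE e).op) m))
  refine (Function.Bijective.of_comp_iff' hp _).1 ?_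
  rwa [show p ∘ resBC M e = q from funext key]

include hU hV in
/-- A generating family over `U` generates over `V`. -/
theorem span_res {ι : Type*} (m : ι → Γ(M, U)) (hm : Submodule.span Γ(X, U) (Set.range m) = ⊤) :
    Submodule.span Γ(X, V) (Set.range fun i => res M e (m i)) = ⊤ := by
  letI := (resFun X e).toAlgebra
  refine eq_top_iff.2 fun t ht => ?_
  clear ht
  obtain ⟨z, rfl⟩ := (resBC_bijective M hU hV e).2 t
  induction z using TensorProduct.induction_on with
  | zero => rw [map_zero]; exact zero_mem _
  | add a b ha hb => rw [map_add]; exact add_mem ha hb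
  | tmul b x =>
    rw [resBC_tmul]
    refine Submodule.smul_mem _ _ ?_
    have hx : x ∈ Submodule.span Γ(X, U) (Set.range m) := hm ▸ Submodule.mem_top
    induction hx using Submodule.span_induction with
    | mem y hy => obtain ⟨i, rfl⟩ := hy; exact Submodule.subset_span ⟨i, rfl⟩
    | zero => rw [map_zero]; exact zero_mem _
    | add y z _ _ hy hz => rw [map_add]; exact add_mem hy hz
    | smul r y _ hy => rw [Groth.QCohMod.res_smul]; exact Submodule.smul_mem _ _ hy

include hU hV in
/-- Relations over `V` come from relations over `U`. -/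
theorem rel_res {ι : Type*} [Fintype ι] [DecidableEq ι] (m : ι → Γ(M, U))
    (hm : Submodule.span Γ(X, U) (Set.range m) = ⊤) (b : ι → Γ(X, V))
    (hb : ∑ i, b i • res M e (m i) = 0) :
    b ∈ Submodule.span Γ(X, V)
      ((fun a : ι → Γ(X, U) => fun i => resFun X e (a i)) '' {a | ∑ i, a i • m i = 0}) := by
  letI := (resFun X e).toAlgebra
  let φ : (ι → Γ(X, U)) →ₗ[Γ(X, U)] Γ(M, U) := Fintype.linearCombination Γ(X, U) m
  have hφ : Function.Surjective φ := by
    rw [← LinearMap.range_eq_top, Fintype.range_linearCombination, hm]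
  have hex := lTensor_exact Γ(X, V) (LinearMap.exact_subtype_ker_map φ) hφ
  let z : Γ(X, V) ⊗[Γ(X, U)] (ι → Γ(X, U)) := ∑ i, b i ⊗ₜ Pi.single i 1
  have hz : φ.lTensor Γ(X, V) z = 0 := by
    refine (resBC_bijective M hU hV e).1 ?_
    rw [map_zero, map_sum, map_sum]
    refine Eq.trans (Finset.sum_congr rfl fun i _ => ?_) hb
    rw [LinearMap.lTensor_tmul, resBC_tmul]
    simp only [φ, Fintype.linearCombination_apply_single, one_smul]
  obtain ⟨w, hw⟩ := (hex z).1 hz
  let ψ := (TensorProduct.piScalarRight Γ(X, U) Γ(X, V) Γ(X, V) ι).toLinearMap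
  have hψ : ψ z = b := by
    funext j
    simp only [z, ψ, map_sum, Finset.sum_apply, LinearEquiv.coe_coe, TensorProduct.piScalarRight_apply,
      TensorProduct.piScalarRightHom_tmul]
    rw [Finset.sum_eq_single j (fun i _ hij => by rw [Pi.single_eq_of_ne hij.symm, zero_smul])
      (fun h => (h (Finset.mem_univ j)).elim), Pi.single_eq_same, one_smul]
  rw [← hψ, ← hw]
  clear hw hψ hz z
  induction w using TensorProduct.induction_on with
  | zero => rw [map_zero, map_zero]; exact zero_mem _
  | add x y hx hy => rw [map_add, map_add]; exact add_mem hx hy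
  | tmul c a =>
    have : ψ (φ.ker.subtype.lTensor Γ(X, V) (c ⊗ₜ a)) = c • fun i => resFun X e (a.1 i) := by
      funext j
      simp only [ψ, LinearMap.lTensor_tmul, Submodule.subtype_apply, LinearEquiv.coe_coe,
        TensorProduct.piScalarRight_apply, TensorProduct.piScalarRightHom_tmul, Pi.smul_apply]
      rw [smul_eq_mul, Algebra.smul_def, mul_comm]
      rfl
    rw [this]
    refine Submodule.smul_mem _ _ (Submodule.subset_span ⟨a.1, ?_, rfl⟩)
    exact (Fintype.linearCombination_apply Γ(X, U) m a.1).symm.trans (LinearMap.mem_ker.1 a.2)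

include hU hV e in
omit [M.IsQuasicoherent] M in
/-- Restriction between affine opens is flat. -/
theorem flat_resFun : (resFun X e).Flat := by
  have := Scheme.Hom.flat_appLE (𝟙 X) hU hV e
  exact this

end Groth.AdicLinTop.QcohRes
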