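import Groth.Agent.AdicLinTop.FormalReal
import Groth.Agent.AdicLinTop.QcohRes
import Groth.Agent.AdicLinTop.FlatComplete
import Groth.Agent.Calg1.Completion

/-!
# The rings of a formal scheme over affine opens: Noetherian, flat restriction
-/

set_option autoImplicit false

universe u

open CategoryTheory CategoryTheory.Limits AlgebraicGeometry TopologicalSpace Opposite

namespace Groth.AdicLinTop.FormalAffine

open Groth.AdicLinTop.FormalLevels Groth.AdicLinTop.FormalReal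
open Groth.QCohMod (resFun)

variable {𝔛 : FSch.Sys.{u}} {h : 𝔛.IsFormal}

variable (h) in
/-- The sections of the structure sheaf. -/
abbrev RS (U : (𝔛.X 0).Opens) : Type u := (𝔛.Osh h).obj.obj (op U)

variable (h) in
/-- Restriction of sections of the structure sheaf. -/
noncomputable abbrev resR {U V : (𝔛.X 0).Opens} (e : V ≤ U) : RS h U →+* RS h V :=
  ((𝔛.Osh h).obj.map (homOfLE e).op).hom

variable (h) in
/-- The levels over opens are monotone. -/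
theorem lvU_mono (k : ℕ) {U V : (𝔛.X 0).Opens} (e : V ≤ U) : 𝔛.lvU h k V ≤ 𝔛.lvU h k U :=
  ((Opens.map (𝔛.gInv h k)).map (homOfLE e)).le

theorem projR_resR (k : ℕ) {U V : (𝔛.X 0).Opens} (e : V ≤ U) (a : RS h U) :
    projR k V (resR h e a) = resFun (𝔛.X k) (lvU_mono h k e) (projR k U a) :=
  NatTrans.naturality_apply (𝔛.OshProj h k).hom (homOfLE e).op a

variable (h) in
/-- The ideal of definition over an open. -/
noncomputable abbrev idl (U : (𝔛.X 0).Opens) : Ideal (RS h U) :=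
  RingHom.ker ((𝔛.OshProj h 0).hom.app (op U)).hom

variable (h𝔛 : 𝔛.IsLocNoethFormal) {U V : (𝔛.X 0).Opens}

include h𝔛 in
/-- The structure ring over an affine open is Noetherian. -/
theorem isNoetherianRing (hU : IsAffineOpen U) : IsNoetherianRing (RS h𝔛.1 U) := by
  obtain ⟨hc, hp, hfg⟩ := FormalLevels.adic h𝔛 hU
  have := h𝔛.2.2 0
  have : IsNoetherianRing Γ(𝔛.X 0, 𝔛.lvU h𝔛.1 0 U) :=
    IsLocallyNoetherian.component_noetherian ⟨_, isAffineOpen_lvU h𝔛.1 hU 0⟩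
  have : IsNoetherianRing ((𝔛.levelObj h𝔛.1 0).obj.obj (op U)) := ‹IsNoetherianRing Γ(𝔛.X 0, 𝔛.lvU h𝔛.1 0 U)›
  have : IsNoetherianRing (RS h𝔛.1 U ⧸ idl h𝔛.1 U) :=
    isNoetherianRing_of_ringEquiv _ (RingHom.quotientKerEquivOfSurjective (hp 0).1).symm
  exact Groth.Calg1.isNoetherianRing_of_isAdicComplete _ hfg

include h𝔛 in
theorem mem_pow_iff (hU : IsAffineOpen U) (k : ℕ) (a : RS h𝔛.1 U) :
    a ∈ idl h𝔛.1 U ^ (k + 1) ↔ projR k U a = 0 := by
  rw [← ((FormalLevels.adic h𝔛 hU).2.1 k).2]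
  rfl

include h𝔛 in
/-- Ideals are closed. -/
theorem mem_of_forall_mem_sup (hU : IsAffineOpen U) {M : Type u} [AddCommGroup M] [Module (RS h𝔛.1 U) M]
    [Module.Finite (RS h𝔛.1 U) M] (N : Submodule (RS h𝔛.1 U) M) {m : M}
    (hm : ∀ k, m ∈ N ⊔ idl h𝔛.1 U ^ (k + 1) • ⊤) : m ∈ N := by
  have := (FormalLevels.adic h𝔛 hU).1
  have := isNoetherianRing h𝔛 hU
  have hJ : idl h𝔛.1 U ≤ Ideal.jacobson ⊥ := IsAdicComplete.le_jacobson_bot _
  rw [← Submodule.Quotient.mk_eq_zero]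
  suffices Submodule.Quotient.mk (p := N) m ∈ (⨅ n : ℕ, idl h𝔛.1 U ^ n • (⊤ : Submodule (RS h𝔛.1 U) (M ⧸ N))) by
    rwa [Ideal.iInf_pow_smul_eq_bot_of_le_jacobson _ hJ, Submodule.mem_bot] at this
  rw [Submodule.mem_iInf]
  intro n
  obtain ⟨a, ha, b, hb, rfl⟩ := Submodule.mem_sup.1 (hm n)
  rw [Submodule.Quotient.mk_add, (Submodule.Quotient.mk_eq_zero N).2 ha, zero_add]
  have h1 : N.mkQ b ∈ (idl h𝔛.1 U ^ (n + 1) • (⊤ : Submodule (RS h𝔛.1 U) M)).map N.mkQ :=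
    Submodule.mem_map_of_mem hb
  rw [Submodule.map_smul''] at h1
  exact Submodule.smul_mono (Ideal.pow_le_pow_right (Nat.le_succ n)) le_top h1

theorem map_map_comm {A B C D : Type*} [CommRing A] [CommRing B] [CommRing C] [CommRing D] {f : A →+* B}
    {g : B →+* D} {f' : A →+* C} {g' : C →+* D} (he : g.comp f = g'.comp f') (I : Ideal A) :
    (I.map f).map g = (I.map f').map g' := by
  rw [Ideal.map_map, Ideal.map_map, he]

include h𝔛 in
/-- The ideal of definition restricts to the ideal of definition. -/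
theorem map_idl (hU : IsAffineOpen U) (hV : IsAffineOpen V) (e : V ≤ U) :
    (idl h𝔛.1 U).map (resR h𝔛.1 e) = idl h𝔛.1 V := by
  obtain ⟨hcV, hpV, hfgV⟩ := FormalLevels.adic h𝔛 hV
  obtain ⟨-, hpU, -⟩ := FormalLevels.adic h𝔛 hU
  have hle : (idl h𝔛.1 U).map (resR h𝔛.1 e) ≤ idl h𝔛.1 V := by
    rw [Ideal.map_le_iff_le_comap]
    intro a ha
    rw [Ideal.mem_comap, RingHom.mem_ker]
    refine (projR_resR 0 e a).trans ?_
    rw [show projR 0 U a = 0 from ha, map_zero]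
    rfl
  refine le_antisymm hle (Submodule.le_of_le_smul_of_le_jacobson_bot hfgV
    (IsAdicComplete.le_jacobson_bot (idl h𝔛.1 V)) fun b hb => ?_)
  -- modulo the square of the ideal
  have := (h𝔛.1 0).1
  let UU : (𝔛.X (0 + 1)).affineOpens := ⟨_, isAffineOpen_lvU h𝔛.1 hU (0 + 1)⟩
  let VV : (𝔛.X (0 + 1)).affineOpens := ⟨_, isAffineOpen_lvU h𝔛.1 hV (0 + 1)⟩
  have hb1 : projR (0 + 1) V b ∈ (𝔛.ι 0).ker.ideal VV := by
    rw [← ker_appLE_eq (𝔛.ι 0) VV _ (𝔛.lvU_le h𝔛.1 0 V) (𝔛.lvU_succ h𝔛.1 0 V).le, RingHom.mem_ker]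
    exact (OshProj_levelMap_apply h𝔛.1 V 0 b).trans hb
  rw [← (𝔛.ι 0).ker.map_ideal (U := VV) (V := UU) (lvU_mono h𝔛.1 (0 + 1) e)] at hb1
  have hid : (𝔛.ι 0).ker.ideal UU = (idl h𝔛.1 U).map ((𝔛.OshProj h𝔛.1 (0 + 1)).hom.app (op U)).hom := by
    rw [← ker_appLE_eq (𝔛.ι 0) UU _ (𝔛.lvU_le h𝔛.1 0 U) (𝔛.lvU_succ h𝔛.1 0 U).le]
    refine le_antisymm (fun x hx => ?_) ?_
    · obtain ⟨a, rfl⟩ := (hpU (0 + 1)).1 x
      refine Ideal.mem_map_of_mem _ ?_
      exact (OshProj_levelMap_apply h𝔛.1 U 0 a).symm.trans hx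
    · exact Ideal.map_le_iff_le_comap.2 fun a ha => (OshProj_levelMap_apply h𝔛.1 U 0 a).trans ha
  rw [hid] at hb1
  have hcomp : ((𝔛.X (0 + 1)).presheaf.map (homOfLE (lvU_mono h𝔛.1 (0 + 1) e)).op).hom.comp
      ((𝔛.OshProj h𝔛.1 (0 + 1)).hom.app (op U)).hom =
      ((𝔛.OshProj h𝔛.1 (0 + 1)).hom.app (op V)).hom.comp (resR h𝔛.1 e) :=
    RingHom.ext fun a => (projR_resR (0 + 1) e a).symm
  obtain ⟨c, hc, hcb⟩ := (Ideal.mem_map_iff_of_surjective _ (hpV (0 + 1)).1).1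
    ((map_map_comm hcomp (idl h𝔛.1 U)).le hb1)
  refine Submodule.mem_sup.2 ⟨c, hc, b - c, ?_, add_sub_cancel _ _⟩
  rw [smul_eq_mul, ← pow_two, mem_pow_iff h𝔛 hV 1]
  show projR (0 + 1) V (b - c) = 0
  exact (map_sub _ _ _).trans (sub_eq_zero.2 hcb.symm)

include h𝔛 in
/-- Restriction between affine opens is flat. -/
theorem flat_resR (hU : IsAffineOpen U) (hV : IsAffineOpen V) (e : V ≤ U) :
    (resR h𝔛.1 e).Flat := by
  algebraize [resR h𝔛.1 e]
  have := isNoetherianRing h𝔛 hU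
  have := isNoetherianRing h𝔛 hV
  have := (FormalLevels.adic h𝔛 hV).1
  refine FlatComplete.flat_of_levels (idl h𝔛.1 U)
    ((map_idl h𝔛 hU hV e).le.trans (IsAdicComplete.le_jacobson_bot _))
    (fun k => ((𝔛.OshProj h𝔛.1 k).hom.app (op U)).hom)
    (fun k => ((𝔛.OshProj h𝔛.1 k).hom.app (op V)).hom)
    (fun k => resFun (𝔛.X k) (lvU_mono h𝔛.1 k e))
    (fun k => ((FormalLevels.adic h𝔛 hU).2.1 k).1) (fun k => ((FormalLevels.adic h𝔛 hV).2.1 k).1)
    (fun k => ((FormalLevels.adic h𝔛 hU).2.1 k).2) (fun k => ?_)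
    (fun k => RingHom.ext fun a => (projR_resR k e a).symm)
    (fun k => QcohRes.flat_resFun (isAffineOpen_lvU h𝔛.1 hU k) (isAffineOpen_lvU h𝔛.1 hV k) _)
  rw [((FormalLevels.adic h𝔛 hV).2.1 k).2]
  exact congrArg (· ^ (k + 1)) (map_idl h𝔛 hU hV e).symm

include h𝔛 in
/-- Linear relations over the smaller affine open come from the larger one. -/
theorem rel_resR (hU : IsAffineOpen U) (hV : IsAffineOpen V) (e : V ≤ U) {n : ℕ}
    (r : Fin n → RS h𝔛.1 U) (b : Fin n → RS h𝔛.1 V) (hb : ∑ i, resR h𝔛.1 e (r i) * b i = 0) :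
    b ∈ Submodule.span (RS h𝔛.1 V)
      ((fun a : Fin n → RS h𝔛.1 U => fun i => resR h𝔛.1 e (a i)) '' {a | ∑ i, r i * a i = 0}) := by
  algebraize [resR h𝔛.1 e]
  have : Module.Flat (RS h𝔛.1 U) (RS h𝔛.1 V) := flat_resR h𝔛 hU hV e
  obtain ⟨k, a, y, hy, ha⟩ := Module.Flat.isTrivialRelation_of_sum_smul_eq_zero (f := r) (x := b) hb
  have : b = ∑ j, y j • fun i => resR h𝔛.1 e (a i j) := by
    funext i
    rw [hy i, Finset.sum_apply]
    exact Finset.sum_congr rfl fun j _ => mul_comm _ _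
  rw [this]
  exact Submodule.sum_mem _ fun j _ => Submodule.smul_mem _ _ (Submodule.subset_span ⟨fun i => a i j, ha j, rfl⟩)

end Groth.AdicLinTop.FormalAffine
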