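import Groth.Agent.Misc4.FlatFactor
import Groth.Agent.SitesTopoi.Mod.Split
import Mathlib.CategoryTheory.Sites.Spaces

/-!
# Finitely presented modules on ringed spaces, in terms of sections
-/

set_option autoImplicit false

universe u

open CategoryTheory CategoryTheory.Limits Opposite TopologicalSpace

set_option backward.defeqAttrib.useBackward true
set_option backward.isDefEq.respectTransparency false
set_option backward.isDefEq.respectTransparency.types false
set_option synthInstance.maxHeartbeats 400000

namespace Groth.AdicLinTop.SpacePres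

open Groth.SitesTopoi.ModH Groth.Misc4.FreeOn Groth.Misc4.FlatFactor

section General

variable {C : Type u} [SmallCategory C] {J : GrothendieckTopology C} {R : Sheaf J RingCat.{u}}
  [HasWeakSheafify J AddCommGrpCat.{u}] [J.WEqualsLocallyBijective AddCommGrpCat.{u}]

/-- A presentation from two epimorphisms out of free modules. -/
noncomputable def presOfEpi {N : SheafOfModules.{u} R} {ι κ : Type u} (f : SheafOfModules.free ι ⟶ N)
    (hf : Epi f) (g : SheafOfModules.free κ ⟶ kernel f) (hg : Epi g) : N.Presentation :=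
  let G : N.GeneratingSections :=
    { I := ι, s := N.freeHomEquiv f, epi := by rw [Equiv.symm_apply_apply]; exact hf }
  { generators := G
    relations :=
      { I := κ
        s := SheafOfModules.freeHomEquiv _
          (g ≫ (kernelIsoOfEq (show f = G.π from ((N.freeHomEquiv).symm_apply_apply f).symm)).hom)
        epi := by
          rw [Equiv.symm_apply_apply]
          exact epi_comp g _ } }

end General

variable {T : Type u} [TopologicalSpace T]
  {O : Sheaf (Opens.grothendieckTopology T) CommRingCat.{u}}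

/-- Restriction of functions. -/
noncomputable abbrev rr {U V : Opens T} (h : V ≤ U) : rsec O U →+* rsec O V := rsR (homOfLE h)

/-- Restriction of sections. -/
noncomputable abbrev rm (M : ModSite.Mod O) {U V : Opens T} (h : V ≤ U) : sc M.val U →+ sc M.val V :=
  rsm M.val (homOfLE h)

lemma rm_rm (M : ModSite.Mod O) {U V W : Opens T} (h : V ≤ U) (h' : W ≤ V) (x : sc M.val U) :
    rm M h' (rm M h x) = rm M (h'.trans h) x := rsm_rsm _ _ _ _

lemma rm_self (M : ModSite.Mod O) {U : Opens T} (x : sc M.val U) : rm M le_rfl x = x := rsm_id _ _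

lemma rr_rr {U V W : Opens T} (h : V ≤ U) (h' : W ≤ V) (x : rsec O U) :
    rr h' (rr h x) = rr (O := O) (h'.trans h) x := rsR_rsR _ _ _

lemma rm_smul (M : ModSite.Mod O) {U V : Opens T} (h : V ≤ U) (a : rsec O U) (x : sc M.val U) :
    rm M h (a • x) = rr h a • rm M h x := rsm_smul _ _ _ _

lemma exists_nhd_of_mem {U : Opens T} {S : Sieve U} (hS : S ∈ Opens.grothendieckTopology T U) {x : T}
    (hx : x ∈ U) : ∃ (V : Opens T) (h : V ≤ U), x ∈ V ∧ S (homOfLE h) := by
  obtain ⟨V, f, hf, hxV⟩ := hS x hx
  exact ⟨V, f.le, hxV, by rwa [Subsingleton.elim (homOfLE f.le) f]⟩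

lemma mem_of_nhds {U : Opens T} (S : Sieve U)
    (h : ∀ x ∈ U, ∃ (V : Opens T) (h : V ≤ U), x ∈ V ∧ S (homOfLE h)) :
    S ∈ Opens.grothendieckTopology T U := fun x hx =>
  let ⟨V, hV, hxV, hS⟩ := h x hx
  ⟨V, homOfLE hV, hS, hxV⟩

/-- Sections with vanishing restrictions near every point vanish. -/
lemma eq_zero_of_local {M : ModSite.Mod O} {U : Opens T} {m : sc M.val U}
    (h : ∀ x ∈ U, ∃ (V : Opens T) (hV : V ≤ U), x ∈ V ∧ rm M hV m = 0) : m = 0 := by
  let S : Sieve U :=
    { arrows := fun V g => rsm M.val g m = 0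
      downward_closed := fun {Y Z} {f} hf g => by
        show rsm M.val (g ≫ f) m = 0
        rw [← rsm_rsm, show rsm M.val f m = 0 from hf, map_zero] }
  refine sec_extM M (mem_of_nhds S fun x hx => ?_) fun V g hg => (hg : rsm M.val g m = 0).trans (map_zero _).symm
  obtain ⟨V, hV, hxV, h0⟩ := h x hx
  exact ⟨V, hV, hxV, h0⟩

variable (M : ModSite.Mod O)

/-- Generators of a module over an open, near every point. -/
structure GenData (U : Opens T) (n : ℕ) where
  /-- the generators -/
  s : Fin n → sc M.val U
  gen : ∀ (W : Opens T) (hW : W ≤ U) (t : sc M.val W), ∀ x ∈ W,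
    ∃ (V : Opens T) (hV : V ≤ W), x ∈ V ∧ ∃ a : Fin n → rsec O V,
      rm M hV t = ∑ i, a i • rm M (hV.trans hW) (s i)

/-- Generators and relations of a module over an open, near every point. -/
structure PresData (U : Opens T) (n m : ℕ) extends GenData M U n where
  /-- the relations -/
  r : Fin m → Fin n → rsec O U
  zero : ∀ j, ∑ i, r j i • s i = 0
  rel : ∀ (W : Opens T) (hW : W ≤ U) (a : Fin n → rsec O W), ∑ i, a i • rm M hW (s i) = 0 → ∀ x ∈ W,
    ∃ (V : Opens T) (hV : V ≤ W), x ∈ V ∧ ∃ c : Fin m → rsec O V,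
      ∀ i, rr hV (a i) = ∑ j, c j * rr (hV.trans hW) (r j i)

variable {M}

/-- Generators restrict to smaller opens. -/
noncomputable def GenData.restrict {U U' : Opens T} {n : ℕ} (P : GenData M U n) (h : U' ≤ U) :
    GenData M U' n where
  s i := rm M h (P.s i)
  gen W hW t x hx := by
    obtain ⟨V, hV, hxV, a, ha⟩ := P.gen W (hW.trans h) t x hx
    exact ⟨V, hV, hxV, a, ha.trans (by simp only [rm_rm])⟩

/-- Presentations restrict to smaller opens. -/
noncomputable def PresData.restrict {U U' : Opens T} {n m : ℕ} (P : PresData M U n m) (h : U' ≤ U) :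
    PresData M U' n m where
  __ := P.toGenData.restrict h
  r j i := rr h (P.r j i)
  zero j := by
    have e := congrArg (rm M h) (P.zero j)
    simp only [map_sum, rm_smul, map_zero] at e
    exact e
  rel W hW a ha x hx := by
    obtain ⟨V, hV, hxV, c, hc⟩ := P.rel W (hW.trans h) a
      ((Finset.sum_congr rfl fun i _ => by rw [← rm_rm M h hW]; rfl).trans ha) x hx
    exact ⟨V, hV, hxV, c, fun i => (hc i).trans (by simp only [rr_rr])⟩

section Slice

variable {U : Opens T}

/-- An open contained in `U` as an object over `U`. -/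
abbrev ov {W : Opens T} (h : W ≤ U) : Over U := Over.mk (homOfLE h)

/-- The coordinates of a section of a finite free module. -/
noncomputable def coord {ι : Type u} [Fintype ι] (i : ι) (W : Over U)
    (y : sc (SheafOfModules.free ι : ModOver O U).val W) : rsec O W.left :=
  apm (proj ι i).val W y

lemma apm_proj {ι : Type u} [Fintype ι] (i : ι) (W : Over U)
    (y : sc (SheafOfModules.free ι : ModOver O U).val W) :
    (apm (proj ι i).val W y : rsec O W.left) = coord i W y := rfl

lemma coord_rsm {ι : Type u} [Fintype ι] (i : ι) {W W' : Over U} (g : W' ⟶ W)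
    (y : sc (SheafOfModules.free ι : ModOver O U).val W) :
    coord i W' (rsm (SheafOfModules.free ι : ModOver O U).val g y) = rsR g.left (coord i W y) :=
  apm_rsm _ g y

/-- The value of a map out of the structure sheaf. -/
lemma apm_unit {N : ModOver O U} (g : oU O U ⟶ N) (W : Over U) (a : rsec (O.over U) W) :
    apm g.val W a = a • rsm N.val (Over.homMk (U := W) (V := top' U) W.hom (Category.comp_id _)) (ev g) := by
  rw [ev, ← apm_rsm]
  refine Eq.trans ?_ (map_smul (apm g.val W) a _)
  refine congrArg _ ?_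
  refine (mul_one a).symm.trans ?_
  refine congrArg (fun z => a * z) ?_
  exact (map_one (rsR (O := O.over U) (Over.homMk (U := W) (V := top' U) W.hom (Category.comp_id _)))).symm

/-- The value of a map from a finite free module. -/
lemma apm_free {N : ModOver O U} {ι : Type u} [Fintype ι]
    (f : (SheafOfModules.free ι : ModOver O U) ⟶ N) (W : Over U)
    (y : sc (SheafOfModules.free ι : ModOver O U).val W) :
    apm f.val W y = ∑ i, (coord i W y : rsec (O.over U) W) •
      rsm N.val (Over.homMk (U := W) (V := top' U) W.hom (Category.comp_id _))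
        (ev (SheafOfModules.ιFree i ≫ f)) := by
  let E : ((SheafOfModules.free ι : ModOver O U) ⟶ N) →+ sc N.val W :=
    AddMonoidHom.mk' (fun k => apm k.val W y) fun _ _ => rfl
  show E f = _
  conv_lhs => rw [eq_sum ι f]
  rw [map_sum]
  refine Finset.sum_congr rfl fun i _ => ?_
  exact apm_unit (SheafOfModules.ιFree i ≫ f) W (coord i W y)

/-- The element of a finite free module with given coordinates. -/
noncomputable def freeElt (ι : Type u) [Fintype ι] {W : Over U} (a : ι → rsec (O.over U) W) :
    sc (SheafOfModules.free ι : ModOver O U).val W :=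
  ∑ i, apm (SheafOfModules.ιFree i : oU O U ⟶ SheafOfModules.free ι).val W (a i)

lemma proj_freeElt (ι : Type u) [Fintype ι] {W : Over U} (a : ι → rsec (O.over U) W) (i : ι) :
    coord i W (freeElt ι a) = a i := by
  classical
  show apm (proj ι i : (SheafOfModules.free ι : ModOver O U) ⟶ _).val W (freeElt ι a) = _
  simp only [freeElt, map_sum]
  have e : ∀ j, apm (proj ι i : (SheafOfModules.free ι : ModOver O U) ⟶ _).val W
      (apm (SheafOfModules.ιFree j : oU O U ⟶ SheafOfModules.free ι).val W (a j)) =
        if j = i then (a j : sc (oU O U).val W) else 0 := fun j => by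
    show apm (SheafOfModules.ιFree j ≫ proj ι i).val W (a j) = _
    rw [ι_proj]
    split_ifs <;> rfl
  rw [Finset.sum_congr rfl fun j _ => e j, Finset.sum_ite_eq' Finset.univ i, if_pos (Finset.mem_univ i)]

/-- The morphism out of a finite free module given by sections. -/
noncomputable def freeMap {n : ℕ} (s : Fin n → sc M.val U) :
    (SheafOfModules.free (ULift.{u} (Fin n)) : ModOver O U) ⟶ (ModSite.restr O U).obj M :=
  Cofan.IsColimit.desc (SheafOfModules.isColimitFreeCofan _) fun i => ofElem (s i.down)

lemma ι_freeMap {n : ℕ} (s : Fin n → sc M.val U) (i : ULift.{u} (Fin n)) :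
    SheafOfModules.ιFree i ≫ freeMap s = ofElem (s i.down) :=
  Cofan.IsColimit.fac (SheafOfModules.isColimitFreeCofan _) _ i

lemma apm_freeMap {n : ℕ} (s : Fin n → sc M.val U) (W : Over U)
    (y : sc (SheafOfModules.free (ULift.{u} (Fin n)) : ModOver O U).val W) :
    (apm (freeMap s).val W y : sc M.val W.left) =
      ∑ i : Fin n, coord ⟨i⟩ W y • rsm M.val W.hom (s i) := by
  rw [apm_free]
  refine (Equiv.sum_comp Equiv.ulift.symm _).symm.trans (Finset.sum_congr rfl fun i _ => ?_)
  rw [ι_freeMap]
  refine congrArg (fun z : sc M.val W.left => coord (ULift.up i) W y • z) ?_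
  show rsm ((ModSite.restr O U).obj M).val _ (ev (ofElem (s i))) = _
  exact congrArg (rsm M.val W.hom) (ev_ofElem (s i))

lemma locSurj_of_nhds {P Q : ModOver O U} (f : P ⟶ Q)
    (h : ∀ (W : Over U) (q : sc Q.val W), ∀ x ∈ W.left, ∃ (V : Opens T) (hV : V ≤ W.left), x ∈ V ∧
      ∃ p, apm f.val (ov (hV.trans W.hom.le)) p =
        rsm Q.val (Over.homMk (U := ov (hV.trans W.hom.le)) (homOfLE hV)) q) :
    LocSurj f.val := by
  intro W q
  let S : Sieve W :=
    { arrows := fun V g => ∃ p, apm f.val V p = rsm Q.val g q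
      downward_closed := fun {Y Z} {g} hg k => by
        obtain ⟨p, hp⟩ := hg
        exact ⟨rsm P.val k p, by rw [apm_rsm, hp, rsm_rsm]⟩ }
  refine ⟨S, (GrothendieckTopology.mem_over_iff _ _).2 (mem_of_nhds _ fun x hx => ?_), fun V g hg => hg⟩
  obtain ⟨V, hV, hxV, hp⟩ := h W q x hx
  refine ⟨V, hV, hxV, ?_⟩
  exact (Sieve.overEquiv_iff S (homOfLE hV)).2 hp

lemma epi_of_locSurj {P Q : ModOver O U} (f : P ⟶ Q) (h : LocSurj f.val) : Epi f := by
  refine ⟨fun {R} a b e => mod_hom_ext fun W q => ?_⟩
  obtain ⟨S, hS, hS'⟩ := h W q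
  refine sec_extM R hS fun V g hg => ?_
  obtain ⟨p, hp⟩ := hS' g hg
  rw [← apm_rsm, ← apm_rsm, ← hp]
  exact congrArg (fun k => apm (SheafOfModules.Hom.val k) V p) e

lemma nhds_of_locSurj {P Q : ModOver O U} (f : P ⟶ Q) (h : LocSurj f.val) (W : Over U)
    (q : sc Q.val W) {x : T} (hx : x ∈ W.left) :
    ∃ (V : Opens T) (hV : V ≤ W.left), x ∈ V ∧
      ∃ p, apm f.val (ov (hV.trans W.hom.le)) p =
        rsm Q.val (Over.homMk (U := ov (hV.trans W.hom.le)) (homOfLE hV)) q := by
  obtain ⟨S, hS, hS'⟩ := h W q
  obtain ⟨V, hV, hxV, hS''⟩ := exists_nhd_of_mem ((GrothendieckTopology.mem_over_iff _ _).1 hS) hx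
  refine ⟨V, hV, hxV, hS' _ ?_⟩
  exact (Sieve.overEquiv_iff S (homOfLE hV)).1 hS''

lemma exists_kernel_lift {P Q : ModOver O U} (f : P ⟶ Q) (W : Over U) (y : sc P.val W)
    (hy : apm f.val W y = 0) : ∃ z, apm (kernel.ι f).val W z = y := by
  let S : ShortComplex (ModOver O U) := ShortComplex.mk (kernel.ι f) f (kernel.condition f)
  have hex : S.Exact := ShortComplex.exact_of_f_is_kernel _ (kernelIsKernel f)
  have : (forgetP (O.over U)).IsRightAdjoint := (adjP (O.over U)).isRightAdjoint
  let G := forgetP (O.over U) ⋙ PresheafOfModules.evaluation _ (op W)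
  have hlim : PreservesFiniteLimits G := comp_preservesFiniteLimits _ _
  have hadd : G.Additive := ⟨fun {_ _ _ _} => rfl⟩
  have hh := G.preservesFiniteLimits_tfae.out 3 1
  exact (ShortComplex.moduleCat_exact_iff _).1 (hh.1 hlim S ⟨hex, inferInstance⟩).1 y hy

lemma epi_freeMap {n : ℕ} (P : GenData M U n) : Epi (freeMap P.s) := by
  refine epi_of_locSurj _ (locSurj_of_nhds _ fun W q x hx => ?_)
  obtain ⟨V, hV, hxV, a, ha⟩ := P.gen W.left W.hom.le q x hx
  refine ⟨V, hV, hxV, freeElt _ fun i => (a i.down : rsec (O.over U) (ov (hV.trans W.hom.le))), ?_⟩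
  show (apm (freeMap P.s).val (ov (hV.trans W.hom.le)) _ : sc M.val V) = rm M hV q
  rw [apm_freeMap, ha]
  exact Finset.sum_congr rfl fun i _ => congrArg (fun z => z • _) (proj_freeElt _ _ _)

/-- Generating sections on the slice from generators. -/
noncomputable def genSections {n : ℕ} (P : GenData M U n) : ((ModSite.restr O U).obj M).GeneratingSections where
  I := ULift.{u} (Fin n)
  s := SheafOfModules.freeHomEquiv _ (freeMap P.s)
  epi := by rw [Equiv.symm_apply_apply]; exact epi_freeMap P

lemma genSections_π {n : ℕ} (P : GenData M U n) : (genSections P).π = freeMap P.s :=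
  Equiv.symm_apply_apply _ _

/-- Generators from generating sections on the slice. -/
theorem nonempty_genData (σ : ((ModSite.restr O U).obj M).GeneratingSections) [σ.IsFiniteType] :
    ∃ (n : ℕ) (P : GenData M U n) (e : σ.I ≃ ULift.{u} (Fin n)),
      ∀ i, P.s (e i).down = ev (SheafOfModules.ιFree i ≫ σ.π) := by
  have : Fintype σ.I := Fintype.ofFinite _
  have e : σ.I ≃ ULift.{u} (Fin (Fintype.card σ.I)) := (Fintype.equivFin σ.I).trans Equiv.ulift.symm
  let s : Fin (Fintype.card σ.I) → sc M.val U := fun i => ev (SheafOfModules.ιFree (e.symm ⟨i⟩) ≫ σ.π)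
  have hs : ∀ i, s (e i).down = ev (SheafOfModules.ιFree i ≫ σ.π) := fun i => by
    show ev (SheafOfModules.ιFree (e.symm (e i)) ≫ σ.π) = _
    rw [Equiv.symm_apply_apply]
  have hgen : ∀ (W : Opens T) (hW : W ≤ U) (t : sc M.val W), ∀ x ∈ W,
      ∃ (V : Opens T) (hV : V ≤ W), x ∈ V ∧ ∃ a : Fin (Fintype.card σ.I) → rsec O V,
        rm M hV t = ∑ i, a i • rm M (hV.trans hW) (s i) := by
    intro W hW t x hx
    obtain ⟨V, hV, hxV, p, hp⟩ := nhds_of_locSurj σ.π (locSurj_of_epi σ.π) (ov hW) t hx
    refine ⟨V, hV, hxV, fun i => coord (e.symm ⟨i⟩) (ov (hV.trans hW)) p, ?_⟩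
    have h2 := apm_free σ.π (ov (hV.trans hW)) p
    have h3 : rm M hV t = apm σ.π.val (ov (hV.trans hW)) p := hp.symm
    refine h3.trans (h2.trans ?_)
    refine (Equiv.sum_comp (Equiv.ulift.symm.trans e.symm) _).symm.trans (Finset.sum_congr rfl fun i _ => ?_)
    rfl
  exact ⟨_, ⟨s, hgen⟩, e, hs⟩

end Slice

/-- Local generators from generators near every point. -/
noncomputable def localGenerators (U : T → Opens T) (n : T → ℕ) (hxU : ∀ x, x ∈ U x)
    (P : ∀ x, GenData M (U x) (n x)) :
    SheafOfModules.LocalGeneratorsData.{u} (R := ModSite.ringSh O) M where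
  I := T
  X := U
  coversTop := by
    rw [Opens.coversTop_iff]
    ext x
    simpa [Opens.mem_iSup] using ⟨x, hxU x⟩
  generators x := genSections (P x)

lemma localGenerators_isFiniteType (U : T → Opens T) (n : T → ℕ) (hxU : ∀ x, x ∈ U x)
    (P : ∀ x, GenData M (U x) (n x)) : (localGenerators U n hxU P).IsFiniteType :=
  SheafOfModules.LocalGeneratorsData.IsFiniteType.mk (R := ModSite.ringSh O) (M := M)
    (p := localGenerators U n hxU P) fun x =>
      { finite := (inferInstance : Finite (ULift.{u} (Fin (n x)))) }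

/-- A module locally generated by finitely many sections is of finite type. -/
theorem isFiniteType_of_genData (h : ∀ x : T, ∃ (U : Opens T) (n : ℕ), x ∈ U ∧ Nonempty (GenData M U n)) :
    SheafOfModules.IsFiniteType.{u} (R := ModSite.ringSh O) M := by
  choose U n hxU P using h
  exact SheafOfModules.IsFiniteType.mk (R := ModSite.ringSh O) (M := M)
    ⟨localGenerators U n hxU fun x => (P x).some, localGenerators_isFiniteType U n hxU fun x => (P x).some⟩

section Slice

variable {U : Opens T} {n m : ℕ} (P : PresData M U n m)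

/-- The map of relations. -/
noncomputable def relMap : (SheafOfModules.free (ULift.{u} (Fin m)) : ModOver O U) ⟶
    SheafOfModules.free (ULift.{u} (Fin n)) :=
  Cofan.IsColimit.desc (SheafOfModules.isColimitFreeCofan _) fun j =>
    ∑ i, scal (P.r j.down i) ≫ SheafOfModules.ιFree ⟨i⟩

lemma proj_relMap (W : Over U) (y : sc (SheafOfModules.free (ULift.{u} (Fin m)) : ModOver O U).val W)
    (i : Fin n) :
    coord ⟨i⟩ W (apm (relMap P).val W y) =
      ∑ j : Fin m, coord ⟨j⟩ W y * rsR W.hom (P.r j i) := by
  show apm (relMap P ≫ proj _ ⟨i⟩).val W y = _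
  rw [apm_free]
  refine (Equiv.sum_comp Equiv.ulift.symm _).symm.trans (Finset.sum_congr rfl fun j _ => ?_)
  refine congrArg (fun z : rsec O W.left => coord (ULift.up j) W y * z) ?_
  have e : SheafOfModules.ιFree (ULift.up j) ≫ relMap P ≫ proj (W := U) (O := O) (ULift.{u} (Fin n)) ⟨i⟩ =
      scal (P.r j i) := by
    classical
    rw [← Category.assoc, relMap,
      show SheafOfModules.ιFree (ULift.up j) ≫ Cofan.IsColimit.desc
        (SheafOfModules.isColimitFreeCofan (ULift.{u} (Fin m))) (fun j => ∑ i, scal (P.r j.down i) ≫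
          (SheafOfModules.ιFree ⟨i⟩ : oU O U ⟶ SheafOfModules.free (ULift.{u} (Fin n)))) = _
        from Cofan.IsColimit.fac _ _ _]
    simp only [Preadditive.sum_comp, Category.assoc, ι_proj]
    rw [Finset.sum_eq_single i (fun k _ hk => by rw [if_neg (fun h => hk (congrArg ULift.down h)), comp_zero])
      (fun h => (h (Finset.mem_univ i)).elim), if_pos rfl, Category.comp_id]
  refine (congrArg (fun k => rsm (oU O U).val (Over.homMk (U := W) (V := top' U) W.hom (Category.comp_id _)) (ev k)) e).trans ?_
  exact congrArg (rsR W.hom) (ev_ofElem (M := ModSite.unit O) (P.r j i))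

lemma relMap_freeMap : relMap P ≫ freeMap P.s = 0 := by
  refine mod_hom_ext fun W y => ?_
  show (apm (freeMap P.s).val W (apm (relMap P).val W y) : sc M.val W.left) = 0
  rw [apm_freeMap]
  simp only [proj_relMap, Finset.sum_smul, mul_smul]
  rw [Finset.sum_comm]
  refine Finset.sum_eq_zero fun j _ => ?_
  rw [← Finset.smul_sum]
  simp only [← rsm_smul, ← map_sum, P.zero, map_zero, smul_zero]

lemma epi_lift_relMap : Epi (kernel.lift _ (relMap P) (relMap_freeMap P)) := by
  refine epi_of_locSurj _ (locSurj_of_nhds _ fun W q x hx => ?_)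
  let y := apm (kernel.ι (freeMap P.s)).val W q
  have hy : (apm (freeMap P.s).val W y : sc M.val W.left) = 0 :=
    congrArg (fun k => apm (SheafOfModules.Hom.val k) W q) (kernel.condition (freeMap P.s))
  rw [apm_freeMap] at hy
  obtain ⟨V, hV, hxV, c, hc⟩ := P.rel W.left W.hom.le _ hy x hx
  let g : ov (hV.trans W.hom.le) ⟶ W := Over.homMk (homOfLE hV)
  refine ⟨V, hV, hxV, freeElt _ fun j => (c j.down : rsec (O.over U) (ov (hV.trans W.hom.le))), ?_⟩
  refine injective_of_mono (kernel.ι (freeMap P.s)) _ ?_
  show apm (kernel.lift _ (relMap P) (relMap_freeMap P) ≫ kernel.ι (freeMap P.s)).val _ _ = _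
  rw [kernel.lift_ι, apm_rsm]
  -- compare coordinates
  have hext : ∀ z z' : sc (SheafOfModules.free (ULift.{u} (Fin n)) : ModOver O U).val (ov (hV.trans W.hom.le)),
      (∀ i, coord i _ z = coord i _ z') → z = z' := fun z z' h => by
    have e : ∀ z'' : sc (SheafOfModules.free (ULift.{u} (Fin n)) : ModOver O U).val (ov (hV.trans W.hom.le)),
        z'' = apm (∑ i, proj (ULift.{u} (Fin n)) i ≫ SheafOfModules.ιFree i).val _ z'' := fun z'' => by
      rw [sum_proj_ι]; rfl
    let E : ∀ z'' : sc (SheafOfModules.free (ULift.{u} (Fin n)) : ModOver O U).val (ov (hV.trans W.hom.le)),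
        ((SheafOfModules.free (ULift.{u} (Fin n)) : ModOver O U) ⟶ SheafOfModules.free (ULift.{u} (Fin n))) →+
          sc (SheafOfModules.free (ULift.{u} (Fin n)) : ModOver O U).val (ov (hV.trans W.hom.le)) := fun z'' =>
      AddMonoidHom.mk' (fun k => apm k.val _ z'') fun _ _ => rfl
    rw [e z, e z']
    show E z _ = E z' _
    rw [map_sum, map_sum]
    exact Finset.sum_congr rfl fun i _ => congrArg (apm (SheafOfModules.ιFree i : oU O U ⟶ _).val _) (h i)
  refine hext _ _ fun i => ?_
  rw [coord_rsm]
  refine (proj_relMap P _ _ i.down).trans (Eq.trans ?_ (hc i.down).symm)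
  exact Finset.sum_congr rfl fun j _ => congrArg (fun z => z * _) (proj_freeElt _ _ _)

/-- The presentation on the slice attached to presentation data. -/
noncomputable def presentation : ((ModSite.restr O U).obj M).Presentation :=
  presOfEpi (freeMap P.s) (epi_freeMap P.toGenData) (kernel.lift _ (relMap P) (relMap_freeMap P))
    (epi_lift_relMap P)

end Slice

/-- Quasi-coherence data from presentations near every point. -/
noncomputable def qcohData (U : T → Opens T) (n m : T → ℕ) (hxU : ∀ x, x ∈ U x)
    (P : ∀ x, PresData M (U x) (n x) (m x)) :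
    SheafOfModules.QuasicoherentData.{u} (R := ModSite.ringSh O) M where
  I := T
  X := U
  coversTop := by
    rw [Opens.coversTop_iff]
    ext x
    simpa [Opens.mem_iSup] using ⟨x, hxU x⟩
  presentation x := presentation (P x)

/-- A module with local presentations by sections is of finite presentation. -/
theorem isFinitePresentation_of_presData
    (h : ∀ x : T, ∃ (U : Opens T) (n m : ℕ), x ∈ U ∧ Nonempty (PresData M U n m)) :
    SheafOfModules.IsFinitePresentation.{u} (R := ModSite.ringSh O) M := by
  choose U n m hxU P using h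
  exact SheafOfModules.IsFinitePresentation.mk (R := ModSite.ringSh O) (M := M)
    ⟨qcohData U n m hxU fun x => (P x).some,
      SheafOfModules.QuasicoherentData.IsFinitePresentation.mk (R := ModSite.ringSh O) (M := M)
        (q := qcohData U n m hxU fun x => (P x).some) fun x =>
        { isFiniteType_generators := ⟨(inferInstance : Finite (ULift.{u} (Fin (n x))))⟩
          isFiniteType_relations := ⟨(inferInstance : Finite (ULift.{u} (Fin (m x))))⟩ }⟩

/-- A finitely presented module has presentations by sections near every point. -/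
theorem exists_presData (hM : SheafOfModules.IsFinitePresentation.{u} (R := ModSite.ringSh O) M) (x : T) :
    ∃ (U : Opens T) (n m : ℕ), x ∈ U ∧ Nonempty (PresData M U n m) := by
  obtain ⟨σ, hσ⟩ := hM.exists_quasicoherentData
  obtain ⟨k, hk⟩ : ∃ k, x ∈ σ.X k := by
    have := σ.coversTop
    rw [Opens.coversTop_iff] at this
    exact Opens.mem_iSup.mp ((this ▸ trivial : x ∈ iSup σ.X))
  let U := σ.X k
  let p : ((ModSite.restr O U).obj M).Presentation := σ.presentation k
  have : p.IsFinite := hσ.isFinite_presentation k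
  obtain ⟨n, P, e, he⟩ := nonempty_genData p.generators
  have : Fintype p.generators.I := Fintype.ofFinite _
  have : Fintype p.relations.I := Fintype.ofFinite _
  let e' : p.relations.I ≃ Fin (Fintype.card p.relations.I) := Fintype.equivFin _
  let ρ : (SheafOfModules.free p.relations.I : ModOver O U) ⟶ SheafOfModules.free p.generators.I :=
    p.relations.π ≫ kernel.ι _
  have hρ : ρ ≫ p.generators.π = 0 := by simp [ρ]
  let r : Fin (Fintype.card p.relations.I) → Fin n → rsec O U := fun j i =>
    ev (SheafOfModules.ιFree (e'.symm j) ≫ ρ ≫ proj _ (e.symm ⟨i⟩))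
  have hπ : ∀ (W : Over U) (y : sc (SheafOfModules.free p.generators.I : ModOver O U).val W),
      (apm p.generators.π.val W y : sc M.val W.left) =
        ∑ i : Fin n, coord (e.symm ⟨i⟩) W y • rsm M.val W.hom (P.s i) := by
    intro W y
    rw [apm_free]
    refine (Equiv.sum_comp (Equiv.ulift.symm.trans e.symm) _).symm.trans
      (Finset.sum_congr rfl fun i _ => congrArg _ ?_)
    refine congrArg (rsm M.val W.hom) ?_
    have := he (e.symm ⟨i⟩)
    rw [Equiv.apply_symm_apply] at this
    exact this.symm
  refine ⟨U, n, _, hk, ⟨{ P with r := r, zero := fun j => ?_, rel := fun W hW a ha y hy => ?_ }⟩⟩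
  · have h0 := congrArg (fun f => ev (SheafOfModules.ιFree (e'.symm j) ≫ f)) hρ
    simp only [comp_zero, ev_zero] at h0
    have h0' : (apm p.generators.π.val (top' U) (ev (SheafOfModules.ιFree (e'.symm j) ≫ ρ)) :
        sc M.val U) = 0 := h0
    refine Eq.trans ?_ h0'
    rw [hπ]
    refine Finset.sum_congr rfl fun i _ => ?_
    exact congrArg₂ (fun (b : rsec O U) (z : sc M.val U) => b • z) rfl (rsm_id M.val (P.s i)).symm
  · obtain ⟨z, hz⟩ := exists_kernel_lift p.generators.π (ov hW)
      (freeElt p.generators.I fun i => (a (e i).down : rsec (O.over U) (ov hW))) (by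
        show (apm p.generators.π.val (ov hW) _ : sc M.val W) = 0
        rw [hπ]
        refine Eq.trans (Finset.sum_congr rfl fun i _ => ?_) ha
        rw [proj_freeElt, Equiv.apply_symm_apply]
        rfl)
    obtain ⟨V, hV, hyV, w, hw⟩ := nhds_of_locSurj p.relations.π (locSurj_of_epi _) (ov hW) z hy
    refine ⟨V, hV, hyV, fun j => coord (e'.symm j) (ov (hV.trans hW)) w, fun i => ?_⟩
    have h1 := congrArg (apm (kernel.ι p.generators.π).val (ov (hV.trans hW))) hw
    rw [apm_rsm, hz] at h1
    have h2 := congrArg (coord (e.symm ⟨i⟩) (ov (hV.trans hW))) h1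
    rw [coord_rsm, proj_freeElt, Equiv.apply_symm_apply] at h2
    refine h2.symm.trans ?_
    show apm (ρ ≫ proj _ (e.symm ⟨i⟩)).val (ov (hV.trans hW)) w = _
    rw [apm_free]
    exact (Equiv.sum_comp e'.symm _).symm

end Groth.AdicLinTop.SpacePres
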