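import Groth.Agent.AdicLinTop.FormalAffine
import Groth.Agent.AdicLinTop.SpacePres
import Groth.Agent.QCohMod.FiniteType

/-!
# Generators and relations of realisations over affine opens
-/

set_option autoImplicit false

universe u

open CategoryTheory CategoryTheory.Limits AlgebraicGeometry TopologicalSpace Opposite

namespace Groth.AdicLinTop.FormalSpan

open Groth.AdicLinTop.FormalLevels Groth.AdicLinTop.FormalReal Groth.AdicLinTop.FormalAffine
open Groth.QCohMod (resFun res)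
open Groth.AdicLinTop (SpacePres.PresData SpacePres.GenData)

variable {𝔛 : FSch.Sys.{u}} {h : 𝔛.IsFormal}

theorem rs_smul (M : FSch.ModF 𝔛 h) {U V : (𝔛.X 0).Opens} (e : V ≤ U) (a : RS h U) (m : Sec M U) :
    rs M e (a • m) = resR h e a • rs M e m :=
  PresheafOfModules.map_smul M.val (homOfLE e).op a m

theorem rs_rs (M : FSch.ModF 𝔛 h) {U V W : (𝔛.X 0).Opens} (e : V ≤ U) (e' : W ≤ V) (m : Sec M U) :
    rs M e' (rs M e m) = rs M (e'.trans e) m :=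
  (PresheafOfModules.map_comp_apply M.val (homOfLE e).op (homOfLE e').op m).symm

variable (h) in
/-- The image of a section at a level. -/
noncomputable def lev (𝔐 : FSch.ModSys 𝔛) (k : ℕ) (U : (𝔛.X 0).Opens) (m : Sec (𝔐.realMod h) U) :
    Γ(𝔐.F k, 𝔛.lvU h k U) :=
  pushEquiv k (𝔐.F k) U (app (proj h 𝔐 k) U m)

theorem lev_rs (𝔐 : FSch.ModSys 𝔛) (k : ℕ) {U V : (𝔛.X 0).Opens} (e : V ≤ U) (m : Sec (𝔐.realMod h) U) :
    lev h 𝔐 k V (rs (𝔐.realMod h) e m) = res (𝔐.F k) (lvU_mono h k e) (lev h 𝔐 k U m) :=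
  congrArg (pushEquiv k (𝔐.F k) V) (rs_app (proj h 𝔐 k) e m)

theorem lev_smul (𝔐 : FSch.ModSys 𝔛) (k : ℕ) {U : (𝔛.X 0).Opens} (a : RS h U) (m : Sec (𝔐.realMod h) U) :
    lev h 𝔐 k U (a • m) = projR k U a • lev h 𝔐 k U m := by
  rw [lev, map_smul, pushEquiv_smul]
  rfl

theorem lev_sum (𝔐 : FSch.ModSys 𝔛) (k : ℕ) {U : (𝔛.X 0).Opens} {ι : Type*} (s : Finset ι)
    (f : ι → Sec (𝔐.realMod h) U) : lev h 𝔐 k U (∑ i ∈ s, f i) = ∑ i ∈ s, lev h 𝔐 k U (f i) := by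
  rw [lev, map_sum, map_sum]
  rfl

variable (h𝔛 : 𝔛.IsLocNoethFormal) {𝔐 : FSch.ModSys 𝔛} (h𝔐 : 𝔐.IsCoh) {U V : (𝔛.X 0).Opens}

include h𝔐 in
theorem lev_surjective (hU : IsAffineOpen U) (k : ℕ) : Function.Surjective (lev h𝔛.1 𝔐 k U) :=
  (pushEquiv k (𝔐.F k) U).surjective.comp ((proj_spec h𝔛 h𝔐 hU).2 k).1

include h𝔐 in
theorem lev_eq_zero_iff (hU : IsAffineOpen U) (k : ℕ) (m : Sec (𝔐.realMod h𝔛.1) U) :
    lev h𝔛.1 𝔐 k U m = 0 ↔ m ∈ idl h𝔛.1 U ^ (k + 1) • (⊤ : Submodule (RS h𝔛.1 U) _) := by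
  rw [← ((proj_spec h𝔛 h𝔐 hU).2 k).2, LinearMap.mem_ker]
  exact (pushEquiv k (𝔐.F k) U).map_eq_zero_iff

include h𝔐 in
/-- Sections generating level `0` generate. -/
theorem span_of_lev_zero (hU : IsAffineOpen U) {n : ℕ} (m : Fin n → Sec (𝔐.realMod h𝔛.1) U)
    (hm : Submodule.span Γ(𝔛.X 0, 𝔛.lvU h𝔛.1 0 U) (Set.range fun i => lev h𝔛.1 𝔐 0 U (m i)) = ⊤) :
    Submodule.span (RS h𝔛.1 U) (Set.range m) = ⊤ := by
  obtain ⟨hc, hp, -⟩ := FormalLevels.adic h𝔛 hU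
  have := (proj_spec h𝔛 h𝔐 hU).1
  have := Groth.Calg1.isPrecomplete_pi (idl h𝔛.1 U) n
  let φ : (Fin n → RS h𝔛.1 U) →ₗ[RS h𝔛.1 U] Sec (𝔐.realMod h𝔛.1) U :=
    Fintype.linearCombination (RS h𝔛.1 U) m
  suffices Function.Surjective φ by
    rw [← Fintype.range_linearCombination]
    exact LinearMap.range_eq_top.2 this
  refine surjective_of_mkQ_comp_surjective (I := idl h𝔛.1 U) fun y => ?_
  obtain ⟨y, rfl⟩ := Submodule.mkQ_surjective _ y
  obtain ⟨c, hc⟩ := (Submodule.mem_span_range_iff_exists_fun _).1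
    ((hm ▸ Submodule.mem_top : lev h𝔛.1 𝔐 0 U y ∈ _))
  choose a ha using fun i => (hp 0).1 (c i)
  refine ⟨a, ?_⟩
  rw [LinearMap.comp_apply, Submodule.mkQ_apply, Submodule.mkQ_apply, Submodule.Quotient.eq]
  have h0 : lev h𝔛.1 𝔐 0 U (φ a - y) = 0 := by
    rw [show lev h𝔛.1 𝔐 0 U (φ a - y) = lev h𝔛.1 𝔐 0 U (φ a) - lev h𝔛.1 𝔐 0 U y by
      rw [lev, map_sub, map_sub]; rfl, sub_eq_zero, ← hc, show φ a = ∑ i, a i • m i from rfl, lev_sum]
    refine Finset.sum_congr rfl fun i _ => ?_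
    rw [lev_smul, show projR 0 U (a i) = c i from ha i]
  have := (lev_eq_zero_iff h𝔛 h𝔐 hU 0 _).1 h0
  rwa [zero_add, pow_one] at this

include h𝔐 in
/-- The sections over an affine open form a finite module. -/
theorem exists_span (hU : IsAffineOpen U) :
    ∃ (n : ℕ) (m : Fin n → Sec (𝔐.realMod h𝔛.1) U), Submodule.span (RS h𝔛.1 U) (Set.range m) = ⊤ := by
  have := (h𝔐 0).1
  have := Groth.QCohMod.finite_sections (𝔐.F 0) (h𝔐 0).2 (isAffineOpen_lvU h𝔛.1 hU 0)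
  obtain ⟨n, y, hy⟩ := Module.Finite.exists_fin (R := Γ(𝔛.X 0, 𝔛.lvU h𝔛.1 0 U))
    (M := Γ(𝔐.F 0, 𝔛.lvU h𝔛.1 0 U))
  choose m hm using fun i => lev_surjective h𝔛 h𝔐 hU 0 (y i)
  exact ⟨n, m, span_of_lev_zero h𝔛 h𝔐 hU m (by rw [show (fun i => lev h𝔛.1 𝔐 0 U (m i)) = y from funext hm, hy])⟩

include h𝔐 in
theorem finite_sec (hU : IsAffineOpen U) : Module.Finite (RS h𝔛.1 U) (Sec (𝔐.realMod h𝔛.1) U) := by
  obtain ⟨n, m, hm⟩ := exists_span h𝔛 h𝔐 hU
  exact ⟨Submodule.fg_def.2 ⟨_, Set.finite_range m, hm⟩⟩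

include h𝔐 in
theorem span_lev (hU : IsAffineOpen U) {n : ℕ} (m : Fin n → Sec (𝔐.realMod h𝔛.1) U)
    (hm : Submodule.span (RS h𝔛.1 U) (Set.range m) = ⊤) (k : ℕ) :
    Submodule.span Γ(𝔛.X k, 𝔛.lvU h𝔛.1 k U) (Set.range fun i => lev h𝔛.1 𝔐 k U (m i)) = ⊤ := by
  refine eq_top_iff.2 fun y _ => ?_
  obtain ⟨x, rfl⟩ := lev_surjective h𝔛 h𝔐 hU k y
  obtain ⟨c, rfl⟩ := (Submodule.mem_span_range_iff_exists_fun _).1 (hm ▸ Submodule.mem_top : x ∈ _)
  rw [lev_sum]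
  refine Submodule.sum_mem _ fun i _ => ?_
  rw [lev_smul]
  exact Submodule.smul_mem _ _ (Submodule.subset_span ⟨i, rfl⟩)

include h𝔐 in
/-- Generators over an affine open generate over smaller affine opens. -/
theorem span_rs (hU : IsAffineOpen U) (hV : IsAffineOpen V) (e : V ≤ U) {n : ℕ}
    (m : Fin n → Sec (𝔐.realMod h𝔛.1) U) (hm : Submodule.span (RS h𝔛.1 U) (Set.range m) = ⊤) :
    Submodule.span (RS h𝔛.1 V) (Set.range fun i => rs (𝔐.realMod h𝔛.1) e (m i)) = ⊤ := by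
  have := (h𝔐 0).1
  refine span_of_lev_zero h𝔛 h𝔐 hV _ ?_
  simp only [lev_rs]
  exact QcohRes.span_res (𝔐.F 0) (isAffineOpen_lvU h𝔛.1 hU 0) (isAffineOpen_lvU h𝔛.1 hV 0) _ _
    (span_lev h𝔛 h𝔐 hU m hm 0)

/-- Coordinates of a vector in `J • ⊤` lie in `J`. -/
theorem apply_mem_of_mem_smul_top {R : Type*} [CommRing R] {ι : Type*} (J : Ideal R) {v : ι → R}
    (hv : v ∈ J • (⊤ : Submodule R (ι → R))) (i : ι) : v i ∈ J := by
  refine Submodule.smul_induction_on hv (fun a ha w _ => ?_) fun a b ha hb => J.add_mem ha hb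
  exact J.mul_mem_right _ ha

/-- A vector with coordinates in `J` lies in `J • ⊤`. -/
theorem mem_smul_top_of_apply_mem {R : Type*} [CommRing R] {ι : Type*} [Fintype ι] [DecidableEq ι]
    (J : Ideal R) {v : ι → R} (hv : ∀ i, v i ∈ J) : v ∈ J • (⊤ : Submodule R (ι → R)) := by
  rw [pi_eq_sum_univ v]
  exact Submodule.sum_mem _ fun i _ => Submodule.smul_mem_smul (hv i) Submodule.mem_top

include h𝔐 in
/-- Relations over a smaller affine open come from relations over the larger one. -/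
theorem rel_rs (hU : IsAffineOpen U) (hV : IsAffineOpen V) (e : V ≤ U) {n : ℕ}
    (m : Fin n → Sec (𝔐.realMod h𝔛.1) U) (hm : Submodule.span (RS h𝔛.1 U) (Set.range m) = ⊤)
    (b : Fin n → RS h𝔛.1 V) (hb : ∑ i, b i • rs (𝔐.realMod h𝔛.1) e (m i) = 0) :
    b ∈ Submodule.span (RS h𝔛.1 V)
      ((fun a : Fin n → RS h𝔛.1 U => fun i => resR h𝔛.1 e (a i)) '' {a | ∑ i, a i • m i = 0}) := by
  classical
  have := isNoetherianRing h𝔛 hV
  refine mem_of_forall_mem_sup h𝔛 hV _ fun k => ?_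
  have := (h𝔐 k).1
  obtain ⟨-, hpU, -⟩ := FormalLevels.adic h𝔛 hU
  obtain ⟨-, hpV, -⟩ := FormalLevels.adic h𝔛 hV
  let S : Submodule (RS h𝔛.1 V) (Fin n → RS h𝔛.1 V) := Submodule.span (RS h𝔛.1 V)
    ((fun a : Fin n → RS h𝔛.1 U => fun i => resR h𝔛.1 e (a i)) '' {a | ∑ i, a i • m i = 0})
  -- reduce modulo the level
  have hred : ∀ v : Fin n → RS h𝔛.1 V, (fun i => projR k V (v i)) ∈
      Submodule.span Γ(𝔛.X k, 𝔛.lvU h𝔛.1 k V)
        ((fun a : Fin n → Γ(𝔛.X k, 𝔛.lvU h𝔛.1 k U) => fun i => resFun (𝔛.X k) (lvU_mono h𝔛.1 k e) (a i)) ''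
          {a | ∑ i, a i • lev h𝔛.1 𝔐 k U (m i) = 0}) →
      v ∈ S ⊔ idl h𝔛.1 V ^ (k + 1) • ⊤ := by
    intro v hv
    suffices ∀ w, w ∈ Submodule.span Γ(𝔛.X k, 𝔛.lvU h𝔛.1 k V)
        ((fun a : Fin n → Γ(𝔛.X k, 𝔛.lvU h𝔛.1 k U) => fun i => resFun (𝔛.X k) (lvU_mono h𝔛.1 k e) (a i)) ''
          {a | ∑ i, a i • lev h𝔛.1 𝔐 k U (m i) = 0}) →
        ∃ s ∈ S, (fun i => projR k V (s i)) = w by
      obtain ⟨s, hs, hsv⟩ := this _ hv
      refine Submodule.mem_sup.2 ⟨s, hs, v - s, mem_smul_top_of_apply_mem _ fun i => ?_, add_sub_cancel _ _⟩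
      rw [mem_pow_iff h𝔛 hV k]
      exact (map_sub _ _ _).trans (sub_eq_zero.2 (congrFun hsv i).symm)
    intro w hw
    induction hw using Submodule.span_induction with
    | zero => exact ⟨0, zero_mem _, funext fun i => map_zero _⟩
    | add x y _ _ hx hy =>
      obtain ⟨s, hs, rfl⟩ := hx
      obtain ⟨t, ht, rfl⟩ := hy
      exact ⟨s + t, add_mem hs ht, funext fun i => map_add _ _ _⟩
    | smul r x _ hx =>
      obtain ⟨s, hs, rfl⟩ := hx
      obtain ⟨r, rfl⟩ := (hpV k).1 r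
      exact ⟨r • s, S.smul_mem r hs, funext fun i => map_mul _ _ _⟩
    | mem x hx =>
      obtain ⟨a, ha, rfl⟩ := hx
      choose c hc using fun i => (hpU k).1 (a i)
      have h0 : lev h𝔛.1 𝔐 k U (∑ i, c i • m i) = 0 := by
        rw [lev_sum]
        refine Eq.trans (Finset.sum_congr rfl fun i _ => ?_) ha
        rw [lev_smul, show projR k U (c i) = a i from hc i]
      rw [lev_eq_zero_iff h𝔛 h𝔐 hU k, ← hm, ← Fintype.range_linearCombination, LinearMap.range_eq_map,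
        ← Submodule.map_smul''] at h0
      obtain ⟨d, hd, hdc⟩ := h0
      refine ⟨fun i => resR h𝔛.1 e (c i - d i), Submodule.subset_span ⟨c - d, ?_, rfl⟩, funext fun i => ?_⟩
      · show ∑ i, (c i - d i) • m i = 0
        simp only [sub_smul, Finset.sum_sub_distrib]
        exact sub_eq_zero.2 (hdc.symm.trans (Fintype.linearCombination_apply (RS h𝔛.1 U) m d))
      · refine (projR_resR k e _).trans (congrArg _ ?_)
        have hd' : projR k U (d i) = 0 := (mem_pow_iff h𝔛 hU k _).1 (apply_mem_of_mem_smul_top _ hd i)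
        have h1 : projR k U (c i - d i) = projR k U (c i) := by
          rw [show projR k U (c i - d i) = projR k U (c i) - projR k U (d i) from map_sub _ _ _, hd', sub_zero]
        exact h1.trans (hc i)
  refine hred b (QcohRes.rel_res (𝔐.F k) (isAffineOpen_lvU h𝔛.1 hU k) (isAffineOpen_lvU h𝔛.1 hV k) _ _
    (span_lev h𝔛 h𝔐 hU m hm k) _ ?_)
  have := congrArg (lev h𝔛.1 𝔐 k V) hb
  simp only [lev_sum, lev_smul, lev_rs] at this
  rw [show lev h𝔛.1 𝔐 k V 0 = 0 by rw [lev, map_zero, map_zero]] at this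
  exact this

include h𝔐 in
/-- A presentation of a realisation over an affine open. -/
theorem exists_presData (hU : IsAffineOpen U) :
    ∃ n l : ℕ, Nonempty (SpacePres.PresData (O := 𝔛.Osh h𝔛.1) (𝔐.realMod h𝔛.1) U n l) := by
  classical
  have := isNoetherianRing h𝔛 hU
  obtain ⟨n, m, hm⟩ := exists_span h𝔛 h𝔐 hU
  obtain ⟨l, r, hr⟩ := Submodule.fg_iff_exists_fin_generating_family.1
    (IsNoetherian.noetherian (LinearMap.ker (Fintype.linearCombination (RS h𝔛.1 U) m)))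
  refine ⟨n, l, ⟨{ s := m, gen := ?_, r := r, zero := fun j => ?_, rel := ?_ }⟩⟩
  · intro W hW t x hx
    obtain ⟨_, ⟨V, hV, rfl⟩, hxV, hVW⟩ := (𝔛.X 0).isBasis_affineOpens.exists_subset_of_mem_open hx W.2
    obtain ⟨a, ha⟩ := (Submodule.mem_span_range_iff_exists_fun _).1
      (span_rs h𝔛 h𝔐 hU hV ((show V ≤ W from hVW).trans hW) m hm ▸ Submodule.mem_top :
        rs (𝔐.realMod h𝔛.1) (show V ≤ W from hVW) t ∈ _)
    exact ⟨V, hVW, hxV, a, ha.symm⟩
  · have : r j ∈ LinearMap.ker (Fintype.linearCombination (RS h𝔛.1 U) m) :=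
      hr ▸ Submodule.subset_span ⟨j, rfl⟩
    exact (Fintype.linearCombination_apply (RS h𝔛.1 U) m (r j)).symm.trans this
  · intro W hW a ha x hx
    obtain ⟨_, ⟨V, hV, rfl⟩, hxV, hVW⟩ := (𝔛.X 0).isBasis_affineOpens.exists_subset_of_mem_open hx W.2
    have hVW : V ≤ W := hVW
    have hb : ∑ i, resR h𝔛.1 hVW (a i) • rs (𝔐.realMod h𝔛.1) (hVW.trans hW) (m i) = 0 := by
      have := congrArg (rs (𝔐.realMod h𝔛.1) hVW) ha
      rw [map_sum, map_zero] at this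
      refine Eq.trans (Finset.sum_congr rfl fun i _ => ?_) this
      exact ((rs_smul _ hVW (a i) _).trans (congrArg _ (rs_rs _ hW hVW (m i)))).symm
    have h1 := rel_rs h𝔛 h𝔐 hU hV (hVW.trans hW) m hm _ hb
    have h2 : Submodule.span (RS h𝔛.1 V)
        ((fun a : Fin n → RS h𝔛.1 U => fun i => resR h𝔛.1 (hVW.trans hW) (a i)) ''
          {a | ∑ i, a i • m i = 0}) ≤
        Submodule.span (RS h𝔛.1 V) (Set.range fun j => fun i => resR h𝔛.1 (hVW.trans hW) (r j i)) := by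
      rw [Submodule.span_le]
      rintro _ ⟨a, ha, rfl⟩
      have hmem : a ∈ Submodule.span (RS h𝔛.1 U) (Set.range r) := by
        rw [hr, LinearMap.mem_ker, Fintype.linearCombination_apply]; exact ha
      obtain ⟨d, rfl⟩ := (Submodule.mem_span_range_iff_exists_fun _).1 hmem
      refine (Submodule.mem_span_range_iff_exists_fun _).2 ⟨fun j => resR h𝔛.1 (hVW.trans hW) (d j), ?_⟩
      funext i
      simp only [Finset.sum_apply, Pi.smul_apply, smul_eq_mul, map_sum, map_mul]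
    obtain ⟨c, hc⟩ := (Submodule.mem_span_range_iff_exists_fun _).1 (h2 h1)
    refine ⟨V, hVW, hxV, c, fun i => ?_⟩
    exact ((congrFun hc i).symm.trans (Finset.sum_apply i _ _)).trans (Finset.sum_congr rfl fun j _ => rfl)

end Groth.AdicLinTop.FormalSpan
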