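import Groth.Agent.AdicLinTop.CohKer
import Groth.Agent.AdicLinTop.FormalAffine
import Groth.Agent.AdicLinTop.FormalSpan

/-!
# Relations of sections of coherent modules over affine opens of a formal scheme

On an affine open of a locally Noetherian formal scheme, the relations among finitely many sections of a
finitely presented module are generated by finitely many relations over the whole open.
-/

set_option autoImplicit false

universe u

open CategoryTheory CategoryTheory.Limits AlgebraicGeometry TopologicalSpace Opposite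

set_option backward.defeqAttrib.useBackward true
set_option backward.isDefEq.respectTransparency false
set_option backward.isDefEq.respectTransparency.types false
set_option synthInstance.maxHeartbeats 400000

namespace Groth.AdicLinTop.AffineGlue

section Algebra

variable {A A' : Type u} [CommRing A] [CommRing A'] {ι : Type}

/-- Vectors with coordinates in an ideal. -/
def vI (I : Ideal A) : Submodule A (ι → A) := Submodule.pi Set.univ fun _ => I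

lemma mem_vI {I : Ideal A} {v : ι → A} : v ∈ vI I ↔ ∀ i, v i ∈ I := by simp [vI]

/-- The submodule generated over a larger ring. -/
def ext (φ : A →+* A') (S : Submodule A (ι → A)) : Submodule A' (ι → A') :=
  Submodule.span A' ((fun v => φ ∘ v) '' (S : Set (ι → A)))

lemma mem_ext (φ : A →+* A') {S : Submodule A (ι → A)} {v : ι → A} (hv : v ∈ S) : φ ∘ v ∈ ext φ S :=
  Submodule.subset_span ⟨v, hv, rfl⟩

/-- A localisation away from an element, modulo ideals. -/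
structure LocMod (φ : A →+* A') (f : A) (I : Ideal A) (I' : Ideal A') : Prop where
  map_mem : ∀ a ∈ I, φ a ∈ I'
  surj : ∀ v : A', ∃ (p : ℕ) (c : A), φ f ^ p * v - φ c ∈ I'
  inj : ∀ c : A, φ c ∈ I' → ∃ q : ℕ, f ^ q * c ∈ I
  unit : ∃ g : A', φ f * g - 1 ∈ I'

variable {φ : A →+* A'} {f : A} {I : Ideal A} {I' : Ideal A'}

/-- Vectors vanishing after localisation are killed by a power. -/
lemma LocMod.inj_vec [Fintype ι] (h : LocMod φ f I I') {v : ι → A} (hv : φ ∘ v ∈ vI I') :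
    ∃ q : ℕ, f ^ q • v ∈ vI I := by
  choose q hq using fun i => h.inj (v i) (mem_vI.1 hv i)
  refine ⟨Finset.univ.sup q, mem_vI.2 fun i => ?_⟩
  rw [Pi.smul_apply, smul_eq_mul, ← pow_sub_mul_pow f (Finset.le_sup (Finset.mem_univ i)), mul_assoc]
  exact I.mul_mem_left _ (hq i)

/-- Clearing denominators. -/
lemma LocMod.surj_vec [Fintype ι] (h : LocMod φ f I I') (v : ι → A') :
    ∃ (p : ℕ) (c : ι → A), φ f ^ p • v - φ ∘ c ∈ vI I' := by
  choose p c hc using fun i => h.surj (v i)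
  refine ⟨Finset.univ.sup p, fun i => f ^ (Finset.univ.sup p - p i) * c i, mem_vI.2 fun i => ?_⟩
  show φ f ^ _ * v i - φ (f ^ _ * c i) ∈ I'
  rw [map_mul, map_pow, ← pow_sub_mul_pow (φ f) (Finset.le_sup (Finset.mem_univ i)), mul_assoc, ← mul_sub]
  exact I'.mul_mem_left _ (hc i)

lemma LocMod.unit_pow (h : LocMod φ f I I') (n : ℕ) : ∃ g : A', φ f ^ n * g - 1 ∈ I' := by
  obtain ⟨g, hg⟩ := h.unit
  refine ⟨g ^ n, ?_⟩
  rw [← mul_pow, ← Ideal.Quotient.eq, map_pow, (Ideal.Quotient.eq (I := I')).2 hg, map_one, one_pow]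

/-- A vector which lies in a submodule after localisation lies in it up to a power. -/
lemma LocMod.mem_of_ext [Fintype ι] (h : LocMod φ f I I') {S : Submodule A (ι → A)} (hS : vI I ≤ S)
    {v : ι → A} (hv : φ ∘ v ∈ ext φ S ⊔ vI I') : ∃ q : ℕ, f ^ q • v ∈ S := by
  suffices ∀ x ∈ ext φ S, ∃ (q : ℕ) (s : ι → A), s ∈ S ∧ φ f ^ q • x - φ ∘ s ∈ vI I' by
    obtain ⟨x, hx, z, hz, hxz⟩ := Submodule.mem_sup.1 hv
    obtain ⟨q, s, hs, hq⟩ := this x hx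
    have h1 : φ ∘ (f ^ q • v - s) ∈ vI I' := by
      refine mem_vI.2 fun i => ?_
      have e := congrFun hxz i
      simp only [Function.comp_apply, Pi.add_apply] at e
      have h2 := I'.add_mem (mem_vI.1 hq i) (I'.mul_mem_left (φ f ^ q) (mem_vI.1 hz i))
      simp only [Function.comp_apply, Pi.sub_apply, Pi.smul_apply, smul_eq_mul, map_sub, map_mul, map_pow,
        ← e] at h2 ⊢
      convert h2 using 1
      ring
    obtain ⟨q', hq'⟩ := h.inj_vec h1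
    refine ⟨q' + q, ?_⟩
    rw [pow_add, mul_smul, ← sub_add_cancel (f ^ q • v) s, smul_add]
    exact S.add_mem (hS hq') (S.smul_mem _ hs)
  intro x hx
  induction hx using Submodule.span_induction with
  | mem x hx =>
    obtain ⟨s, hs, rfl⟩ := hx
    exact ⟨0, s, hs, by simp⟩
  | zero => exact ⟨0, 0, S.zero_mem, mem_vI.2 fun i => by simp⟩
  | add x y _ _ hx hy =>
    obtain ⟨q, s, hs, hx⟩ := hx
    obtain ⟨q', s', hs', hy⟩ := hy
    refine ⟨q + q', f ^ q' • s + f ^ q • s', S.add_mem (S.smul_mem _ hs) (S.smul_mem _ hs'), mem_vI.2 fun i => ?_⟩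
    have h2 := I'.add_mem (I'.mul_mem_left (φ f ^ q') (mem_vI.1 hx i)) (I'.mul_mem_left (φ f ^ q) (mem_vI.1 hy i))
    simp only [Function.comp_apply, Pi.sub_apply, Pi.smul_apply, Pi.add_apply, smul_eq_mul, map_add, map_mul,
      map_pow] at h2 ⊢
    convert h2 using 1
    ring
  | smul r x _ hx =>
    obtain ⟨q, s, hs, hx⟩ := hx
    obtain ⟨p, c, hc⟩ := h.surj r
    refine ⟨p + q, c • s, S.smul_mem _ hs, mem_vI.2 fun i => ?_⟩
    have h2 := I'.add_mem (I'.mul_mem_right (φ f ^ q * x i) hc) (I'.mul_mem_left (φ c) (mem_vI.1 hx i))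
    simp only [Function.comp_apply, Pi.sub_apply, Pi.smul_apply, smul_eq_mul, map_mul] at h2 ⊢
    convert h2 using 1
    ring

/-- Membership in a submodule is local. -/
lemma mem_of_pow {J : Type*} (S : Submodule A (ι → A)) (hS : vI I ≤ S) (f : J → A)
    (hf : Ideal.span (Set.range f) ⊔ I = ⊤) {v : ι → A} (hv : ∀ j, ∃ q : ℕ, f j ^ q • v ∈ S) : v ∈ S := by
  let 𝔞 : Ideal A := S.comap (LinearMap.toSpanSingleton A (ι → A) v)
  have hmem : ∀ a, a ∈ 𝔞 ↔ a • v ∈ S := fun a => Iff.rfl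
  have hI : I ≤ 𝔞 := fun a ha => hS (mem_vI.2 fun i => I.mul_mem_right _ ha)
  have hrad : Ideal.span (Set.range f) ⊔ I ≤ 𝔞.radical := by
    refine sup_le (Ideal.span_le.2 ?_) (hI.trans Ideal.le_radical)
    rintro _ ⟨j, rfl⟩
    obtain ⟨q, hq⟩ := hv j
    exact ⟨q, hq⟩
  rw [hf, top_le_iff, Ideal.radical_eq_top] at hrad
  simpa using (hmem 1).1 (hrad ▸ Submodule.mem_top)

end Algebra

open Groth.SitesTopoi.ModH Groth.AdicLinTop.SpacePres Groth.AdicLinTop.FormalLevels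
open Groth.AdicLinTop.FormalAffine Groth.AdicLinTop.FormalReal Groth.AdicLinTop.CohKer
open Groth.QCohMod (resFun)

variable {𝔛 : FSch.Sys.{u}}

lemma toZero_projR (hF : 𝔛.IsFormal) (U : (𝔛.X 0).Opens) (a : RS hF U) :
    ∀ k, (toZero hF k U).hom (projR k U a) = projR 0 U a
  | 0 => by
    show ((𝟙 (𝔛.X 0) : 𝔛.X 0 ⟶ 𝔛.X 0).appLE (𝔛.lvU hF 0 U) (𝔛.lvU hF 0 U) le_rfl).hom (projR 0 U a) = _
    have key : ∀ (e : 𝔛.lvU hF 0 U ≤ 𝔛.lvU hF 0 U),
        (𝔛.X 0).presheaf.map (homOfLE e).op = 𝟙 _ := fun e => by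
      rw [Subsingleton.elim (homOfLE e).op (𝟙 _), CategoryTheory.Functor.map_id]
    exact congrArg (fun φ => φ.hom (projR 0 U a)) ((congrArg _ (key le_rfl)).trans (Category.comp_id _))
  | k + 1 => by
    have e : (𝔛.levelMap hF k).hom.app (op U) ≫ toZero hF k U = toZero hF (k + 1) U := by
      rw [𝔛.levelMap_app hF k (op U)]
      exact Scheme.Hom.appLE_comp_appLE (𝔛.toX k) (𝔛.ι k) _ _ _ _ _
    rw [← toZero_projR hF U a k, ← e]
    exact congrArg (toZero hF k U).hom (OshProj_levelMap_apply hF U k a)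

variable (h𝔛 : 𝔛.IsLocNoethFormal) {U : (𝔛.X 0).Opens}

/-- The basic open of a section of the structure sheaf. -/
noncomputable def bas (f : RS h𝔛.1 U) : (𝔛.X 0).Opens := (𝔛.X 0).basicOpen (projR 0 U f)

lemma bas_le (f : RS h𝔛.1 U) : bas h𝔛 f ≤ U :=
  ((𝔛.X 0).basicOpen_le _).trans (toX_preimage_lvU h𝔛.1 0 U).le

lemma lvU_zero_eq (W : (𝔛.X 0).Opens) : 𝔛.lvU h𝔛.1 0 W = W := toX_preimage_lvU h𝔛.1 0 W

lemma bas_res {V : (𝔛.X 0).Opens} (e : V ≤ U) (f : RS h𝔛.1 U) :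
    bas h𝔛 (resR h𝔛.1 e f) = V ⊓ bas h𝔛 f := by
  unfold bas
  rw [projR_resR]
  refine ((𝔛.X 0).basicOpen_res _ _).trans ?_
  rw [lvU_zero_eq h𝔛]

lemma isAffineOpen_bas (hU : IsAffineOpen U) (f : RS h𝔛.1 U) : IsAffineOpen (bas h𝔛 f) :=
  (isAffineOpen_lvU h𝔛.1 hU 0).basicOpen _

lemma lvU_bas (k : ℕ) (f : RS h𝔛.1 U) :
    𝔛.lvU h𝔛.1 k (bas h𝔛 f) = (𝔛.X k).basicOpen (projR k U f) := by
  refine TopologicalSpace.Opens.ext ?_
  refine (𝔛.toX_surjective h𝔛.1 k).preimage_injective ?_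
  have e1 : 𝔛.toX k ⁻¹ᵁ 𝔛.lvU h𝔛.1 k (bas h𝔛 f) = bas h𝔛 f := toX_preimage_lvU _ _ _
  have hb := Scheme.basicOpen_appLE (𝔛.toX k) (𝔛.lvU h𝔛.1 0 U) (𝔛.lvU h𝔛.1 k U)
    (le_of_eq ((lvU_zero_eq h𝔛 U).trans (toX_preimage_lvU h𝔛.1 k U).symm)) (projR k U f)
  rw [toZero_projR h𝔛.1 U f k] at hb
  have e2 : 𝔛.toX k ⁻¹ᵁ (𝔛.X k).basicOpen (projR k U f) = bas h𝔛 f := by
    refine le_antisymm ?_ (hb.le.trans inf_le_right)
    refine le_trans (le_inf ?_ le_rfl) hb.ge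
    exact ((Opens.map _).map (homOfLE ((𝔛.X k).basicOpen_le _))).le.trans
      ((toX_preimage_lvU h𝔛.1 k U).trans (lvU_zero_eq h𝔛 U).symm).le
  exact congrArg (fun V : (𝔛.X 0).Opens => (V : Set (𝔛.X 0))) (e1.trans e2.symm)

include h𝔛 in
/-- Basic opens form localisations modulo powers of the ideal of definition. -/
theorem locMod (hU : IsAffineOpen U) (f : RS h𝔛.1 U) (k : ℕ) :
    LocMod (resR h𝔛.1 (bas_le h𝔛 f)) f (idl h𝔛.1 U ^ (k + 1)) (idl h𝔛.1 (bas h𝔛 f) ^ (k + 1)) := by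
  have hV := isAffineOpen_bas h𝔛 hU f
  obtain ⟨-, hpU, -⟩ := FormalLevels.adic h𝔛 hU
  obtain ⟨-, hpV, -⟩ := FormalLevels.adic h𝔛 hV
  let ρ : Γ(𝔛.X k, 𝔛.lvU h𝔛.1 k U) →+* Γ(𝔛.X k, 𝔛.lvU h𝔛.1 k (bas h𝔛 f)) :=
    resFun (𝔛.X k) (lvU_mono h𝔛.1 k (bas_le h𝔛 f))
  letI := ρ.toAlgebra
  haveI : IsLocalization.Away (projR k U f) Γ(𝔛.X k, 𝔛.lvU h𝔛.1 k (bas h𝔛 f)) :=
    (isAffineOpen_lvU h𝔛.1 hU k).isLocalization_of_eq_basicOpen (projR k U f)
      (homOfLE (lvU_mono h𝔛.1 k (bas_le h𝔛 f))) (lvU_bas h𝔛 k f)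
  have hρ : ∀ a, projR k (bas h𝔛 f) (resR h𝔛.1 (bas_le h𝔛 f) a) = ρ (projR k U a) := projR_resR k _
  have hu : IsUnit (ρ (projR k U f)) := IsLocalization.Away.algebraMap_isUnit _
  constructor
  · intro a ha
    rw [mem_pow_iff h𝔛 hU k] at ha
    rw [mem_pow_iff h𝔛 hV k, hρ, ha, map_zero]
  · intro v
    obtain ⟨p, c₀, hc⟩ := IsLocalization.Away.surj (projR k U f) (projR k (bas h𝔛 f) v)
    obtain ⟨c, hc₀⟩ := (hpU k).1 c₀
    refine ⟨p, c, (mem_pow_iff h𝔛 hV k _).2 ?_⟩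
    show ((𝔛.OshProj h𝔛.1 k).hom.app (op (bas h𝔛 f))).hom _ = 0
    rw [map_sub, map_mul, map_pow, sub_eq_zero]
    show projR k _ (resR h𝔛.1 (bas_le h𝔛 f) f) ^ p * projR k _ v = projR k _ (resR h𝔛.1 (bas_le h𝔛 f) c)
    rw [hρ, hρ]
    rw [show projR k U c = c₀ from hc₀, mul_comm]
    exact hc
  · intro c hc
    rw [mem_pow_iff h𝔛 hV k, hρ] at hc
    obtain ⟨⟨_, q, rfl⟩, hq⟩ := (IsLocalization.map_eq_zero_iff (Submonoid.powers (projR k U f))
      Γ(𝔛.X k, 𝔛.lvU h𝔛.1 k (bas h𝔛 f)) _).1 hc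
    refine ⟨q, (mem_pow_iff h𝔛 hU k _).2 ?_⟩
    show ((𝔛.OshProj h𝔛.1 k).hom.app (op U)).hom _ = 0
    rw [map_mul, map_pow]
    exact hq
  · obtain ⟨g, hg⟩ := (hpV k).1 hu.unit.inv
    refine ⟨g, (mem_pow_iff h𝔛 hV k _).2 ?_⟩
    show ((𝔛.OshProj h𝔛.1 k).hom.app (op (bas h𝔛 f))).hom _ = 0
    rw [map_sub, map_mul, map_one, sub_eq_zero]
    show projR k _ (resR h𝔛.1 (bas_le h𝔛 f) f) * projR k _ g = 1
    rw [hρ]
    exact (congrArg (ρ (projR k U f) * ·) hg).trans hu.unit.val_inv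

include h𝔛 in
/-- Basic opens form a basis. -/
theorem exists_bas_le (hU : IsAffineOpen U) {x : 𝔛.X 0} (hxU : x ∈ U) (W : (𝔛.X 0).Opens) (hxW : x ∈ W) :
    ∃ f : RS h𝔛.1 U, x ∈ bas h𝔛 f ∧ bas h𝔛 f ≤ W := by
  obtain ⟨g, hgW, hxg⟩ := (isAffineOpen_lvU h𝔛.1 hU 0).exists_basicOpen_le (V := W) ⟨x, hxW⟩
    ((lvU_zero_eq h𝔛 U).ge hxU)
  obtain ⟨f, hf⟩ := ((FormalLevels.adic h𝔛 hU).2.1 0).1 g
  have : bas h𝔛 f = (𝔛.X 0).basicOpen g := congrArg _ hf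
  exact ⟨f, this.ge hxg, this.le.trans hgW⟩

include h𝔛 in
/-- Basic opens covering an affine open give the unit ideal. -/
theorem span_sup_eq_top (hU : IsAffineOpen U) {J : Type*} (f : J → RS h𝔛.1 U)
    (hf : ∀ x ∈ U, ∃ j, x ∈ bas h𝔛 (f j)) (k : ℕ) :
    Ideal.span (Set.range f) ⊔ idl h𝔛.1 U ^ (k + 1) = ⊤ := by
  obtain ⟨hc, hp, -⟩ := FormalLevels.adic h𝔛 hU
  have h0 : Ideal.span (Set.range f) ⊔ idl h𝔛.1 U = ⊤ := by
    have hV := isAffineOpen_lvU h𝔛.1 hU 0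
    have h1 : Ideal.span (Set.range fun j => projR 0 U (f j)) = ⊤ := by
      rw [← hV.self_le_iSup_basicOpen_iff]
      intro x hx
      obtain ⟨j, hj⟩ := hf x ((lvU_zero_eq h𝔛 U).le hx)
      exact Opens.mem_iSup.2 ⟨⟨_, j, rfl⟩, hj⟩
    let π : RS h𝔛.1 U →+* Γ(𝔛.X 0, 𝔛.lvU h𝔛.1 0 U) := ((𝔛.OshProj h𝔛.1 0).hom.app (op U)).hom
    have h1' : Ideal.map π (Ideal.span (Set.range f)) = ⊤ := by
      rw [Ideal.map_span, ← Set.range_comp]; exact h1
    have h2 : Ideal.comap π (Ideal.map π (Ideal.span (Set.range f))) = Ideal.comap π ⊤ := congrArg _ h1'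
    rwa [Ideal.comap_map_of_surjective _ (hp 0).1, Ideal.comap_top, ← RingHom.ker_eq_comap_bot] at h2
  exact Ideal.sup_pow_eq_top h0

section Glue

variable {N : ℕ}

lemma vI_mono {W : (𝔛.X 0).Opens} {k k' : ℕ} (hkk : k ≤ k') :
    (vI (idl h𝔛.1 W ^ (k' + 1)) : Submodule (RS h𝔛.1 W) (Fin N → RS h𝔛.1 W)) ≤ vI (idl h𝔛.1 W ^ (k + 1)) :=
  fun _ hv => mem_vI.2 fun i => Ideal.pow_le_pow_right (Nat.succ_le_succ hkk) (mem_vI.1 hv i)

include h𝔛 in
lemma comp_mem_vI {V W : (𝔛.X 0).Opens} (hV : IsAffineOpen V) (hW : IsAffineOpen W) (e : W ≤ V) {k : ℕ}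
    {v : Fin N → RS h𝔛.1 V} (hv : v ∈ vI (idl h𝔛.1 V ^ k)) : resR h𝔛.1 e ∘ v ∈ vI (idl h𝔛.1 W ^ k) := by
  refine mem_vI.2 fun i => ?_
  rw [← map_idl h𝔛 hV hW e, ← Ideal.map_pow]
  exact Ideal.mem_map_of_mem _ (mem_vI.1 hv i)

lemma ext_mono {A A' : Type u} [CommRing A] [CommRing A'] {φ : A →+* A'} {S S' : Submodule A (Fin N → A)}
    (h : S ≤ S') : ext φ S ≤ ext φ S' :=
  Submodule.span_mono (Set.image_mono h)

variable {J : Type u} (f : J → RS h𝔛.1 U)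
  (S : ∀ j, Submodule (RS h𝔛.1 (bas h𝔛 (f j))) (Fin N → RS h𝔛.1 (bas h𝔛 (f j))))

/-- Submodules on a covering by basic opens agree on overlaps modulo powers of the ideal of definition. -/
def Agree : Prop :=
  ∀ (x y : J) (k : ℕ) (W : (𝔛.X 0).Opens), IsAffineOpen W → ∀ (hx : W ≤ bas h𝔛 (f x))
    (hy : W ≤ bas h𝔛 (f y)),
      ext (resR h𝔛.1 hx) (S x) ≤ ext (resR h𝔛.1 hy) (S y) ⊔ vI (idl h𝔛.1 W ^ (k + 1))

/-- Vectors lying locally in the given submodules modulo a power of the ideal of definition. -/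
noncomputable def locSub (k : ℕ) : Submodule (RS h𝔛.1 U) (Fin N → RS h𝔛.1 U) where
  carrier := {a | ∀ x, resR h𝔛.1 (bas_le h𝔛 (f x)) ∘ a ∈ S x ⊔ vI (idl h𝔛.1 (bas h𝔛 (f x)) ^ (k + 1))}
  add_mem' := fun {a b} ha hb x => by
    have e : resR h𝔛.1 (bas_le h𝔛 (f x)) ∘ (a + b) =
        resR h𝔛.1 (bas_le h𝔛 (f x)) ∘ a + resR h𝔛.1 (bas_le h𝔛 (f x)) ∘ b := funext fun i => map_add _ _ _
    rw [e]; exact add_mem (ha x) (hb x)
  zero_mem' := fun x => by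
    have e : resR h𝔛.1 (bas_le h𝔛 (f x)) ∘ (0 : Fin N → RS h𝔛.1 U) = 0 := funext fun i => map_zero _
    rw [e]; exact zero_mem _
  smul_mem' := fun c a ha x => by
    have e : resR h𝔛.1 (bas_le h𝔛 (f x)) ∘ (c • a) =
        resR h𝔛.1 (bas_le h𝔛 (f x)) c • (resR h𝔛.1 (bas_le h𝔛 (f x)) ∘ a) := funext fun i => map_mul _ _ _
    rw [e]; exact Submodule.smul_mem _ _ (ha x)

lemma vI_le_locSub (hU : IsAffineOpen U) (k : ℕ) : vI (idl h𝔛.1 U ^ (k + 1)) ≤ locSub h𝔛 f S k := fun _ ha x =>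
  Submodule.mem_sup_right (mem_vI.2 fun i => (locMod h𝔛 hU (f x) k).map_mem _ (mem_vI.1 ha i))

lemma locSub_anti {k k' : ℕ} (hkk : k ≤ k') : locSub h𝔛 f S k' ≤ locSub h𝔛 f S k := fun _ ha x =>
  sup_le_sup le_rfl (vI_mono h𝔛 hkk) (ha x)

variable [Finite J] (hcov : ∀ z ∈ U, ∃ j, z ∈ bas h𝔛 (f j))

include hcov in
/-- The global level submodules generate the local ones. -/
theorem le_ext_locSub (hU : IsAffineOpen U) (hagree : Agree h𝔛 f S) (x : J) (k : ℕ) :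
    S x ≤ ext (resR h𝔛.1 (bas_le h𝔛 (f x))) (locSub h𝔛 f S k) ⊔
      vI (idl h𝔛.1 (bas h𝔛 (f x)) ^ (k + 1)) := by
  classical
  have := Fintype.ofFinite J
  intro v hv
  obtain ⟨p, c, hc⟩ := (locMod h𝔛 hU (f x) k).surj_vec v
  have hW : ∀ y, ∃ q : ℕ, resR h𝔛.1 (bas_le h𝔛 (f y)) (f x) ^ q • (resR h𝔛.1 (bas_le h𝔛 (f y)) ∘ c) ∈
      S y ⊔ vI (idl h𝔛.1 (bas h𝔛 (f y)) ^ (k + 1)) := fun y => by
    let p' := resR h𝔛.1 (bas_le h𝔛 (f y)) (f x)
    have hW' := isAffineOpen_bas h𝔛 (isAffineOpen_bas h𝔛 hU (f y)) p'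
    have hx' : bas h𝔛 p' ≤ bas h𝔛 (f x) := (bas_res h𝔛 _ _).le.trans inf_le_right
    refine (locMod h𝔛 (isAffineOpen_bas h𝔛 hU (f y)) p' k).mem_of_ext le_sup_right ?_
    have h1 : resR h𝔛.1 hx' ∘ v ∈
        ext (resR h𝔛.1 (bas_le h𝔛 p')) (S y ⊔ vI (idl h𝔛.1 (bas h𝔛 (f y)) ^ (k + 1))) ⊔
          vI (idl h𝔛.1 (bas h𝔛 p') ^ (k + 1)) := by
      have hle : ext (resR h𝔛.1 (bas_le h𝔛 p')) (S y) ≤
          ext (resR h𝔛.1 (bas_le h𝔛 p')) (S y ⊔ vI (idl h𝔛.1 (bas h𝔛 (f y)) ^ (k + 1))) := ext_mono le_sup_left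
      exact (sup_le (hle.trans le_sup_left) le_sup_right :
        ext (resR h𝔛.1 (bas_le h𝔛 p')) (S y) ⊔ vI (idl h𝔛.1 (bas h𝔛 p') ^ (k + 1)) ≤
          ext (resR h𝔛.1 (bas_le h𝔛 p')) (S y ⊔ vI (idl h𝔛.1 (bas h𝔛 (f y)) ^ (k + 1))) ⊔
            vI (idl h𝔛.1 (bas h𝔛 p') ^ (k + 1))) (hagree x y k _ hW' hx' (bas_le h𝔛 p') (mem_ext _ hv))
    have h3 : resR h𝔛.1 (bas_le h𝔛 p') ∘ (resR h𝔛.1 (bas_le h𝔛 (f y)) ∘ c) =
        resR h𝔛.1 hx' (resR h𝔛.1 (bas_le h𝔛 (f x)) (f x)) ^ p • (resR h𝔛.1 hx' ∘ v) -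
          resR h𝔛.1 hx' ∘ (resR h𝔛.1 (bas_le h𝔛 (f x)) (f x) ^ p • v - resR h𝔛.1 (bas_le h𝔛 (f x)) ∘ c) := by
      funext i
      simp only [Function.comp_apply, Pi.sub_apply, Pi.smul_apply, smul_eq_mul, map_sub, map_mul, map_pow,
        sub_sub_cancel]
      exact (rr_rr _ _ _).trans (rr_rr _ _ _).symm
    rw [h3]
    exact sub_mem (Submodule.smul_mem _ _ h1)
      (Submodule.mem_sup_right (comp_mem_vI h𝔛 (isAffineOpen_bas h𝔛 hU (f x)) hW' hx' hc))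
  choose q hq using hW
  let q₀ := Finset.univ.sup q
  have hP : f x ^ q₀ • c ∈ locSub h𝔛 f S k := fun z => by
    have e : resR h𝔛.1 (bas_le h𝔛 (f z)) ∘ (f x ^ q₀ • c) =
        resR h𝔛.1 (bas_le h𝔛 (f z)) (f x) ^ (q₀ - q z) •
          (resR h𝔛.1 (bas_le h𝔛 (f z)) (f x) ^ q z • (resR h𝔛.1 (bas_le h𝔛 (f z)) ∘ c)) := by
      funext i
      simp only [Function.comp_apply, Pi.smul_apply, smul_eq_mul, map_mul, map_pow, ← mul_assoc, ← pow_add,
        Nat.sub_add_cancel (Finset.le_sup (Finset.mem_univ z) : q z ≤ q₀), q₀]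
    rw [e]
    exact Submodule.smul_mem _ _ (hq z)
  obtain ⟨u, hu⟩ := (locMod h𝔛 hU (f x) k).unit_pow (p + q₀)
  rw [← add_sub_cancel (u • (resR h𝔛.1 (bas_le h𝔛 (f x)) ∘ (f x ^ q₀ • c))) v]
  refine Submodule.add_mem_sup (Submodule.smul_mem _ _ (mem_ext _ hP)) (mem_vI.2 fun i => ?_)
  have h := Ideal.sub_mem _ (Ideal.mul_mem_left _ (u * resR h𝔛.1 (bas_le h𝔛 (f x)) (f x) ^ q₀) (mem_vI.1 hc i))
    (Ideal.mul_mem_right (v i) _ hu)
  simp only [Pi.sub_apply, Pi.smul_apply, Function.comp_apply, smul_eq_mul, map_mul, map_pow] at h ⊢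
  convert h using 1
  ring

include hcov in
/-- The level submodules surject onto each other. -/
theorem exists_step (hU : IsAffineOpen U) (hagree : Agree h𝔛 f S) (k : ℕ) {a : Fin N → RS h𝔛.1 U}
    (ha : a ∈ locSub h𝔛 f S k) :
    ∃ a' ∈ locSub h𝔛 f S (k + 1), ∀ i, a' i - a i ∈ idl h𝔛.1 U ^ (k + 1) := by
  have hmem : a ∈ locSub h𝔛 f S (k + 1) ⊔ vI (idl h𝔛.1 U ^ (k + 1)) := by
    refine mem_of_pow _ le_sup_right f (span_sup_eq_top h𝔛 hU f hcov k)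
      fun x => (locMod h𝔛 hU (f x) k).mem_of_ext le_sup_right ?_
    obtain ⟨w, hw, w', hw', hww⟩ := Submodule.mem_sup.1 (ha x)
    rw [← hww]
    refine add_mem ?_ (Submodule.mem_sup_right hw')
    exact sup_le_sup (ext_mono le_sup_left) (vI_mono h𝔛 (Nat.le_succ k))
      (le_ext_locSub h𝔛 f S hcov hU hagree x (k + 1) hw)
  obtain ⟨a', ha', w, hw, rfl⟩ := Submodule.mem_sup.1 hmem
  refine ⟨a', ha', fun i => ?_⟩
  have h := neg_mem (mem_vI.1 hw i)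
  rwa [Pi.add_apply, sub_add_cancel_left]

include hcov in
/-- Lifting from a level to all levels. -/
theorem exists_lift (hU : IsAffineOpen U) (hagree : Agree h𝔛 f S) (k₀ : ℕ) {b : Fin N → RS h𝔛.1 U}
    (hb : b ∈ locSub h𝔛 f S k₀) :
    ∃ a : Fin N → RS h𝔛.1 U, (∀ n, a ∈ locSub h𝔛 f S n) ∧ ∀ i, a i - b i ∈ idl h𝔛.1 U ^ (k₀ + 1) := by
  choose nxt hnxt hnxt' using fun k (a : Fin N → RS h𝔛.1 U) (ha : a ∈ locSub h𝔛 f S k) =>
    exists_step h𝔛 f S hcov hU hagree k ha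
  obtain ⟨seq, hseq0, hsucc⟩ : ∃ seq : ∀ n, {a // a ∈ locSub h𝔛 f S (k₀ + n)}, (seq 0).1 = b ∧
      ∀ n i, (seq (n + 1)).1 i - (seq n).1 i ∈ idl h𝔛.1 U ^ (k₀ + n + 1) :=
    ⟨fun n => Nat.recOn (motive := fun n => {a // a ∈ locSub h𝔛 f S (k₀ + n)}) n
      ⟨b, hb⟩ fun m am => ⟨nxt _ am.1 am.2, hnxt _ am.1 am.2⟩, rfl, fun n i => hnxt' _ _ _ i⟩
  have hdiff : ∀ m i, (seq m).1 i - b i ∈ idl h𝔛.1 U ^ (k₀ + 1) := by
    intro m i
    induction m with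
    | zero => rw [hseq0, sub_self]; exact zero_mem _
    | succ m ih =>
      have h := Ideal.add_mem _ (Ideal.pow_le_pow_right (by omega) (hsucc m i)) ih
      rwa [sub_add_sub_cancel] at h
  have hex : ∀ i, ∃ a : RS h𝔛.1 U, ∀ n, projR n U a = projR n U ((seq n).1 i) := fun i =>
    (exists_unique_sec 𝔛 h𝔛.1 U (fun n => projR n U ((seq n).1 i)) fun n => by
      refine (OshProj_levelMap_apply h𝔛.1 U n _).trans ?_
      refine sub_eq_zero.1 (((map_sub ((𝔛.OshProj h𝔛.1 n).hom.app (op U)).hom _ _).symm).trans ?_)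
      exact (mem_pow_iff h𝔛 hU n _).1 (Ideal.pow_le_pow_right (by omega) (hsucc n i))).exists
  choose a ha using hex
  have hap : ∀ n i, a i - (seq n).1 i ∈ idl h𝔛.1 U ^ (n + 1) := fun n i => by
    rw [mem_pow_iff h𝔛 hU n]
    exact (map_sub ((𝔛.OshProj h𝔛.1 n).hom.app (op U)).hom _ _).trans (sub_eq_zero.2 (ha i n))
  refine ⟨a, fun n => ?_, fun i => ?_⟩
  · rw [← add_sub_cancel (seq n).1 a]
    exact add_mem (locSub_anti h𝔛 f S (by omega) (seq n).2)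
      (vI_le_locSub h𝔛 f S hU n (mem_vI.2 fun i => hap n i))
  · have h := Ideal.add_mem _ (hap k₀ i) (hdiff k₀ i)
    rwa [sub_add_sub_cancel] at h

end Glue

section Main

variable {F : FSch.ModF 𝔛 h𝔛.1}

include h𝔛 in
/-- Relations of the same sections over two opens agree modulo every power of the ideal. -/
theorem rel_agree {N : ℕ} (g : Fin N → sc F.val U) {V V' W : (𝔛.X 0).Opens} (hV : V ≤ U) (hV' : V' ≤ U)
    {l l' : ℕ} (R : RelData (F := F) (fun i => rm F hV (g i)) l)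
    (R' : RelData (F := F) (fun i => rm F hV' (g i)) l') (k : ℕ) (hW : IsAffineOpen W) (hx : W ≤ V)
    (hy : W ≤ V') :
    ext (resR h𝔛.1 hx) (Submodule.span _ (Set.range R.e)) ≤
      ext (resR h𝔛.1 hy) (Submodule.span _ (Set.range R'.e)) ⊔ vI (idl h𝔛.1 W ^ (k + 1)) := by
  rw [ext, Submodule.span_le]
  rintro _ ⟨v, hv, rfl⟩
  induction hv using Submodule.span_induction with
  | zero =>
    show resR h𝔛.1 hx ∘ (0 : Fin N → RS h𝔛.1 V) ∈ _
    rw [show resR h𝔛.1 hx ∘ (0 : Fin N → RS h𝔛.1 V) = 0 from funext fun i => map_zero _]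
    exact zero_mem _
  | add v w _ _ hv hw =>
    show resR h𝔛.1 hx ∘ (v + w) ∈ _
    rw [show resR h𝔛.1 hx ∘ (v + w) = resR h𝔛.1 hx ∘ v + resR h𝔛.1 hx ∘ w from funext fun i => map_add _ _ _]
    exact add_mem hv hw
  | smul r v _ hv =>
    show resR h𝔛.1 hx ∘ (r • v) ∈ _
    rw [show resR h𝔛.1 hx ∘ (r • v) = resR h𝔛.1 hx r • (resR h𝔛.1 hx ∘ v) from funext fun i => map_mul _ _ _]
    exact Submodule.smul_mem _ _ hv
  | mem v hv =>
    obtain ⟨q, rfl⟩ := hv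
    have hrel : ∑ i, rr hx (R.e q i) • rm F hy (rm F hV' (g i)) = 0 := by
      have h := congrArg (rm F hx) (R.zero q)
      simp only [map_sum, rm_smul, rm_rm, map_zero] at h ⊢
      exact h
    have hloc : ∀ z : W, ∃ p : RS h𝔛.1 W, z.1 ∈ bas h𝔛 p ∧ ∃ t : ℕ,
        p ^ t • (resR h𝔛.1 hx ∘ R.e q) ∈
          ext (resR h𝔛.1 hy) (Submodule.span _ (Set.range R'.e)) ⊔ vI (idl h𝔛.1 W ^ (k + 1)) := fun z => by
      obtain ⟨V₁, hV₁, hzV, c, hc⟩ := R'.rel W hy _ hrel z.1 z.2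
      obtain ⟨p, hzp, hpV⟩ := exists_bas_le h𝔛 hW z.2 V₁ hzV
      refine ⟨p, hzp, (locMod h𝔛 hW p k).mem_of_ext le_sup_right (Submodule.mem_sup_left ?_)⟩
      have e : resR h𝔛.1 (bas_le h𝔛 p) ∘ (resR h𝔛.1 hx ∘ R.e q) =
          ∑ j, resR h𝔛.1 hpV (c j) • (resR h𝔛.1 (bas_le h𝔛 p) ∘ (resR h𝔛.1 hy ∘ R'.e j)) := funext fun i => by
        have h := congrArg (rr hpV) (hc i)
        simp only [map_sum, map_mul, rr_rr] at h
        simp only [Function.comp_apply, Finset.sum_apply, Pi.smul_apply, smul_eq_mul]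
        refine ((rr_rr hx (bas_le h𝔛 p) _).trans h).trans (Finset.sum_congr rfl fun j _ => ?_)
        exact congrArg _ (rr_rr hy (bas_le h𝔛 p) _).symm
      rw [e]
      exact Submodule.sum_mem _ fun j _ => Submodule.smul_mem _ _
        (mem_ext _ (Submodule.mem_sup_left (mem_ext _ (Submodule.subset_span ⟨j, rfl⟩))))
    choose p hzp t ht using hloc
    exact mem_of_pow _ le_sup_right p
      (span_sup_eq_top h𝔛 hW p (fun z hz => ⟨⟨z, hz⟩, hzp ⟨z, hz⟩⟩) k) fun z => ⟨t z, ht z⟩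

include h𝔛 in
/-- Relations among finitely many sections of a module are generated over an affine open, as soon as they are
finitely generated near every point. -/
theorem exists_relData_affine (hU : IsAffineOpen U) {N : ℕ} (g : Fin N → sc F.val U)
    (hg : ∀ x ∈ U, ∃ (V : (𝔛.X 0).Opens) (hV : V ≤ U) (l : ℕ),
      x ∈ V ∧ Nonempty (RelData (F := F) (fun i => rm F hV (g i)) l)) :
    ∃ l, Nonempty (RelData (F := F) g l) := by
  classical
  haveI := isNoetherianRing h𝔛 hU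
  have hbas : ∀ x : U, ∃ f : RS h𝔛.1 U, x.1 ∈ bas h𝔛 f ∧ ∃ l,
      Nonempty (RelData (F := F) (fun i => rm F (bas_le h𝔛 f) (g i)) l) := fun x => by
    obtain ⟨V, hV, l, hxV, ⟨R⟩⟩ := hg x.1 x.2
    obtain ⟨f, hxf, hfV⟩ := exists_bas_le h𝔛 hU x.2 V hxV
    refine ⟨f, hxf, l, ⟨{ e := fun q i => rr hfV (R.e q i), zero := fun q => ?_, rel := fun W hW a ha y hy => ?_ }⟩⟩
    · have h := congrArg (rm F hfV) (R.zero q)
      simp only [map_sum, rm_smul, rm_rm, map_zero] at h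
      exact h
    · obtain ⟨V', hV', hy', c, hc⟩ := R.rel W (hW.trans hfV) a (by simp only [rm_rm] at ha ⊢; exact ha) y hy
      exact ⟨V', hV', hy', c, fun i => (hc i).trans (Finset.sum_congr rfl fun q _ => by rw [rr_rr])⟩
  choose f₀ hxf lf hR using hbas
  obtain ⟨s, hs⟩ := hU.isCompact.elim_finite_subcover (fun x : U => (bas h𝔛 (f₀ x) : Set (𝔛.X 0)))
    (fun x => (bas h𝔛 (f₀ x)).2) fun z hz => Set.mem_iUnion.2 ⟨⟨z, hz⟩, hxf ⟨z, hz⟩⟩
  let f : s → RS h𝔛.1 U := fun x => f₀ x.1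
  have hcov : ∀ z ∈ U, ∃ j : s, z ∈ bas h𝔛 (f j) := fun z hz => by
    obtain ⟨x, hx, hzx⟩ := Set.mem_iUnion₂.1 (hs hz)
    exact ⟨⟨x, hx⟩, hzx⟩
  let R := fun j : s => (hR j.1).some
  let S : ∀ j : s, Submodule (RS h𝔛.1 (bas h𝔛 (f j))) (Fin N → RS h𝔛.1 (bas h𝔛 (f j))) :=
    fun j => Submodule.span _ (Set.range (R j).e)
  have hagree : Agree h𝔛 f S := fun x y k W hW hx hy =>
    rel_agree h𝔛 g (bas_le h𝔛 (f x)) (bas_le h𝔛 (f y)) (R x) (R y) k hW hx hy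
  let M : Submodule (RS h𝔛.1 U) (Fin N → RS h𝔛.1 U) :=
    LinearMap.ker (Fintype.linearCombination (RS h𝔛.1 U) g : (Fin N → RS h𝔛.1 U) →ₗ[RS h𝔛.1 U] sc F.val U)
  have hM : ∀ a, a ∈ M ↔ ∑ i, a i • g i = 0 := fun a => Iff.rfl
  have hlim : ∀ a, (∀ n, a ∈ locSub h𝔛 f S n) → a ∈ M := fun a ha => (hM a).2 <| eq_zero_of_local fun z hz => by
    obtain ⟨x, hzx⟩ := hcov z hz
    refine ⟨bas h𝔛 (f x), bas_le h𝔛 (f x), hzx, ?_⟩
    have hV := isAffineOpen_bas h𝔛 hU (f x)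
    have hmem : resR h𝔛.1 (bas_le h𝔛 (f x)) ∘ a ∈ S x := mem_of_forall_mem_sup h𝔛 hV _ fun n => by
      obtain ⟨w, hw, w', hw', hww⟩ := Submodule.mem_sup.1 (ha n x)
      rw [← hww]
      exact add_mem (Submodule.mem_sup_left hw)
        (Submodule.mem_sup_right (FormalSpan.mem_smul_top_of_apply_mem _ (mem_vI.1 hw')))
    obtain ⟨w, hw⟩ := (Submodule.mem_span_range_iff_exists_fun _).1 hmem
    simp only [map_sum, rm_smul]
    have hwi : ∀ i, rr (bas_le h𝔛 (f x)) (a i) = ∑ j, w j * (R x).e j i := fun i => by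
      have h := congrFun hw i
      simp only [Finset.sum_apply, Pi.smul_apply, smul_eq_mul, Function.comp_apply] at h
      exact h.symm
    simp only [hwi, Finset.sum_smul, mul_smul]
    rw [Finset.sum_comm]
    simp only [← Finset.smul_sum]
    exact Finset.sum_eq_zero fun j _ => by rw [show _ = (0 : sc F.val (bas h𝔛 (f x))) from (R x).zero j, smul_zero]
  obtain ⟨l, e, he⟩ := Submodule.fg_iff_exists_fin_generating_family.1 (IsNoetherian.noetherian M)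
  refine ⟨l, ⟨{ e := e, zero := fun q => (hM _).1 (he ▸ Submodule.subset_span ⟨q, rfl⟩),
                rel := fun W hW a ha y hy => ?_ }⟩⟩
  obtain ⟨x, hyx⟩ := hcov y (hW hy)
  have hV := isAffineOpen_bas h𝔛 hU (f x)
  have hSM : S x ≤ Submodule.span _ (Set.range fun q => resR h𝔛.1 (bas_le h𝔛 (f x)) ∘ e q) := by
    intro v hv
    refine mem_of_forall_mem_sup h𝔛 hV _ fun k => ?_
    obtain ⟨w, hw, w', hw', rfl⟩ := Submodule.mem_sup.1 (le_ext_locSub h𝔛 f S hcov hU hagree x k hv)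
    refine add_mem ?_ (Submodule.mem_sup_right (FormalSpan.mem_smul_top_of_apply_mem _ (mem_vI.1 hw')))
    refine Submodule.span_le.2 ?_ hw
    rintro _ ⟨b, hb, rfl⟩
    obtain ⟨b', hb', hbb⟩ := exists_lift h𝔛 f S hcov hU hagree k hb
    have hb2 : resR h𝔛.1 (bas_le h𝔛 (f x)) ∘ b = resR h𝔛.1 (bas_le h𝔛 (f x)) ∘ b' -
        resR h𝔛.1 (bas_le h𝔛 (f x)) ∘ (b' - b) := by
      funext i; simp
    show resR h𝔛.1 (bas_le h𝔛 (f x)) ∘ b ∈ _
    rw [hb2]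
    refine sub_mem (Submodule.mem_sup_left ?_) (Submodule.mem_sup_right
      (FormalSpan.mem_smul_top_of_apply_mem _ fun i => (locMod h𝔛 hU (f x) k).map_mem _ (hbb i)))
    obtain ⟨c, hc⟩ := (Submodule.mem_span_range_iff_exists_fun _).1 (he.symm ▸ hlim b' hb' :
      b' ∈ Submodule.span (RS h𝔛.1 U) (Set.range e))
    refine (Submodule.mem_span_range_iff_exists_fun _).2
      ⟨fun q => resR h𝔛.1 (bas_le h𝔛 (f x)) (c q), ?_⟩
    funext i
    simp [← hc]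
  obtain ⟨V, hV', hyV, c, hc⟩ := (R x).rel (W ⊓ bas h𝔛 (f x)) inf_le_right (fun i => rr inf_le_left (a i)) (by
    have h := congrArg (rm F (inf_le_left : W ⊓ bas h𝔛 (f x) ≤ W)) ha
    simp only [map_sum, rm_smul, rm_rm, map_zero] at h ⊢
    exact h) y ⟨hy, hyx⟩
  choose d hd using fun j => (Submodule.mem_span_range_iff_exists_fun _).1
    (hSM (Submodule.subset_span ⟨j, rfl⟩ : (R x).e j ∈ S x))
  refine ⟨V, hV'.trans inf_le_left, hyV, fun q => ∑ j, c j * rr (hV'.trans inf_le_right) (d j q), fun i => ?_⟩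
  have h := hc i
  rw [rr_rr] at h
  rw [h]
  have hd' : ∀ j, (R x).e j i = ∑ q, d j q * rr (bas_le h𝔛 (f x)) (e q i) := fun j => by
    have h := congrFun (hd j) i
    simp only [Finset.sum_apply, Pi.smul_apply, smul_eq_mul, Function.comp_apply] at h
    exact h.symm
  simp only [hd', map_sum, map_mul, Finset.mul_sum, Finset.sum_mul, mul_assoc]
  rw [Finset.sum_comm]
  exact Finset.sum_congr rfl fun q _ => Finset.sum_congr rfl fun j _ =>
    congrArg _ (congrArg _ (rr_rr _ _ _))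

/-- Relations among sections of a finitely presented module over an affine open. -/
theorem exists_relData_of_fp (hU : IsAffineOpen U) (hF : FSch.IsCohF 𝔛 h𝔛.1 F) {N : ℕ}
    (g : Fin N → sc F.val U) : ∃ l, Nonempty (RelData (F := F) g l) := by
  have hB : QuotFP.GoodBasis (O := 𝔛.Osh h𝔛.1) {W : (𝔛.X 0).Opens | IsAffineOpen W} :=
    { exists_mem := fun x W hx => by
        obtain ⟨_, ⟨V, hV, rfl⟩, hxV, hVW⟩ := (𝔛.X 0).isBasis_affineOpens.exists_subset_of_mem_open hx W.2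
        exact ⟨V, hV, hxV, hVW⟩
      noeth := fun V hV => isNoetherianRing h𝔛 hV
      flat := fun V hV V' hV' h => flat_resR h𝔛 hV hV' h }
  refine exists_relData_affine h𝔛 hU g fun x hx => ?_
  obtain ⟨U₀, n, m, hxU₀, ⟨P⟩⟩ := exists_presData hF x
  obtain ⟨V, hV, l, -, hxV, ⟨R⟩⟩ := CohKer.exists_relData hB (P.restrict (inf_le_left : U₀ ⊓ U ≤ U₀))
    (fun i => rm F (inf_le_right : U₀ ⊓ U ≤ U) (g i)) (x := x) ⟨hxU₀, hx⟩
  refine ⟨V, hV.trans inf_le_right, l, hxV, ⟨{ e := R.e, zero := fun q => ?_, rel := fun W hW a ha => ?_ }⟩⟩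
  · simpa [rm_rm] using R.zero q
  · exact R.rel W hW a (by simpa [rm_rm] using ha)

end Main

end Groth.AdicLinTop.AffineGlue
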