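import Groth.Agent.AdicLinTop.AffineGens
import Groth.Agent.AdicLinTop.RpushBound
import Groth.Agent.SiteCohomology.ModulesGrothendieck

/-!
# Unbounded direct images along morphisms of formal schemes
-/

set_option autoImplicit false

universe u

open CategoryTheory CategoryTheory.Limits AlgebraicGeometry TopologicalSpace Opposite

attribute [local instance] HasDerivedCategory.standard

set_option backward.defeqAttrib.useBackward true
set_option backward.isDefEq.respectTransparency false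
set_option backward.isDefEq.respectTransparency.types false
set_option synthInstance.maxHeartbeats 400000

namespace Groth.AdicLinTop.AffinePushD

open Groth.AdicLinTop.AffineGens

/-- Direct images along affine morphisms keep upper bounds on cohomology. -/
theorem isZero_RpushD {𝔛 𝔜 : FSch.Sys.{u}} (h𝔛 : 𝔛.IsLocNoethFormal) (h𝔜 : 𝔜.IsLocNoethFormal)
    (g : 𝔛 ⟶ 𝔜) [AlgebraicGeometry.IsAffineHom ((g : FSch.Hom 𝔛 𝔜).app 0)]
    [SiteCmp.HasRpushD (FSch.homMor g h𝔛.1 h𝔜.1)] (G : DerivedCategory (FSch.ModF 𝔛 h𝔛.1))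
    (hG : WSerre.cohIn (affGen h𝔛) G) (e : ℤ) [G.IsLE e] (i : ℤ) (hi : e < i) :
    IsZero (SiteCmp.HMod ((SiteCmp.RpushD (FSch.homMor g h𝔛.1 h𝔜.1)).obj G) i) := by
  refine RpushBound.isZero_homology_RpushD (affGen h𝔛) (FSch.homMor g h𝔛.1 h𝔜.1)
    {V | IsAffineOpen V} {V | IsAffineOpen V} (fun U => ?_) (fun V _ => ⟨0, fun T hT => ?_⟩)
    (fun U => ?_) (fun V _ => ⟨0, fun T hT => ?_⟩) 0 le_rfl (fun F hF p hp => ?_) G hG e i (by lia)
  · obtain ⟨ι, Y, g, -, hY, hB⟩ := exists_affine_cover U ⊤ (GrothendieckTopology.top_mem _ _)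
    exact ⟨ι, Y, g, hY, hB⟩
  · obtain ⟨ι, Y, g, hg, hY, hB⟩ := exists_affine_cover V T hT
    refine ⟨ι, Y, g, hg, hY, fun i F hF k hk => ?_⟩
    obtain ⟨m, rfl⟩ := Nat.exists_eq_succ_of_ne_zero (by lia : k ≠ 0)
    exact affGen.hVanish hF m (hB i)
  · obtain ⟨ι, Y, g, -, hY, hB⟩ := exists_affine_cover U ⊤ (GrothendieckTopology.top_mem _ _)
    exact ⟨ι, Y, g, hY, hB⟩
  · obtain ⟨ι, Y, j, hg, hY, hB⟩ := exists_affine_cover V T hT
    refine ⟨ι, Y, j, hg, hY, fun i F hF k hk => ?_⟩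
    obtain ⟨m, rfl⟩ := Nat.exists_eq_succ_of_ne_zero (by lia : k ≠ 0)
    exact affGen.hVanish hF m ((hB i).preimage ((g : FSch.Hom 𝔛 𝔜).app 0))
  · obtain ⟨m, rfl⟩ := Nat.exists_eq_succ_of_ne_zero (by lia : p ≠ 0)
    exact RpushVanish.isZero_rightDerived_push ((g : FSch.Hom 𝔛 𝔜).app 0).base (O' := 𝔛.Osh h𝔛.1)
      (O := 𝔜.Osh h𝔜.1) (FSch.pushF g h𝔛.1 h𝔜.1) (Iso.refl _) F m fun V y hy => by
        obtain ⟨_, ⟨W, hW, rfl⟩, hyW, hWV⟩ := (𝔜.X 0).isBasis_affineOpens.exists_subset_of_mem_open hy V.2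
        exact ⟨W, hWV, hyW, affGen.hVanish hF m (hW.preimage ((g : FSch.Hom 𝔛 𝔜).app 0))⟩

end Groth.AdicLinTop.AffinePushD
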