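import Groth.Agent.AdicLinTop.AffineGlue

/-!
# Sections of coherent modules over affine opens of a formal scheme

Membership in the span of finitely many sections is local on an affine open, sections over a basic open come
from the affine open up to a power of the element modulo powers of the ideal of definition.
-/

set_option autoImplicit false

universe u

open CategoryTheory CategoryTheory.Limits AlgebraicGeometry TopologicalSpace Opposite

set_option backward.defeqAttrib.useBackward true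
set_option backward.isDefEq.respectTransparency false
set_option backward.isDefEq.respectTransparency.types false
set_option synthInstance.maxHeartbeats 400000

namespace Groth.AdicLinTop.AffineSections

open Groth.SitesTopoi.ModH Groth.AdicLinTop.SpacePres Groth.AdicLinTop.CohKer
open Groth.AdicLinTop.FormalAffine Groth.AdicLinTop.AffineGlue

variable {𝔛 : FSch.Sys.{u}} (h𝔛 : 𝔛.IsLocNoethFormal) {F : FSch.ModF 𝔛 h𝔛.1} {W : (𝔛.X 0).Opens}

/-- Relations among sections over an affine open. -/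
theorem exists_relData_of_relFin (hW : IsAffineOpen W) (hF : RelFin (O := 𝔛.Osh h𝔛.1) F) {N : ℕ}
    (g : Fin N → sc F.val W) : ∃ l, Nonempty (RelData (O := 𝔛.Osh h𝔛.1) (F := F) g l) :=
  exists_relData_affine h𝔛 hW g fun x hx => hF W N g x hx

include h𝔛 in
/-- Coherent modules have locally finitely generated relations. -/
theorem relFin_of_isCohF (hF : FSch.IsCohF 𝔛 h𝔛.1 F) : RelFin (O := 𝔛.Osh h𝔛.1) F := by
  have hB : QuotFP.GoodBasis (O := 𝔛.Osh h𝔛.1) {W : (𝔛.X 0).Opens | IsAffineOpen W} :=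
    { exists_mem := fun x W hx => by
        obtain ⟨_, ⟨V, hV, rfl⟩, hxV, hVW⟩ := (𝔛.X 0).isBasis_affineOpens.exists_subset_of_mem_open hx W.2
        exact ⟨V, hV, hxV, hVW⟩
      noeth := fun V hV => isNoetherianRing h𝔛 hV
      flat := fun V hV V' hV' h => flat_resR h𝔛 hV hV' h }
  exact relFin_of_fp hB hF

include h𝔛 in
/-- A vector which is locally a combination of given vectors is a combination over an affine open. -/
theorem mem_span_of_local (hW : IsAffineOpen W) {N l : ℕ} (E : Fin l → Fin N → RS h𝔛.1 W)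
    (v : Fin N → RS h𝔛.1 W)
    (hv : ∀ x ∈ W, ∃ (V : (𝔛.X 0).Opens) (hV : V ≤ W), x ∈ V ∧ ∃ c : Fin l → RS h𝔛.1 V,
      ∀ i, resR h𝔛.1 hV (v i) = ∑ q, c q * resR h𝔛.1 hV (E q i)) :
    v ∈ Submodule.span (RS h𝔛.1 W) (Set.range E) := by
  classical
  haveI := isNoetherianRing h𝔛 hW
  refine mem_of_forall_mem_sup h𝔛 hW _ fun n => ?_
  have hloc : ∀ z : W, ∃ p : RS h𝔛.1 W, z.1 ∈ bas h𝔛 p ∧ ∃ s : ℕ,
      p ^ s • v ∈ Submodule.span (RS h𝔛.1 W) (Set.range E) ⊔ vI (idl h𝔛.1 W ^ (n + 1)) := fun z => by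
    obtain ⟨V, hV, hzV, c, hc⟩ := hv z.1 z.2
    obtain ⟨p, hzp, hpV⟩ := exists_bas_le h𝔛 hW z.2 V hzV
    refine ⟨p, hzp, (locMod h𝔛 hW p n).mem_of_ext le_sup_right (Submodule.mem_sup_left ?_)⟩
    have e : resR h𝔛.1 (bas_le h𝔛 p) ∘ v =
        ∑ i, resR h𝔛.1 hpV (c i) • (resR h𝔛.1 (bas_le h𝔛 p) ∘ E i) := funext fun j => by
      have h := congrArg (rr hpV) (hc j)
      simp only [map_sum, map_mul, rr_rr] at h
      simp only [Function.comp_apply, Finset.sum_apply, Pi.smul_apply, smul_eq_mul]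
      exact h
    rw [e]
    exact Submodule.sum_mem _ fun i _ => Submodule.smul_mem _ _
      (mem_ext _ (Submodule.mem_sup_left (Submodule.subset_span ⟨i, rfl⟩)))
  choose p hzp s hs using hloc
  obtain ⟨w, hw, w', hw', hww⟩ := Submodule.mem_sup.1 (mem_of_pow _ le_sup_right p
    (span_sup_eq_top h𝔛 hW p (fun z hz => ⟨⟨z, hz⟩, hzp ⟨z, hz⟩⟩) n) fun z => ⟨s z, hs z⟩)
  rw [← hww]
  exact add_mem (Submodule.mem_sup_left hw)
    (Submodule.mem_sup_right (FormalSpan.mem_smul_top_of_apply_mem _ (mem_vI.1 hw')))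

/-- Generators near every point generate the module of sections over an affine open. -/
theorem span_eq_top (hW : IsAffineOpen W) (hF : RelFin (O := 𝔛.Osh h𝔛.1) F) {n : ℕ}
    (D : GenData (O := 𝔛.Osh h𝔛.1) F W n) : Submodule.span (RS h𝔛.1 W) (Set.range D.s) = ⊤ := by
  rw [eq_top_iff]
  intro g _
  obtain ⟨l, ⟨R⟩⟩ := exists_relData_of_relFin h𝔛 hW hF (Fin.append D.s fun _ : Fin 1 => g)
  have h1 : (fun _ : Fin 1 => (1 : RS h𝔛.1 W)) ∈ Submodule.span (RS h𝔛.1 W)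
      (Set.range fun q => fun i : Fin 1 => R.e q (Fin.natAdd n i)) := by
    refine mem_span_of_local h𝔛 hW _ _ fun x hx => ?_
    obtain ⟨V, hV, hxV, a, ha⟩ := D.gen W le_rfl g x hx
    obtain ⟨V', hV', hxV', c, hc⟩ := R.rel V hV (Fin.append (fun i => -a i) fun _ => 1) (by
      simp only [Fin.sum_univ_add, Fin.append_left, Fin.append_right, Fin.sum_univ_one, neg_smul, one_smul,
        Finset.sum_neg_distrib]
      rw [← ha, neg_add_cancel]) x hxV
    refine ⟨V', hV'.trans hV, hxV', c, fun i => ?_⟩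
    have h := hc (Fin.natAdd n i)
    simp only [Fin.append_right, map_one] at h
    rw [map_one]
    exact h
  obtain ⟨c, hc⟩ := (Submodule.mem_span_range_iff_exists_fun _).1 h1
  have hc0 : ∑ q, c q * R.e q (Fin.natAdd n 0) = 1 := by
    have h := congrFun hc 0
    simpa only [Finset.sum_apply, Pi.smul_apply, smul_eq_mul] using h
  have e : g = -∑ q, c q • ∑ i, R.e q (Fin.castAdd 1 i) • D.s i := by
    have h : ∀ q, R.e q (Fin.natAdd n 0) • g = -∑ i, R.e q (Fin.castAdd 1 i) • D.s i := fun q => by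
      have h := R.zero q
      simp only [Fin.sum_univ_add, Fin.append_left, Fin.append_right, Fin.sum_univ_one] at h
      exact eq_neg_of_add_eq_zero_right h
    rw [← Finset.sum_neg_distrib]
    conv_lhs => rw [← one_smul (RS h𝔛.1 W) g, ← hc0, Finset.sum_smul]
    exact Finset.sum_congr rfl fun q _ => by rw [mul_smul, h, smul_neg]
  rw [e]
  exact neg_mem (Submodule.sum_mem _ fun q _ => Submodule.smul_mem _ _ (Submodule.sum_mem _ fun i _ =>
    Submodule.smul_mem _ _ (Submodule.subset_span ⟨i, rfl⟩)))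

/-- Coefficients of an element of `J • ⊤`. -/
lemma exists_coeff {A M : Type u} [CommRing A] [AddCommGroup M] [Module A M] {n : ℕ} (s : Fin n → M)
    (hs : Submodule.span A (Set.range s) = ⊤) (J : Ideal A) {x : M} (hx : x ∈ J • (⊤ : Submodule A M)) :
    ∃ a : Fin n → A, (∀ i, a i ∈ J) ∧ ∑ i, a i • s i = x := by
  refine Submodule.smul_induction_on hx (fun r hr m _ => ?_) fun x y hx hy => ?_
  · obtain ⟨c, rfl⟩ := (Submodule.mem_span_range_iff_exists_fun _).1 (hs ▸ Submodule.mem_top : m ∈ Submodule.span A (Set.range s))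
    exact ⟨fun i => r * c i, fun i => J.mul_mem_right _ hr, by rw [Finset.smul_sum]; simp only [mul_smul]⟩
  · obtain ⟨a, ha, rfl⟩ := hx
    obtain ⟨b, hb, rfl⟩ := hy
    exact ⟨a + b, fun i => J.add_mem (ha i) (hb i), by simp only [Pi.add_apply, add_smul, Finset.sum_add_distrib]⟩

/-- Restriction respects powers of the ideal of definition. -/
lemma rm_mem {V V' : (𝔛.X 0).Opens} (hV : IsAffineOpen V) (hV' : IsAffineOpen V') (e : V' ≤ V) {k : ℕ}
    {x : sc F.val V} (hx : x ∈ idl h𝔛.1 V ^ k • (⊤ : Submodule (RS h𝔛.1 V) (sc F.val V))) :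
    rm F e x ∈ idl h𝔛.1 V' ^ k • (⊤ : Submodule (RS h𝔛.1 V') (sc F.val V')) := by
  refine Submodule.smul_induction_on hx (fun r hr m _ => ?_) fun x y hx hy => ?_
  · rw [rm_smul]
    refine Submodule.smul_mem_smul ?_ Submodule.mem_top
    rw [← map_idl h𝔛 hV hV' e, ← Ideal.map_pow]
    exact Ideal.mem_map_of_mem _ hr
  · rw [map_add]
    exact add_mem hx hy

/-- Sections vanishing on a basic open modulo a power of the ideal are killed by a power of the element. -/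
theorem exists_pow_smul_mem (hW : IsAffineOpen W) (hF : RelFin (O := 𝔛.Osh h𝔛.1) F) {n : ℕ}
    (D : GenData (O := 𝔛.Osh h𝔛.1) F W n) (p : RS h𝔛.1 W) (k : ℕ) {c : sc F.val W}
    (hc : rm F (bas_le h𝔛 p) c ∈
      idl h𝔛.1 (bas h𝔛 p) ^ (k + 1) • (⊤ : Submodule (RS h𝔛.1 (bas h𝔛 p)) _)) :
    ∃ q : ℕ, p ^ q • c ∈ idl h𝔛.1 W ^ (k + 1) • (⊤ : Submodule (RS h𝔛.1 W) _) := by
  classical
  have hW' := isAffineOpen_bas h𝔛 hW p
  obtain ⟨a, rfl⟩ := (Submodule.mem_span_range_iff_exists_fun _).1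
    (span_eq_top h𝔛 hW hF D ▸ Submodule.mem_top : c ∈ Submodule.span (RS h𝔛.1 W) (Set.range D.s))
  obtain ⟨l, ⟨R⟩⟩ := exists_relData_of_relFin h𝔛 hW hF D.s
  obtain ⟨b, hb, hbc⟩ := exists_coeff _ (span_eq_top h𝔛 hW' hF (D.restrict (bas_le h𝔛 p))) _ hc
  let d : Fin n → RS h𝔛.1 (bas h𝔛 p) := fun i => resR h𝔛.1 (bas_le h𝔛 p) (a i) - b i
  have hd : ∑ i, d i • rm F (bas_le h𝔛 p) (D.s i) = 0 := by
    simp only [d, sub_smul, Finset.sum_sub_distrib]
    rw [sub_eq_zero]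
    simp only [map_sum, rm_smul] at hbc
    exact hbc.symm
  have hdmem : d ∈ ext (resR h𝔛.1 (bas_le h𝔛 p)) (Submodule.span (RS h𝔛.1 W) (Set.range R.e)) := by
    refine Submodule.span_le.2 ?_ (mem_span_of_local h𝔛 hW'
      (fun q i => resR h𝔛.1 (bas_le h𝔛 p) (R.e q i)) d fun x hx => ?_)
    · rintro _ ⟨q, rfl⟩
      exact mem_ext _ (Submodule.subset_span ⟨q, rfl⟩)
    · obtain ⟨V, hV, hxV, cc, hcc⟩ := R.rel (bas h𝔛 p) (bas_le h𝔛 p) d hd x hx
      exact ⟨V, hV, hxV, cc, fun i => (hcc i).trans (Finset.sum_congr rfl fun q _ => congrArg _ (rr_rr _ _ _).symm)⟩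
  have hle : ext (resR h𝔛.1 (bas_le h𝔛 p)) (Submodule.span (RS h𝔛.1 W) (Set.range R.e)) ≤
      ext (resR h𝔛.1 (bas_le h𝔛 p))
        (Submodule.span (RS h𝔛.1 W) (Set.range R.e) ⊔ vI (idl h𝔛.1 W ^ (k + 1))) := ext_mono le_sup_left
  have hd2 := hle hdmem
  have hb2 : b ∈ vI (idl h𝔛.1 (bas h𝔛 p) ^ (k + 1)) := mem_vI.2 hb
  have hab : resR h𝔛.1 (bas_le h𝔛 p) ∘ a = d + b :=
    funext fun i => (sub_add_cancel (resR h𝔛.1 (bas_le h𝔛 p) (a i)) (b i)).symm
  have ha : resR h𝔛.1 (bas_le h𝔛 p) ∘ a ∈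
      ext (resR h𝔛.1 (bas_le h𝔛 p)) (Submodule.span (RS h𝔛.1 W) (Set.range R.e) ⊔ vI (idl h𝔛.1 W ^ (k + 1))) ⊔
        vI (idl h𝔛.1 (bas h𝔛 p) ^ (k + 1)) := hab.symm ▸ Submodule.add_mem_sup hd2 hb2
  obtain ⟨q, hq⟩ := (locMod h𝔛 hW p k).mem_of_ext le_sup_right ha
  obtain ⟨r, hr, r', hr', hrr⟩ := Submodule.mem_sup.1 hq
  refine ⟨q, ?_⟩
  have h0 : ∑ i, r i • D.s i = 0 := by
    obtain ⟨w, rfl⟩ := (Submodule.mem_span_range_iff_exists_fun _).1 hr
    simp only [Finset.sum_apply, Pi.smul_apply, smul_eq_mul, Finset.sum_smul, mul_smul]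
    rw [Finset.sum_comm]
    simp only [← Finset.smul_sum, R.zero, smul_zero, Finset.sum_const_zero]
  have e : p ^ q • ∑ i, a i • D.s i = ∑ i, r' i • D.s i := by
    have h := fun i => congrFun hrr i
    simp only [Pi.add_apply, Pi.smul_apply, smul_eq_mul] at h
    simp only [Finset.smul_sum, smul_smul, ← h, add_smul, Finset.sum_add_distrib, h0, zero_add]
  rw [e]
  exact Submodule.sum_mem _ fun i _ => Submodule.smul_mem_smul (mem_vI.1 hr' i) Submodule.mem_top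

/-- Sections over a basic open extend up to a power of the element modulo powers of the ideal. -/
theorem exists_extend (hW : IsAffineOpen W) (hF : RelFin (O := 𝔛.Osh h𝔛.1) F) {n : ℕ}
    (D : GenData (O := 𝔛.Osh h𝔛.1) F W n) (p : RS h𝔛.1 W) {k j : ℕ} (hkj : k ≤ j + 1)
    {x : sc F.val (bas h𝔛 p)}
    (hx : x ∈ idl h𝔛.1 (bas h𝔛 p) ^ k • (⊤ : Submodule (RS h𝔛.1 (bas h𝔛 p)) _)) :
    ∃ (q : ℕ) (y : sc F.val W), y ∈ idl h𝔛.1 W ^ k • (⊤ : Submodule (RS h𝔛.1 W) _) ∧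
      resR h𝔛.1 (bas_le h𝔛 p) p ^ q • x - rm F (bas_le h𝔛 p) y ∈
        idl h𝔛.1 (bas h𝔛 p) ^ (j + 1) • (⊤ : Submodule (RS h𝔛.1 (bas h𝔛 p)) _) := by
  classical
  have hW' := isAffineOpen_bas h𝔛 hW p
  obtain ⟨a, ha, rfl⟩ := exists_coeff _ (span_eq_top h𝔛 hW' hF (D.restrict (bas_le h𝔛 p))) _ hx
  obtain ⟨q, c, hc⟩ := (locMod h𝔛 hW p j).surj_vec a
  obtain ⟨r, hr⟩ : ∃ r : ℕ, ∀ i, p ^ r * c i ∈ idl h𝔛.1 W ^ k := by
    cases k with
    | zero => exact ⟨0, fun i => by simp⟩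
    | succ k =>
      have h1 : resR h𝔛.1 (bas_le h𝔛 p) ∘ c ∈ vI (idl h𝔛.1 (bas h𝔛 p) ^ (k + 1)) := mem_vI.2 fun i => by
        have h := Ideal.sub_mem _ ((idl h𝔛.1 (bas h𝔛 p) ^ (k + 1)).mul_mem_left
          (resR h𝔛.1 (bas_le h𝔛 p) p ^ q) (ha i)) (Ideal.pow_le_pow_right hkj (mem_vI.1 hc i))
        simpa using h
      obtain ⟨r, hr⟩ := (locMod h𝔛 hW p k).inj_vec h1
      exact ⟨r, fun i => mem_vI.1 hr i⟩
  refine ⟨r + q, ∑ i, (p ^ r * c i) • D.s i,
    Submodule.sum_mem _ fun i _ => Submodule.smul_mem_smul (hr i) Submodule.mem_top, ?_⟩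
  simp only [map_sum, rm_smul, Finset.smul_sum, smul_smul, ← Finset.sum_sub_distrib]
  refine Submodule.sum_mem _ fun i _ => ?_
  show (resR h𝔛.1 (bas_le h𝔛 p) p ^ (r + q) * a i) • rm F (bas_le h𝔛 p) (D.s i) -
    resR h𝔛.1 (bas_le h𝔛 p) (p ^ r * c i) • rm F (bas_le h𝔛 p) (D.s i) ∈ _
  rw [← sub_smul]
  refine Submodule.smul_mem_smul ?_ Submodule.mem_top
  have h := (idl h𝔛.1 (bas h𝔛 p) ^ (j + 1)).mul_mem_left (resR h𝔛.1 (bas_le h𝔛 p) p ^ r) (mem_vI.1 hc i)
  simp only [Pi.sub_apply, Pi.smul_apply, Function.comp_apply, smul_eq_mul] at h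
  convert h using 1
  rw [map_mul, map_pow, pow_add]
  ring

end Groth.AdicLinTop.AffineSections
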