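import Groth.Agent.AdicLinTop.FormalSpan

/-!
# Kernels of morphisms on a formal scheme, on sections
-/

set_option autoImplicit false

universe u

open CategoryTheory CategoryTheory.Limits AlgebraicGeometry TopologicalSpace Opposite

namespace Groth.AdicLinTop.FormalIdeal

open Groth.AdicLinTop.FormalLevels Groth.AdicLinTop.FormalReal Groth.AdicLinTop.FormalAffine
open Groth.AdicLinTop.FormalSpan

variable {𝔛 : FSch.Sys.{u}} {h : 𝔛.IsFormal}

/-- Kernels on sections. -/
theorem ker_spec {M N : FSch.ModF 𝔛 h} (φ : M ⟶ N) (U : (𝔛.X 0).Opens) :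
    Function.Injective (app (kernel.ι φ) U) ∧
      ∀ m, app φ U m = 0 → ∃ k, app (kernel.ι φ) U k = m := by
  let E := SheafOfModules.evaluation.{u} (ModSite.ringSh (𝔛.Osh h)) (op U)
  refine ⟨(ModuleCat.mono_iff_injective (E.map (kernel.ι φ))).1 inferInstance, fun m hm => ?_⟩
  have hT : ((ShortComplex.mk _ _ (kernel.condition φ)).map E).Exact :=
    ShortComplex.exact_of_f_is_kernel _
      (KernelFork.mapIsLimit _ (ShortComplex.exact_of_f_is_kernel (ShortComplex.mk _ _ (kernel.condition φ))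
        (kernelIsKernel φ)).fIsKernel E)
  exact (ShortComplex.moduleCat_exact_iff _).1 hT m hm

/-- A morphism out of the structure sheaf is multiplication of the image of `1`. -/
theorem app_unit_eq_smul {M : FSch.ModF 𝔛 h} (φ : FSch.unitF 𝔛 h ⟶ M) (U : (𝔛.X 0).Opens) (a : RS h U) :
    app φ U a = a • app φ U (1 : RS h U) := by
  refine Eq.trans ?_ ((app φ U).map_smul a (1 : RS h U))
  exact congrArg (app φ U) (mul_one a).symm

variable (h) in
/-- The section `1` of a level. -/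
noncomputable def oneSec (k : ℕ) : ((push h k).obj (SheafOfModules.unit (𝔛.X k).ringCatSheaf)).val.sections :=
  PresheafOfModules.sectionsMk (fun U => (1 : Γ(𝔛.X k, 𝔛.lvU h k U.unop))) fun _ _ f =>
    map_one ((𝔛.X k).presheaf.map (homOfLE (lvU_mono h k f.unop.le)).op).hom

variable (h) in
/-- The projection of the structure sheaf to a level as a morphism of modules. -/
noncomputable def unitProj (k : ℕ) : FSch.unitF 𝔛 h ⟶ (push h k).obj (SheafOfModules.unit (𝔛.X k).ringCatSheaf) :=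
  ((push h k).obj (SheafOfModules.unit (𝔛.X k).ringCatSheaf)).unitHomEquiv.symm (oneSec h k)

theorem app_unitProj_one (k : ℕ) (U : (𝔛.X 0).Opens) :
    app (unitProj h k) U (1 : RS h U) = (oneSec h k).val (op U) :=
  congrArg (fun s : ((push h k).obj (SheafOfModules.unit (𝔛.X k).ringCatSheaf)).val.sections => s.val (op U))
    (Equiv.apply_symm_apply ((push h k).obj (SheafOfModules.unit (𝔛.X k).ringCatSheaf)).unitHomEquiv (oneSec h k))

theorem pushEquiv_unitProj (k : ℕ) (U : (𝔛.X 0).Opens) (a : RS h U) :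
    pushEquiv k (SheafOfModules.unit (𝔛.X k).ringCatSheaf) U (app (unitProj h k) U a) = projR k U a := by
  rw [app_unit_eq_smul, app_unitProj_one, pushEquiv_smul]
  show projR k U a * (1 : Γ(𝔛.X k, 𝔛.lvU h k U)) = _
  exact mul_one _

/-- The unit at the structure sheaf is killed exactly by the kernel of the projection. -/
theorem app_unit_eq_zero_iff (k : ℕ) (U : (𝔛.X 0).Opens) (a : RS h U) :
    app ((FSch.levelMor 𝔛 h k).adj.unit.app (FSch.unitF 𝔛 h)) U a = 0 ↔ projR k U a = 0 := by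
  constructor
  · intro h0
    have e : unitProj h k = (FSch.levelMor 𝔛 h k).adj.unit.app (FSch.unitF 𝔛 h) ≫
        (push h k).map (((FSch.levelMor 𝔛 h k).adj.homEquiv _ _).symm (unitProj h k)) :=
      ((Equiv.apply_symm_apply _ _).symm.trans ((FSch.levelMor 𝔛 h k).adj.homEquiv_unit _ _ _))
    rw [← pushEquiv_unitProj, e, app_comp, h0, map_zero, map_zero]
    rfl
  · intro ha
    rw [app_unit_eq_smul]
    exact smul_push_eq_zero k _ U ha _

theorem app_app_kernel_ι {M N : FSch.ModF 𝔛 h} (φ : M ⟶ N) (U : (𝔛.X 0).Opens) (m : Sec (kernel φ) U) :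
    app φ U (app (kernel.ι φ) U m) = 0 :=
  congr(app $(kernel.condition φ) U m)

/-- Elements generating the kernel on sections over the affine opens generate the kernel. -/
theorem nonempty_genData_kernel {M : FSch.ModF 𝔛 h} (φ : FSch.unitF 𝔛 h ⟶ M) {U : (𝔛.X 0).Opens} {l : ℕ}
    (g : Fin l → RS h U) (hg : ∀ j, app φ U (g j) = 0)
    (hgen : ∀ (V : (𝔛.X 0).Opens) (hVU : V ≤ U), IsAffineOpen V → ∀ a : RS h V, app φ V a = 0 →
      a ∈ Ideal.span (Set.range fun j => resR h hVU (g j))) :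
    Nonempty (SpacePres.GenData (O := 𝔛.Osh h) (kernel φ) U l) := by
  choose s hs using fun j => (ker_spec φ U).2 (g j) (hg j)
  refine ⟨{ s := s, gen := fun W hW t x hx => ?_ }⟩
  obtain ⟨_, ⟨V, hV, rfl⟩, hxV, hVW⟩ := (𝔛.X 0).isBasis_affineOpens.exists_subset_of_mem_open hx W.2
  have hVW : V ≤ W := hVW
  have hVU : V ≤ U := hVW.trans hW
  have key : app (kernel.ι φ) V (rs (kernel φ) hVW t) ∈ Submodule.span (RS h V)
      (Set.range fun j => (rs (FSch.unitF 𝔛 h) hVU (g j) : Sec (FSch.unitF 𝔛 h) V)) :=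
    hgen V hVU hV (app (kernel.ι φ) V (rs (kernel φ) hVW t)) (app_app_kernel_ι φ V (rs (kernel φ) hVW t))
  obtain ⟨c, hc⟩ := (Submodule.mem_span_range_iff_exists_fun _).1 key
  refine ⟨V, hVW, hxV, c, (ker_spec φ V).1 ?_⟩
  refine hc.symm.trans (Eq.symm ((map_sum _ _ _).trans (Finset.sum_congr rfl fun j _ => ?_)))
  refine ((app (kernel.ι φ) V).map_smul (c j) (rs (kernel φ) hVU (s j))).trans (congrArg (c j • ·) ?_)
  exact (rs_app (kernel.ι φ) hVU (s j)).trans (congrArg (rs (FSch.unitF 𝔛 h) hVU) (hs j))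

variable (h𝔛 : 𝔛.IsLocNoethFormal)

include h𝔛 in
/-- The kernel of the projection to a level is generated over affine opens. -/
theorem nonempty_genData_kernel_unit (n : ℕ) {U : (𝔛.X 0).Opens} (hU : IsAffineOpen U) :
    ∃ l : ℕ, Nonempty (SpacePres.GenData (O := 𝔛.Osh h𝔛.1)
      (kernel ((FSch.levelMor 𝔛 h𝔛.1 n).adj.unit.app (FSch.unitF 𝔛 h𝔛.1))) U l) := by
  classical
  have := isNoetherianRing h𝔛 hU
  obtain ⟨l, g, hg⟩ := Submodule.fg_iff_exists_fin_generating_family.1
    (IsNoetherian.noetherian (idl h𝔛.1 U ^ (n + 1)))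
  refine ⟨l, nonempty_genData_kernel _ g (fun j => ?_) fun V hVU hV a ha => ?_⟩
  · exact (app_unit_eq_zero_iff n U (g j)).2
      ((mem_pow_iff h𝔛 hU n _).1 (hg ▸ Submodule.subset_span ⟨j, rfl⟩))
  · have h1 : a ∈ idl h𝔛.1 V ^ (n + 1) := (mem_pow_iff h𝔛 hV n a).2 ((app_unit_eq_zero_iff n V a).1 ha)
    rw [← map_idl h𝔛 hU hV hVU, ← Ideal.map_pow, ← hg, ← Ideal.span, Ideal.map_span, ← Set.range_comp] at h1
    exact h1

end Groth.AdicLinTop.FormalIdeal
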