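import Groth.Agent.AdicLinTop.FormalPull
import Groth.Agent.AdicLinTop.FormalIdeal
import Mathlib.CategoryTheory.Adjunction.Unique

/-!
# Coherent modules on a formal scheme are realisations of their systems of inverse images
-/

set_option autoImplicit false

universe u

open CategoryTheory CategoryTheory.Limits AlgebraicGeometry TopologicalSpace Opposite

namespace Groth.AdicLinTop.FormalCoh

open Groth.AdicLinTop.FormalLevels Groth.AdicLinTop.FormalReal Groth.AdicLinTop.FormalAffine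
open Groth.AdicLinTop.FormalSpan Groth.AdicLinTop.FormalPull
open Groth.QCohMod (res resFun res_res res_smul res_app res_self)

variable {𝔛 : FSch.Sys.{u}}

section Sys

variable (h : 𝔛.IsFormal) (𝔉 : FSch.ModF 𝔛 h)

/-- The comparison of direct images as an isomorphism of functors. -/
noncomputable def compareIso (k : ℕ) :
    Scheme.Modules.pushforward (𝔛.ι k) ⋙ (FSch.levelMor 𝔛 h (k + 1)).push ≅ (FSch.levelMor 𝔛 h k).push where
  hom := FSch.pushCompare 𝔛 h k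
  inv := FSch.pushCompareInv 𝔛 h k
  hom_inv_id := by ext G : 2; exact FSch.pushCompare_pushCompareInv 𝔛 h k G
  inv_hom_id := by ext G : 2; exact FSch.pushCompareInv_pushCompare 𝔛 h k G

/-- The composed adjunction. -/
noncomputable def compAdj (k : ℕ) :
    (FSch.levelMor 𝔛 h (k + 1)).pull ⋙ Scheme.Modules.pullback (𝔛.ι k) ⊣
      Scheme.Modules.pushforward (𝔛.ι k) ⋙ (FSch.levelMor 𝔛 h (k + 1)).push :=
  (FSch.levelMor 𝔛 h (k + 1)).adj.comp (Scheme.Modules.pullbackPushforwardAdjunction (𝔛.ι k))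

/-- Inverse image along a level as another left adjoint of the composed direct image. -/
noncomputable def levelAdj' (k : ℕ) :
    (FSch.levelMor 𝔛 h k).pull ⊣
      Scheme.Modules.pushforward (𝔛.ι k) ⋙ (FSch.levelMor 𝔛 h (k + 1)).push :=
  (FSch.levelMor 𝔛 h k).adj.ofNatIsoRight (compareIso h k).symm

/-- The system of inverse images. -/
noncomputable def sys : FSch.ModSys 𝔛 where
  F k := pullk h 𝔉 k
  e k := ((compAdj h k).leftAdjointUniq (levelAdj' h k)).app 𝔉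

theorem unit_toPush (k : ℕ) :
    (FSch.levelMor 𝔛 h (k + 1)).adj.unit.app 𝔉 ≫
      ((FSch.levelMor 𝔛 h (k + 1)).push.map ((sys h 𝔉).toPush k) ≫ (FSch.pushCompare 𝔛 h k).app (pullk h 𝔉 k)) =
    (FSch.levelMor 𝔛 h k).adj.unit.app 𝔉 := by
  have h1 := Adjunction.homEquiv_leftAdjointUniq_hom_app (compAdj h k) (levelAdj' h k) 𝔉
  have h2 : (compAdj h k).homEquiv _ _ (((compAdj h k).leftAdjointUniq (levelAdj' h k)).hom.app 𝔉) =
      (FSch.levelMor 𝔛 h (k + 1)).adj.unit.app 𝔉 ≫ (FSch.levelMor 𝔛 h (k + 1)).push.map ((sys h 𝔉).toPush k) := by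
    rw [compAdj, Adjunction.comp_homEquiv, Equiv.trans_apply]
    exact (FSch.levelMor 𝔛 h (k + 1)).adj.homEquiv_unit _ _ _
  have h3 : (levelAdj' h k).unit.app 𝔉 =
      (FSch.levelMor 𝔛 h k).adj.unit.app 𝔉 ≫ (FSch.pushCompareInv 𝔛 h k).app (pullk h 𝔉 k) := by
    simp [levelAdj', Adjunction.ofNatIsoRight, compareIso]
  rw [h2, h3] at h1
  refine (Category.assoc _ _ _).symm.trans ?_
  refine (congrArg (· ≫ _) h1).trans ((Category.assoc _ _ _).trans ?_)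
  refine (congrArg (_ ≫ ·) (FSch.pushCompareInv_pushCompare 𝔛 h k _)).trans ?_
  exact Category.comp_id _

/-- The comparison with the realisation of the system of inverse images. -/
noncomputable def ηmap : 𝔉 ⟶ (sys h 𝔉).realMod h :=
  limit.lift (FSch.levelSysOf 𝔛 h (sys h 𝔉).F (sys h 𝔉).toPush) <| Cone.mk 𝔉 <| NatTrans.ofOpSequence
    (fun k => (FSch.levelMor 𝔛 h k).adj.unit.app 𝔉) (fun k => by
      rw [FSch.levelSysOf_map_succ]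
      exact (Category.id_comp _).trans (unit_toPush h 𝔉 k).symm)

theorem ηmap_proj (k : ℕ) :
    ηmap h 𝔉 ≫ proj h (sys h 𝔉) k = (FSch.levelMor 𝔛 h k).adj.unit.app 𝔉 :=
  limit.lift_π _ _

theorem lev_ηmap (k : ℕ) (U : (𝔛.X 0).Opens) (x : Sec 𝔉 U) :
    lev h (sys h 𝔉) k U (app (ηmap h 𝔉) U x) = ηk h 𝔉 k U x :=
  congrArg (pushEquiv k (pullk h 𝔉 k) U) (congr(app $(ηmap_proj h 𝔉 k) U x))

end Sys

variable {h : 𝔛.IsFormal} {𝔉 : FSch.ModF 𝔛 h} {U : (𝔛.X 0).Opens} {n m : ℕ}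
  (P : SpacePres.PresData (O := 𝔛.Osh h) 𝔉 U n m)

theorem res_top_injective {X : Scheme.{u}} (M : X.Modules) (V : X.Opens) :
    Function.Injective (res M V.ι_image_top.le) := fun a b e => by
  have e' := congrArg (res M V.ι_image_top.ge) e
  rwa [res_res, res_res, res_self, res_self] at e'

include P in
/-- Generators and relations of the inverse image over the affine open. -/
theorem spec_lev (hU : IsAffineOpen U) (k : ℕ) :
    (∀ y, ∃ c : Fin n → Γ(𝔛.X k, 𝔛.lvU h k U), y = ∑ i, c i • ηk h 𝔉 k U (P.s i)) ∧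
      ∀ c : Fin n → Γ(𝔛.X k, 𝔛.lvU h k U), ∑ i, c i • ηk h 𝔉 k U (P.s i) = 0 → c ∈ relk P := by
  obtain ⟨-, hs, hr⟩ := pullk_spec P (k := k) hU
  have key : ∀ c : Fin n → Γ(𝔛.X k, 𝔛.lvU h k U),
      (show Γ((pullk h 𝔉 k).restrict (𝔛.lvU h k U).ι, ⊤) from
        res (pullk h 𝔉 k) (𝔛.lvU h k U).ι_image_top.le (∑ i, c i • ηk h 𝔉 k U (P.s i))) =
      ∑ i, topRing (𝔛.lvU h k U) (c i) • gen h k (P.s i) := fun c => by
    refine (map_sum (res (pullk h 𝔉 k) (𝔛.lvU h k U).ι_image_top.le) _ _).trans ?_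
    exact Finset.sum_congr rfl fun i _ => (topRing_smul_restrict (pullk h 𝔉 k) (c i) _).symm
  refine ⟨fun y => ?_, fun c hc => hr c ?_⟩
  · obtain ⟨c, hc⟩ := hs (res (pullk h 𝔉 k) (𝔛.lvU h k U).ι_image_top.le y)
    exact ⟨c, res_top_injective _ _ (hc.trans (key c).symm)⟩
  · rw [← key c, hc]
    exact map_zero _

variable (h𝔛 : 𝔛.IsLocNoethFormal) {𝔉 : FSch.ModF 𝔛 h𝔛.1}

/-- Affine opens carrying a presentation. -/
def Good (𝔉 : FSch.ModF 𝔛 h𝔛.1) (V : (𝔛.X 0).Opens) : Prop :=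
  IsAffineOpen V ∧ ∃ n m, Nonempty (SpacePres.PresData (O := 𝔛.Osh h𝔛.1) 𝔉 V n m)

theorem exists_good (h𝔉 : FSch.IsCohF 𝔛 h𝔛.1 𝔉) (U : (𝔛.X 0).Opens) (x : 𝔛.X 0) (hx : x ∈ U) :
    ∃ V, Good h𝔛 𝔉 V ∧ x ∈ V ∧ V ≤ U := by
  obtain ⟨W, n, m, hxW, ⟨P⟩⟩ := SpacePres.exists_presData h𝔉 x
  obtain ⟨_, ⟨V, hV, rfl⟩, hxV, hVW⟩ :=
    (𝔛.X 0).isBasis_affineOpens.exists_subset_of_mem_open (show x ∈ U ⊓ W from ⟨hx, hxW⟩) (U ⊓ W).2
  have hVW : V ≤ U ⊓ W := hVW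
  exact ⟨V, ⟨hV, n, m, ⟨P.restrict (hVW.trans inf_le_right)⟩⟩, hxV, hVW.trans inf_le_left⟩

theorem isCoh_sys (h𝔉 : FSch.IsCohF 𝔛 h𝔛.1 𝔉) : (sys h𝔛.1 𝔉).IsCoh := fun k => by
  have hgood : ∀ z : 𝔛.X k, ∃ V, Good h𝔛 𝔉 V ∧ z ∈ 𝔛.lvU h𝔛.1 k V := fun z => by
    obtain ⟨V, hV, hzV, -⟩ := exists_good h𝔛 h𝔉 ⊤ (𝔛.gInv h𝔛.1 k z) trivial
    exact ⟨V, hV, hzV⟩
  have hq : (pullk h𝔛.1 𝔉 k).IsQuasicoherent := by
    refine Groth.QCohMod.isQCoh_of_forall_exists _ fun z => ?_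
    obtain ⟨V, ⟨hV, n, m, ⟨P⟩⟩, hz⟩ := hgood z
    exact ⟨_, hz, (pullk_spec P hV).1.1⟩
  refine ⟨hq, Groth.QCohMod.isFT_of_affine_cover (pullk h𝔛.1 𝔉 k) fun z => ?_⟩
  obtain ⟨V, ⟨hV, n, m, ⟨P⟩⟩, hz⟩ := hgood z
  refine ⟨_, isAffineOpen_lvU h𝔛.1 hV k, hz, ⟨?_⟩⟩
  refine Submodule.fg_def.2 ⟨Set.range fun i => ηk h𝔛.1 𝔉 k V (P.s i), Set.finite_range _, eq_top_iff.2 fun y _ => ?_⟩
  obtain ⟨c, rfl⟩ := (spec_lev P hV k).1 y
  exact Submodule.sum_mem _ fun i _ => Submodule.smul_mem _ _ (Submodule.subset_span ⟨i, rfl⟩)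

theorem ηmap_surjective (h𝔉 : FSch.IsCohF 𝔛 h𝔛.1 𝔉) {V : (𝔛.X 0).Opens} (hV : Good h𝔛 𝔉 V) :
    Function.Surjective (app (ηmap h𝔛.1 𝔉) V) := by
  obtain ⟨hVa, n, m, ⟨P⟩⟩ := hV
  intro y
  have hspan := span_of_lev_zero h𝔛 (isCoh_sys h𝔛 h𝔉) hVa (fun i => app (ηmap h𝔛.1 𝔉) V (P.s i))
    (eq_top_iff.2 fun z _ => by
      obtain ⟨c, rfl⟩ := (spec_lev P hVa 0).1 z
      exact Submodule.sum_mem _ fun i _ => Submodule.smul_mem _ _
        (Submodule.subset_span ⟨i, lev_ηmap h𝔛.1 𝔉 0 V (P.s i)⟩))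
  obtain ⟨a, rfl⟩ := (Submodule.mem_span_range_iff_exists_fun _).1 (hspan ▸ Submodule.mem_top : y ∈ _)
  exact ⟨∑ i, a i • P.s i, (map_sum _ _ _).trans (Finset.sum_congr rfl fun i _ => map_smul _ _ _)⟩

theorem eq_zero_of_ηk (h𝔉 : FSch.IsCohF 𝔛 h𝔛.1 𝔉) {U : (𝔛.X 0).Opens} (x : Sec 𝔉 U)
    (hx : ∀ k, ηk h𝔛.1 𝔉 k U x = 0) : x = 0 := by
  refine SpacePres.eq_zero_of_local fun p hp => ?_
  obtain ⟨V₀, ⟨hV₀, n, m, ⟨P₀⟩⟩, hpV₀, hV₀U⟩ := exists_good h𝔛 h𝔉 U p hp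
  obtain ⟨W, hW, hpW, a₀, ha₀⟩ := P₀.gen V₀ le_rfl (rs 𝔉 hV₀U x) p hpV₀
  obtain ⟨_, ⟨V, hV, rfl⟩, hpV, hVW⟩ := (𝔛.X 0).isBasis_affineOpens.exists_subset_of_mem_open hpW W.2
  have hVW : V ≤ W := hVW
  let P := P₀.restrict (hVW.trans hW)
  let a : Fin n → RS h𝔛.1 V := fun i => resR h𝔛.1 hVW (a₀ i)
  have hxa : rs 𝔉 ((hVW.trans hW).trans hV₀U) x = ∑ i, a i • (show Sec 𝔉 V from P.s i) := by
    rw [← rs_rs 𝔉 hV₀U (hVW.trans hW), ← rs_rs 𝔉 hW hVW]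
    refine (congrArg (rs 𝔉 hVW) ha₀).trans ((map_sum _ _ _).trans (Finset.sum_congr rfl fun i _ => ?_))
    exact (rs_smul 𝔉 hVW (a₀ i) _).trans (congrArg (resR h𝔛.1 hVW (a₀ i) • ·) (rs_rs 𝔉 _ hVW (P₀.s i)))
  refine ⟨V, (hVW.trans hW).trans hV₀U, hpV, ?_⟩
  show rs 𝔉 _ x = 0
  let S : Submodule (RS h𝔛.1 V) (Fin n → RS h𝔛.1 V) := Submodule.span _ (Set.range fun j i => P.r j i)
  have haS : a ∈ S := by
    have := isNoetherianRing h𝔛 hV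
    refine mem_of_forall_mem_sup h𝔛 hV S fun k => ?_
    obtain ⟨-, hp', -⟩ := FormalLevels.adic h𝔛 hV
    have h0 : ∑ i, projR k V (a i) • ηk h𝔛.1 𝔉 k V (P.s i) = 0 := by
      have e := congrArg (ηk h𝔛.1 𝔉 k V) hxa
      rw [ηk_sum, ηk_rs, hx k, map_zero] at e
      exact (Finset.sum_congr rfl fun i _ => (ηk_smul (a i) _).symm).trans e.symm
    obtain ⟨c, hc⟩ := (Submodule.mem_span_range_iff_exists_fun _).1 ((spec_lev P hV k).2 _ h0)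
    choose d hd using fun j => (hp' k).1 (c j)
    refine Submodule.mem_sup.2 ⟨∑ j, d j • (fun i => P.r j i),
      Submodule.sum_mem _ fun j _ => Submodule.smul_mem _ _ (Submodule.subset_span ⟨j, rfl⟩),
      a - ∑ j, d j • (fun i => P.r j i), mem_smul_top_of_apply_mem _ fun i => ?_, add_sub_cancel _ _⟩
    rw [mem_pow_iff h𝔛 hV k, Pi.sub_apply, Finset.sum_apply]
    refine (map_sub ((𝔛.OshProj h𝔛.1 k).hom.app (op V)).hom _ _).trans (sub_eq_zero.2 ?_)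
    refine (congrFun hc i).symm.trans ((Finset.sum_apply i _ _).trans ?_)
    refine Eq.trans (Finset.sum_congr rfl fun j _ => ?_) (map_sum ((𝔛.OshProj h𝔛.1 k).hom.app (op V)).hom _ _).symm
    show c j * projR k V (P.r j i) = projR k V (d j * P.r j i)
    rw [← hd j]
    exact (map_mul _ _ _).symm
  obtain ⟨b, hb⟩ := (Submodule.mem_span_range_iff_exists_fun _).1 haS
  rw [hxa, ← hb]
  simp only [Finset.sum_apply, Pi.smul_apply, smul_eq_mul, Finset.sum_smul, mul_smul]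
  rw [Finset.sum_comm]
  refine Finset.sum_eq_zero fun j _ => ?_
  rw [← Finset.smul_sum]
  exact (congrArg (b j • ·) (P.zero j)).trans (smul_zero _)

theorem ηmap_injective (h𝔉 : FSch.IsCohF 𝔛 h𝔛.1 𝔉) (U : (𝔛.X 0).Opens) :
    Function.Injective (app (ηmap h𝔛.1 𝔉) U) :=
  (injective_iff_map_eq_zero _).2 fun x hx => eq_zero_of_ηk h𝔛 h𝔉 x fun k => by
    rw [← lev_ηmap, hx, lev, map_zero, map_zero]
    rfl

/-- A coherent module is the realisation of its system of inverse images. -/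
theorem isIso_ηmap (h𝔉 : FSch.IsCohF 𝔛 h𝔛.1 𝔉) : IsIso (ηmap h𝔛.1 𝔉) := by
  have hom_ext : ∀ {M N : FSch.ModF 𝔛 h𝔛.1} (a b : M ⟶ N),
      (∀ V, Good h𝔛 𝔉 V → ∀ x, app a V x = app b V x) → a = b := fun {M N} a b hab =>
    SheafOfModules.hom_ext (PresheafOfModules.hom_ext fun U => by
      ext x
      refine SpaceGlue.eq_of_local fun p hp => ?_
      obtain ⟨V, hV, hpV, hVU⟩ := exists_good h𝔛 h𝔉 U.unop p hp
      exact ⟨V, hVU, hpV, (rs_app a hVU x).symm.trans ((hab V hV _).trans (rs_app b hVU x))⟩)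
  have : Mono (ηmap h𝔛.1 𝔉) :=
    ⟨fun a b e => hom_ext a b fun V _ x => ηmap_injective h𝔛 h𝔉 V (by rw [← app_comp, ← app_comp, e])⟩
  have : Epi (ηmap h𝔛.1 𝔉) :=
    ⟨fun a b e => hom_ext a b fun V hV y => by
      obtain ⟨x, rfl⟩ := ηmap_surjective h𝔛 h𝔉 hV y
      rw [← app_comp, ← app_comp, e]⟩
  exact isIso_of_mono_of_epi _

theorem exists_isCoh_iso_realMod (h𝔉 : FSch.IsCohF 𝔛 h𝔛.1 𝔉) :
    ∃ 𝔐 : FSch.ModSys 𝔛, 𝔐.IsCoh ∧ Nonempty (𝔉 ≅ 𝔐.realMod h𝔛.1) :=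
  have := isIso_ηmap h𝔛 h𝔉
  ⟨sys h𝔛.1 𝔉, isCoh_sys h𝔛 h𝔉, ⟨asIso (ηmap h𝔛.1 𝔉)⟩⟩

end Groth.AdicLinTop.FormalCoh
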