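import Groth.Agent.AdicLinTop.AlgzUnit
import Groth.Agent.AdicLinTop.FormalCoh
import Groth.Agent.CohC3.PushPull

/-!
# Systems of modules on a completion as formal modules on the scheme
-/

set_option autoImplicit false

universe u

open CategoryTheory CategoryTheory.Limits AlgebraicGeometry Opposite TopologicalSpace

namespace Groth.AdicLinTop.AlgzBridge

open Groth.CohC3 Groth.AdicLinTop.AlgzUnit

section Adjunct

theorem adjunct_gen {C : Type*} [Category C] {D : Type*} [Category D] {E : Type*} [Category E]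
    {L₁ : C ⥤ D} {R₁ : D ⥤ C} {L₂ : D ⥤ E} {R₂ : E ⥤ D} {L₃ : C ⥤ E} {R₃ : E ⥤ C}
    (adj₁ : L₁ ⊣ R₁) (adj₂ : L₂ ⊣ R₂) (adj₃ : L₃ ⊣ R₃) (c : L₁ ⋙ L₂ ≅ L₃) (γ : R₂ ⋙ R₁ ⟶ R₃)
    (hγ : conjugateEquiv (adj₁.comp adj₂) adj₃ c.inv = γ) {M : C} {N' : D} {N : E}
    (a' : L₁.obj M ⟶ N') (a : L₃.obj M ⟶ N) (e : L₂.obj N' ⟶ N)
    (H : adj₁.homEquiv _ _ a' ≫ R₁.map (adj₂.homEquiv _ _ e) ≫ γ.app N = adj₃.homEquiv _ _ a) :
    L₂.map a' ≫ e = c.hom.app M ≫ a := by
  have hx : (adj₁.comp adj₂).homEquiv M N (L₂.map a' ≫ e) =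
      adj₁.homEquiv _ _ a' ≫ R₁.map (adj₂.homEquiv _ _ e) := by
    rw [Adjunction.comp_homEquiv, Equiv.trans_apply, Adjunction.homEquiv_naturality_left,
      Adjunction.homEquiv_naturality_right]
  generalize hxd : L₂.map a' ≫ e = x at hx ⊢
  have hu := unit_conjugateEquiv (adj₁.comp adj₂) adj₃ c.inv M
  rw [hγ] at hu
  have key : adj₃.homEquiv M N (c.inv.app M ≫ x) = adj₃.homEquiv M N a := by
    rw [← H, ← Category.assoc (adj₁.homEquiv _ _ a'), ← hx, Adjunction.homEquiv_unit, Adjunction.homEquiv_unit,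
      Functor.map_comp, ← Category.assoc, ← hu, Category.assoc, Category.assoc]
    exact congrArg _ (γ.naturality x).symm
  rw [← (Equiv.injective _) key]
  exact (Iso.hom_inv_id_app_assoc c M x).symm

variable {W Z X : Scheme.{u}} (f : W ⟶ Z) (g : Z ⟶ X)

theorem adjunct_comm (h : W ⟶ X) (hh : f ≫ g = h) {M : X.Modules} {N' : Z.Modules} {N : W.Modules}
    (a' : (Scheme.Modules.pullback g).obj M ⟶ N') (a : (Scheme.Modules.pullback h).obj M ⟶ N)
    (e : (Scheme.Modules.pullback f).obj N' ⟶ N)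
    (c : Scheme.Modules.pullback g ⋙ Scheme.Modules.pullback f ≅ Scheme.Modules.pullback h)
    (hc : c = Scheme.Modules.pullbackComp f g ≪≫ Scheme.Modules.pullbackCongr hh)
    (H : (Scheme.Modules.pullbackPushforwardAdjunction g).homEquiv _ _ a' ≫
        (Scheme.Modules.pushforward g).map ((Scheme.Modules.pullbackPushforwardAdjunction f).homEquiv _ _ e) ≫
        (Scheme.Modules.pushforwardComp f g).hom.app N ≫ (Scheme.Modules.pushforwardCongr hh).hom.app N =
      (Scheme.Modules.pullbackPushforwardAdjunction h).homEquiv _ _ a) :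
    (Scheme.Modules.pullback f).map a' ≫ e = c.hom.app M ≫ a := by
  subst hc
  subst hh
  have hid : (Scheme.Modules.pushforwardCongr (rfl : f ≫ g = f ≫ g)).hom.app N = 𝟙 _ :=
    Scheme.Modules.hom_ext _ _ fun U => by
      rw [Scheme.Modules.pushforwardCongr_hom_app_app]
      exact N.presheaf.map_id _
  have hid' : (Scheme.Modules.pullbackCongr (rfl : f ≫ g = f ≫ g)) = Iso.refl _ := by
    simp [Scheme.Modules.pullbackCongr]
  rw [hid, Category.comp_id] at H
  rw [hid', Iso.trans_refl]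
  exact adjunct_gen (Scheme.Modules.pullbackPushforwardAdjunction g) (Scheme.Modules.pullbackPushforwardAdjunction f)
    (Scheme.Modules.pullbackPushforwardAdjunction (f ≫ g)) (Scheme.Modules.pullbackComp f g)
    (Scheme.Modules.pushforwardComp f g).hom (Scheme.Modules.conjugateEquiv_pullbackComp_inv f g) a' a e H

end Adjunct

variable {A : Type u} [CommRing A] (J : Ideal A) {X : Scheme.{u}} [X.Over (Spec (CommRingCat.of A))]
  (𝓘 : X.IdealSheafData) (h𝓘 : 𝓘 = baseIdeal X J)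

local notation "𝒳" => FSch.completionAlong X 𝓘

/-- The levels over the base. -/
noncomputable instance levelOver (n : ℕ) : ((FSch.completionAlong X 𝓘).X n).Over (Spec (CommRingCat.of A)) :=
  ⟨FSch.completionToX X 𝓘 n ≫ (X ↘ Spec (CommRingCat.of A))⟩

theorem toX_over (n : ℕ) : FSch.completionToX X 𝓘 n ≫ (X ↘ Spec (CommRingCat.of A)) =
    (FSch.completionAlong X 𝓘).X n ↘ Spec (CommRingCat.of A) := rfl

theorem ι_toX (n : ℕ) : (FSch.completionAlong X 𝓘).ι n ≫ FSch.completionToX X 𝓘 (n + 1) =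
    FSch.completionToX X 𝓘 n :=
  Scheme.IdealSheafData.inclusion_subschemeι _

instance isClosedImmersion_ι (n : ℕ) : IsClosedImmersion ((FSch.completionAlong X 𝓘).ι n) :=
  have : IsClosedImmersion ((FSch.completionAlong X 𝓘).ι n ≫ FSch.completionToX X 𝓘 (n + 1)) := by
    rw [ι_toX]; infer_instance
  IsClosedImmersion.of_comp_isClosedImmersion _ (FSch.completionToX X 𝓘 (n + 1))

include h𝓘 in
theorem ker_toX (n : ℕ) : (FSch.completionToX X 𝓘 n).ker = baseIdeal X (J ^ (n + 1)) := by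
  rw [baseIdeal_pow, ← h𝓘]
  exact Scheme.IdealSheafData.ker_subschemeι _

include h𝓘 in
theorem ker_ι (n : ℕ) :
    ((FSch.completionAlong X 𝓘).ι n).ker = baseIdeal ((FSch.completionAlong X 𝓘).X (n + 1)) (J ^ (n + 1)) := by
  have : IsClosedImmersion ((FSch.completionAlong X 𝓘).ι n ≫ FSch.completionToX X 𝓘 (n + 1)) := by
    rw [ι_toX]; infer_instance
  rw [Thickenings.ker_eq_comap_ker_comp ((FSch.completionAlong X 𝓘).ι n) (FSch.completionToX X 𝓘 (n + 1)),
    ← baseIdeal_comap (FSch.completionToX X 𝓘 (n + 1)) (toX_over 𝓘 (n + 1)), ← ker_toX J 𝓘 h𝓘 n]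
  simp only [ι_toX]

variable {𝓘} (𝔐 : FSch.ModSys (FSch.completionAlong X 𝓘))

/-- The transition maps of the direct images. -/
noncomputable def tr (n : ℕ) :
    (Scheme.Modules.pushforward (FSch.completionToX X 𝓘 (n + 1))).obj (𝔐.F (n + 1)) ⟶
      (Scheme.Modules.pushforward (FSch.completionToX X 𝓘 n)).obj (𝔐.F n) :=
  (Scheme.Modules.pushforward (FSch.completionToX X 𝓘 (n + 1))).map (𝔐.toPush n) ≫
    (Scheme.Modules.pushforwardComp ((FSch.completionAlong X 𝓘).ι n) (FSch.completionToX X 𝓘 (n + 1))).hom.app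
      (𝔐.F n) ≫ (Scheme.Modules.pushforwardCongr (ι_toX 𝓘 n)).hom.app (𝔐.F n)

/-- The formal module on the scheme of a system of modules on the completion. -/
noncomputable def pushSys : ℕᵒᵖ ⥤ X.Modules :=
  Functor.ofOpSequence (X := fun n => (Scheme.Modules.pushforward (FSch.completionToX X 𝓘 n)).obj (𝔐.F n)) (tr 𝔐)

theorem pushSys_obj (n : ℕ) :
    (pushSys 𝔐).obj (op n) = (Scheme.Modules.pushforward (FSch.completionToX X 𝓘 n)).obj (𝔐.F n) := rfl

theorem pushSys_map_succ (n : ℕ) : sysMap (pushSys 𝔐) (Nat.le_succ n) = tr 𝔐 n :=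
  Functor.ofOpSequence_map_homOfLE_succ _ n

include h𝓘 in
theorem isQuot_tr (n : ℕ) [(𝔐.F (n + 1)).IsQuasicoherent] : IsQuot (J ^ (n + 1)) (tr 𝔐 n) := by
  have h1 : IsQuot (J ^ (n + 1)) (𝔐.toPush n) := by
    rw [FSch.ModSys.toPush, Adjunction.homEquiv_unit]
    exact (isQuot_unit _ (ker_ι J 𝓘 h𝓘 n) _).comp_iso _
  exact (isQuot_pushforward (FSch.completionToX X 𝓘 (n + 1)) (toX_over 𝓘 (n + 1)) h1).comp_iso _

include h𝓘 in
theorem isCohFormal_pushSys [IsLocallyNoetherian X] (h𝔐 : 𝔐.IsCoh) : Formal.IsCohFormal J (pushSys 𝔐) := by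
  refine ⟨fun n => isCoh_pushforward (A := A) (toX_over 𝓘 n) (h𝔐 n), fun n => ?_, fun n => ?_⟩
  · have := (h𝔐 n).1
    refine @killedBy_of_killedByIdeal A _ X _ (J ^ (n + 1)) _
      (QCohMod.isQCoh_pushforward (M := 𝔐.F n) (FSch.completionToX X 𝓘 n)) ?_
    rw [← ker_toX J 𝓘 h𝓘 n]
    exact QCohMod.killed_pushforward (FSch.completionToX X 𝓘 n) (𝔐.F n)
  · have := (h𝔐 (n + 1)).1
    have h := (isQuot_tr J h𝓘 𝔐 n).isIso_desc
    rw [← pushSys_map_succ] at h
    exact h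

/-- A levelwise invertible morphism of systems is an isomorphism. -/
noncomputable def isoOfApp {𝔛 : FSch.Sys.{u}} {𝔐 𝔑 : FSch.ModSys 𝔛} (φ : 𝔐 ⟶ 𝔑)
    (hφ : ∀ n, IsIso (FSch.ModSys.Hom.app φ n)) : 𝔐 ≅ 𝔑 where
  hom := φ
  inv := ⟨fun n => @inv _ _ _ _ (FSch.ModSys.Hom.app φ n) (hφ n), fun n => by
    have := hφ n
    have := hφ (n + 1)
    rw [Functor.map_inv, IsIso.inv_comp_eq, ← Category.assoc, FSch.ModSys.Hom.comm φ n, Category.assoc,
      IsIso.hom_inv_id, Category.comp_id]⟩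
  hom_inv_id := FSch.ModSys.Hom.ext (funext fun n => @IsIso.hom_inv_id _ _ _ _ (FSch.ModSys.Hom.app φ n) (hφ n))
  inv_hom_id := FSch.ModSys.Hom.ext (funext fun n => @IsIso.inv_hom_id _ _ _ _ (FSch.ModSys.Hom.app φ n) (hφ n))

theorem complTrans_comm (n : ℕ) {M : X.Modules} {N' : ((FSch.completionAlong X 𝓘).X (n + 1)).Modules}
    {N : ((FSch.completionAlong X 𝓘).X n).Modules}
    (a' : (Scheme.Modules.pullback (FSch.completionToX X 𝓘 (n + 1))).obj M ⟶ N')
    (a : (Scheme.Modules.pullback (FSch.completionToX X 𝓘 n)).obj M ⟶ N)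
    (e : (Scheme.Modules.pullback ((FSch.completionAlong X 𝓘).ι n)).obj N' ⟶ N)
    (H : (Scheme.Modules.pullbackPushforwardAdjunction (FSch.completionToX X 𝓘 (n + 1))).homEquiv _ _ a' ≫
        (Scheme.Modules.pushforward (FSch.completionToX X 𝓘 (n + 1))).map
          ((Scheme.Modules.pullbackPushforwardAdjunction ((FSch.completionAlong X 𝓘).ι n)).homEquiv _ _ e) ≫
        (Scheme.Modules.pushforwardComp ((FSch.completionAlong X 𝓘).ι n) (FSch.completionToX X 𝓘 (n + 1))).hom.app N ≫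
        (Scheme.Modules.pushforwardCongr (ι_toX 𝓘 n)).hom.app N =
      (Scheme.Modules.pullbackPushforwardAdjunction (FSch.completionToX X 𝓘 n)).homEquiv _ _ a) :
    (Scheme.Modules.pullback ((FSch.completionAlong X 𝓘).ι n)).map a' ≫ e =
      (FSch.complTransIso 𝓘 n).hom.app M ≫ a :=
  adjunct_comm ((FSch.completionAlong X 𝓘).ι n) (FSch.completionToX X 𝓘 (n + 1))
    (FSch.completionToX X 𝓘 n) (ι_toX 𝓘 n) (M := M) (N' := N') (N := N) a' a e
    (FSch.complTransIso 𝓘 n) rfl H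

include h𝓘 in
/-- An algebraisation of the formal module identifies the system with a completion. -/
theorem nonempty_iso_complMod (h𝔐 : 𝔐.IsCoh) {M : X.Modules} [M.IsQuasicoherent]
    (β : Formal.completion J M ≅ pushSys 𝔐) : Nonempty (FSch.complMod 𝓘 M ≅ 𝔐) := by
  let q : ∀ n, M ⟶ (Scheme.Modules.pushforward (FSch.completionToX X 𝓘 n)).obj (𝔐.F n) :=
    fun n => Formal.modPowπ J (n + 1) M ≫ β.hom.app (op n)
  have hq : ∀ n, IsQuot (J ^ (n + 1)) (q n) := fun n =>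
    @IsQuot.comp_iso A _ X _ _ _ _ _ _ (isQuot_modPowπ J (n + 1) M) (β.hom.app (op n)) (β.app (op n)).isIso_hom
  have hqc : ∀ n, q (n + 1) ≫ tr 𝔐 n = q n := fun n => by
    rw [← pushSys_map_succ, Category.assoc]
    refine (congrArg (_ ≫ ·) (β.hom.naturality (homOfLE (Nat.le_succ n)).op).symm).trans ?_
    rw [← Category.assoc]
    exact congrArg (· ≫ _) (modPowπ_sysMap_succ J M n)
  let a : ∀ n, (Scheme.Modules.pullback (FSch.completionToX X 𝓘 n)).obj M ⟶ 𝔐.F n := fun n =>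
    ((Scheme.Modules.pullbackPushforwardAdjunction (FSch.completionToX X 𝓘 n)).homEquiv _ _).symm (q n)
  have hua : ∀ n, (Scheme.Modules.pullbackPushforwardAdjunction (FSch.completionToX X 𝓘 n)).unit.app M ≫
      (Scheme.Modules.pushforward (FSch.completionToX X 𝓘 n)).map (a n) = q n := fun n =>
    ((Adjunction.homEquiv_unit _ M (𝔐.F n) (a n)).symm).trans (Equiv.apply_symm_apply _ _)
  have : ∀ n, IsIso (a n) := fun n => by
    have hu := isQuot_unit (FSch.completionToX X 𝓘 n) (ker_toX J 𝓘 h𝓘 n) M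
    obtain ⟨g, hg⟩ := (hq n).desc _ hu.le_ann
    have : IsIso ((Scheme.Modules.pushforward (FSch.completionToX X 𝓘 n)).map (a n)) :=
      ⟨g, hu.hom_ext (by rw [← Category.assoc, hua, hg]; exact (Category.comp_id _).symm),
        (hq n).hom_ext (by rw [← Category.assoc, hg, hua, Category.comp_id])⟩
    exact isIso_of_reflects_iso (a n) (Scheme.Modules.pushforward (FSch.completionToX X 𝓘 n))
  have hcomm : ∀ n, (Scheme.Modules.pullback ((FSch.completionAlong X 𝓘).ι n)).map (a (n + 1)) ≫ (𝔐.e n).hom =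
      ((FSch.complMod 𝓘 M).e n).hom ≫ a n := fun n => by
    rw [FSch.complMod_e, Iso.app_hom]
    refine complTrans_comm n (a (n + 1)) (a n) (𝔐.e n).hom ?_
    rw [show (Scheme.Modules.pullbackPushforwardAdjunction (FSch.completionToX X 𝓘 (n + 1))).homEquiv _ _ (a (n + 1)) =
      q (n + 1) from Equiv.apply_symm_apply _ _,
      show (Scheme.Modules.pullbackPushforwardAdjunction (FSch.completionToX X 𝓘 n)).homEquiv _ _ (a n) =
      q n from Equiv.apply_symm_apply _ _]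
    exact hqc n
  exact ⟨isoOfApp (𝔐 := FSch.complMod 𝓘 M) (𝔑 := 𝔐) ⟨a, hcomm⟩ this⟩

/-- Isomorphic systems have isomorphic realisations. -/
theorem nonempty_realMod_iso {𝔛 : FSch.Sys.{u}} (h : 𝔛.IsFormal) {𝔐 𝔑 : FSch.ModSys 𝔛} (e : 𝔐 ≅ 𝔑) :
    Nonempty (𝔐.realMod h ≅ 𝔑.realMod h) := by
  have he : ∀ k, IsIso (e.hom.app k) := fun k =>
    ⟨e.inv.app k, congrFun (congrArg FSch.ModSys.Hom.app e.hom_inv_id) k,
      congrFun (congrArg FSch.ModSys.Hom.app e.inv_hom_id) k⟩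
  have : ∀ k, IsIso ((FSch.levelSysMap 𝔛 h e.hom.app (FSch.ModSys.Hom.toPush_comm e.hom)).app k) := fun ⟨k⟩ =>
    @Functor.map_isIso _ _ _ _ _ _ (FSch.levelMor 𝔛 h k).push (e.hom.app k) (he k)
  have := NatIso.isIso_of_isIso_app (FSch.levelSysMap 𝔛 h e.hom.app (FSch.ModSys.Hom.toPush_comm e.hom))
  exact ⟨HasLimit.isoOfNatIso (asIso (FSch.levelSysMap 𝔛 h e.hom.app (FSch.ModSys.Hom.toPush_comm e.hom)))⟩

end Groth.AdicLinTop.AlgzBridge
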