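import Groth.Agent.AdicLinTop.ComplPush
import Groth.Agent.AdicLinTop.AlgzBridge
import Groth.Agent.CohC3.PushFF

/-!
# Bounds for sections of levels over inverse images of affine opens under proper maps
-/

set_option autoImplicit false

universe u

open CategoryTheory CategoryTheory.Limits AlgebraicGeometry TopologicalSpace Opposite

namespace Groth.AdicLinTop.PushBounds

open Groth.CohC3 Groth.AdicLinTop.FormalLevels Groth.AdicLinTop.FormalReal Groth.AdicLinTop.FormalAffine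
open Groth.AdicLinTop.FormalSpan Groth.AdicLinTop.ComplReal Groth.AdicLinTop.ComplPull
open Groth.AdicLinTop.FormalPullback (pre)
open Groth.AdicLinTop.AlgzUnit Groth.AdicLinTop.ComplPush
open Groth.QCohMod (res res_res res_self res_app)
open Groth.PicAux (pullSec res_pullSec)

variable {A : Type u} [CommRing A] {J : Ideal A} {Z : Scheme.{u}} [Z.Over (Spec (CommRingCat.of A))]
  {𝓚 : Z.IdealSheafData} (h𝓚 : 𝓚 = baseIdeal Z J) {hZ : (FSch.completionAlong Z 𝓚).IsFormal}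
  (F : Z.Modules) [F.IsQuasicoherent]

theorem res_bijective {Y : Scheme.{u}} (M : Y.Modules) {U V : Y.Opens} (e : V ≤ U) (e' : U ≤ V) :
    Function.Bijective (res M e) := by
  obtain rfl := le_antisymm e e'
  exact ⟨fun a b h => by rwa [res_self, res_self] at h, fun a => ⟨a, res_self _ a⟩⟩

include h𝓚 in
theorem exists_cmp (k : ℕ) :
    ∃ ψ : Formal.modPow J (k + 1) F ⟶
      (Scheme.Modules.pushforward (FSch.completionToX Z 𝓚 k)).obj ((FSch.complMod 𝓚 F).F k), IsIso ψ ∧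
      ∀ (W : Z.Opens) (m : Γ(F, W)), ψ.app W ((Formal.modPowπ J (k + 1) F).app W m) =
        pullSec (FSch.completionToX Z 𝓚 k) F m := by
  have hu := isQuot_unit (FSch.completionToX Z 𝓚 k) (AlgzBridge.ker_toX J 𝓚 h𝓚 k) F
  obtain ⟨ψ, hψ⟩ := (isQuot_modPowπ J (k + 1) F).desc _ hu.le_ann
  obtain ⟨ψ', hψ'⟩ := hu.desc _ (isQuot_modPowπ J (k + 1) F).le_ann
  refine ⟨ψ, ⟨ψ', (isQuot_modPowπ J (k + 1) F).hom_ext ?_, hu.hom_ext ?_⟩, fun W m => congr(($hψ).app W m)⟩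
  · exact (Category.assoc _ _ _).symm.trans ((congrArg (· ≫ ψ') hψ).trans (hψ'.trans (Category.comp_id _).symm))
  · exact (Category.assoc _ _ _).symm.trans ((congrArg (· ≫ ψ) hψ').trans (hψ.trans (Category.comp_id _).symm))

include h𝓚 in
theorem modPowπ_eq_of_cev_eq {k j : ℕ} (hj : j ≤ k + 1) (W : Z.Opens) (m m' : Γ(F, W))
    (h : cev hZ F k W m = cev hZ F k W m') :
    (Formal.modPowπ J j F).app W m = (Formal.modPowπ J j F).app W m' := by
  obtain ⟨ψ, hψi, hψ⟩ := exists_cmp h𝓚 F k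
  have h1 := (res_bijective ((FSch.complMod 𝓚 F).F k) (le_preimage hZ k W) (preimage_le hZ k W)).1 h
  have h2 : (Formal.modPowπ J (k + 1) F).app W m = (Formal.modPowπ J (k + 1) F).app W m' := by
    refine QCohMod.app_injective_of_mono ψ W ?_
    rw [hψ, hψ]
    exact h1
  rw [← modPowπ_qTr F (Ideal.pow_le_pow_right hj : J ^ (k + 1) ≤ J ^ j)]
  exact congrArg ((qTr F (Ideal.pow_le_pow_right hj : J ^ (k + 1) ≤ J ^ j)).app W) h2

include h𝓚 in
theorem cev_eq_of_modPowπ_eq {k : ℕ} (W : Z.Opens) (m m' : Γ(F, W))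
    (h : (Formal.modPowπ J (k + 1) F).app W m = (Formal.modPowπ J (k + 1) F).app W m') :
    cev hZ F k W m = cev hZ F k W m' := by
  obtain ⟨ψ, -, hψ⟩ := exists_cmp h𝓚 F k
  exact congrArg (res _ (le_preimage hZ k W)) ((hψ W m).symm.trans ((congrArg _ h).trans (hψ W m')))

theorem lev_eq_of_le {𝔛 : FSch.Sys.{u}} {h : 𝔛.IsFormal} (𝔐 : FSch.ModSys 𝔛) {U : (𝔛.X 0).Opens} {i k : ℕ}
    (hik : i ≤ k) {y y' : Sec (𝔐.realMod h) U} (e : lev h 𝔐 k U y = lev h 𝔐 k U y') :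
    lev h 𝔐 i U y = lev h 𝔐 i U y' := by
  induction k, hik using Nat.le_induction with
  | base => exact e
  | succ k _ ih => exact ih (by rw [← trans_lev k y, e, trans_lev])

variable {X : Scheme.{u}} [X.Over (Spec (CommRingCat.of A))] [IsLocallyNoetherian X] [IsLocallyNoetherian Z]
  {g : Z ⟶ X} [IsProper g] (hg : g ≫ (X ↘ Spec (CommRingCat.of A)) = Z ↘ Spec (CommRingCat.of A))
  {𝓘 : X.IdealSheafData} (h𝓘 : 𝓘 = baseIdeal X J) (hpc : FSch.PowCompat g 𝓚 𝓘) {hX : (FSch.completionAlong X 𝓘).IsFormal}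

include h𝓚 hg h𝓘 in
/-- The bounds over affine opens of a proper map over the base. -/
theorem bounds (hF : Coh.IsCoh F) (W : X.Opens) (hW : IsAffineOpen W) :
    Bounds hpc (hZ := hZ) F W (𝓘.ideal ⟨W, hW⟩) := by
  obtain ⟨-, c, hc₁, hc₂⟩ := exists_push_bounds (J := J) g hg hF hW
  refine ⟨c, fun n m hm => ?_, fun n y => ?_⟩
  · have h1 : cev hZ F (n + c) (g ⁻¹ᵁ W) m = cev hZ F (n + c) (g ⁻¹ᵁ W) (0 : Γ(F, g ⁻¹ᵁ W)) := by
      refine (res_bijective _ (lvU_mono hZ (n + c) (pre_op0 hpc W).le) (lvU_mono hZ (n + c) (pre_op0 hpc W).ge)).1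
        (hm.trans ?_)
      rw [show cev hZ F (n + c) (g ⁻¹ᵁ W) (0 : Γ(F, g ⁻¹ᵁ W)) = 0 by
        rw [← sub_self (0 : Γ(F, g ⁻¹ᵁ W)), cev_sub, sub_self], map_zero]
    have h2 := modPowπ_eq_of_cev_eq h𝓚 F (j := n + 1 + c) (by omega) (g ⁻¹ᵁ W) m 0 h1
    have h3 := hc₁ (n + 1) m (h2.trans (map_zero _))
    rwa [show 𝓘.ideal ⟨W, hW⟩ = J.map (baseApp X W) by rw [h𝓘, baseIdeal_ideal]]
  · set k := n + c
    let y' := rs ((FSch.complMod 𝓚 F).realMod hZ) (pre_op0 hpc W).ge y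
    obtain ⟨ψ, hψi, hψ⟩ := exists_cmp h𝓚 F k
    obtain ⟨z, hz⟩ := (res_bijective ((FSch.complMod 𝓚 F).F k) (le_preimage hZ k (g ⁻¹ᵁ W))
      (preimage_le hZ k (g ⁻¹ᵁ W))).2 (lev hZ (FSch.complMod 𝓚 F) k _ y')
    let z'' := (inv ψ).app (g ⁻¹ᵁ W) z
    obtain ⟨s, hs⟩ := hc₂ (n + 1) ((qTr F (Ideal.pow_le_pow_right (by omega) : J ^ (k + 1) ≤ J ^ (n + 1 + c))).app _ z'')
    refine ⟨s, ?_⟩
    have key : lev hZ (FSch.complMod 𝓚 F) n _ y' = cev hZ F n (g ⁻¹ᵁ W) s := by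
      refine CohTwo.eq_of_local ((FSch.complMod 𝓚 F).F n) _ _ fun q hq => ?_
      obtain ⟨_, ⟨V, hV, rfl⟩, hqV, hVW⟩ := Z.isBasis_affineOpens.exists_subset_of_mem_open
        (le_preimage hZ n (g ⁻¹ᵁ W) hq) (g ⁻¹ᵁ W).2
      have hVW : V ≤ g ⁻¹ᵁ W := hVW
      have e0 := (FSch.completionToX Z 𝓚 0).preimage_mono hVW
      refine ⟨(FSch.completionAlong Z 𝓚).lvU hZ n (op0 𝓚 V), lvU_mono hZ n e0, preimage_le hZ n V hqV, ?_⟩
      obtain ⟨t, ht⟩ := (cev_spec (h := hZ) hV F k).1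
        (lev hZ (FSch.complMod 𝓚 F) k _ (rs ((FSch.complMod 𝓚 F).realMod hZ) e0 y'))
      have hn : lev hZ (FSch.complMod 𝓚 F) n _ (rs ((FSch.complMod 𝓚 F).realMod hZ) e0 y') = cev hZ F n V t := by
        rw [← lev_gammaVal F V t n]
        refine lev_eq_of_le _ (Nat.le_add_right n c) ?_
        rw [lev_gammaVal]
        exact ht.symm
      refine Eq.trans (lev_rs (FSch.complMod 𝓚 F) n e0 y').symm (hn.trans (Eq.trans ?_ (cev_res F n hVW s)))
      have hzV : res (Formal.modPow J (k + 1) F) hVW z'' = (Formal.modPowπ J (k + 1) F).app V t := by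
        refine QCohMod.app_injective_of_mono ψ V ?_
        rw [hψ]
        refine (res_app ψ hVW z'').symm.trans ?_
        have hz' : ψ.app (g ⁻¹ᵁ W) z'' = z := congr(($(IsIso.inv_hom_id ψ)).app (g ⁻¹ᵁ W) z)
        rw [hz']
        refine (res_bijective ((FSch.complMod 𝓚 F).F k) (le_preimage hZ k V) (preimage_le hZ k V)).1 ?_
        refine Eq.trans ?_ ht.symm
        rw [lev_rs, ← hz]
        exact (res_res _ _ _ _).trans (res_res _ _ _ _).symm
      refine cev_eq_of_modPowπ_eq h𝓚 F V t _ ?_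
      refine Eq.trans ?_ (CohTwo.app_res (Formal.modPowπ J (n + 1) F) hVW s).symm
      refine Eq.trans ?_ (congrArg (res (Formal.modPow J (n + 1) F) hVW) hs).symm
      refine Eq.trans ?_ (CohTwo.app_res _ hVW _)
      refine Eq.trans ?_ (congrArg ((qTr F (Ideal.pow_le_pow_right (Nat.le_add_right (n + 1) c) :
        J ^ (n + 1 + c) ≤ J ^ (n + 1))).app V) (CohTwo.app_res _ hVW z''))
      refine Eq.trans ?_ (congrArg (fun a => (qTr F (Ideal.pow_le_pow_right (Nat.le_add_right (n + 1) c) :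
        J ^ (n + 1 + c) ≤ J ^ (n + 1))).app V ((qTr F (Ideal.pow_le_pow_right (by omega) :
        J ^ (k + 1) ≤ J ^ (n + 1 + c))).app V a)) hzV).symm
      rw [← congr(($(modPowπ_qTr F (Ideal.pow_le_pow_right (Nat.le_add_right (n + 1) c) :
        J ^ (n + 1 + c) ≤ J ^ (n + 1)))).app V t)]
      exact congrArg _ (congr(($(modPowπ_qTr F (Ideal.pow_le_pow_right (by omega) :
        J ^ (k + 1) ≤ J ^ (n + 1 + c)))).app V t)).symm
    refine Eq.trans ?_ (congrArg (res _ (lvU_mono hZ n (pre_op0 hpc W).le)) key)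
    rw [← lev_rs _ n (pre_op0 hpc W).le, rs_rs, lev_rs]
    exact (res_self _ _).symm

end Groth.AdicLinTop.PushBounds
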