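import Groth.Agent.AdicLinTop.LevelsH
import Groth.Agent.AdicLinTop.PushBounds
import Groth.Agent.CohC3.FFConsequences
import Groth.Agent.CohC3.ProperHelpers

/-!
# Cohomology of the completion of a coherent module on a proper scheme
-/

set_option autoImplicit false

universe u

open CategoryTheory CategoryTheory.Limits AlgebraicGeometry TopologicalSpace Opposite
open CategoryTheory.Abelian (Ext)

namespace Groth.AdicLinTop.AlgFormalH

open Groth.CohBase Groth.AdicLinTop.FormalLevels Groth.AdicLinTop.FormalReal Groth.AdicLinTop.FormalAffine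
open Groth.AdicLinTop.ComplReal Groth.AdicLinTop.ComplPull Groth.AdicLinTop.PushBounds Groth.AdicLinTop.AlgzUnit
open Groth.QCohMod (res res_res res_self res_app)
open Groth.PicAux (pullSec)

theorem ab_hom_ext_basis {T : TopCat.{u}} (B : Set (Opens T)) (hB : Opens.IsBasis B) {F G : AbSheaf T} (a b : F ⟶ G)
    (h : ∀ U ∈ B, ∀ x, a.hom.app (op U) x = b.hom.app (op U) x) : a = b := by
  refine CategoryTheory.Sheaf.hom_ext (NatTrans.ext (funext fun U => ?_))
  ext x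
  refine TopCat.Sheaf.eq_of_locally_eq' G (fun V : {V // V ∈ B ∧ V ≤ U.unop} => V.1) U.unop
    (fun V => homOfLE V.2.2) (fun y hy => ?_) _ _ fun V => ?_
  · obtain ⟨V, hV, hyV, hVU⟩ := Opens.isBasis_iff_nbhd.1 hB hy
    exact Opens.mem_iSup.2 ⟨⟨V, hV, hVU⟩, hyV⟩
  · refine (NatTrans.naturality_apply a.hom (homOfLE V.2.2).op x).symm.trans ?_
    exact (h V.1 V.2.1 _).trans (NatTrans.naturality_apply b.hom (homOfLE V.2.2).op x)

theorem ab_hom_apply {T : TopCat.{u}} {F G H : AbSheaf T} (a : F ⟶ G) (b : G ⟶ H) (U : Opens T) (x : F.obj.obj (op U)) :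
    (a ≫ b).hom.app (op U) x = b.hom.app (op U) (a.hom.app (op U) x) := rfl

theorem pushSheaf_map_apply {T T' : TopCat.{u}} (i : T' ⟶ T) {P Q : AbSheaf T'} (φ : P ⟶ Q) (U : Opens T)
    (y : P.obj.obj (op ((Opens.map i).obj U))) :
    ((pushSheaf i).map φ).hom.app (op U) y = φ.hom.app (op ((Opens.map i).obj U)) y := rfl

/-- Squares of sheaves on a scheme against a closed subspace are checked on the images of sections. -/
theorem push_comm_of_surjective {X : Scheme.{u}} {T' : TopCat.{u}} (i : T' ⟶ X.toTopCat) {F M N : X.Modules}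
    {π : F ⟶ M} {π' : F ⟶ N} (τ : M ⟶ N) (hτ : π ≫ τ = π') {P Q : AbSheaf T'}
    (a : abSheaf M ⟶ (pushSheaf i).obj P) (φ : P ⟶ Q) (c : abSheaf N ⟶ (pushSheaf i).obj Q)
    (hπ : ∀ W, IsAffineOpen W → Function.Surjective (π.app W))
    (va : ∀ W : X.Opens, Γ(F, W) → P.obj.obj (op ((Opens.map i).obj W)))
    (ha : ∀ W m, a.hom.app (op W) (π.app W m) = va W m)
    (vc : ∀ W : X.Opens, Γ(F, W) → Q.obj.obj (op ((Opens.map i).obj W)))
    (hc : ∀ W m, c.hom.app (op W) (π'.app W m) = vc W m)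
    (hv : ∀ W m, φ.hom.app (op ((Opens.map i).obj W)) (va W m) = vc W m) :
    a ≫ (pushSheaf i).map φ = (toAbF X).map τ ≫ c := by
  refine ab_hom_ext_basis (T := X.toTopCat) X.affineOpens X.isBasis_affineOpens _ _ fun W hW x => ?_
  obtain ⟨m, rfl⟩ := hπ W hW x
  exact ((congrArg (φ.hom.app (op ((Opens.map i).obj W))) (ha W m)).trans (hv W m)).trans
    ((hc W m).symm.trans (congrArg (c.hom.app (op W)) (congr(($hτ).app W m)).symm))

/-- Sections over equal opens. -/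
def castOp {T : TopCat.{u}} {P : AbSheaf T} {U U' : Opens T} (e : U = U') (x : P.obj.obj (op U)) :
    P.obj.obj (op U') := e ▸ x

/-- Squares between sheaves on a scheme and levels of a formal scheme. -/
theorem level_comm {X : Scheme.{u}} {𝔛 : FSch.Sys.{u}} {h : 𝔛.IsFormal} {𝔐 : FSch.ModSys 𝔛} (q : 𝔛.X 0 ⟶ X)
    (o : X.Opens → (𝔛.X 0).Opens) (ho : ∀ W, o W = q ⁻¹ᵁ W)
    {F M N : X.Modules} {π : F ⟶ M} {π' : F ⟶ N} (τ : M ⟶ N) (hτ : π ≫ τ = π') (k : ℕ)
    (a : abSheaf M ⟶ (pushSheaf q.base).obj (LevelsH.lvSh h 𝔐 (k + 1)))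
    (c : abSheaf N ⟶ (pushSheaf q.base).obj (LevelsH.lvSh h 𝔐 k))
    (hπ : ∀ W, IsAffineOpen W → Function.Surjective (π.app W))
    (v : ∀ j (W : X.Opens), Γ(F, W) → Γ(𝔐.F j, 𝔛.lvU h j (o W)))
    (hv : ∀ W m, pushEquiv k (𝔐.F k) (o W) (app (trans h 𝔐 k) (o W)
      ((pushEquiv (k + 1) (𝔐.F (k + 1)) (o W)).symm (v (k + 1) W m))) = v k W m)
    (ha : ∀ W m, (a.hom.app (op W) (π.app W m) : (LevelsH.lvSh h 𝔐 (k + 1)).obj.obj (op (q ⁻¹ᵁ W))) =
      castOp (ho W) (LevelsH.toLv h 𝔐 (k + 1) (o W) (v (k + 1) W m)))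
    (hc : ∀ W m, (c.hom.app (op W) (π'.app W m) : (LevelsH.lvSh h 𝔐 k).obj.obj (op (q ⁻¹ᵁ W))) =
      castOp (ho W) (LevelsH.toLv h 𝔐 k (o W) (v k W m))) :
    a ≫ (pushSheaf q.base).map (LevelsH.lvT h 𝔐 k) = (toAbF X).map τ ≫ c := by
  obtain rfl : o = fun W => q ⁻¹ᵁ W := funext ho
  exact push_comm_of_surjective q.base τ hτ a (LevelsH.lvT h 𝔐 k) c hπ
    (fun W m => LevelsH.toLv h 𝔐 (k + 1) (q ⁻¹ᵁ W) (v (k + 1) W m)) ha
    (fun W m => LevelsH.toLv h 𝔐 k (q ⁻¹ᵁ W) (v k W m)) hc fun W m =>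
      (LevelsH.lvT_toLv h 𝔐 k (q ⁻¹ᵁ W) (v (k + 1) W m)).trans (congrArg _ (hv W m))

theorem postcomp_iso_bijective {C : Type*} [Category C] [Abelian C] [HasExt.{u} C] {G Y Y' : C}
    (e : Y ≅ Y') (n : ℕ) : Function.Bijective ((Ext.mk₀ e.hom).postcomp G (add_zero n)) :=
  Function.bijective_iff_has_inverse.2
    ⟨fun y => y.comp (Ext.mk₀ e.inv) (add_zero n),
      fun z => show (z.comp (Ext.mk₀ e.hom) (add_zero n)).comp (Ext.mk₀ e.inv) (add_zero n) = z by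
        rw [Ext.comp_assoc_of_third_deg_zero, Ext.mk₀_comp_mk₀, Iso.hom_inv_id, Ext.comp_mk₀_id],
      fun y => show (y.comp (Ext.mk₀ e.inv) (add_zero n)).comp (Ext.mk₀ e.hom) (add_zero n) = y by
        rw [Ext.comp_assoc_of_third_deg_zero, Ext.mk₀_comp_mk₀, Iso.inv_hom_id, Ext.comp_mk₀_id]⟩

theorem pushMap_comp_iso_bijective {T T' : TopCat.{u}} (i : T' ⟶ T) (hi : Topology.IsClosedEmbedding i.hom)
    {P : AbSheaf T'} {M : AbSheaf T} (e : M ≅ (pushSheaf i).obj P) (n : ℕ) :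
    Function.Bijective ((FiniteBC.pushMap i P n).comp ((Ext.mk₀ e.hom).postcomp (constZ T) (add_zero n))) :=
  (ClosedCoh.pushMap_bijective i hi P n).comp (postcomp_iso_bijective e n)

section Compare

variable {A : Type u} [CommRing A] {J : Ideal A} {Z : Scheme.{u}} [Z.Over (Spec (CommRingCat.of A))]
  [IsLocallyNoetherian Z] {𝓚 : Z.IdealSheafData} (h𝓚 : 𝓚 = baseIdeal Z J)
  (hZ : (FSch.completionAlong Z 𝓚).IsFormal) (F : Z.Modules) [F.IsQuasicoherent]

/-- The closed embedding of the space of the completion. -/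
noncomputable abbrev i0 : ((FSch.completionAlong Z 𝓚).X 0).toTopCat ⟶ Z.toTopCat :=
  (FSch.completionToX Z 𝓚 0).base

omit [IsLocallyNoetherian Z] in
theorem isClosedEmbedding_i0 : Topology.IsClosedEmbedding (i0 (𝓚 := 𝓚)).hom :=
  (FSch.completionToX Z 𝓚 0).isClosedEmbedding

/-- Sections at a level over preimages of opens. -/
noncomputable def lvOpensIso (k : ℕ) :
    (pushSheaf (i0 (𝓚 := 𝓚))).obj (LevelsH.lvSh hZ (FSch.complMod 𝓚 F) k) ≅
      abSheaf ((Scheme.Modules.pushforward (FSch.completionToX Z 𝓚 k)).obj ((FSch.complMod 𝓚 F).F k)) :=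
  (fullyFaithfulSheafToPresheaf _ _).preimageIso (NatIso.ofComponents
    (fun W => ((FSch.complMod 𝓚 F).F k).presheaf.mapIso
      (eqToIso (le_antisymm (le_preimage hZ k W.unop) (preimage_le hZ k W.unop)).symm).op)
    fun {W W'} f => by
      refine (((FSch.complMod 𝓚 F).F k).presheaf.map_comp _ _).symm.trans (Eq.trans ?_
        (((FSch.complMod 𝓚 F).F k).presheaf.map_comp _ _))
      exact congrArg ((FSch.complMod 𝓚 F).F k).presheaf.map (Quiver.Hom.unop_inj (Subsingleton.elim _ _)))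

omit [IsLocallyNoetherian Z] [Z.Over (Spec (CommRingCat.of A))] [F.IsQuasicoherent] in
theorem lvOpensIso_inv_apply (k : ℕ) (W : Z.Opens)
    (x : Γ((FSch.complMod 𝓚 F).F k, FSch.completionToX Z 𝓚 k ⁻¹ᵁ W)) :
    (lvOpensIso hZ F k).inv.hom.app (op W) x = res ((FSch.complMod 𝓚 F).F k) (le_preimage hZ k W) x := rfl

/-- The levels of the completion on the scheme. -/
noncomputable def levelToX (k : ℕ) :
    (pushSheaf (i0 (𝓚 := 𝓚))).obj (LevelsH.lvSh hZ (FSch.complMod 𝓚 F) k) ≅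
      abSheaf (Formal.modPow J (k + 1) F) :=
  lvOpensIso hZ F k ≪≫ (toAbF Z).mapIso
    (@asIso _ _ _ _ (exists_cmp h𝓚 F k).choose (exists_cmp h𝓚 F k).choose_spec.1).symm

omit [IsLocallyNoetherian Z] in
theorem levelToX_inv_apply (k : ℕ) (W : Z.Opens) (m : Γ(F, W)) :
    (levelToX h𝓚 hZ F k).inv.hom.app (op W) ((Formal.modPowπ J (k + 1) F).app W m) =
      LevelsH.toLv hZ (FSch.complMod 𝓚 F) k (op0 𝓚 W) (cev hZ F k W m) := by
  have hψ := (exists_cmp h𝓚 F k).choose_spec.2 W m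
  change (lvOpensIso hZ F k).inv.hom.app (op W)
    ((exists_cmp h𝓚 F k).choose.app W ((Formal.modPowπ J (k + 1) F).app W m)) = _
  rw [hψ]
  exact lvOpensIso_inv_apply hZ F k W _

theorem levelToX_comm (k : ℕ) :
    (levelToX h𝓚 hZ F (k + 1)).inv ≫ (pushSheaf i0).map (LevelsH.lvT hZ (FSch.complMod 𝓚 F) k) =
      (toAbF Z).map (Formal.modPowTrans J (k + 1) F) ≫ (levelToX h𝓚 hZ F k).inv :=
  level_comm (𝔛 := FSch.completionAlong Z 𝓚) (h := hZ) (𝔐 := FSch.complMod 𝓚 F) (FSch.completionToX Z 𝓚 0)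
    (op0 𝓚) (fun _ => rfl) (Formal.modPowTrans J (k + 1) F) (Formal.modPowπ_trans J (k + 1) F) k
    (levelToX h𝓚 hZ F (k + 1)).inv (levelToX h𝓚 hZ F k).inv
    (fun W hW => (CohC3.isQuot_modPowπ J (k + 1 + 1) F).app_surjective hW)
    (cev hZ F) (fun W m => trans_cev F k W m)
    (levelToX_inv_apply h𝓚 hZ F (k + 1)) (levelToX_inv_apply h𝓚 hZ F k)

/-- Cohomology of the levels is cohomology on the scheme. -/
noncomputable def hMap (n k : ℕ) : Formal.HHmodPow J F n k →+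
    Ext (constZ ((FSch.completionAlong Z 𝓚).X 0).toTopCat) (LevelsH.lvSh hZ (FSch.complMod 𝓚 F) k) n :=
  (FiniteBC.pushMap i0 (LevelsH.lvSh hZ (FSch.complMod 𝓚 F) k) n).comp
    ((Ext.mk₀ (levelToX h𝓚 hZ F k).inv).postcomp (constZ Z.toTopCat) (add_zero n))

omit [IsLocallyNoetherian Z] in
theorem hMap_bijective (n k : ℕ) : Function.Bijective (hMap h𝓚 hZ F n k) :=
  pushMap_comp_iso_bijective i0 isClosedEmbedding_i0 (levelToX h𝓚 hZ F k).symm n

theorem hMap_trans (n k : ℕ) (x : Formal.HHmodPow J F n (k + 1)) :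
    hMap h𝓚 hZ F n k (Formal.HHmodPowTrans J F n k x) =
      (hMap h𝓚 hZ F n (k + 1) x).comp (Ext.mk₀ (LevelsH.lvT hZ (FSch.complMod 𝓚 F) k)) (add_zero n) := by
  change FiniteBC.pushMap i0 _ n ((x.comp (Ext.mk₀ ((toAbF Z).map (Formal.modPowTrans J (k + 1) F))) (add_zero n)).comp
      (Ext.mk₀ (levelToX h𝓚 hZ F k).inv) (add_zero n)) =
    (FiniteBC.pushMap i0 _ n (x.comp (Ext.mk₀ (levelToX h𝓚 hZ F (k + 1)).inv) (add_zero n))).comp _ _
  rw [← FiniteBC.pushMap_natural, Ext.comp_assoc_of_third_deg_zero, Ext.mk₀_comp_mk₀,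
    Ext.comp_assoc_of_third_deg_zero, Ext.mk₀_comp_mk₀, levelToX_comm]

end Compare

section Generic

theorem towerML_of_bijective {G : ℕ → Type u} [∀ k, AddCommGroup (G k)] {t : ∀ k, G (k + 1) →+ G k}
    {H : ℕ → Type u} [∀ k, AddCommGroup (H k)] {s : ∀ k, H (k + 1) →+ H k} (f : ∀ k, G k →+ H k)
    (hf : ∀ k, Function.Bijective (f k)) (hft : ∀ k x, f k (t k x) = s k (f (k + 1) x)) (hG : Milnor.TowerML G t) :
    Milnor.TowerML H s := by
  intro i
  obtain ⟨j, hij, hj⟩ := hG i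
  refine ⟨j, hij, fun k hik z => ?_⟩
  obtain ⟨z, rfl⟩ := (hf j).2 z
  obtain ⟨y, hy⟩ := hj k hik z
  refine ⟨f k y, ?_⟩
  rw [← Milnor.c_naturality f hft i k hik y, hy, Milnor.c_naturality f hft i j hij z]

variable {𝔛 : FSch.Sys.{u}} (h𝔛 : 𝔛.IsLocNoethFormal) (h : 𝔛.IsFormal) {𝔐 : FSch.ModSys 𝔛} (h𝔐 : 𝔐.IsCoh)
  (G₀ : AbSheaf (𝔛.X 0).toTopCat) (T : ℕ → ℕ → Type u) [∀ m k, AddCommGroup (T m k)]
  (t : ∀ m k, T m (k + 1) →+ T m k) (f : ∀ m k, T m k →+ Ext G₀ (LevelsH.lvSh h 𝔐 k) m)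

include h𝔛 h𝔐 in
/-- `Ext` into a realisation is the limit of towers isomorphic to those of the levels. -/
theorem nonempty_equiv_lim (hf : ∀ m k, Function.Bijective (f m k))
    (hft : ∀ m k x, f m k (t m k x) = (f m (k + 1) x).comp (Ext.mk₀ (LevelsH.lvT h 𝔐 k)) (add_zero m))
    (hML : ∀ m, Milnor.TowerML (T m) (t m)) (n : ℕ) (S : AddSubgroup (∀ k, T n k))
    (hS : ∀ y, y ∈ S ↔ ∀ k, t n k (y (k + 1)) = y k) :
    Nonempty (Ext G₀ (ModSite.toAb (𝔐.realMod h)) n ≃+ S) := by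
  let e : ∀ k, T n k ≃+ Ext G₀ (LevelsH.lvSh h 𝔐 k) n := fun k => AddEquiv.ofBijective _ (hf n k)
  let P : ∀ k, Ext G₀ (ModSite.toAb (𝔐.realMod h)) n →+ T n k := fun k =>
    (e k).symm.toAddMonoidHom.comp ((Ext.mk₀ (LevelsH.lvP h 𝔐 k)).postcomp _ (add_zero n))
  have he : ∀ k x, f n k (P k x) = x.comp (Ext.mk₀ (LevelsH.lvP h 𝔐 k)) (add_zero n) := fun k x =>
    (e k).apply_symm_apply _
  have hP : ∀ x, (fun k => P k x) ∈ S := fun x => (hS _).2 fun k => (hf n k).1 (by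
    rw [hft, he, he, Ext.comp_assoc_of_third_deg_zero, Ext.mk₀_comp_mk₀, LevelsH.lvP_lvT])
  let Φ : Ext G₀ (ModSite.toAb (𝔐.realMod h)) n →+ S :=
    { toFun := fun x => ⟨fun k => P k x, hP x⟩
      map_zero' := Subtype.ext (funext fun k => map_zero (P k))
      map_add' := fun x y => Subtype.ext (funext fun k => map_add (P k) x y) }
  refine ⟨AddEquiv.ofBijective Φ ⟨(injective_iff_map_eq_zero _).2 fun x hx => ?_, fun y => ?_⟩⟩
  · refine LevelsH.eq_zero_of_forall (h𝔛 := h𝔛) h𝔐 (fun m _ => ?_) x fun k => ?_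
    · exact towerML_of_bijective (fun k => f m k) (hf m) (hft m) (hML m)
    · rw [← he]
      exact (congrArg (f n k) (congrFun (congrArg Subtype.val hx) k)).trans (map_zero _)
  · obtain ⟨x, hx⟩ := LevelsH.exists_of_compatible (h𝔛 := h𝔛) h𝔐 (fun k => f n k (y.1 k)) fun k =>
      (hft n k _).symm.trans (congrArg (f n k) ((hS _).1 y.2 k))
    exact ⟨x, Subtype.ext (funext fun k => (hf n k).1 ((he k x).trans (hx k)))⟩

end Generic

section Proper

variable {A : Type u} [CommRing A] [IsNoetherianRing A] (I : Ideal A) {Z : Scheme.{u}}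
  [Z.Over (Spec (CommRingCat.of A))] [IsProper (Z ↘ Spec (CommRingCat.of A))] {F : Z.Modules} (hF : Coh.IsCoh F)

include hF in
theorem towerML_HHmodPow (n : ℕ) :
    Milnor.TowerML (fun k => Formal.HHmodPow I F n k) (fun k => Formal.HHmodPowTrans I F n k) := by
  have := CohC3.isNoetherian_of_proper A Z
  have h := CohC3.proBij I hF (fun q => CohC3.finite_HH_of_proper A Z hF q) n
  have hc : ∀ i j (hij : i ≤ j) (z : Formal.HHmodPow I F n j),
      CohC3.Tower.c (fun k => Formal.HHmodPow I F n k) (fun k => Formal.HHmodPowTrans I F n k) i j hij z =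
        CohC3.hmap A (CohC3.qTr F (Ideal.pow_le_pow_right (Nat.succ_le_succ hij) : I ^ (j + 1) ≤ I ^ (i + 1))) n z := by
    intro i j hij
    induction j, hij using Nat.le_induction with
    | base =>
      intro z
      rw [CohC3.Tower.c_self, show CohC3.qTr F (le_refl (I ^ (i + 1))) = 𝟙 _ from
        (CohC3.isQuot_modPowπ I (i + 1) F).hom_ext ((CohC3.modPowπ_qTr F _).trans (Category.comp_id _).symm),
        CohC3.hmap_id]
    | succ k hk ih =>
      intro z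
      rw [← CohC3.Tower.c_comp _ _ i k (k + 1) hk (Nat.le_succ k), CohC3.Tower.c_succ, ih, CohC3.HHmodPowTrans_eq,
        CohC3.hmap_comp, CohC3.qTr_comp]
  intro i
  obtain ⟨m, hm, hcok⟩ := h.coker (i + 1)
  refine ⟨m, (Nat.le_succ i).trans hm, fun k hk z => ?_⟩
  obtain ⟨x, hx⟩ := hcok (CohC3.hmap A (CohC3.qTr F (Ideal.pow_le_pow_right (Nat.le_succ m) : I ^ (m + 1) ≤ I ^ m)) n z)
  refine ⟨CohC3.hmap A (Formal.modPowπ I (k + 1) F) n x, ?_⟩
  rw [hc, hc, CohC3.hmap_comp, CohC3.modPowπ_qTr, hx, CohC3.hmap_comp, CohC3.qTr_comp]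

include hF in
/-- Cohomology of the completion is the limit of the cohomology modulo powers. -/
theorem nonempty_equiv_realMod {𝓚 : Z.IdealSheafData} (h𝓚 : 𝓚 = baseIdeal Z I)
    (hZ : (FSch.completionAlong Z 𝓚).IsFormal) [IsLocallyNoetherian Z] (n : ℕ) :
    Nonempty (Ext (constZ ((FSch.completionAlong Z 𝓚).X 0).toTopCat)
      (ModSite.toAb ((FSch.complMod 𝓚 F).realMod hZ)) n ≃+ Formal.HHlim I F n) := by
  have := hF.1
  have hN := CompletionFlat.isLocNoethFormal Z 𝓚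
  have hM := ComplPull.isCoh_complMod (𝓘 := 𝓚) hF
  exact nonempty_equiv_lim hN hZ hM (constZ ((FSch.completionAlong Z 𝓚).X 0).toTopCat)
    (fun m k => Formal.HHmodPow I F m k) (fun m k => Formal.HHmodPowTrans I F m k) (hMap h𝓚 hZ F)
    (hMap_bijective h𝓚 hZ F) (fun m k x => hMap_trans h𝓚 hZ F m k x) (towerML_HHmodPow I hF) n
    (Formal.HHlim I F n) fun y => Iff.rfl

end Proper

end Groth.AdicLinTop.AlgFormalH
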