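import Groth.Agent.AdicLinTop.SpacePres
import Mathlib.CategoryTheory.ObjectProperty.FiniteProducts
import Mathlib.CategoryTheory.Abelian.Subobject
import Mathlib.Algebra.Category.ModuleCat.Sheaf.Quasicoherent

/-!
# Finitely presented modules on a ringed space form an additive, essentially small class
-/

set_option autoImplicit false

universe u

open CategoryTheory CategoryTheory.Limits Opposite TopologicalSpace

set_option backward.defeqAttrib.useBackward true
set_option backward.isDefEq.respectTransparency false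
set_option backward.isDefEq.respectTransparency.types false
set_option synthInstance.maxHeartbeats 400000

namespace Groth.AdicLinTop.FPSmall

open Groth.SitesTopoi.ModH Groth.Misc4.FreeOn Groth.AdicLinTop.SpacePres

variable {T : Type u} [TopologicalSpace T]
  {O : Sheaf (Opens.grothendieckTopology T) CommRingCat.{u}}

/-- Finite presentation as a property of objects. -/
abbrev fpProp (O : Sheaf (Opens.grothendieckTopology T) CommRingCat.{u}) :
    ObjectProperty (ModSite.Mod O) :=
  fun M => SheafOfModules.IsFinitePresentation.{u} (R := ModSite.ringSh O) M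

variable {A B M : ModSite.Mod O}

/-- Presentations transport along isomorphisms. -/
noncomputable def mapIso (e : A ≅ B) {U : Opens T} {n m : ℕ} (P : PresData A U n m) : PresData B U n m where
  s i := apm e.hom.val U (P.s i)
  gen W hW t x hx := by
    obtain ⟨V, hV, hxV, a, ha⟩ := P.gen W hW (apm e.inv.val W t) x hx
    refine ⟨V, hV, hxV, a, ?_⟩
    have h := congrArg (apm e.hom.val V) ha
    simp only [rm, ← apm_rsm, map_sum, map_smul] at h ⊢
    rw [← h]
    exact (congrArg (fun φ : B ⟶ B => apm φ.val V (rsm B.val (homOfLE hV) t)) e.inv_hom_id).symm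
  r := P.r
  zero j := by
    have h := congrArg (apm e.hom.val U) (P.zero j)
    simp only [map_sum, map_smul, map_zero] at h
    exact h
  rel W hW a ha x hx := by
    refine P.rel W hW a ?_ x hx
    have hi : Function.Injective (apm e.hom.val W) := injective_of_mono e.hom W
    apply hi
    simp only [rm, ← apm_rsm, map_sum, map_smul, map_zero] at ha ⊢
    exact ha

lemma fp_of_presData (h : ∀ x : T, ∃ (U : Opens T) (n m : ℕ), x ∈ U ∧ Nonempty (PresData M U n m)) :
    fpProp O M :=
  isFinitePresentation_of_presData h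

instance : (fpProp O).IsClosedUnderIsomorphisms where
  of_iso e h := fp_of_presData fun x => by
    obtain ⟨U, n, m, hx, ⟨P⟩⟩ := exists_presData h x
    exact ⟨U, n, m, hx, ⟨mapIso e P⟩⟩

lemma fp_of_isZero (hM : IsZero M) : fpProp O M := fp_of_presData fun x => by
  have h0 : ∀ (W : Opens T) (t : sc M.val W), t = 0 := fun W t => by
    have h := congrArg (fun φ : M ⟶ M => apm φ.val W t) ((IsZero.iff_id_eq_zero M).1 hM)
    exact h
  exact ⟨⊤, 0, 0, trivial, ⟨{
    s := fun i => i.elim0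
    gen := fun W hW t y hy => ⟨W, le_rfl, hy, fun i => i.elim0, by
      rw [Finset.sum_of_isEmpty, h0 W (rm M le_rfl t)]⟩
    r := fun j => j.elim0
    zero := fun j => j.elim0
    rel := fun W hW a _ y hy => ⟨W, le_rfl, hy, fun j => j.elim0, fun i => i.elim0⟩ }⟩⟩

/-- A presentation of a direct sum. -/
noncomputable def sumPres (i₁ : A ⟶ M) (i₂ : B ⟶ M) (p₁ : M ⟶ A) (p₂ : M ⟶ B) (h₁₁ : i₁ ≫ p₁ = 𝟙 A)
    (h₁₂ : i₁ ≫ p₂ = 0) (h₂₁ : i₂ ≫ p₁ = 0) (h₂₂ : i₂ ≫ p₂ = 𝟙 B) (htot : p₁ ≫ i₁ + p₂ ≫ i₂ = 𝟙 M)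
    {U : Opens T} {n₁ m₁ n₂ m₂ : ℕ} (P : PresData A U n₁ m₁) (Q : PresData B U n₂ m₂) :
    PresData M U (n₁ + n₂) (m₁ + m₂) where
  s := Fin.append (fun i => apm i₁.val U (P.s i)) (fun i => apm i₂.val U (Q.s i))
  gen W hW t x hx := by
    obtain ⟨V₁, hV₁, hx₁, a, ha⟩ := P.gen W hW (apm p₁.val W t) x hx
    obtain ⟨V₂, hV₂, hx₂, b, hb⟩ := Q.gen W hW (apm p₂.val W t) x hx
    refine ⟨V₁ ⊓ V₂, inf_le_left.trans hV₁, ⟨hx₁, hx₂⟩,
      Fin.append (fun i => rr inf_le_left (a i)) (fun i => rr inf_le_right (b i)), ?_⟩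
    have ha' := congrArg (fun s => apm i₁.val (V₁ ⊓ V₂) (rm A (inf_le_left : V₁ ⊓ V₂ ≤ V₁) s)) ha
    have hb' := congrArg (fun s => apm i₂.val (V₁ ⊓ V₂) (rm B (inf_le_right : V₁ ⊓ V₂ ≤ V₂) s)) hb
    simp only [rm_rm, map_sum, rm_smul, map_smul] at ha' hb'
    rw [Fin.sum_univ_add]
    simp only [Fin.append_left, Fin.append_right, rm, ← apm_rsm] at ha' hb' ⊢
    rw [← ha', ← hb']
    exact (congrArg (fun φ : M ⟶ M => apm φ.val (V₁ ⊓ V₂) (rm M (inf_le_left.trans hV₁) t)) htot).symm
  r := Fin.append (fun j => Fin.append (P.r j) fun _ => 0) (fun j => Fin.append (fun _ => 0) (Q.r j))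
  zero j := by
    refine Fin.addCases (fun j => ?_) (fun j => ?_) j
    · have h := congrArg (apm i₁.val U) (P.zero j)
      simp only [map_sum, map_smul, map_zero] at h
      simpa [Fin.sum_univ_add] using h
    · have h := congrArg (apm i₂.val U) (Q.zero j)
      simp only [map_sum, map_smul, map_zero] at h
      simpa [Fin.sum_univ_add] using h
  rel W hW a ha x hx := by
    simp only [Fin.sum_univ_add, Fin.append_left, Fin.append_right, rm, ← apm_rsm] at ha
    have e₁₁ : ∀ t : sc A.val W, apm p₁.val W (apm i₁.val W t) = t := fun t =>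
      congrArg (fun φ : A ⟶ A => apm φ.val W t) h₁₁
    have e₁₂ : ∀ t : sc A.val W, apm p₂.val W (apm i₁.val W t) = 0 := fun t =>
      congrArg (fun φ : A ⟶ B => apm φ.val W t) h₁₂
    have e₂₁ : ∀ t : sc B.val W, apm p₁.val W (apm i₂.val W t) = 0 := fun t =>
      congrArg (fun φ : B ⟶ A => apm φ.val W t) h₂₁
    have e₂₂ : ∀ t : sc B.val W, apm p₂.val W (apm i₂.val W t) = t := fun t =>
      congrArg (fun φ : B ⟶ B => apm φ.val W t) h₂₂
    have h1 := congrArg (apm p₁.val W) ha
    have h2 := congrArg (apm p₂.val W) ha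
    simp only [map_add, map_sum, map_smul, map_zero, e₁₁, e₂₁, smul_zero, Finset.sum_const_zero, add_zero] at h1
    simp only [map_add, map_sum, map_smul, map_zero, e₁₂, e₂₂, smul_zero, Finset.sum_const_zero, zero_add] at h2
    obtain ⟨V₁, hV₁, hx₁, c, hc⟩ := P.rel W hW (fun i => a (Fin.castAdd n₂ i)) h1 x hx
    obtain ⟨V₂, hV₂, hx₂, d, hd⟩ := Q.rel W hW (fun i => a (Fin.natAdd n₁ i)) h2 x hx
    refine ⟨V₁ ⊓ V₂, inf_le_left.trans hV₁, ⟨hx₁, hx₂⟩,
      Fin.append (fun i => rr inf_le_left (c i)) (fun i => rr inf_le_right (d i)), fun i => ?_⟩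
    refine Fin.addCases (fun i => ?_) (fun i => ?_) i
    · have h := congrArg (rr (inf_le_left : V₁ ⊓ V₂ ≤ V₁)) (hc i)
      simp only [map_sum, map_mul, rr_rr] at h
      rw [Fin.sum_univ_add]
      simp only [Fin.append_left, Fin.append_right, map_zero, mul_zero, Finset.sum_const_zero, add_zero]
      exact h
    · have h := congrArg (rr (inf_le_right : V₁ ⊓ V₂ ≤ V₂)) (hd i)
      simp only [map_sum, map_mul, rr_rr] at h
      rw [Fin.sum_univ_add]
      simp only [Fin.append_left, Fin.append_right, map_zero, mul_zero, Finset.sum_const_zero, zero_add]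
      exact h

instance isClosedUnderFiniteCoproducts : (fpProp O).IsClosedUnderFiniteCoproducts := by
  have : (fpProp O).ContainsZero := ⟨⟨_, Limits.isZero_zero _, fp_of_isZero (Limits.isZero_zero _)⟩⟩
  have : (fpProp O).IsClosedUnderBinaryCoproducts := by
    refine ⟨?_⟩
    rintro X ⟨p⟩
    obtain ⟨F, hF⟩ : ∃ F, F = p.diag := ⟨_, rfl⟩
    let A := p.diag.obj ⟨WalkingPair.left⟩
    let B := p.diag.obj ⟨WalkingPair.right⟩
    have e : A ⊞ B ≅ X :=
      (biprod.isoCoprod A B) ≪≫ IsColimit.coconePointsIsoOfNatIso (colimit.isColimit _) p.isColimit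
        (diagramIsoPair p.diag).symm
    refine (fpProp O).prop_of_iso e (fp_of_presData fun x => ?_)
    obtain ⟨U₁, n₁, m₁, hx₁, ⟨P⟩⟩ := exists_presData (p.prop_diag_obj ⟨WalkingPair.left⟩) x
    obtain ⟨U₂, n₂, m₂, hx₂, ⟨Q⟩⟩ := exists_presData (p.prop_diag_obj ⟨WalkingPair.right⟩) x
    exact ⟨U₁ ⊓ U₂, _, _, ⟨hx₁, hx₂⟩,
      ⟨sumPres biprod.inl biprod.inr biprod.fst biprod.snd biprod.inl_fst biprod.inl_snd biprod.inr_fst
        biprod.inr_snd biprod.total (P.restrict inf_le_left) (Q.restrict inf_le_right)⟩⟩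
  exact ObjectProperty.IsClosedUnderFiniteCoproducts.mk'

/-- The module of which every finitely presented module is a quotient. -/
noncomputable def big (O : Sheaf (Opens.grothendieckTopology T) CommRingCat.{u}) : ModSite.Mod O :=
  ∐ fun p : T × Opens T × ℕ => ModSite.freeOn O p.2.1

lemma exists_epi_big (hM : fpProp O M) : ∃ p : big O ⟶ M, Epi p := by
  classical
  choose U n m hxU P using fun x => exists_presData hM x
  have G : ∀ x, GenData M (U x) (n x) := fun x => (P x).some.toGenData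
  let f : ∀ q : T × Opens T × ℕ, ModSite.freeOn O q.2.1 ⟶ M := fun q =>
    if h : q.2.1 = U q.1 ∧ q.2.2 < n q.1 then
      eqToHom (by rw [h.1]) ≫ (homEquiv (U q.1) M).symm ((G q.1).s ⟨q.2.2, h.2⟩) else 0
  refine ⟨Sigma.desc f, Preadditive.epi_of_cancel_zero _ fun {N} g hg => ?_⟩
  have hs : ∀ x (i : Fin (n x)), apm g.val (U x) ((G x).s i) = 0 := fun x i => by
    have h := congrArg (fun k => homEquiv (U x) N (Sigma.ι (fun p : T × Opens T × ℕ => ModSite.freeOn O p.2.1) (x, U x, i.1) ≫ k)) hg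
    simp only [comp_zero] at h
    rw [Sigma.ι_desc_assoc] at h
    simp only [f, i.2, and_self, ↓reduceDIte, eqToHom_refl, Category.id_comp] at h
    rw [homEquiv_comp, Equiv.apply_symm_apply] at h
    rw [h]
    have h0 := homEquiv_comp (U x) (0 : ModSite.freeOn O (U x) ⟶ M) (0 : M ⟶ N)
    simp only [comp_zero] at h0
    exact h0
  refine mod_hom_ext fun W t => ?_
  refine (eq_zero_of_local (m := apm g.val W t) fun x hx => ?_).trans rfl
  obtain ⟨V, hV, hxV, a, ha⟩ := (G x).gen (W ⊓ U x) inf_le_right (rm M inf_le_left t) x ⟨hx, hxU x⟩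
  refine ⟨V, hV.trans inf_le_left, hxV, ?_⟩
  have h := congrArg (apm g.val V) ha
  simp only [rm, ← apm_rsm, map_sum, map_smul] at h ⊢
  have hz : ∀ i, apm g.val V (rsm M.val (homOfLE (hV.trans (inf_le_right : W ⊓ U x ≤ U x))) ((G x).s i)) = 0 :=
    fun i => by rw [apm_rsm, hs, map_zero]
  simp only [hz, smul_zero, Finset.sum_const_zero] at h
  rw [rsm_rsm] at h
  exact h

/-- Finitely presented modules have a small set of representatives. -/
theorem exists_small_family (O : Sheaf (Opens.grothendieckTopology T) CommRingCat.{u}) :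
    ∃ (I : Type u) (G : I → ModSite.Mod O), (∀ i, fpProp O (G i)) ∧
      ∀ X, fpProp O X → ∃ i, Nonempty (G i ≅ X) := by
  let S := Shrink.{u} (Subobject (big O))
  let K : S → ModSite.Mod O := fun s => cokernel ((equivShrink _).symm s).arrow
  refine ⟨{s : S // fpProp O (K s)}, fun s => K s.1, fun s => s.2, fun X hX => ?_⟩
  obtain ⟨p, hp⟩ := exists_epi_big hX
  let Z := Subobject.mk (kernel.ι p)
  have e : cokernel Z.arrow ≅ X :=
    cokernel.mapIso Z.arrow (kernel.ι p) (Subobject.underlyingIso _) (Iso.refl _) (by simp [Z]) ≪≫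
      IsColimit.coconePointUniqueUpToIso (cokernelIsCokernel (kernel.ι p))
        (Abelian.epiIsCokernelOfKernel (KernelFork.ofι (kernel.ι p) (kernel.condition p)) (kernelIsKernel p))
  have hK : K (equivShrink _ Z) = cokernel Z.arrow := by simp only [K]; rw [Equiv.symm_apply_apply]
  exact ⟨⟨equivShrink _ Z, (fpProp O).prop_of_iso (eqToIso hK ≪≫ e).symm hX⟩, ⟨eqToIso hK ≪≫ e⟩⟩

end Groth.AdicLinTop.FPSmall
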