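import Groth.Agent.AdicLinTop.QuotFP
import Groth.Agent.AdicLinTop.FPSmall

/-!
# Finitely presented modules over a ringed space with a good basis: kernels, images, cokernels

On a ringed space with a basis of opens having Noetherian rings of sections and flat restrictions, relations
among finitely many sections of a finitely presented module are locally finitely generated. Hence kernels,
images and cokernels of maps between finitely presented modules are finitely presented.
-/

set_option autoImplicit false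

universe u

open CategoryTheory CategoryTheory.Limits Opposite TopologicalSpace

set_option backward.defeqAttrib.useBackward true
set_option backward.isDefEq.respectTransparency false
set_option backward.isDefEq.respectTransparency.types false
set_option synthInstance.maxHeartbeats 400000

namespace Groth.AdicLinTop.CohKer

open Groth.SitesTopoi.ModH Groth.Misc4.FreeOn Groth.AdicLinTop.SpacePres Groth.AdicLinTop.QuotFP
open Groth.AdicLinTop.FPSmall (fpProp fp_of_presData)

variable {T : Type u} [TopologicalSpace T]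
  {O : Sheaf (Opens.grothendieckTopology T) CommRingCat.{u}}
  {B : Set (Opens T)} {F G Q : ModSite.Mod O} {U : Opens T}

/-- Generators of the relations among finitely many sections, near every point. -/
structure RelData {N : ℕ} (g : Fin N → sc F.val U) (l : ℕ) where
  /-- the relations -/
  e : Fin l → Fin N → rsec O U
  zero : ∀ q, ∑ i, e q i • g i = 0
  rel : ∀ (W : Opens T) (hW : W ≤ U) (a : Fin N → rsec O W), ∑ i, a i • rm F hW (g i) = 0 → ∀ x ∈ W,
    ∃ (V : Opens T) (hV : V ≤ W), x ∈ V ∧ ∃ c : Fin l → rsec O V,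
      ∀ i, rr hV (a i) = ∑ q, c q * rr (hV.trans hW) (e q i)

/-- Finitely many sections are combinations of the generators on a common neighbourhood. -/
lemma exists_comb {n : ℕ} (P : GenData F U n) {x : T} (hx : x ∈ U) :
    ∀ {N : ℕ} (g : Fin N → sc F.val U), ∃ (V : Opens T) (hV : V ≤ U), x ∈ V ∧
      ∃ c : Fin N → Fin n → rsec O V, ∀ i, rm F hV (g i) = ∑ k, c i k • rm F hV (P.s k)
  | 0, _ => ⟨U, le_rfl, hx, fun i => i.elim0, fun i => i.elim0⟩
  | N + 1, g => by
    obtain ⟨V, hV, hxV, c, hc⟩ := exists_comb P hx fun i => g i.succ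
    obtain ⟨V', hV', hxV', a, ha⟩ := P.gen V hV (rm F hV (g 0)) x hxV
    refine ⟨V', hV'.trans hV, hxV', Fin.cons a fun i k => rr hV' (c i k), fun i => ?_⟩
    induction i using Fin.cases with
    | zero => simpa [rm_rm] using ha
    | succ i =>
      have h := congrArg (rm F hV') (hc i)
      simp only [map_sum, rm_smul, rm_rm] at h
      simpa using h

/-- Relations among combinations of sections with finitely generated relations are finitely generated. -/
theorem exists_relData_of_comb (hB : GoodBasis (O := O) B) {V : Opens T} (hVB : V ∈ B) {n m : ℕ}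
    {s : Fin n → sc F.val V} (R₀ : RelData s m) {N : ℕ} (g : Fin N → sc F.val V)
    (c : Fin N → Fin n → rsec O V) (hc : ∀ i, g i = ∑ k, c i k • s k) :
    ∃ l, Nonempty (RelData g l) := by
  classical
  let A : Fin n → Fin (N + m) → rsec O V := fun k => Fin.append (fun i => c i k) fun j => - R₀.e j k
  let Sol : Submodule (rsec O V) (Fin (N + m) → rsec O V) :=
    ⨅ k, LinearMap.ker (∑ i, A k i • LinearMap.proj i)
  have hSol : ∀ b, b ∈ Sol ↔ ∀ k, ∑ i, A k i * b i = 0 := fun b => by
    simp [Sol, Submodule.mem_iInf]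
  haveI := hB.noeth V hVB
  obtain ⟨l, E, hE⟩ := Submodule.fg_iff_exists_fin_generating_family.1 (IsNoetherian.noetherian Sol)
  have hEmem : ∀ q k, ∑ i, E q (Fin.castAdd m i) * c i k = ∑ j, E q (Fin.natAdd N j) * R₀.e j k := fun q k => by
    have h := (hSol (E q)).1 (hE ▸ Submodule.subset_span ⟨q, rfl⟩) k
    simp only [A, Fin.sum_univ_add, Fin.append_left, Fin.append_right, neg_mul, Finset.sum_neg_distrib,
      add_neg_eq_zero] at h
    simpa only [mul_comm] using h
  refine ⟨l, ⟨{ e := fun q i => E q (Fin.castAdd m i), zero := fun q => ?_, rel := ?_ }⟩⟩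
  · simp only [hc, Finset.smul_sum, smul_smul]
    rw [Finset.sum_comm]
    simp only [← Finset.sum_smul, hEmem]
    simp only [Finset.sum_smul]
    rw [Finset.sum_comm]
    refine Finset.sum_eq_zero fun j _ => ?_
    simp only [mul_smul, ← Finset.smul_sum]
    rw [show ∑ k, R₀.e j k • s k = 0 from R₀.zero j, smul_zero]
  · intro W hW a ha y hy
    have hα : ∑ k, (∑ i, a i * rr hW (c i k)) • rm F hW (s k) = 0 := by
      refine Eq.trans ?_ ha
      simp only [hc, map_sum, rm_smul, Finset.sum_smul, Finset.smul_sum, mul_smul]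
      exact Finset.sum_comm
    obtain ⟨V', hV', hyV', d, hd⟩ := R₀.rel W hW _ hα y hy
    obtain ⟨V'', hV''B, hyV'', hV''⟩ := hB.exists_mem y V' hyV'
    let b : Fin (N + m) → rsec O V'' := Fin.append (fun i => rr (hV''.trans hV') (a i)) fun j => rr hV'' (d j)
    have hb : ∀ k, ∑ i, rr ((hV''.trans hV').trans hW) (A k i) * b i = 0 := fun k => by
      have h := congrArg (rr hV'') (hd k)
      simp only [map_sum, map_mul, rr_rr] at h
      simp only [A, b, Fin.sum_univ_add, Fin.append_left, Fin.append_right, map_neg, neg_mul,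
        Finset.sum_neg_distrib, add_neg_eq_zero]
      simpa only [mul_comm] using h
    have hmem : b ∈ Submodule.span (rsec O V'')
        (Set.range fun q => fun i => rr ((hV''.trans hV').trans hW) (E q i)) := by
      refine Submodule.span_le.2 ?_ (mem_span_solutions _
        (hB.flat V hVB V'' hV''B ((hV''.trans hV').trans hW)) _ _ A b hb)
      rintro _ ⟨s, hs, rfl⟩
      obtain ⟨w, hw⟩ := (Submodule.mem_span_range_iff_exists_fun _).1 (hE.symm ▸ (hSol s).2 hs :
        s ∈ Submodule.span (rsec O V) (Set.range E))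
      refine (Submodule.mem_span_range_iff_exists_fun _).2
        ⟨fun q => rr ((hV''.trans hV').trans hW) (w q), funext fun i => ?_⟩
      rw [← hw]
      simp only [Finset.sum_apply, Pi.smul_apply, smul_eq_mul, map_sum, map_mul]
    obtain ⟨w, hw⟩ := (Submodule.mem_span_range_iff_exists_fun _).1 hmem
    refine ⟨V'', hV''.trans hV', hyV'', w, fun i => ?_⟩
    have h := congrFun hw (Fin.castAdd m i)
    simp only [Finset.sum_apply, Pi.smul_apply, smul_eq_mul, b, Fin.append_left] at h
    exact h.symm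

/-- The relations among finitely many sections of a presented module are locally finitely generated. -/
theorem exists_relData (hB : GoodBasis (O := O) B) {n m : ℕ} (P : PresData F U n m) {N : ℕ}
    (g : Fin N → sc F.val U) {x : T} (hx : x ∈ U) :
    ∃ (V : Opens T) (hV : V ≤ U) (l : ℕ), V ∈ B ∧ x ∈ V ∧ Nonempty (RelData (fun i => rm F hV (g i)) l) := by
  classical
  obtain ⟨V₁, hV₁, hxV₁, c₁, hc₁⟩ := exists_comb P.toGenData hx g
  obtain ⟨V, hVB, hxV, hV₁'⟩ := hB.exists_mem x V₁ hxV₁
  have hV : V ≤ U := hV₁'.trans hV₁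
  let PV := P.restrict hV
  obtain ⟨l, hl⟩ := exists_relData_of_comb hB hVB (s := PV.s) { e := PV.r, zero := PV.zero, rel := PV.rel }
    (fun i => rm F hV (g i)) (fun i k => rr hV₁' (c₁ i k)) (fun i => by
      have h := congrArg (rm F hV₁') (hc₁ i)
      simp only [map_sum, rm_smul, rm_rm] at h
      exact h)
  exact ⟨V, hV, l, hVB, hxV, hl⟩

/-- A section killed by a morphism comes from the kernel. -/
lemma exists_kernel_sec (φ : F ⟶ G) (t : sc F.val U) (ht : apm φ.val U t = 0) :
    ∃ k : sc (kernel φ).val U, apm (kernel.ι φ).val U k = t := by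
  have h0 : (homEquiv U F).symm t ≫ φ = 0 := by
    apply (homEquiv U G).injective
    rw [homEquiv_comp, Equiv.apply_symm_apply, ht]
    have h := homEquiv_comp U (0 : ModSite.freeOn O U ⟶ F) (0 : F ⟶ G)
    rw [zero_comp] at h
    exact h.symm
  refine ⟨homEquiv U _ (kernel.lift φ _ h0), ?_⟩
  rw [← homEquiv_comp, kernel.lift_ι, Equiv.apply_symm_apply]

lemma apm_kernel_ι_comp (φ : F ⟶ G) (k : sc (kernel φ).val U) :
    apm φ.val U (apm (kernel.ι φ).val U k) = 0 :=
  congrArg (fun ψ : kernel φ ⟶ G => apm ψ.val U k) (kernel.condition φ)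

/-- A section killed by the projection to the cokernel is locally an image. -/
lemma exists_local_lift (φ : F ⟶ G) (t : sc G.val U) (ht : apm (cokernel.π φ).val U t = 0) {x : T} (hx : x ∈ U) :
    ∃ (V : Opens T) (hV : V ≤ U), x ∈ V ∧ ∃ s : sc F.val V, apm φ.val V s = rm G hV t := by
  obtain ⟨k, hk⟩ := exists_kernel_sec (cokernel.π φ) t ht
  obtain ⟨S, hS, hS'⟩ := locSurj_of_epi (Abelian.factorThruImage φ) U k
  obtain ⟨V, hV, hxV, hSV⟩ := exists_nhd_of_mem hS hx
  obtain ⟨s, hs⟩ := hS' (homOfLE hV) hSV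
  refine ⟨V, hV, hxV, s, ?_⟩
  have h1 : apm φ.val V s = apm (kernel.ι (cokernel.π φ)).val V (apm (Abelian.factorThruImage φ).val V s) :=
    (congrArg (fun ψ : F ⟶ G => apm ψ.val V s) (kernel.lift_ι _ φ (cokernel.condition φ))).symm
  exact h1.trans ((congrArg _ hs).trans ((apm_rsm _ _ k).trans (congrArg (rm G hV) hk)))

/-- A finitely generated submodule of a presented module is presented. -/
theorem exists_presData_of_mono (hB : GoodBasis (O := O) B) (ι : G ⟶ F) [Mono ι] {n m : ℕ}
    (P : PresData F U n m) {N : ℕ} (D : GenData G U N) {x : T} (hx : x ∈ U) :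
    ∃ (V : Opens T) (l : ℕ), x ∈ V ∧ Nonempty (PresData G V N l) := by
  obtain ⟨V, hV, l, -, hxV, ⟨R⟩⟩ := exists_relData hB P (fun i => apm ι.val U (D.s i)) hx
  refine ⟨V, l, hxV, ⟨{ D.restrict hV with r := R.e, zero := fun q => ?_, rel := fun W hW a ha y hy => ?_ }⟩⟩
  · apply injective_of_mono ι V
    rw [map_sum, map_zero]
    refine Eq.trans (Finset.sum_congr rfl fun i _ => ?_) (R.zero q)
    rw [map_smul]
    exact congrArg _ (apm_rsm ι.val (homOfLE hV) (D.s i))
  · refine R.rel W hW a ?_ y hy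
    have h := congrArg (apm ι.val W) ha
    rw [map_sum, map_zero] at h
    refine Eq.trans (Finset.sum_congr rfl fun i _ => ?_) h
    rw [map_smul]
    refine congrArg _ ?_
    show rm F hW (rm F hV (apm ι.val U (D.s i))) = apm ι.val W (rm G hW (rm G hV (D.s i)))
    simp only [rm, apm_rsm]

/-- A finite type submodule of a finitely presented module is finitely presented. -/
theorem fp_of_mono (hB : GoodBasis (O := O) B) (ι : G ⟶ F) [Mono ι] (hF : fpProp O F)
    (hG : ∀ x : T, ∃ (U : Opens T) (N : ℕ), x ∈ U ∧ Nonempty (GenData G U N)) : fpProp O G :=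
  fp_of_presData fun x => by
    obtain ⟨U₁, n, m, hx₁, ⟨P⟩⟩ := exists_presData hF x
    obtain ⟨U₂, N, hx₂, ⟨D⟩⟩ := hG x
    obtain ⟨V, l, hxV, hP⟩ := exists_presData_of_mono hB ι (P.restrict (inf_le_left : U₁ ⊓ U₂ ≤ U₁))
      (D.restrict inf_le_right) (x := x) ⟨hx₁, hx₂⟩
    exact ⟨V, N, l, hxV, hP⟩

/-- Quotients of generated modules are generated. -/
theorem nonempty_genData_of_epi (π : F ⟶ G) [Epi π] {n : ℕ} (P : GenData F U n) :
    Nonempty (GenData G U n) := by
  refine ⟨{ s := fun i => apm π.val U (P.s i), gen := fun W hW t x hx => ?_ }⟩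
  obtain ⟨S, hS, hS'⟩ := locSurj_of_epi π W t
  obtain ⟨V, hV, hxV, hSV⟩ := exists_nhd_of_mem hS hx
  obtain ⟨y, hy⟩ := hS' (homOfLE hV) hSV
  obtain ⟨V', hV', hxV', a, ha⟩ := P.gen V (hV.trans hW) y x hxV
  refine ⟨V', hV'.trans hV, hxV', a, ?_⟩
  have h1 := congrArg (apm π.val V') ha
  rw [apm_rsm, hy, map_sum] at h1
  refine ((rm_rm G hV hV' t).symm.trans h1).trans (Finset.sum_congr rfl fun i _ => ?_)
  rw [map_smul, apm_rsm]

/-- Generators of a kernel from relations among images of generators. -/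
theorem nonempty_genData_kernel (φ : F ⟶ G) {n : ℕ} (D : GenData F U n) {l : ℕ}
    (R : RelData (F := G) (fun i => apm φ.val U (D.s i)) l) : Nonempty (GenData (kernel φ) U l) := by
  choose k hk using fun q : Fin l => exists_kernel_sec φ (∑ i, R.e q i • D.s i) (by
    rw [map_sum]
    refine Eq.trans (Finset.sum_congr rfl fun i _ => ?_) (R.zero q)
    rw [map_smul])
  refine ⟨{ s := k, gen := fun W hW t y hy => ?_ }⟩
  obtain ⟨V₁, hV₁, hy₁, a, ha⟩ := D.gen W hW (apm (kernel.ι φ).val W t) y hy
  have hz : ∑ i, a i • rm G (hV₁.trans hW) (apm φ.val U (D.s i)) = 0 := by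
    have h := congrArg (apm φ.val V₁) ha
    rw [map_sum, show apm φ.val V₁ (rm F hV₁ (apm (kernel.ι φ).val W t)) = 0 by
      rw [apm_rsm, apm_kernel_ι_comp, map_zero]] at h
    refine Eq.trans (Finset.sum_congr rfl fun i _ => ?_) h.symm
    rw [map_smul, apm_rsm]
  obtain ⟨V₂, hV₂, hy₂, c, hc⟩ := R.rel V₁ (hV₁.trans hW) a hz y hy₁
  refine ⟨V₂, hV₂.trans hV₁, hy₂, c, injective_of_mono (kernel.ι φ) V₂ ?_⟩
  have h := congrArg (rm F hV₂) ha
  simp only [map_sum, rm_smul, rm_rm, hc] at h
  rw [apm_rsm, h, map_sum]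
  simp only [map_smul, apm_rsm, hk, map_sum, rm_smul, Finset.sum_smul, Finset.smul_sum, mul_smul]
  exact Finset.sum_comm

/-- Modules in which relations of finitely many sections are locally finitely generated. -/
def RelFin (F : ModSite.Mod O) : Prop :=
  ∀ (U : Opens T) (N : ℕ) (g : Fin N → sc F.val U) (x : T), x ∈ U →
    ∃ (V : Opens T) (hV : V ≤ U) (l : ℕ), x ∈ V ∧ Nonempty (RelData (fun i => rm F hV (g i)) l)

theorem relFin_of_fp (hB : GoodBasis (O := O) B) (hF : fpProp O F) : RelFin F := fun U N g x hx => by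
  obtain ⟨U₁, n, m, hx₁, ⟨P⟩⟩ := exists_presData hF x
  obtain ⟨V, hV, l, -, hxV, ⟨R⟩⟩ := exists_relData hB (P.restrict (inf_le_left : U₁ ⊓ U ≤ U₁))
    (fun i => rm F (inf_le_right : U₁ ⊓ U ≤ U) (g i)) (x := x) ⟨hx₁, hx⟩
  refine ⟨V, hV.trans inf_le_right, l, hxV, ⟨{ e := R.e, zero := fun q => ?_, rel := fun W hW a ha => ?_ }⟩⟩
  · simpa [rm_rm] using R.zero q
  · exact R.rel W hW a (by simpa [rm_rm] using ha)

theorem relFin_of_mono (ι : G ⟶ F) [Mono ι] (hF : RelFin F) : RelFin G := fun U N g x hx => by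
  obtain ⟨V, hV, l, hxV, ⟨R⟩⟩ := hF U N (fun i => apm ι.val U (g i)) x hx
  refine ⟨V, hV, l, hxV, ⟨{ e := R.e, zero := fun q => ?_, rel := fun W hW a ha => ?_ }⟩⟩
  · apply injective_of_mono ι V
    rw [map_sum, map_zero]
    refine Eq.trans (Finset.sum_congr rfl fun i _ => ?_) (R.zero q)
    rw [map_smul]
    exact congrArg _ (apm_rsm ι.val (homOfLE hV) (g i))
  · refine R.rel W hW a ?_
    have h := congrArg (apm ι.val W) ha
    rw [map_sum, map_zero] at h
    refine Eq.trans (Finset.sum_congr rfl fun i _ => ?_) h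
    rw [map_smul]
    refine congrArg _ ?_
    show rm F hW (rm F hV (apm ι.val U (g i))) = apm ι.val W (rm G hW (rm G hV (g i)))
    simp only [rm, apm_rsm]

/-- Kernels of maps from presented modules into modules with finitely generated relations are presented. -/
theorem fp_kernel_of_relFin (hB : GoodBasis (O := O) B) (φ : F ⟶ G) (hF : fpProp O F) (hG : RelFin G) :
    fpProp O (kernel φ) := by
  refine fp_of_mono hB (kernel.ι φ) hF fun x => ?_
  obtain ⟨U₁, n₁, m₁, hx₁, ⟨P₁⟩⟩ := exists_presData hF x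
  obtain ⟨V, hV, l, hxV, ⟨R⟩⟩ := hG U₁ n₁ (fun i => apm φ.val U₁ (P₁.s i)) x hx₁
  let D' := P₁.toGenData.restrict hV
  refine ⟨V, l, hxV, nonempty_genData_kernel φ D'
    { e := R.e, zero := fun q => ?_, rel := fun W hW a ha => ?_ }⟩
  · refine Eq.trans (Finset.sum_congr rfl fun i _ => ?_) (R.zero q)
    exact congrArg _ (apm_rsm _ _ _)
  · refine R.rel W hW a (Eq.trans (Finset.sum_congr rfl fun i _ => ?_) ha)
    exact congrArg _ (congrArg (rm G hW) (apm_rsm _ _ _).symm)

/-- Kernels of morphisms of finitely presented modules are finitely presented. -/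
theorem fp_kernel (hB : GoodBasis (O := O) B) (φ : F ⟶ G) (hF : fpProp O F) (hG : fpProp O G) :
    fpProp O (kernel φ) :=
  fp_kernel_of_relFin hB φ hF (relFin_of_fp hB hG)

/-- Cokernels of morphisms from finite type modules to finitely presented ones are finitely presented. -/
theorem fp_cokernel (φ : F ⟶ G) (hF : fpProp O F) (hG : fpProp O G) : fpProp O (cokernel φ) := by
  refine fp_of_presData fun x => ?_
  obtain ⟨U₁, n₁, m₁, hx₁, ⟨P₁⟩⟩ := exists_presData hF x
  obtain ⟨U₂, n, m, hx₂, ⟨P₂⟩⟩ := exists_presData hG x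
  let D := P₁.toGenData.restrict (inf_le_left : U₁ ⊓ U₂ ≤ U₁)
  let P := P₂.restrict (inf_le_right : U₁ ⊓ U₂ ≤ U₂)
  obtain ⟨V, hV, hxV, c, hc⟩ := exists_comb P.toGenData (x := x) ⟨hx₁, hx₂⟩ (fun i => apm φ.val _ (D.s i))
  let PV := P.restrict hV
  let DV := D.restrict hV
  have hc' : ∀ i, apm φ.val V (DV.s i) = ∑ k, c i k • PV.s k := fun i => (apm_rsm _ _ _).trans (hc i)
  obtain ⟨E⟩ := nonempty_genData_of_epi (cokernel.π φ) PV.toGenData
  have hsum : ∀ {W : Opens T} (hW : W ≤ V) (a : Fin n → rsec O W),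
      apm (cokernel.π φ).val W (∑ i, a i • rm G hW (PV.s i)) =
        ∑ i, a i • rm (cokernel φ) hW (apm (cokernel.π φ).val V (PV.s i)) := fun hW a => by
    rw [map_sum]
    exact Finset.sum_congr rfl fun i _ => by rw [map_smul, apm_rsm]
  refine ⟨V, n, m + n₁, hxV, ⟨{
    s := fun i => apm (cokernel.π φ).val V (PV.s i)
    gen := fun W hW t y hy => ?_
    r := Fin.append PV.r c
    zero := fun j => ?_
    rel := fun W hW a ha y hy => ?_ }⟩⟩
  · obtain ⟨S, hS, hS'⟩ := locSurj_of_epi (cokernel.π φ) W t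
    obtain ⟨W₁, hW₁, hyW₁, hSW⟩ := exists_nhd_of_mem hS hy
    obtain ⟨t₁, ht₁⟩ := hS' (homOfLE hW₁) hSW
    obtain ⟨W₂, hW₂, hyW₂, a, ha⟩ := PV.gen W₁ (hW₁.trans hW) t₁ y hyW₁
    refine ⟨W₂, hW₂.trans hW₁, hyW₂, a, ?_⟩
    rw [← hsum, ← ha, apm_rsm, ht₁, rm_rm]
  · have h0 : ∀ t, apm (cokernel.π φ).val V (apm φ.val V t) = 0 := fun t =>
      congrArg (fun ψ : F ⟶ cokernel φ => apm ψ.val V t) (cokernel.condition φ)
    refine Fin.addCases (fun j => ?_) (fun j => ?_) j
    · have h := congrArg (apm (cokernel.π φ).val V) (PV.zero j)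
      simp only [map_sum, map_smul, map_zero] at h
      simpa using h
    · have h := congrArg (apm (cokernel.π φ).val V) (hc' j)
      simp only [map_sum, map_smul, h0] at h
      simpa using h.symm
  · rw [← hsum] at ha
    obtain ⟨W₁, hW₁, hyW₁, t, ht⟩ := exists_local_lift φ _ ha hy
    obtain ⟨W₂, hW₂, hyW₂, b, hb⟩ := DV.gen W₁ (hW₁.trans hW) t y hyW₁
    have h1 : ∑ k, (rr (hW₂.trans hW₁) (a k) - ∑ i, b i * rr ((hW₂.trans hW₁).trans hW) (c i k)) •
        rm G ((hW₂.trans hW₁).trans hW) (PV.s k) = 0 := by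
      have e1 := congrArg (rm G hW₂) ht
      rw [← apm_rsm, hb] at e1
      simp only [map_sum, map_smul, apm_rsm, hc', rm_smul, rm_rm, rr_rr] at e1
      simp only [sub_smul, Finset.sum_sub_distrib, sub_eq_zero]
      rw [← e1]
      simp only [Finset.smul_sum, Finset.sum_smul, mul_smul]
      exact Finset.sum_comm
    obtain ⟨W₃, hW₃, hyW₃, d, hd⟩ := PV.rel W₂ ((hW₂.trans hW₁).trans hW) _ h1 y hyW₂
    refine ⟨W₃, hW₃.trans (hW₂.trans hW₁), hyW₃, Fin.append d fun i => rr hW₃ (b i), fun k => ?_⟩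
    have h := hd k
    simp only [map_sub, map_sum, map_mul, rr_rr, sub_eq_iff_eq_add] at h
    simp only [Fin.sum_univ_add, Fin.append_left, Fin.append_right]
    exact h

/-- The image of a morphism of finitely presented modules is finitely presented. -/
theorem fp_image (hB : GoodBasis (O := O) B) (φ : F ⟶ G) (hF : fpProp O F) (hG : fpProp O G) :
    fpProp O (Abelian.image φ) :=
  fp_of_mono hB (Abelian.image.ι φ) hG fun x => by
    obtain ⟨U, n, m, hx, ⟨P⟩⟩ := exists_presData hF x
    exact ⟨U, n, hx, nonempty_genData_of_epi (Abelian.factorThruImage φ) P.toGenData⟩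

/-- Images of presented modules in modules with finitely generated relations are presented. -/
theorem fp_image_of_relFin (hB : GoodBasis (O := O) B) (φ : F ⟶ G) (hF : fpProp O F) (hG : RelFin G) :
    fpProp O (Abelian.image φ) :=
  (fpProp O).prop_of_iso (Abelian.coimageIsoImage φ)
    (fp_cokernel (kernel.ι φ) (fp_kernel_of_relFin hB φ hF hG) hF)

end Groth.AdicLinTop.CohKer
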