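import Groth.Agent.AdicLinTop.Thickenings
import Mathlib.RingTheory.Spectrum.Prime.RingHom
import Mathlib.RingTheory.Jacobson.Ideal

/-!
Kernels in adic systems; formal spectra and completions as adic systems.
-/

universe u

open CategoryTheory CategoryTheory.Limits AlgebraicGeometry

namespace Groth.AdicLinTop.Thickenings

section nilp

variable {X Y : Scheme.{u}}

theorem ker_comap_self (i : X ⟶ Y) [Mono i] [IsClosedImmersion i] : i.ker.comap i = ⊥ := by
  have h := isPullback_of_mono (𝟙 X) i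
  haveI : IsClosedImmersion (𝟙 X ≫ i) := by rw [Category.id_comp]; infer_instance
  have h2 := ker_eq_comap_of_isPullback h
  rw [Category.id_comp] at h2
  rw [← h2]
  refine le_bot_iff.mp (Scheme.IdealSheafData.le_def.mpr fun U => ?_)
  rw [Scheme.Hom.ker_apply]
  intro x hx
  exact (Submodule.mem_bot _).mpr hx

variable {𝔛 : FSch.Sys.{u}} (hF : 𝔛.IsFormal) (hA : 𝔛.IsAdic)

include hF in
theorem ker_toX_comap_ι (n : ℕ) : (𝔛.toX (n + 1)).ker.comap (𝔛.ι n) = (𝔛.toX n).ker := by
  haveI := (hF n).1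
  haveI : IsClosedImmersion (𝔛.toX n ≫ 𝔛.ι n) := (isClosedImmersion_toX hF (n + 1)).1
  exact (ker_eq_comap_ker_comp (𝔛.toX n) (𝔛.ι n)).symm

include hF hA in
theorem ker_toX_pow_eq_bot (n : ℕ) : (𝔛.toX n).ker ^ (n + 1) = ⊥ := by
  haveI := (hF n).1
  rw [← ker_toX_comap_ι hF n, ← Groth.Divisors.comap_pow, ← hA n]
  exact ker_comap_self _

include hF hA in
theorem ker_ι_mul_self (n : ℕ) : (𝔛.ι n).ker * (𝔛.ι n).ker = ⊥ := by
  rw [hA n, ← pow_add]
  refine le_bot_iff.mp (le_of_le_of_eq ?_ (ker_toX_pow_eq_bot hF hA (n + 1)))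
  exact pow_le_pow_of_le_one bot_le le_top (by omega)

theorem sup_pow_le {R : Type*} [CommRing R] (L M : Ideal R) (k : ℕ) : (L ⊔ M) ^ k ≤ L ⊔ M ^ k := by
  induction k with
  | zero => simp
  | succ k ih =>
    rw [pow_succ, pow_succ]
    refine (Ideal.mul_mono_left ih).trans ?_
    rw [Ideal.sup_mul, Ideal.mul_sup, Ideal.mul_sup]
    refine sup_le (sup_le ?_ ?_) (sup_le ?_ ?_)
    all_goals first
      | exact Ideal.mul_le_left.trans le_sup_left
      | exact Ideal.mul_le_right.trans le_sup_left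
      | exact le_sup_right

/-- An ideal which is finitely generated modulo a higher power of itself, that power being small. -/
theorem fg_of_fg_map {R S : Type u} [CommRing R] [CommRing S] [IsNoetherianRing S] (φ : R →+* S)
    (hφ : Function.Surjective φ) {K : Ideal R} {n : ℕ} (hn : 1 ≤ n)
    (hker : RingHom.ker φ = K ^ (n + 1)) (h0 : K ^ (n + 2) = ⊥) : K.FG := by
  classical
  obtain ⟨s, hs⟩ := IsNoetherian.noetherian (K.map φ)
  have hlift : ∀ y ∈ (K.map φ), ∃ x ∈ K, φ x = y := fun y hy =>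
    (Ideal.mem_map_iff_of_surjective φ hφ).mp hy
  choose g hg hgφ using fun y : s => hlift y.1 (hs ▸ Submodule.subset_span y.2)
  let L := Ideal.span (Set.range g)
  have hLK : L ≤ K := Ideal.span_le.mpr (by rintro _ ⟨y, rfl⟩; exact hg y)
  have hK : K ≤ L ⊔ K ^ (n + 1) := by
    intro x hx
    have hmap : K.map φ ≤ L.map φ := by
      rw [← hs]
      refine Submodule.span_le.mpr fun y hy => ?_
      show y ∈ L.map φ
      rw [show y = φ (g ⟨y, hy⟩) from (hgφ ⟨y, hy⟩).symm]
      exact Ideal.mem_map_of_mem _ (Ideal.subset_span ⟨_, rfl⟩)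
    obtain ⟨l, hl, hlx⟩ := (Ideal.mem_map_iff_of_surjective φ hφ).mp (hmap (Ideal.mem_map_of_mem _ hx))
    have : x - l ∈ K ^ (n + 1) := by
      rw [← hker, RingHom.mem_ker, map_sub, hlx, sub_self]
    simpa using Submodule.add_mem_sup hl this
  have h1 : K ^ (n + 1) ≤ L := by
    refine (Ideal.pow_right_mono hK (n + 1)).trans ((sup_pow_le _ _ _).trans ?_)
    rw [← pow_mul]
    refine sup_le le_rfl ((Ideal.pow_le_pow_right (m := n + 2) ?_).trans (h0.le.trans bot_le))
    nlinarith
  rw [show K = L from le_antisymm (hK.trans (sup_le le_rfl h1)) hLK]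
  exact Submodule.fg_span (Set.finite_range g)

include hF hA in
theorem isLocallyNoetherian_levels [IsLocallyNoetherian (𝔛.X 0)] (hft : FSch.IdealFT (𝔛.ι 0).ker) :
    ∀ n, IsLocallyNoetherian (𝔛.X n) := by
  intro n
  induction n with
  | zero => infer_instance
  | succ n ih =>
    haveI := ih
    haveI := (hF n).1
    haveI : Surjective (𝔛.ι n) := ⟨(hF n).2⟩
    refine isLocallyNoetherian_of_thickening (𝔛.ι n) fun y => ?_
    obtain ⟨W, hW, -⟩ := Groth.Divisors.exists_affine_le y ⊤ trivial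
    refine ⟨W, hW, ?_⟩
    rcases Nat.eq_zero_or_pos n with hn | hn
    · subst hn; exact hft W
    rw [hA n, Scheme.IdealSheafData.ideal_pow, Pi.pow_apply]
    refine Ideal.FG.pow ?_
    haveI : IsNoetherianRing Γ(𝔛.X n, 𝔛.ι n ⁻¹ᵁ W.1) :=
      IsLocallyNoetherian.component_noetherian ⟨_, W.2.preimage (𝔛.ι n)⟩
    refine fg_of_fg_map ((𝔛.ι n).app W.1).hom ((𝔛.ι n).app_surjective _ W.2) hn ?_ ?_
    · rw [← Scheme.Hom.ker_apply, hA n]
      rfl
    · exact congrArg (fun I : (𝔛.X (n + 1)).IdealSheafData => I.ideal W) (ker_toX_pow_eq_bot hF hA (n + 1))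

end nilp

section spec

variable {A B : Type u} [CommRing A] [CommRing B]

theorem idealSpec_ideal_top (J : Ideal A) :
    (FSch.idealSpec A J).ideal ⟨⊤, isAffineOpen_top _⟩ =
      J.map (Scheme.ΓSpecIso (CommRingCat.of A)).inv.hom := by
  haveI : IsClosedImmersion (Spec.map (CommRingCat.ofHom (Ideal.Quotient.mk J))) :=
    IsClosedImmersion.spec_of_surjective _ Ideal.Quotient.mk_surjective
  unfold FSch.idealSpec
  rw [Scheme.Hom.ker_apply]
  let e := (Scheme.ΓSpecIso (CommRingCat.of A)).commRingCatIsoToRingEquiv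
  change RingHom.ker (Spec.map (CommRingCat.ofHom (Ideal.Quotient.mk J))).appTop.hom =
    J.map (e.symm : A →+* Γ(Spec (CommRingCat.of A), ⊤))
  ext x
  have hx : x ∈ J.map (e.symm : A →+* Γ(Spec (CommRingCat.of A), ⊤)) ↔ e x ∈ J := by
    conv_lhs => rw [← e.symm_apply_apply x]
    exact Ideal.apply_mem_of_equiv_iff
  rw [hx]
  have h2 := congrArg (fun φ => φ.hom x) (Scheme.ΓSpecIso_naturality (CommRingCat.ofHom (Ideal.Quotient.mk J)))
  have hinj : Function.Injective (Scheme.ΓSpecIso (CommRingCat.of (A ⧸ J))).hom.hom :=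
    (Scheme.ΓSpecIso (CommRingCat.of (A ⧸ J))).commRingCatIsoToRingEquiv.injective
  rw [RingHom.mem_ker, ← hinj.eq_iff, map_zero]
  simp only [CommRingCat.hom_comp, RingHom.comp_apply] at h2
  rw [h2]
  exact Ideal.Quotient.eq_zero_iff_mem

theorem idealSpec_injective : Function.Injective (FSch.idealSpec A) := fun I J h => by
  have h2 := congrArg (fun K : (Spec (CommRingCat.of A)).IdealSheafData => K.ideal ⟨⊤, isAffineOpen_top _⟩) h
  simp only [idealSpec_ideal_top] at h2
  have hb : Function.Bijective (Scheme.ΓSpecIso (CommRingCat.of A)).inv.hom :=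
    (Scheme.ΓSpecIso (CommRingCat.of A)).symm.commRingCatIsoToRingEquiv.bijective
  rw [← Ideal.comap_map_of_bijective (I := I) _ hb, h2, Ideal.comap_map_of_bijective _ hb]

theorem idealSpec_pow (J : Ideal A) (n : ℕ) : FSch.idealSpec A (J ^ n) = FSch.idealSpec A J ^ n := by
  refine Scheme.IdealSheafData.ext_of_isAffine ?_
  rw [Scheme.IdealSheafData.ideal_pow, Pi.pow_apply, idealSpec_ideal_top, idealSpec_ideal_top,
    Ideal.map_pow]

theorem comap_idealSpec (φ : B →+* A) (J : Ideal B) :
    (FSch.idealSpec B J).comap (Spec.map (CommRingCat.ofHom φ)) = FSch.idealSpec A (J.map φ) := by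
  refine Scheme.IdealSheafData.ext_of_isAffine ?_
  rw [Groth.Divisors.ideal_comap_top, idealSpec_ideal_top, idealSpec_ideal_top, Ideal.map_map,
    Ideal.map_map]
  congr 1
  exact congrArg CommRingCat.Hom.hom (Scheme.ΓSpecIso_inv_naturality (CommRingCat.ofHom φ)).symm

variable (I : Ideal A)

theorem isClosedImmersion_specQuot (n : ℕ) : IsClosedImmersion (CohB1.specQuot I n) :=
  IsClosedImmersion.spec_of_surjective _ Ideal.Quotient.mk_surjective

theorem ker_specQuotTrans (n : ℕ) :
    (CohB1.specQuotTrans I n).ker = (FSch.idealSpec A (I ^ (n + 1))).comap (CohB1.specQuot I (n + 1)) := by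
  haveI := isClosedImmersion_specQuot I (n + 1)
  haveI : IsClosedImmersion (CohB1.specQuotTrans I n ≫ CohB1.specQuot I (n + 1)) := by
    rw [CohB1.specQuotTrans_specQuot]; exact isClosedImmersion_specQuot I n
  rw [ker_eq_comap_ker_comp _ (CohB1.specQuot I (n + 1)), CohB1.specQuotTrans_specQuot]
  rfl

theorem toX_specQuot (n : ℕ) : (FSch.spf A I).toX n ≫ CohB1.specQuot I n = CohB1.specQuot I 0 := by
  induction n with
  | zero => exact Category.id_comp _
  | succ n ih =>
    refine (Category.assoc ((FSch.spf A I).toX n) (CohB1.specQuotTrans I n) _).trans ?_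
    refine Eq.trans ?_ ih
    exact congrArg _ (CohB1.specQuotTrans_specQuot I n)

theorem isFormal_spf : (FSch.spf A I).IsFormal := fun n => by
  have hπ : Function.Surjective (Ideal.Quotient.factor (S := I ^ (n + 2)) (T := I ^ (n + 1))
      (Ideal.pow_le_pow_right (Nat.le_succ (n + 1)))) := Ideal.Quotient.factor_surjective _
  refine ⟨IsClosedImmersion.spec_of_surjective (CommRingCat.ofHom _) hπ, fun P => ?_⟩
  have hmem : (P : PrimeSpectrum (A ⧸ I ^ (n + 2))) ∈ Set.range (PrimeSpectrum.comap (Ideal.Quotient.factor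
      (S := I ^ (n + 2)) (T := I ^ (n + 1)) (Ideal.pow_le_pow_right (Nat.le_succ (n + 1))))) := by
    rw [range_comap_of_surjective _ _ hπ]
    intro q hq
    have h1 : q ^ (n + 2) = 0 := by
      obtain ⟨a, rfl⟩ := Ideal.Quotient.mk_surjective q
      rw [SetLike.mem_coe, RingHom.mem_ker, Ideal.Quotient.factor_mk, Ideal.Quotient.eq_zero_iff_mem] at hq
      rw [← map_pow, Ideal.Quotient.eq_zero_iff_mem]
      refine Ideal.pow_le_pow_right (m := n + 2) ?_ (by rw [pow_mul]; exact Ideal.pow_mem_pow hq (n + 2) : _ ∈ I ^ ((n + 1) * (n + 2)))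
      nlinarith
    exact P.isPrime.mem_of_pow_mem (n + 2) (h1.symm ▸ Ideal.zero_mem _)
  exact hmem

theorem isAdic_spf : (FSch.spf A I).IsAdic := fun n => by
  haveI : IsClosedImmersion (show (FSch.spf A I).X (n + 1) ⟶ _ from CohB1.specQuot I (n + 1)) :=
    isClosedImmersion_specQuot I (n + 1)
  haveI : IsClosedImmersion ((FSch.spf A I).toX (n + 1) ≫ CohB1.specQuot I (n + 1)) := by
    rw [toX_specQuot]; exact isClosedImmersion_specQuot I 0
  refine (ker_specQuotTrans I n).trans ?_
  rw [ker_eq_comap_ker_comp ((FSch.spf A I).toX (n + 1)) (CohB1.specQuot I (n + 1)), toX_specQuot,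
    idealSpec_pow, Groth.Divisors.comap_pow]
  show _ = (Scheme.IdealSheafData.comap (FSch.idealSpec A (I ^ (0 + 1))) _) ^ (n + 1)
  rw [zero_add, pow_one]

end spec

section completion

variable (X : Scheme.{u}) (𝓘 : X.IdealSheafData)

instance (k : ℕ) : IsClosedImmersion (FSch.completionToX X 𝓘 k) :=
  inferInstanceAs (IsClosedImmersion (𝓘 ^ (k + 1)).subschemeι)

theorem toX_completionAlong (n : ℕ) :
    (FSch.completionAlong X 𝓘).toX n ≫ FSch.completionToX X 𝓘 n = FSch.completionToX X 𝓘 0 := by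
  induction n with
  | zero => exact Category.id_comp _
  | succ n ih =>
    refine (Category.assoc _ _ _).trans ?_
    show _ ≫ Scheme.IdealSheafData.inclusion _ ≫ _ = _
    rw [Scheme.IdealSheafData.inclusion_subschemeι]
    exact ih

theorem isFormal_completionAlong : (FSch.completionAlong X 𝓘).IsFormal := fun n => by
  refine ⟨?_, (surjective_inclusion (FSch.pow_succ_le X 𝓘 n) ?_).surj⟩
  · show IsClosedImmersion (Scheme.IdealSheafData.inclusion _); infer_instance
  · rw [Scheme.IdealSheafData.support_pow_succ, Scheme.IdealSheafData.support_pow_succ]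

theorem isAdic_completionAlong : (FSch.completionAlong X 𝓘).IsAdic := fun n => by
  haveI : IsClosedImmersion ((FSch.completionAlong X 𝓘).toX (n + 1) ≫ FSch.completionToX X 𝓘 (n + 1)) := by
    rw [toX_completionAlong]; infer_instance
  refine (ker_inclusion (FSch.pow_succ_le X 𝓘 n)).trans ?_
  rw [ker_eq_comap_ker_comp ((FSch.completionAlong X 𝓘).toX (n + 1)) (FSch.completionToX X 𝓘 (n + 1)),
    toX_completionAlong]
  rw [show (FSch.completionToX X 𝓘 0).ker = 𝓘 ^ (0 + 1) from
    Scheme.IdealSheafData.ker_subschemeι (𝓘 ^ (0 + 1)), zero_add, pow_one]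
  exact Groth.Divisors.comap_pow 𝓘 (FSch.completionToX X 𝓘 (n + 1)) (n + 1)

end completion

end Groth.AdicLinTop.Thickenings
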