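import Groth.Agent.AdicLinTop.FormalAffine
import Groth.Agent.AdicLinTop.SysExamples
import Groth.Agent.SitesTopoi.Mod.SpaceFlat

/-!
The completion of a locally Noetherian scheme maps flatly to the scheme.
-/

set_option autoImplicit false

universe u

open CategoryTheory CategoryTheory.Limits AlgebraicGeometry TopologicalSpace Opposite

namespace Groth.AdicLinTop.CompletionFlat

open Groth.AdicLinTop.FormalLevels Groth.AdicLinTop.FormalAffine

variable (X : Scheme.{u}) [IsLocallyNoetherian X] (𝓘 : X.IdealSheafData)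

/-- The completion is a locally Noetherian formal scheme. -/
theorem isLocNoethFormal : (FSch.completionAlong X 𝓘).IsLocNoethFormal :=
  ⟨Thickenings.isFormal_completionAlong X 𝓘, Thickenings.isAdic_completionAlong X 𝓘,
    fun n => LocallyOfFiniteType.isLocallyNoetherian (𝓘 ^ (n + 1)).subschemeι⟩

variable (h : (FSch.completionAlong X 𝓘).IsFormal)

local notation "p₀" => FSch.completionToX X 𝓘 0

/-- The map on structure sheaves over an open. -/
noncomputable abbrev sharp (U : X.Opens) :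
    Γ(X, U) →+* RS h (p₀ ⁻¹ᵁ U) :=
  ((FSch.schSharp (FSch.completionAlong X 𝓘) h (FSch.completionToX X 𝓘)
    (FSch.completionToX_comm X 𝓘)).hom.app (op U)).hom

theorem proj_sharp (U : X.Opens) (n : ℕ) (a : Γ(X, U)) :
    ((FSch.completionAlong X 𝓘).OshProj h n).hom.app (op (p₀ ⁻¹ᵁ U)) (sharp X 𝓘 h U a) =
      (FSch.completionToX X 𝓘 n).appLE U ((FSch.completionAlong X 𝓘).lvU h n (p₀ ⁻¹ᵁ U))
        (FSch.lvU_p (FSch.completionAlong X 𝓘) h (FSch.completionToX X 𝓘)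
          (FSch.completionToX_comm X 𝓘) n U).ge a :=
  congr(($(FSch.schSharp_proj (FSch.completionAlong X 𝓘) h (FSch.completionToX X 𝓘)
    (FSch.completionToX_comm X 𝓘) n)).hom.app (op U) a)

theorem level_spec {U : X.Opens} (hU : IsAffineOpen U) (n : ℕ) :
    let e := (FSch.lvU_p (FSch.completionAlong X 𝓘) h (FSch.completionToX X 𝓘)
      (FSch.completionToX_comm X 𝓘) n U)
    Function.Surjective ((FSch.completionToX X 𝓘 n).appLE U
      ((FSch.completionAlong X 𝓘).lvU h n (p₀ ⁻¹ᵁ U)) e.ge) ∧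
    RingHom.ker ((FSch.completionToX X 𝓘 n).appLE U
      ((FSch.completionAlong X 𝓘).lvU h n (p₀ ⁻¹ᵁ U)) e.ge).hom = 𝓘.ideal ⟨U, hU⟩ ^ (n + 1) := by
  intro e
  constructor
  · have h1 : Function.Surjective ((FSch.completionToX X 𝓘 n).app U) :=
      (𝓘 ^ (n + 1)).subschemeι.app_surjective U hU
    exact (bijective_res e.ge e.le).2.comp h1
  · refine (ker_appLE_eq (FSch.completionToX X 𝓘 n) ⟨U, hU⟩ _ e.ge e.le).trans ?_
    exact congrArg (fun J : X.IdealSheafData => J.ideal ⟨U, hU⟩)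
      (Scheme.IdealSheafData.ker_subschemeι (𝓘 ^ (n + 1)))

theorem map_ideal_eq {U : X.Opens} (hU : IsAffineOpen U) :
    (𝓘.ideal ⟨U, hU⟩).map (sharp X 𝓘 h U) = idl h (p₀ ⁻¹ᵁ U) := by
  have h𝔛 := isLocNoethFormal X 𝓘
  have hV : IsAffineOpen (p₀ ⁻¹ᵁ U) := hU.preimage p₀
  obtain ⟨hc, hp, hfg⟩ := FormalLevels.adic h𝔛 hV
  have hle : (𝓘.ideal ⟨U, hU⟩).map (sharp X 𝓘 h U) ≤ idl h (p₀ ⁻¹ᵁ U) := by
    refine Ideal.map_le_iff_le_comap.2 fun a ha => ?_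
    rw [Ideal.mem_comap, RingHom.mem_ker]
    refine (proj_sharp X 𝓘 h U 0 a).trans ?_
    exact RingHom.mem_ker.1 (((level_spec X 𝓘 h hU 0).2).ge (by rwa [pow_one]))
  refine le_antisymm hle (Submodule.le_of_le_smul_of_le_jacobson_bot hfg
    (IsAdicComplete.le_jacobson_bot (idl h (p₀ ⁻¹ᵁ U))) fun b hb => ?_)
  obtain ⟨a, ha⟩ := (level_spec X 𝓘 h hU 1).1
    (((FSch.completionAlong X 𝓘).OshProj h 1).hom.app (op (p₀ ⁻¹ᵁ U)) b)
  have h1 : ((FSch.completionAlong X 𝓘).OshProj h 1).hom.app (op (p₀ ⁻¹ᵁ U)) (b - sharp X 𝓘 h U a) = 0 := by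
    refine (map_sub _ _ _).trans (sub_eq_zero.2 ?_)
    exact ha.symm.trans (proj_sharp X 𝓘 h U 1 a).symm
  have h2 : b - sharp X 𝓘 h U a ∈ idl h (p₀ ⁻¹ᵁ U) ^ (1 + 1) :=
    (mem_pow_iff h𝔛 hV 1 _).2 h1
  have h3 : sharp X 𝓘 h U a ∈ idl h (p₀ ⁻¹ᵁ U) := by
    have := (idl h (p₀ ⁻¹ᵁ U)).sub_mem hb (Ideal.pow_le_self (by norm_num) h2)
    rwa [sub_sub_cancel] at this
  have h4 : a ∈ 𝓘.ideal ⟨U, hU⟩ := by
    rw [← pow_one (𝓘.ideal ⟨U, hU⟩), ← (level_spec X 𝓘 h hU 0).2, RingHom.mem_ker]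
    exact (proj_sharp X 𝓘 h U 0 a).symm.trans h3
  refine Submodule.mem_sup.2 ⟨sharp X 𝓘 h U a, Ideal.mem_map_of_mem _ h4, b - sharp X 𝓘 h U a, ?_,
    add_sub_cancel _ _⟩
  rw [smul_eq_mul, ← pow_two]
  exact h2

/-- Over an affine open the completion is flat. -/
theorem flat_sharp {U : X.Opens} (hU : IsAffineOpen U) : (sharp X 𝓘 h U).Flat := by
  have h𝔛 := isLocNoethFormal X 𝓘
  have hV : IsAffineOpen (p₀ ⁻¹ᵁ U) := hU.preimage p₀
  obtain ⟨hc, hp, -⟩ := FormalLevels.adic h𝔛 hV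
  have : IsNoetherianRing Γ(X, U) := IsLocallyNoetherian.component_noetherian ⟨U, hU⟩
  have : IsNoetherianRing (RS h (p₀ ⁻¹ᵁ U)) := FormalAffine.isNoetherianRing h𝔛 hV
  algebraize [sharp X 𝓘 h U]
  refine FlatComplete.flat_of_levels (𝓘.ideal ⟨U, hU⟩)
    ((map_ideal_eq X 𝓘 h hU).le.trans (IsAdicComplete.le_jacobson_bot _))
    (fun k => ((FSch.completionToX X 𝓘 k).appLE U ((FSch.completionAlong X 𝓘).lvU h k (p₀ ⁻¹ᵁ U))
      (FSch.lvU_p (FSch.completionAlong X 𝓘) h (FSch.completionToX X 𝓘)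
        (FSch.completionToX_comm X 𝓘) k U).ge).hom)
    (fun k => (((FSch.completionAlong X 𝓘).OshProj h k).hom.app (op (p₀ ⁻¹ᵁ U))).hom)
    (fun k => RingHom.id _)
    (fun k => (level_spec X 𝓘 h hU k).1) (fun k => (hp k).1)
    (fun k => (level_spec X 𝓘 h hU k).2) (fun k => ?_)
    (fun k => RingHom.ext fun a => (proj_sharp X 𝓘 h U k a).symm)
    (fun k => RingHom.Flat.id _)
  rw [(hp k).2]
  exact congrArg (· ^ (k + 1)) (map_ideal_eq X 𝓘 h hU).symm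

open Groth.SitesTopoi.ModH Groth.SitesTopoi.SpaceFlat in
/-- The stalk maps of the completion are flat. -/
theorem flat_stalkMapAt (x : (FSch.completionAlong X 𝓘).X 0) :
    (stalkMapAt (p₀).base (FSch.schSharp (FSch.completionAlong X 𝓘) h (FSch.completionToX X 𝓘)
      (FSch.completionToX_comm X 𝓘)) x).hom.Flat := by
  classical
  let 𝔛 := FSch.completionAlong X 𝓘
  let c := FSch.schSharp 𝔛 h (FSch.completionToX X 𝓘) (FSch.completionToX_comm X 𝓘)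
  let f := (p₀).base
  let OX : TopCat.Sheaf CommRingCat.{u} (𝔛.X 0).toTopCat := 𝔛.Osh h
  let φ := (stalkMapAt f c x).hom
  letI alg : Algebra (X.presheaf.stalk (f x)) (OX.presheaf.stalk x) := φ.toAlgebra
  show Module.Flat (X.presheaf.stalk (f x)) (OX.presheaf.stalk x)
  refine Module.Flat.iff_forall_isTrivialRelation.2 fun {l} {a} {m} ham => ?_
  obtain ⟨U₁, hU₁, -, a', ha'⟩ := exists_lifts X.presheaf (f x) a ⊤ trivial
  obtain ⟨V₁, hV₁, hV₁U, m', hm'⟩ := exists_lifts OX.presheaf x m (p₀ ⁻¹ᵁ U₁) hU₁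
  let β : V₁ ⟶ p₀ ⁻¹ᵁ U₁ := homOfLE hV₁U
  obtain ⟨V₂, hV₂, g₂, heq⟩ := exists_eqs OX.presheaf x V₁ hV₁
    (fun _ : Fin 1 => ∑ i, sha (rmor f c) β (a' i) * m' i) (fun _ => 0) fun _ => by
      rw [map_sum, map_zero]
      refine Eq.trans (Finset.sum_congr rfl fun i _ => ?_) ham
      rw [map_mul, hm', Algebra.smul_def]
      show _ = φ (a i) * m i
      rw [← ha']
      exact congrArg (· * m i) (stalkMapAt_germ f c hU₁ hV₁ β (a' i)).symm
  obtain ⟨W, hW, hWV⟩ := (Scheme.Hom.isEmbedding p₀).isInducing.isOpen_iff.1 V₂.2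
  obtain ⟨_, ⟨U, hU, rfl⟩, hxU, hUle⟩ := X.isBasis_affineOpens.exists_subset_of_mem_open
    (show f x ∈ W ∩ (U₁ : Set X) from ⟨by
      show x ∈ f ⁻¹' W
      rw [hWV]; exact hV₂, hU₁⟩) (hW.inter U₁.2)
  have hUU₁ : U ≤ U₁ := fun y hy => (hUle hy).2
  have hVV₂ : p₀ ⁻¹ᵁ U ≤ V₂ := fun y hy => by
    show y ∈ V₂.carrier
    rw [← hWV]
    exact (hUle hy).1
  let γ : p₀ ⁻¹ᵁ U ⟶ V₁ := homOfLE (hVV₂.trans g₂.le)
  let r : Fin l → Γ(X, U) := fun i => rsR (O := X.sheaf) (homOfLE hUU₁) (a' i)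
  let n : Fin l → RS h (p₀ ⁻¹ᵁ U) := fun i => rsR (O := 𝔛.Osh h) γ (m' i)
  have hrel : ∑ i, sharp X 𝓘 h U (r i) * n i = 0 := by
    have e := congrArg (rsR (O := 𝔛.Osh h) (homOfLE hVV₂)) (heq 0)
    simp only [map_zero] at e
    refine Eq.trans ?_ e
    show _ = rsR (O := 𝔛.Osh h) (homOfLE hVV₂) (rsR (O := 𝔛.Osh h) g₂ _)
    rw [rsR_rsR, map_sum]
    refine Finset.sum_congr rfl fun i _ => ?_
    rw [map_mul]
    refine congrArg₂ (· * ·) ?_ rfl
    refine Eq.trans ?_ (rsR_sha (rmor f c) (homOfLE hVV₂ ≫ g₂) β (a' i)).symm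
    exact NatTrans.naturality_apply c.hom (homOfLE hUU₁).op (a' i)
  algebraize [sharp X 𝓘 h U]
  haveI : Module.Flat Γ(X, U) (RS h (p₀ ⁻¹ᵁ U)) := flat_sharp X 𝓘 h hU
  obtain ⟨k, A, t, hA, hA'⟩ := Module.Flat.isTrivialRelation_of_sum_smul_eq_zero (f := r) (x := n)
    (by simp only [Algebra.smul_def]; exact hrel)
  refine ⟨k, fun i j => X.presheaf.germ U (f x) hxU (A i j),
    fun j => OX.presheaf.germ (p₀ ⁻¹ᵁ U) x hxU (t j), fun i => ?_, fun j => ?_⟩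
  · refine ((hm' i).symm.trans (TopCat.Presheaf.germ_res_apply OX.presheaf γ x hxU (m' i)).symm).trans ?_
    refine (congrArg (OX.presheaf.germ (p₀ ⁻¹ᵁ U) x hxU) (hA i)).trans ?_
    rw [map_sum]
    refine Finset.sum_congr rfl fun j _ => ?_
    rw [Algebra.smul_def, Algebra.smul_def, map_mul]
    show _ = φ (X.presheaf.germ U (f x) hxU (A i j)) * _
    refine congrArg (· * _) (Eq.trans ?_ (stalkMapAt_germ f c hxU hxU (𝟙 _) (A i j)).symm)
    refine congrArg _ ?_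
    exact (congrArg (fun q : RS h (p₀ ⁻¹ᵁ U) →+* RS h (p₀ ⁻¹ᵁ U) => q (sharp X 𝓘 h U (A i j)))
      (RingHom.ext fun z => rsR_id z : rsR (O := 𝔛.Osh h) (𝟙 (p₀ ⁻¹ᵁ U)) = RingHom.id _)).symm
  · have := congrArg (X.presheaf.germ U (f x) hxU) (hA' j)
    rw [map_sum, map_zero] at this
    refine Eq.trans (Finset.sum_congr rfl fun i _ => ?_) this
    rw [map_mul, ← ha' i]
    exact congrArg (· * _) (TopCat.Presheaf.germ_res_apply X.presheaf (homOfLE hUU₁) (f x) hxU (a' i)).symm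

end Groth.AdicLinTop.CompletionFlat
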