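import Groth.Agent.AdicLinTop.SpaceGlue
import Groth.Prelude.Def_ModSite

/-!
# A criterion for a module to be an inverse image

For a morphism `f` of ringed spaces given by a functor on opens, a morphism `γ : F ⟶ f_* G` exhibits
`G` as `f^* F` as soon as, on a family of opens `W` of the target whose images form a basis-like
family, `G` is generated by the images of sections of `F` over `W` with relations coming from `F`.
-/

set_option autoImplicit false

universe u

open CategoryTheory Opposite TopologicalSpace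

namespace Groth.AdicLinTop.PullRep

open Groth.SitesTopoi.ModH Groth.AdicLinTop.SpacePres Groth.AdicLinTop.SpaceGlue

variable {S T : Type u} [TopologicalSpace S] [TopologicalSpace T]
  {O_T : Sheaf (Opens.grothendieckTopology T) CommRingCat.{u}}
  {O_S : Sheaf (Opens.grothendieckTopology S) CommRingCat.{u}}
  (f : ModSite.RMor O_T O_S)

/-- The structure map on sections. -/
noncomputable abbrev shp (W : Opens S) : rsec O_S W →+* rsec O_T (f.fn.obj W) :=
  (f.sharp.hom.app (op W)).hom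

variable {f} {F : ModSite.Mod O_S} {G H : ModSite.Mod O_T} (γ : F ⟶ f.push.obj G) (η : F ⟶ f.push.obj H)

/-- The image of a section. -/
noncomputable def img {W : Opens S} (m : sc F.val W) : sc G.val (f.fn.obj W) :=
  apm γ.val W m

theorem img_add {W : Opens S} (m m' : sc F.val W) : img γ (m + m') = img γ m + img γ m' :=
  map_add (apm γ.val W) m m'

theorem img_smul {W : Opens S} (r : rsec O_S W) (m : sc F.val W) : img γ (r • m) = shp f W r • img γ m :=
  map_smul (apm γ.val W) r m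

theorem img_sum {W : Opens S} {ι : Type*} (s : Finset ι) (m : ι → sc F.val W) :
    img γ (∑ i ∈ s, m i) = ∑ i ∈ s, img γ (m i) :=
  map_sum (apm γ.val W) m s

theorem img_zero {W : Opens S} : img γ (0 : sc F.val W) = 0 :=
  map_zero (apm γ.val W)

theorem img_rm {W W' : Opens S} (h : W' ≤ W) (m : sc F.val W) :
    img γ (rm F h m) = rm G (f.fn.map (homOfLE h)).le (img γ m) :=
  apm_rsm γ.val (homOfLE h) m

/-- Generators over a chart, with relations. -/
structure Chart (W : Opens S) where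
  /-- number of generators -/
  n : ℕ
  /-- number of relations -/
  l : ℕ
  /-- generators -/
  s : Fin n → sc F.val W
  /-- relations -/
  r : Fin l → Fin n → rsec O_S W
  zero : ∀ j, ∑ i, r j i • s i = 0
  comb : ∀ m : sc F.val W, ∃ c : Fin n → rsec O_S W, m = ∑ i, c i • s i
  gen : ∀ (U : Opens T) (hU : U ≤ f.fn.obj W) (t : sc G.val U), ∀ x ∈ U,
    ∃ (V : Opens T) (hV : V ≤ U), x ∈ V ∧ ∃ a : Fin n → rsec O_T V,
      rm G hV t = ∑ i, a i • rm G (hV.trans hU) (img γ (s i))
  rel : ∀ (U : Opens T) (hU : U ≤ f.fn.obj W) (a : Fin n → rsec O_T U),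
    ∑ i, a i • rm G hU (img γ (s i)) = 0 → ∀ x ∈ U,
    ∃ (V : Opens T) (hV : V ≤ U), x ∈ V ∧ ∃ c : Fin l → rsec O_T V,
      ∀ i, rr hV (a i) = ∑ j, c j * rr (hV.trans hU) (shp f W (r j i))

variable {γ}

/-- Sections expressed in the generators of a chart. -/
theorem exists_comb {W W' : Opens S} (C : Chart γ W') (h : W' ≤ W) (m : sc F.val W) :
    ∃ c : Fin C.n → rsec O_S W', ∀ (K : ModSite.Mod O_T) (κ : F ⟶ f.push.obj K),
      rm K (f.fn.map (homOfLE h)).le (img κ m) = ∑ i, shp f W' (c i) • img κ (C.s i) := by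
  obtain ⟨c, hc⟩ := C.comb (rm F h m)
  refine ⟨c, fun K κ => ?_⟩
  rw [← img_rm κ h, hc, img_sum]
  exact Finset.sum_congr rfl fun i _ => img_smul κ _ _

/-- A combination of images on a chart, restricted and rewritten on a smaller chart. -/
theorem exists_conv {W W' : Opens S} (C : Chart γ W) (C' : Chart γ W') (h : W' ≤ W) {U V : Opens T}
    (hU : U ≤ f.fn.obj W) (hV : V ≤ f.fn.obj W') (e : V ≤ U) (a : Fin C.n → rsec O_T U) :
    ∃ b : Fin C'.n → rsec O_T V, ∀ (K : ModSite.Mod O_T) (κ : F ⟶ f.push.obj K),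
      rm K e (comb (fun i => img κ (C.s i)) hU a) = comb (fun i => img κ (C'.s i)) hV b := by
  choose A hA using fun i => exists_comb C' h (C.s i)
  refine ⟨fun i' => ∑ i, rr e (a i) * rr hV (shp f W' (A i i')), fun K κ => ?_⟩
  rw [rm_comb]
  simp only [comb, Finset.sum_smul, mul_smul]
  rw [Finset.sum_comm]
  refine Finset.sum_congr rfl fun i _ => ?_
  rw [← rm_rm K (f.fn.map (homOfLE h)).le hV, hA i K κ, map_sum, ← Finset.smul_sum]
  exact congrArg (rr e (a i) • ·) (Finset.sum_congr rfl fun i' _ => rm_smul _ _ _ _)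

/-- Relations among the images hold for every morphism. -/
theorem comb_eq_zero {W : Opens S} (C : Chart γ W) {U : Opens T} (hU : U ≤ f.fn.obj W) (a : Fin C.n → rsec O_T U)
    (ha : comb (fun i => img γ (C.s i)) hU a = 0) : comb (fun i => img η (C.s i)) hU a = 0 := by
  refine eq_zero_of_local fun x hx => ?_
  obtain ⟨V, hV, hxV, c, hc⟩ := C.rel U hU a ha x hx
  refine ⟨V, hV, hxV, ?_⟩
  have key : ∀ j, ∑ i, shp f W (C.r j i) • img η (C.s i) = 0 := fun j => by
    have := congrArg (img η) (C.zero j)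
    rw [img_sum, img_zero] at this
    exact (Finset.sum_congr rfl fun i _ => (img_smul η _ _).symm).trans this
  rw [rm_comb]
  simp only [comb, hc, Finset.sum_smul, mul_smul]
  rw [Finset.sum_comm]
  refine Finset.sum_eq_zero fun j _ => ?_
  rw [← Finset.smul_sum]
  have h1 := congrArg (rm H (hV.trans hU)) (key j)
  rw [map_sum, map_zero] at h1
  rw [(Finset.sum_congr rfl fun i _ => (rm_smul H (hV.trans hU) _ _).symm).trans h1, smul_zero]

variable {B : Set (Opens S)} (chart : ∀ W ∈ B, Chart γ W)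
  (hB : ∀ (W₁ W₂ : Opens S) (x : T), W₁ ∈ B → W₂ ∈ B → x ∈ f.fn.obj W₁ → x ∈ f.fn.obj W₂ →
    ∃ W ∈ B, W ≤ W₁ ∧ W ≤ W₂ ∧ x ∈ f.fn.obj W)
  (hcov : ∀ x : T, ∃ W ∈ B, x ∈ f.fn.obj W)

include hB in
theorem comb_congr {W₁ W₂ : Opens S} (hW₁ : W₁ ∈ B) (hW₂ : W₂ ∈ B) {U : Opens T}
    (h₁ : U ≤ f.fn.obj W₁) (h₂ : U ≤ f.fn.obj W₂) (a₁ : Fin (chart W₁ hW₁).n → rsec O_T U)
    (a₂ : Fin (chart W₂ hW₂).n → rsec O_T U)
    (e : comb (fun i => img γ ((chart W₁ hW₁).s i)) h₁ a₁ = comb (fun i => img γ ((chart W₂ hW₂).s i)) h₂ a₂) :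
    comb (fun i => img η ((chart W₁ hW₁).s i)) h₁ a₁ = comb (fun i => img η ((chart W₂ hW₂).s i)) h₂ a₂ := by
  refine eq_of_local fun x hx => ?_
  obtain ⟨W, hW, hWW₁, hWW₂, hxW⟩ := hB W₁ W₂ x hW₁ hW₂ (h₁ hx) (h₂ hx)
  refine ⟨U ⊓ f.fn.obj W, inf_le_left, ⟨hx, hxW⟩, ?_⟩
  obtain ⟨b₁, hb₁⟩ := exists_conv (chart W₁ hW₁) (chart W hW) hWW₁ h₁ inf_le_right inf_le_left a₁
  obtain ⟨b₂, hb₂⟩ := exists_conv (chart W₂ hW₂) (chart W hW) hWW₂ h₂ inf_le_right inf_le_left a₂
  rw [hb₁ H η, hb₂ H η, ← sub_eq_zero]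
  have e' := congrArg (rm G (inf_le_left : U ⊓ f.fn.obj W ≤ U)) e
  rw [hb₁ G γ, hb₂ G γ, ← sub_eq_zero] at e'
  simp only [comb, ← Finset.sum_sub_distrib, ← sub_smul] at e' ⊢
  exact comb_eq_zero η (chart W hW) _ (b₁ - b₂) e'

/-- `y` is the value at `x` of the morphism determined by `η`. -/
def IsVal {U : Opens T} (x : sc G.val U) (y : sc H.val U) : Prop :=
  ∀ (V : Opens T) (hVU : V ≤ U) (W : Opens S) (hW : W ∈ B) (hV : V ≤ f.fn.obj W)
    (a : Fin (chart W hW).n → rsec O_T V),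
    rm G hVU x = comb (fun i => img γ ((chart W hW).s i)) hV a →
      rm H hVU y = comb (fun i => img η ((chart W hW).s i)) hV a

include hB hcov in
theorem exists_isVal {U : Opens T} (x : sc G.val U) : ∃ y, IsVal η chart x y := by
  have h0 : ∀ p : U, ∃ (V : Opens T) (hV : V ≤ U), p.1 ∈ V ∧ ∃ (W : Opens S) (hW : W ∈ B) (hVW : V ≤ f.fn.obj W)
      (a : Fin (chart W hW).n → rsec O_T V), rm G hV x = comb (fun i => img γ ((chart W hW).s i)) hVW a := by
    rintro ⟨p, hp⟩
    obtain ⟨W, hW, hpW⟩ := hcov p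
    obtain ⟨V, hV, hpV, a, ha⟩ := (chart W hW).gen (U ⊓ f.fn.obj W) inf_le_right (rm G inf_le_left x) p ⟨hp, hpW⟩
    exact ⟨V, hV.trans inf_le_left, hpV, W, hW, hV.trans inf_le_right, a, (rm_rm G _ _ x).symm.trans ha⟩
  choose V hVU hpV W hW hVW a ha using h0
  have compat : ∀ p q, rm H (inf_le_left : V p ⊓ V q ≤ V p) (comb (fun i => img η ((chart _ (hW p)).s i)) (hVW p) (a p)) =
      rm H (inf_le_right : V p ⊓ V q ≤ V q) (comb (fun i => img η ((chart _ (hW q)).s i)) (hVW q) (a q)) := fun p q => by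
    rw [rm_comb, rm_comb]
    refine comb_congr η chart hB (hW p) (hW q) _ _ _ _ ?_
    rw [← rm_comb _ (hVW p), ← rm_comb _ (hVW q), ← ha, ← ha, rm_rm, rm_rm]
  obtain ⟨y, hy, -⟩ := TopCat.Sheaf.existsUnique_gluing'
    (⟨H.val.presheaf, H.isSheaf⟩ : TopCat.Sheaf AddCommGrpCat.{u} (TopCat.of T)) V U
    (fun p => homOfLE (hVU p)) (fun p hp => Opens.mem_iSup.2 ⟨⟨p, hp⟩, hpV ⟨p, hp⟩⟩)
    (fun p => (comb (fun i => img η ((chart _ (hW p)).s i)) (hVW p) (a p) : sc H.val (V p))) (by exact compat)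
  have hy : ∀ p, rm H (hVU p) y = comb (fun i => img η ((chart _ (hW p)).s i)) (hVW p) (a p) := hy
  refine ⟨y, fun V' hV'U W' hW' hV'W b hb => eq_of_local fun p hp => ?_⟩
  let q : U := ⟨p, hV'U hp⟩
  refine ⟨V' ⊓ V q, inf_le_left, ⟨hp, hpV q⟩, ?_⟩
  rw [rm_rm, rm_comb, show rm H ((inf_le_left : V' ⊓ V q ≤ V').trans hV'U) y =
    rm H (inf_le_right : V' ⊓ V q ≤ V q) (rm H (hVU q) y) by rw [rm_rm], hy, rm_comb]
  refine comb_congr η chart hB (hW q) hW' _ _ _ _ ?_
  rw [← rm_comb _ (hVW q), ← rm_comb _ hV'W, ← hb, ← ha, rm_rm, rm_rm]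

include hB hcov in
theorem isVal_unique {U : Opens T} {x : sc G.val U} {y y' : sc H.val U}
    (h : IsVal η chart x y) (h' : IsVal η chart x y') : y = y' := by
  refine eq_of_local fun p hp => ?_
  obtain ⟨W, hW, hpW⟩ := hcov p
  obtain ⟨V, hV, hpV, a, ha⟩ := (chart W hW).gen (U ⊓ f.fn.obj W) inf_le_right (rm G inf_le_left x) p ⟨hp, hpW⟩
  have ha' : rm G (hV.trans inf_le_left) x = comb (fun i => img γ ((chart W hW).s i)) (hV.trans inf_le_right) a :=
    (rm_rm G _ _ x).symm.trans ha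
  exact ⟨V, hV.trans inf_le_left, hpV,
    (h V _ W hW _ a ha').trans (h' V _ W hW _ a ha').symm⟩

include chart hB hcov in
/-- The morphism determined by `η` on charts. -/
theorem exists_desc : ∃ δ : G ⟶ H, ∀ (W : Opens S), W ∈ B → ∀ m : sc F.val W,
    apm δ.val (f.fn.obj W) (img γ m) = img η m := by
  choose v hv using fun (U : Opens T) (x : sc G.val U) => exists_isVal η chart hB hcov x
  have hrm : ∀ {U U' : Opens T} (e : U' ≤ U) (x : sc G.val U), v U' (rm G e x) = rm H e (v U x) := fun e x =>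
    isVal_unique η chart hB hcov (hv _ _) fun V hVU W hW hV a h => by
      rw [rm_rm]
      exact hv _ x V _ W hW hV a ((rm_rm G _ _ x).symm.trans h)
  have hadd : ∀ (U : Opens T) (x x' : sc G.val U), v U (x + x') = v U x + v U x' := fun U x x' =>
    isVal_unique η chart hB hcov (hv _ _) fun V hVU W hW hV a e => by
      refine eq_of_local fun p hp => ?_
      obtain ⟨V', hV', hpV', b, hb⟩ := (chart W hW).gen V hV (rm G hVU x) p hp
      refine ⟨V', hV', hpV', ?_⟩
      have hxb : rm G (hV'.trans hVU) x = comb (fun i => img γ ((chart W hW).s i)) (hV'.trans hV) b :=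
        (rm_rm G _ _ x).symm.trans hb
      have hx'b : rm G (hV'.trans hVU) x' =
          comb (fun i => img γ ((chart W hW).s i)) (hV'.trans hV) ((fun i => rr hV' (a i)) - b) := by
        have e' := congrArg (rm G hV') e
        rw [map_add, map_add, rm_rm, rm_rm, hxb, rm_comb] at e'
        simp only [comb, Pi.sub_apply, sub_smul, Finset.sum_sub_distrib] at e' ⊢
        exact eq_sub_of_add_eq' e'
      rw [map_add, map_add, rm_rm, rm_rm, rm_comb, hv _ x V' _ W hW _ b hxb, hv _ x' V' _ W hW _ _ hx'b]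
      simp only [comb, Pi.sub_apply, sub_smul, Finset.sum_sub_distrib]
      exact add_sub_cancel _ _
  have hsmul : ∀ (U : Opens T) (c : rsec O_T U) (x : sc G.val U), v U (c • x) = c • v U x := fun U c x => by
    refine eq_of_local fun p hp => ?_
    obtain ⟨W, hW, hpW⟩ := hcov p
    obtain ⟨V, hV, hpV, b, hb⟩ := (chart W hW).gen (U ⊓ f.fn.obj W) inf_le_right (rm G inf_le_left x) p ⟨hp, hpW⟩
    have hVU : V ≤ U := hV.trans inf_le_left
    have hxb : rm G hVU x = comb (fun i => img γ ((chart W hW).s i)) (hV.trans inf_le_right) b :=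
      (rm_rm G _ _ x).symm.trans hb
    have hcx : rm G hVU (c • x) = comb (fun i => img γ ((chart W hW).s i)) (hV.trans inf_le_right)
        (fun i => rr hVU c * b i) := by
      rw [rm_smul, hxb]
      simp only [comb, mul_smul, ← Finset.smul_sum]
    refine ⟨V, hVU, hpV, ?_⟩
    rw [hv _ _ V hVU W hW _ _ hcx, rm_smul, hv _ x V hVU W hW _ b hxb]
    simp only [comb, mul_smul, ← Finset.smul_sum]
  let δ : G ⟶ H := ⟨PresheafOfModules.homMk
    { app := fun U => AddCommGrpCat.ofHom (AddMonoidHom.mk' (v U.unop) (hadd U.unop))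
      naturality := fun U U' i => by
        ext x
        exact hrm i.unop.le x }
    fun U c x => hsmul U.unop c x⟩
  refine ⟨δ, fun W hW m => ?_⟩
  obtain ⟨c, hc⟩ := exists_comb (chart W hW) (le_refl W) m
  have h1 : ∀ (K : ModSite.Mod O_T) (κ : F ⟶ f.push.obj K),
      img κ m = comb (fun i => img κ ((chart W hW).s i)) (le_refl (f.fn.obj W)) (fun i => shp f W (c i)) := fun K κ => by
    have := hc K κ
    rw [rm_self] at this
    simp only [comb, rm_self]
    exact this
  have h2 := hv (f.fn.obj W) (img γ m) (f.fn.obj W) le_rfl W hW le_rfl (fun i => shp f W (c i))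
    ((rm_self G _).trans (h1 G γ))
  rw [rm_self] at h2
  exact h2.trans (h1 H η).symm

include chart hB hcov in
/-- The adjoint morphism of `γ` is an isomorphism. -/
theorem isIso_adjunct
    (hBbasis : ∀ (U : Opens S) (x : S), x ∈ U → ∃ W ∈ B, x ∈ W ∧ W ≤ U) :
    IsIso ((f.adj.homEquiv F G).symm γ) := by
  let ε := (f.adj.homEquiv F G).symm γ
  obtain ⟨δ, hδ⟩ := exists_desc (f.adj.unit.app F) chart hB hcov
  have hunit : ∀ (W : Opens S) (m : sc F.val W), apm ε.val (f.fn.obj W) (img (f.adj.unit.app F) m) = img γ m := by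
    intro W m
    have e : f.adj.unit.app F ≫ f.push.map ε = γ :=
      (f.adj.homEquiv_unit F G ε).symm.trans (Equiv.apply_symm_apply _ _)
    exact congrArg (fun φ : F ⟶ f.push.obj G => apm φ.val W m) e
  refine ⟨δ, (f.adj.homEquiv F _).injective ?_, ?_⟩
  · refine (f.adj.homEquiv_unit F _ _).trans (Eq.trans ?_ (((f.adj.homEquiv_unit F _ (𝟙 _)).trans
      (congrArg (f.adj.unit.app F ≫ ·) (f.push.map_id _))).trans (Category.comp_id _)).symm)
    refine SheafOfModules.hom_ext (pm_hom_ext fun U m => eq_of_local fun p hp => ?_)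
    obtain ⟨W, hW, hpW, hWU⟩ := hBbasis U p hp
    refine ⟨W, hWU, hpW, ?_⟩
    refine (apm_rsm _ _ m).symm.trans (Eq.trans ?_ (apm_rsm _ _ m))
    exact (congrArg (apm δ.val (f.fn.obj W)) (hunit W _)).trans (hδ W hW _)
  · refine SheafOfModules.hom_ext (pm_hom_ext fun U x => eq_of_local fun p hp => ?_)
    obtain ⟨W, hW, hpW⟩ := hcov p
    obtain ⟨V, hV, hpV, a, ha⟩ := (chart W hW).gen (U ⊓ f.fn.obj W) inf_le_right (rm G inf_le_left x) p ⟨hp, hpW⟩
    refine ⟨V, hV.trans inf_le_left, hpV, ?_⟩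
    refine (apm_rsm _ _ x).symm.trans (Eq.trans ?_ (apm_rsm _ _ x))
    rw [show rsm G.val (homOfLE (hV.trans inf_le_left)) x = comb (fun i => img γ ((chart W hW).s i)) (hV.trans inf_le_right) a
      from (rm_rm G _ _ x).symm.trans ha]
    rw [app_comb, app_comb]
    refine congrArg (fun t => comb t _ a) (funext fun i => ?_)
    exact (congrArg (apm ε.val (f.fn.obj W)) (hδ W hW _)).trans (hunit W _)

end Groth.AdicLinTop.PullRep
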