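import Groth.Agent.AdicLinTop.ComplReal
import Groth.Agent.AdicLinTop.PullRep
import Groth.Agent.AdicLinTop.CompletionFlat

/-!
# The completion of a coherent module is its inverse image to the completion
-/

set_option autoImplicit false

universe u

open CategoryTheory CategoryTheory.Limits AlgebraicGeometry TopologicalSpace Opposite

namespace Groth.AdicLinTop.ComplPull

open Groth.AdicLinTop.FormalLevels Groth.AdicLinTop.FormalReal Groth.AdicLinTop.FormalAffine
open Groth.AdicLinTop.FormalSpan Groth.AdicLinTop.ComplReal Groth.AdicLinTop.CompletionFlat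
open Groth.QCohMod (res resFun res_res res_smul res_app resFun_resFun)
open Groth.PicAux (pullSec pullSec_smul res_pullSec)

variable {X : Scheme.{u}} {𝓘 : X.IdealSheafData}

variable (X 𝓘) in
/-- The morphism of ringed spaces from the completion. -/
noncomputable abbrev uMor (h : (FSch.completionAlong X 𝓘).IsFormal) :
    ModSite.RMor ((FSch.completionAlong X 𝓘).Osh h) X.sheaf :=
  FSch.toSchemeMor (FSch.completionAlong X 𝓘) h (FSch.completionToX X 𝓘) (FSch.completionToX_comm X 𝓘)

/-- A module on a scheme as a module on its ringed site. -/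
noncomputable abbrev asMod (F : X.Modules) : ModSite.Mod X.sheaf := F

section Gamma

variable [IsLocallyNoetherian X] {h : (FSch.completionAlong X 𝓘).IsFormal} (F : X.Modules)

theorem appLE_eq (k : ℕ) (W : X.Opens) (r : Γ(X, W)) :
    (FSch.completionToX X 𝓘 k).appLE W ((FSch.completionAlong X 𝓘).lvU h k (op0 𝓘 W))
      (le_preimage h k W) r = resFun _ (le_preimage h k W) ((FSch.completionToX X 𝓘 k).app W r) := rfl

variable (h) in
theorem cev_add (k : ℕ) (W : X.Opens) (m m' : Γ(F, W)) :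
    cev h F k W (m + m') = cev h F k W m + cev h F k W m' :=
  (congrArg (res _ (le_preimage h k W))
    (map_add (((Scheme.Modules.pullbackPushforwardAdjunction (FSch.completionToX X 𝓘 k)).unit.app F).app W).hom
      m m')).trans (map_add _ _ _)

theorem cev_smul (k : ℕ) (W : X.Opens) (r : Γ(X, W)) (m : Γ(F, W)) :
    cev h F k W (r • m) =
      (FSch.completionToX X 𝓘 k).appLE W ((FSch.completionAlong X 𝓘).lvU h k (op0 𝓘 W))
        (le_preimage h k W) r • cev h F k W m := by
  refine (congrArg (res _ (le_preimage h k W)) (pullSec_smul (FSch.completionToX X 𝓘 k) F r m)).trans ?_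
  exact (res_smul _ _ _ _).trans (congrArg (· • cev h F k W m) (appLE_eq k W r).symm)

theorem cev_res (k : ℕ) {W W' : X.Opens} (e : W' ≤ W) (m : Γ(F, W)) :
    cev h F k W' (res F e m) =
      res ((FSch.complMod 𝓘 F).F k) (lvU_mono h k ((FSch.completionToX X 𝓘 0).preimage_mono e))
        (cev h F k W m) := by
  refine (congrArg (res _ (le_preimage h k W')) (res_pullSec (FSch.completionToX X 𝓘 k) F e m).symm).trans ?_
  exact (res_res ((FSch.complMod 𝓘 F).F k) ((FSch.completionToX X 𝓘 k).preimage_mono e) (le_preimage h k W') _).trans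
    (res_res ((FSch.complMod 𝓘 F).F k) (le_preimage h k W) _ _).symm

variable (h) in
/-- The family of the images of a section at the levels. -/
noncomputable def cevAt (W : X.Opens) (m : Γ(F, W)) : ∀ k : ℕ,
    Γ((FSch.complMod 𝓘 F).F k, (FSch.completionAlong X 𝓘).lvU h k (op0 𝓘 W)) :=
  fun k => cev h F k W m

theorem cevAt_apply (W : X.Opens) (m : Γ(F, W)) (k : ℕ) : cevAt h F W m k = cev h F k W m := rfl

theorem trans_cevAt (W : X.Opens) (m : Γ(F, W)) (k : ℕ) :
    pushEquiv k _ (op0 𝓘 W) (app (trans h (FSch.complMod 𝓘 F) k) (op0 𝓘 W)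
      ((pushEquiv (k + 1) _ (op0 𝓘 W)).symm (cevAt h F W m (k + 1)))) = cevAt h F W m k :=
  trans_cevW_aux F W k m _ _ (cevAt_apply F W m (k + 1)) (cevAt_apply F W m k)

variable (h) in
theorem exists_gammaVal (W : X.Opens) (m : Γ(F, W)) :
    ∃ x : Sec ((FSch.complMod 𝓘 F).realMod h) (op0 𝓘 W), ∀ k, lev h (FSch.complMod 𝓘 F) k _ x = cevAt h F W m k :=
  exists_lev (cevAt h F W m) (trans_cevAt F W m)

variable (h) in
/-- The value of the canonical morphism to the completion. -/
noncomputable def gammaVal (W : X.Opens) (m : Γ(F, W)) : Sec ((FSch.complMod 𝓘 F).realMod h) (op0 𝓘 W) :=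
  (exists_gammaVal h F W m).choose

theorem lev_gammaVal (W : X.Opens) (m : Γ(F, W)) (k : ℕ) :
    lev h (FSch.complMod 𝓘 F) k _ (gammaVal h F W m) = cev h F k W m :=
  ((exists_gammaVal h F W m).choose_spec k).trans (cevAt_apply F W m k)

theorem lev_add {𝔛 : FSch.Sys.{u}} {h : 𝔛.IsFormal} (𝔐 : FSch.ModSys 𝔛) (k : ℕ) (U : (𝔛.X 0).Opens)
    (x y : Sec (𝔐.realMod h) U) : lev h 𝔐 k U (x + y) = lev h 𝔐 k U x + lev h 𝔐 k U y := by
  rw [lev, map_add, map_add]
  rfl

theorem projR_sharp (k : ℕ) (W : X.Opens) (r : Γ(X, W)) :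
    projR k (op0 𝓘 W) (sharp X 𝓘 h W r) =
      (FSch.completionToX X 𝓘 k).appLE W ((FSch.completionAlong X 𝓘).lvU h k (op0 𝓘 W))
        (le_preimage h k W) r :=
  proj_sharp X 𝓘 h W k r

variable (h) in
/-- The canonical morphism to the completion. -/
noncomputable def gamma : asMod F ⟶ (uMor X 𝓘 h).push.obj ((FSch.complMod 𝓘 F).realMod h) :=
  ⟨PresheafOfModules.homMk
    { app := fun W => AddCommGrpCat.ofHom (AddMonoidHom.mk' (fun m => gammaVal h F W.unop m) fun m m' =>
        lev_ext_gen fun k => (lev_gammaVal F W.unop (m + m') k).trans ((cev_add h F k W.unop m m').trans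
          ((congrArg₂ (· + ·) (lev_gammaVal F W.unop m k).symm (lev_gammaVal F W.unop m' k).symm).trans
            (lev_add (FSch.complMod 𝓘 F) k _ _ _).symm)))
      naturality := fun W W' i => by
        ext m
        refine lev_ext_gen fun k => ?_
        refine (lev_gammaVal F W'.unop _ k).trans (Eq.trans ?_ (lev_rs (FSch.complMod 𝓘 F) k
          ((FSch.completionToX X 𝓘 0).preimage_mono i.unop.le) _).symm)
        exact (cev_res F k i.unop.le m).trans (congrArg (res _ _) (lev_gammaVal F W.unop m k)).symm }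
    fun W r m => by
      refine lev_ext_gen fun k => ?_
      refine (lev_gammaVal F W.unop _ k).trans (Eq.trans ?_
        (lev_smul (FSch.complMod 𝓘 F) k (sharp X 𝓘 h W.unop r) _).symm)
      exact (cev_smul F k W.unop r m).trans ((congrArg (· • _) (projR_sharp k W.unop r).symm).trans
        (congrArg (_ • ·) (lev_gammaVal F W.unop m k).symm))⟩

theorem img_gamma (W : X.Opens) (m : Γ(F, W)) :
    PullRep.img (gamma h F) m = gammaVal h F W m := rfl

end Gamma

variable [IsLocallyNoetherian X] {h : (FSch.completionAlong X 𝓘).IsFormal} {F : X.Modules}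

omit [IsLocallyNoetherian X] in
theorem isCoh_complMod (hF : Coh.IsCoh F) : (FSch.complMod 𝓘 F).IsCoh := fun k =>
  have := hF.1
  ⟨Groth.QCohMod.isQCoh_pullback_obj _ _, Groth.QCohMod.isFT_pullback _ _ hF.2⟩

/-- Relations between the images of generators come from relations. -/
theorem mem_span_relations {W : X.Opens} (hW : IsAffineOpen W) [F.IsQuasicoherent] {n l : ℕ} (s : Fin n → Γ(F, W))
    (hs : Submodule.span Γ(X, W) (Set.range s) = ⊤) (r : Fin l → Fin n → Γ(X, W))
    (hr : Submodule.span Γ(X, W) (Set.range r) = LinearMap.ker (Fintype.linearCombination Γ(X, W) s))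
    (a : Fin n → RS h (op0 𝓘 W)) (ha : ∑ i, a i • gammaVal h F W (s i) = 0) :
    a ∈ Submodule.span (RS h (op0 𝓘 W)) (Set.range fun j => fun i => sharp X 𝓘 h W (r j i)) := by
  classical
  have h𝔛 := isLocNoethFormal X 𝓘
  have hV : IsAffineOpen (op0 𝓘 W) := hW.preimage _
  have := isNoetherianRing h𝔛 hV
  obtain ⟨-, hp, -⟩ := FormalLevels.adic h𝔛 hV
  refine mem_of_forall_mem_sup h𝔛 hV _ fun k => ?_
  obtain ⟨hls, hlk⟩ := level_spec X 𝓘 h hW k
  choose c hc using fun i => hls (projR k (op0 𝓘 W) (a i))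
  have h0 : cev h F k W (∑ i, c i • s i) = 0 := by
    have e := congrArg (lev h (FSch.complMod 𝓘 F) k (op0 𝓘 W)) ha
    rw [lev_sum, show lev h (FSch.complMod 𝓘 F) k (op0 𝓘 W) 0 = 0 by rw [lev, map_zero, map_zero]] at e
    refine Eq.trans ?_ e
    refine (map_sum (AddMonoidHom.mk' (cev h F k W) (cev_add h F k W)) _ _).trans (Finset.sum_congr rfl fun i _ => ?_)
    rw [lev_smul, lev_gammaVal]
    exact (cev_smul F k W (c i) (s i)).trans (congrArg (· • _) (hc i))
  have h1 := ((cev_spec (h := h) hW F k).2 _).1 h0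
  rw [← hs, ← Fintype.range_linearCombination, LinearMap.range_eq_map, ← Submodule.map_smul''] at h1
  obtain ⟨d, hd, hdc⟩ := h1
  have hcd : c - d ∈ Submodule.span Γ(X, W) (Set.range r) := by
    rw [hr, LinearMap.mem_ker, map_sub, sub_eq_zero, Fintype.linearCombination_apply]
    exact hdc.symm
  obtain ⟨e, he⟩ := (Submodule.mem_span_range_iff_exists_fun _).1 hcd
  refine Submodule.mem_sup.2 ⟨∑ j, sharp X 𝓘 h W (e j) • (fun i => sharp X 𝓘 h W (r j i)),
    Submodule.sum_mem _ fun j _ => Submodule.smul_mem _ _ (Submodule.subset_span ⟨j, rfl⟩),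
    a - ∑ j, sharp X 𝓘 h W (e j) • (fun i => sharp X 𝓘 h W (r j i)), mem_smul_top_of_apply_mem _ fun i => ?_,
    add_sub_cancel _ _⟩
  rw [mem_pow_iff h𝔛 hV k, Pi.sub_apply, Finset.sum_apply]
  refine (map_sub (((FSch.completionAlong X 𝓘).OshProj h k).hom.app (op (op0 𝓘 W))).hom _ _).trans (sub_eq_zero.2 ?_)
  have hei : ∑ j, e j * r j i = c i - d i := (Finset.sum_apply i _ _).symm.trans (congrFun he i)
  have hsum : (∑ j, (sharp X 𝓘 h W (e j) • fun i => sharp X 𝓘 h W (r j i)) i) = sharp X 𝓘 h W (c i - d i) := by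
    rw [← hei, map_sum]
    exact Finset.sum_congr rfl fun j _ => (map_mul (sharp X 𝓘 h W) _ _).symm
  rw [hsum]
  refine Eq.trans (hc i).symm (Eq.trans ?_ (proj_sharp X 𝓘 h W k (c i - d i)).symm)
  have hdk := RingHom.mem_ker.1 (hlk.ge (apply_mem_of_mem_smul_top _ hd i))
  rw [map_sub, hdk, sub_zero]

variable (h) in
/-- Generators and relations over an affine open. -/
theorem nonempty_chart (hF : Coh.IsCoh F) {W : X.Opens} (hW : IsAffineOpen W) :
    Nonempty (PullRep.Chart (gamma h F) W) := by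
  classical
  have := hF.1
  have h𝔛 := isLocNoethFormal X 𝓘
  have h𝔐 := isCoh_complMod (𝓘 := 𝓘) hF
  have hV : IsAffineOpen (op0 𝓘 W) := hW.preimage _
  have : IsNoetherianRing Γ(X, W) := IsLocallyNoetherian.component_noetherian ⟨W, hW⟩
  have := ((Groth.QCohMod.isCoh_iff F).1 hF).2 W hW
  obtain ⟨n, s, hs⟩ := Module.Finite.exists_fin (R := Γ(X, W)) (M := Γ(F, W))
  obtain ⟨l, r, hr⟩ := Submodule.fg_iff_exists_fin_generating_family.1
    (IsNoetherian.noetherian (LinearMap.ker (Fintype.linearCombination Γ(X, W) s)))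
  have hspan : Submodule.span (RS h (op0 𝓘 W)) (Set.range fun i => gammaVal h F W (s i)) = ⊤ := by
    refine span_of_lev_zero h𝔛 h𝔐 hV _ (eq_top_iff.2 fun y _ => ?_)
    obtain ⟨m, rfl⟩ := (cev_spec (h := h) hW F 0).1 y
    obtain ⟨c, rfl⟩ := (Submodule.mem_span_range_iff_exists_fun _).1 (hs ▸ Submodule.mem_top : m ∈ _)
    rw [show cev h F 0 W (∑ i, c i • s i) = _ from map_sum (AddMonoidHom.mk' (cev h F 0 W) (cev_add h F 0 W)) _ _]
    refine Submodule.sum_mem _ fun i _ => ?_
    rw [AddMonoidHom.mk'_apply, cev_smul]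
    exact Submodule.smul_mem _ _ (Submodule.subset_span ⟨i, lev_gammaVal F W (s i) 0⟩)
  refine ⟨{ n := n, l := l, s := s, r := r, zero := fun j => ?_, comb := fun m => ?_, gen := ?_, rel := ?_ }⟩
  · have : r j ∈ LinearMap.ker (Fintype.linearCombination Γ(X, W) s) := hr ▸ Submodule.subset_span ⟨j, rfl⟩
    exact (Fintype.linearCombination_apply Γ(X, W) s (r j)).symm.trans this
  · obtain ⟨c, hc⟩ := (Submodule.mem_span_range_iff_exists_fun _).1 (hs ▸ Submodule.mem_top : m ∈ _)
    exact ⟨c, hc.symm⟩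
  · intro U hU t x hx
    obtain ⟨_, ⟨V, hVa, rfl⟩, hxV, hVU⟩ :=
      ((FSch.completionAlong X 𝓘).X 0).isBasis_affineOpens.exists_subset_of_mem_open hx U.2
    have hVU : V ≤ U := hVU
    obtain ⟨a, ha⟩ := (Submodule.mem_span_range_iff_exists_fun _).1
      (span_rs h𝔛 h𝔐 hV hVa (hVU.trans hU) _ hspan ▸ Submodule.mem_top :
        rs ((FSch.complMod 𝓘 F).realMod h) hVU t ∈ _)
    exact ⟨V, hVU, hxV, a, ha.symm⟩
  · intro U hU a ha x hx
    obtain ⟨_, ⟨V, hVa, rfl⟩, hxV, hVU⟩ :=
      ((FSch.completionAlong X 𝓘).X 0).isBasis_affineOpens.exists_subset_of_mem_open hx U.2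
    have hVU : V ≤ U := hVU
    have hb : ∑ i, resR h hVU (a i) • rs ((FSch.complMod 𝓘 F).realMod h) (hVU.trans hU) (gammaVal h F W (s i)) = 0 := by
      have := congrArg (rs ((FSch.complMod 𝓘 F).realMod h) hVU) ha
      rw [map_sum, map_zero] at this
      refine Eq.trans (Finset.sum_congr rfl fun i _ => ?_) this
      exact ((rs_smul _ hVU (a i) _).trans (congrArg _ (rs_rs _ hU hVU (gammaVal h F W (s i))))).symm
    have h1 := rel_rs h𝔛 h𝔐 hV hVa (hVU.trans hU) _ hspan _ hb
    have h2 : Submodule.span (RS h V)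
        ((fun b : Fin n → RS h (op0 𝓘 W) => fun i => resR h (hVU.trans hU) (b i)) ''
          {b | ∑ i, b i • gammaVal h F W (s i) = 0}) ≤
        Submodule.span (RS h V) (Set.range fun j => fun i => resR h (hVU.trans hU) (sharp X 𝓘 h W (r j i))) := by
      rw [Submodule.span_le]
      rintro _ ⟨b, hb, rfl⟩
      obtain ⟨d, rfl⟩ := (Submodule.mem_span_range_iff_exists_fun _).1 (mem_span_relations hW s hs r hr b hb)
      refine (Submodule.mem_span_range_iff_exists_fun _).2 ⟨fun j => resR h (hVU.trans hU) (d j), ?_⟩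
      funext i
      simp only [Finset.sum_apply, Pi.smul_apply, smul_eq_mul]
      exact (Finset.sum_congr rfl fun j _ => (map_mul (resR h (hVU.trans hU)) _ _).symm).trans
        (map_sum (resR h (hVU.trans hU)) _ _).symm
    obtain ⟨c, hc⟩ := (Submodule.mem_span_range_iff_exists_fun _).1 (h2 h1)
    refine ⟨V, hVU, hxV, c, fun i => ?_⟩
    exact ((congrFun hc i).symm.trans (Finset.sum_apply i _ _)).trans (Finset.sum_congr rfl fun j _ => rfl)

variable (h) in
theorem isIso_gamma_adjunct (hF : Coh.IsCoh F) :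
    IsIso (((uMor X 𝓘 h).adj.homEquiv _ _).symm (gamma h F)) := by
  refine PullRep.isIso_adjunct (γ := gamma h F) (B := {W : X.Opens | IsAffineOpen W})
    (fun W hW => (nonempty_chart h hF (W := W) hW).some) (fun W₁ W₂ x _ _ h₁ h₂ => ?_) (fun x => ?_) (fun U x hx => ?_)
  · obtain ⟨_, ⟨W, hW, rfl⟩, hxW, hle⟩ := X.isBasis_affineOpens.exists_subset_of_mem_open
      (show FSch.completionToX X 𝓘 0 x ∈ W₁ ⊓ W₂ from ⟨h₁, h₂⟩) (W₁ ⊓ W₂).2
    exact ⟨W, hW, fun y hy => (hle hy).1, fun y hy => (hle hy).2, hxW⟩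
  · obtain ⟨_, ⟨W, hW, rfl⟩, hxW, -⟩ := X.isBasis_affineOpens.exists_subset_of_mem_open
      (Set.mem_univ (FSch.completionToX X 𝓘 0 x)) isOpen_univ
    exact ⟨W, hW, hxW⟩
  · obtain ⟨_, ⟨W, hW, rfl⟩, hxW, hle⟩ := X.isBasis_affineOpens.exists_subset_of_mem_open hx U.2
    exact ⟨W, hW, hxW, hle⟩

theorem gamma_proj (k : ℕ) :
    gamma h F ≫ (uMor X 𝓘 h).push.map
        (FSch.realProj (FSch.completionAlong X 𝓘) h (FSch.complMod 𝓘 F).F (FSch.complMod 𝓘 F).toPush k) =
      (Scheme.Modules.pullbackPushforwardAdjunction (FSch.completionToX X 𝓘 k)).unit.app F ≫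
        (FSch.schPushCompare (FSch.completionAlong X 𝓘) h (FSch.completionToX X 𝓘) (FSch.completionToX_comm X 𝓘) k).app _ :=
  SheafOfModules.hom_ext (Groth.SitesTopoi.ModH.pm_hom_ext fun W m => lev_gammaVal F W m k)

variable (h) in
theorem exists_iso (hF : Coh.IsCoh F) :
    ∃ e : (uMor X 𝓘 h).pull.obj F ≅ (FSch.complMod 𝓘 F).realMod h,
      ∀ k, ((uMor X 𝓘 h).adj.homEquiv _ _ e.hom) ≫ (uMor X 𝓘 h).push.map
          (FSch.realProj (FSch.completionAlong X 𝓘) h (FSch.complMod 𝓘 F).F (FSch.complMod 𝓘 F).toPush k) =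
        (Scheme.Modules.pullbackPushforwardAdjunction (FSch.completionToX X 𝓘 k)).unit.app F ≫
          (FSch.schPushCompare (FSch.completionAlong X 𝓘) h (FSch.completionToX X 𝓘) (FSch.completionToX_comm X 𝓘) k).app _ :=
  have := isIso_gamma_adjunct h hF
  ⟨asIso (((uMor X 𝓘 h).adj.homEquiv _ _).symm (gamma h F)), fun k =>
    (congrArg (· ≫ _) (Equiv.apply_symm_apply ((uMor X 𝓘 h).adj.homEquiv _ _) (gamma h F))).trans (gamma_proj k)⟩

end Groth.AdicLinTop.ComplPull
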