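import Mathlib.CategoryTheory.Abelian.Subcategory
import Mathlib.CategoryTheory.Abelian.Subobject
import Mathlib.CategoryTheory.Adjunction.AdjointFunctorTheorems
import Mathlib.CategoryTheory.Limits.Constructions.Filtered
import Mathlib.CategoryTheory.Limits.Constructions.LimitsOfProductsAndEqualizers
import Mathlib.CategoryTheory.Limits.FullSubcategory
import Mathlib.CategoryTheory.Limits.Shapes.Products
import Mathlib.CategoryTheory.ObjectProperty.FiniteProducts
import Mathlib.CategoryTheory.ObjectProperty.Ind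
import Mathlib.CategoryTheory.Generator.Basic

/-!
# The inclusion of an ind-completion inside a cocomplete abelian category is a left adjoint
-/

set_option autoImplicit false

universe w u v

open CategoryTheory CategoryTheory.Limits

namespace Groth.AdicLinTop.IndSubAdj

variable {C : Type u} [Category.{w} C] [Abelian C] [HasColimits C] (P : ObjectProperty C)
  [P.IsClosedUnderFiniteCoproducts]

/-- A coproduct of objects of `P` is a filtered colimit of objects of `P`. -/
lemma ind_coproduct {S : Type w} (K : S → C) (hK : ∀ s, P (K s)) : ObjectProperty.ind.{w} P (∐ K) :=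
  ⟨Finset (Discrete S), inferInstance, inferInstance,
    { diag := CoproductsFromFiniteFiltered.liftToFinsetObj (Discrete.functor K)
      ι := (CoproductsFromFiniteFiltered.finiteSubcoproductsCocone K).ι
      isColimit := CoproductsFromFiniteFiltered.isColimitFiniteSubproductsCocone K },
    fun _ => P.prop_coproduct fun x => hK x.1.as⟩

omit [P.IsClosedUnderFiniteCoproducts] in
/-- A small colimit of objects of `P` is a cokernel of a map between coproducts of objects of `P`. -/
lemma exists_cokernel_of_pres {X : C} {J : Type w} [SmallCategory J] (pres : ColimitPresentation J X)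
    (hP : ∀ j, P (pres.diag.obj j)) :
    ∃ (J₁ J₀ : Type w) (K₁ : J₁ → C) (K₀ : J₀ → C) (a : ∐ K₁ ⟶ ∐ K₀) (p : ∐ K₀ ⟶ X)
      (h : a ≫ p = 0), (∀ j, P (K₁ j)) ∧ (∀ j, P (K₀ j)) ∧ Nonempty (IsColimit (CokernelCofork.ofπ p h)) := by
  let K₁ : (Σ i j : J, i ⟶ j) → C := fun f => pres.diag.obj f.1
  let p : ∐ pres.diag.obj ⟶ X := Sigma.desc fun j => pres.ι.app j
  let a : ∐ K₁ ⟶ ∐ pres.diag.obj := Sigma.desc fun f =>
    pres.diag.map f.2.2 ≫ Sigma.ι pres.diag.obj f.2.1 - Sigma.ι pres.diag.obj f.1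
  have hp : ∀ j, Sigma.ι pres.diag.obj j ≫ p = pres.ι.app j := fun j => Sigma.ι_desc _ _
  have ha : ∀ f, Sigma.ι K₁ f ≫ a =
      pres.diag.map f.2.2 ≫ Sigma.ι pres.diag.obj f.2.1 - Sigma.ι pres.diag.obj f.1 := fun f =>
    Sigma.ι_desc _ _
  have h : a ≫ p = 0 := Sigma.hom_ext _ _ fun f => by
    rw [← Category.assoc, ha, Preadditive.sub_comp, Category.assoc, hp, hp, comp_zero, sub_eq_zero]
    exact (pres.ι.naturality f.2.2).trans (Category.comp_id _)
  have hw : ∀ {T : C} (g : ∐ pres.diag.obj ⟶ T), a ≫ g = 0 → ∀ (i j : J) (f : i ⟶ j),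
      pres.diag.map f ≫ Sigma.ι pres.diag.obj j ≫ g = Sigma.ι pres.diag.obj i ≫ g := fun g hg i j f => by
    have h1 := congrArg (Sigma.ι K₁ ⟨i, j, f⟩ ≫ ·) hg
    simp only [comp_zero] at h1
    rw [← Category.assoc, ha, Preadditive.sub_comp, Category.assoc, sub_eq_zero] at h1
    exact h1
  let co : ∀ {T : C} (g : ∐ pres.diag.obj ⟶ T), a ≫ g = 0 → Cocone pres.diag := fun {T} g hg =>
    { pt := T
      ι :=
        { app := fun j => Sigma.ι pres.diag.obj j ≫ g
          naturality := fun i j f => (hw g hg i j f).trans (Category.comp_id _).symm } }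
  refine ⟨_, J, K₁, pres.diag.obj, a, p, h, fun f => hP _, hP, ⟨?_⟩⟩
  refine CokernelCofork.IsColimit.ofπ _ _ (fun g hg => pres.isColimit.desc (co g hg)) (fun g hg => ?_)
    (fun g hg m hm => ?_)
  · refine Sigma.hom_ext _ _ fun j => ?_
    rw [← Category.assoc, hp]
    exact pres.isColimit.fac (co g hg) j
  · refine pres.isColimit.hom_ext fun j => ?_
    refine Eq.trans ?_ (pres.isColimit.fac (co g hg) j).symm
    show pres.ι.app j ≫ m = Sigma.ι pres.diag.obj j ≫ g
    rw [← hm, ← Category.assoc, hp]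

omit [P.IsClosedUnderFiniteCoproducts] in
/-- An object of `ind P` is a cokernel of a map between coproducts of objects of `P`. -/
lemma exists_cokernel_of_ind {X : C} (hX : ObjectProperty.ind.{w} P X) :
    ∃ (J₁ J₀ : Type w) (K₁ : J₁ → C) (K₀ : J₀ → C) (a : ∐ K₁ ⟶ ∐ K₀) (p : ∐ K₀ ⟶ X)
      (h : a ≫ p = 0), (∀ j, P (K₁ j)) ∧ (∀ j, P (K₀ j)) ∧ Nonempty (IsColimit (CokernelCofork.ofπ p h)) := by
  obtain ⟨J, hJ, hJ', pres, hP⟩ := hX
  exact exists_cokernel_of_pres P pres hP

variable [(ObjectProperty.ind.{w} P).IsClosedUnderCokernels]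

/-- Coproducts of objects of `ind P` lie in `ind P`. -/
lemma ind_coproduct_ind {S : Type w} (X : S → C) (hX : ∀ s, ObjectProperty.ind.{w} P (X s)) :
    ObjectProperty.ind.{w} P (∐ X) := by
  choose J₁ J₀ K₁ K₀ a p h h₁ h₀ hc using fun s => exists_cokernel_of_ind P (hX s)
  have m : ∀ {J : S → Type w} (K : ∀ s, J s → C), (∀ s j, P (K s j)) →
      ObjectProperty.ind.{w} P (∐ fun s => ∐ K s) := fun {J} K hK =>
    (ObjectProperty.ind.{w} P).prop_of_iso (sigmaSigmaIso J K).symm (ind_coproduct P _ fun x => hK x.1 x.2)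
  have w' : Limits.Sigma.map a ≫ Limits.Sigma.map p = 0 := Sigma.hom_ext _ _ fun s => by
    rw [Limits.Sigma.ι_map_assoc, Limits.Sigma.ι_map, ← Category.assoc, h, zero_comp, comp_zero]
  have e : ∀ {T : C} (g : (∐ fun s => ∐ K₀ s) ⟶ T), Limits.Sigma.map a ≫ g = 0 →
      ∀ s, a s ≫ Sigma.ι (fun s => ∐ K₀ s) s ≫ g = 0 := fun g hg s => by
    have h1 := congrArg (Sigma.ι (fun s => ∐ K₁ s) s ≫ ·) hg
    simpa using h1
  have hcol : IsColimit (CokernelCofork.ofπ (Limits.Sigma.map p) w') := by
    refine CokernelCofork.IsColimit.ofπ _ _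
      (fun g hg => Sigma.desc fun s => (hc s).some.desc (CokernelCofork.ofπ _ (e g hg s)))
      (fun g hg => Sigma.hom_ext _ _ fun s => ?_) (fun g hg f hf => Sigma.hom_ext _ _ fun s => ?_)
    · rw [Limits.Sigma.ι_map_assoc, Sigma.ι_desc]
      exact (hc s).some.fac (CokernelCofork.ofπ _ (e g hg s)) WalkingParallelPair.one
    · rw [Sigma.ι_desc]
      refine Cofork.IsColimit.hom_ext (hc s).some ?_
      refine Eq.trans ?_ ((hc s).some.fac (CokernelCofork.ofπ _ (e g hg s)) WalkingParallelPair.one).symm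
      show p s ≫ Sigma.ι X s ≫ f = Sigma.ι (fun s => ∐ K₀ s) s ≫ g
      rw [← hf, Limits.Sigma.ι_map_assoc]
  have iso : cokernel (Limits.Sigma.map a) ≅ ∐ X :=
    IsColimit.coconePointUniqueUpToIso (cokernelIsCokernel (Limits.Sigma.map a)) hcol
  exact (ObjectProperty.ind.{w} P).prop_of_iso iso
    ((ObjectProperty.ind.{w} P).prop_cokernel _ (m K₁ h₁) (m K₀ h₀))

/-- `ind P` is closed under small coproducts. -/
lemma isClosedUnderColimitsOfShape_discrete (S : Type w) :
    (ObjectProperty.ind.{w} P).IsClosedUnderColimitsOfShape (Discrete S) := by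
  refine ⟨?_⟩
  rintro X ⟨p⟩
  have e : p.diag ≅ Discrete.functor fun s => p.diag.obj ⟨s⟩ := Discrete.natIsoFunctor
  exact (ObjectProperty.ind.{w} P).prop_of_iso
    (IsColimit.coconePointsIsoOfNatIso (colimit.isColimit _) p.isColimit e.symm)
    (ind_coproduct_ind P _ fun s => p.prop_diag_obj ⟨s⟩)

/-- `ind P` is closed under all small colimits. -/
theorem isClosedUnderColimitsOfShape (J : Type w) [SmallCategory J] :
    (ObjectProperty.ind.{w} P).IsClosedUnderColimitsOfShape J := by
  refine ⟨?_⟩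
  rintro X ⟨p⟩
  obtain ⟨J₁, J₀, K₁, K₀, a, π, h, h₁, h₀, ⟨hc⟩⟩ :=
    exists_cokernel_of_pres (ObjectProperty.ind.{w} P) p.toColimitPresentation p.prop_diag_obj
  have iso : cokernel a ≅ X := IsColimit.coconePointUniqueUpToIso (cokernelIsCokernel a) hc
  exact (ObjectProperty.ind.{w} P).prop_of_iso iso
    ((ObjectProperty.ind.{w} P).prop_cokernel _ (ind_coproduct_ind P K₁ h₁) (ind_coproduct_ind P K₀ h₀))

variable [(ObjectProperty.ind.{w} P).ContainsZero] [(ObjectProperty.ind.{w} P).IsClosedUnderKernels]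
  [(ObjectProperty.ind.{w} P).IsClosedUnderFiniteProducts]
  [PreservesFiniteColimits (ObjectProperty.ind.{w} P).ι]

/-- If `P` has a small family of representatives, the inclusion of `ind P` is a left adjoint. -/
theorem isLeftAdjoint_ι {I : Type w} (G : I → C) (hG : ∀ i, P (G i))
    (hrep : ∀ X, P X → ∃ i, Nonempty (G i ≅ X)) : (ObjectProperty.ind.{w} P).ι.IsLeftAdjoint := by
  let Q := ObjectProperty.ind.{w} P
  have : ∀ S : Type w, Q.IsClosedUnderColimitsOfShape (Discrete S) :=
    isClosedUnderColimitsOfShape_discrete P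
  have : HasCoproducts.{w} Q.FullSubcategory := fun S =>
    hasColimitsOfShape_of_closedUnderColimits (Discrete S) Q
  have : HasColimits Q.FullSubcategory := has_colimits_of_hasCoequalizers_and_coproducts
  have : ∀ S : Type w, PreservesColimitsOfShape (Discrete S) Q.ι := fun S => inferInstance
  have : PreservesColimits Q.ι := preservesColimits_of_preservesCoequalizers_and_coproducts Q.ι
  let G' : I → Q.FullSubcategory := fun i => ⟨G i, P.le_ind _ (hG i)⟩
  have hsep : (ObjectProperty.ofObj G').IsSeparating := by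
    intro X Y f g hfg
    obtain ⟨J, hJ, hJ', pres, hP⟩ := X.property
    apply ObjectProperty.hom_ext
    refine pres.isColimit.hom_ext fun j => ?_
    obtain ⟨i, ⟨e⟩⟩ := hrep _ (hP j)
    have h1 := congrArg (fun φ => e.inv ≫ φ.hom)
      (hfg (G' i) (ObjectProperty.ofObj_apply G' i) (Q.homMk (e.hom ≫ pres.ι.app j)))
    simpa using h1
  have : WellPowered.{w} Q.FullSubcategory := wellPowered_of_isDetecting hsep.isDetecting
  exact isLeftAdjoint_of_preservesColimits_of_isSeparating hsep Q.ι

end Groth.AdicLinTop.IndSubAdj
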