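import Groth.Agent.AdicLinTop.AffineGlue
import Groth.Agent.AdicLinTop.IndSubAdj
import Groth.Agent.AdicLinTop.FPSmall
import Groth.Agent.SitesTopoi.Mod.FiltColim
import Mathlib.CategoryTheory.Abelian.GrothendieckCategory.Subobject

/-!
# Filtered colimits of coherent modules on a locally Noetherian formal scheme

Relations among finitely many sections of a filtered colimit of coherent modules are locally finitely
generated. Hence images of coherent modules in such colimits are coherent, such a colimit is the union of its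
coherent submodules, and the class of these colimits is closed under kernels, cokernels and small colimits.
-/

set_option autoImplicit false

universe u

open CategoryTheory CategoryTheory.Limits AlgebraicGeometry TopologicalSpace Opposite

set_option backward.defeqAttrib.useBackward true
set_option backward.isDefEq.respectTransparency false
set_option backward.isDefEq.respectTransparency.types false
set_option synthInstance.maxHeartbeats 400000

namespace Groth.AdicLinTop.IndCoh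

open Groth.SitesTopoi.ModH Groth.Misc4.FreeOn Groth.AdicLinTop.SpacePres Groth.AdicLinTop.CohKer
open Groth.SitesTopoi Groth.AdicLinTop.FormalAffine

variable {𝔛 : FSch.Sys.{u}} (h𝔛 : 𝔛.IsLocNoethFormal)

/-- Coherent modules. -/
abbrev cohP : ObjectProperty (FSch.ModF 𝔛 h𝔛.1) := fun 𝔊 => FSch.IsCohF 𝔛 h𝔛.1 𝔊

/-- Affine opens form a good basis. -/
theorem goodBasis : QuotFP.GoodBasis (O := 𝔛.Osh h𝔛.1) {W : (𝔛.X 0).Opens | IsAffineOpen W} :=
  { exists_mem := fun x W hx => by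
      obtain ⟨_, ⟨V, hV, rfl⟩, hxV, hVW⟩ := (𝔛.X 0).isBasis_affineOpens.exists_subset_of_mem_open hx W.2
      exact ⟨V, hV, hxV, hVW⟩
    noeth := fun V hV => isNoetherianRing h𝔛 hV
    flat := fun V hV V' hV' h => flat_resR h𝔛 hV hV' h }

instance : (cohP h𝔛).IsClosedUnderFiniteCoproducts := FPSmall.isClosedUnderFiniteCoproducts (O := 𝔛.Osh h𝔛.1)

theorem relFin_coh {X : FSch.ModF 𝔛 h𝔛.1} (hX : FSch.IsCohF 𝔛 h𝔛.1 X) :
    RelFin (O := 𝔛.Osh h𝔛.1) X :=
  relFin_of_fp (goodBasis h𝔛) hX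

/-- A directed union of relation modules with locally finitely generated members is locally finitely
generated. -/
theorem exists_relData_of_directed {X : FSch.ModF 𝔛 h𝔛.1} {V : (𝔛.X 0).Opens} (hV : IsAffineOpen V) {N : ℕ}
    (g : Fin N → sc X.val V) {ι : Type u} [Nonempty ι] {Y : ι → FSch.ModF 𝔛 h𝔛.1}
    (hY : ∀ j, RelFin (O := 𝔛.Osh h𝔛.1) (Y j)) (t : ∀ j, Fin N → sc (Y j).val V)
    (dir : ∀ i j, ∃ k, ∀ (W : (𝔛.X 0).Opens) (hW : W ≤ V) (a : Fin N → rsec (𝔛.Osh h𝔛.1) W),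
      (∑ l, a l • rm (Y i) hW (t i l) = 0 ∨ ∑ l, a l • rm (Y j) hW (t j l) = 0) →
        ∑ l, a l • rm (Y k) hW (t k l) = 0)
    (sound : ∀ j (W : (𝔛.X 0).Opens) (hW : W ≤ V) (a : Fin N → rsec (𝔛.Osh h𝔛.1) W),
      ∑ l, a l • rm (Y j) hW (t j l) = 0 → ∑ l, a l • rm X hW (g l) = 0)
    (compl : ∀ (W : (𝔛.X 0).Opens) (hW : W ≤ V) (a : Fin N → rsec (𝔛.Osh h𝔛.1) W),
      ∑ l, a l • rm X hW (g l) = 0 → ∀ x ∈ W, ∃ (W' : (𝔛.X 0).Opens) (hW' : W' ≤ W), x ∈ W' ∧
        ∃ j, ∑ l, rr hW' (a l) • rm (Y j) (hW'.trans hW) (t j l) = 0) :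
    ∃ l, Nonempty (RelData (O := 𝔛.Osh h𝔛.1) (F := X) g l) := by
  classical
  haveI := isNoetherianRing h𝔛 hV
  choose L hL using fun j => AffineGlue.exists_relData_affine h𝔛 hV (t j) fun x hx => hY j V N (t j) x hx
  let R := fun j => (hL j).some
  let M : ι → Submodule (RS h𝔛.1 V) (Fin N → RS h𝔛.1 V) := fun j => Submodule.span _ (Set.range (R j).e)
  obtain ⟨_, ⟨j₀, rfl⟩, hmax⟩ := set_has_maximal_iff_noetherian.2 (inferInstance : IsNoetherian (RS h𝔛.1 V)
    (Fin N → RS h𝔛.1 V)) (Set.range M) (Set.range_nonempty M)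
  refine ⟨L j₀, ⟨{ e := (R j₀).e, zero := fun q => ?_, rel := fun W hW a ha x hx => ?_ }⟩⟩
  · have h := sound j₀ V le_rfl ((R j₀).e q) (by simpa only [rm_self] using (R j₀).zero q)
    simpa only [rm_self] using h
  · obtain ⟨W', hW', hxW', j, hj⟩ := compl W hW a ha x hx
    obtain ⟨k, hk⟩ := dir j₀ j
    obtain ⟨W'', hW'', hxW'', c, hc⟩ := (R k).rel W' (hW'.trans hW) _ (hk W' (hW'.trans hW) _ (Or.inr hj)) x hxW'
    have hle : M j₀ ≤ M k := Submodule.span_le.2 fun v hv => by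
      obtain ⟨q, rfl⟩ := hv
      have hq : ∑ l, (R j₀).e q l • t k l = 0 := by
        simpa only [rm_self] using hk V le_rfl ((R j₀).e q) (Or.inl (by simpa only [rm_self] using (R j₀).zero q))
      -- a relation over an affine open is a combination of the generators
      have hloc : ∀ z : V, ∃ p : RS h𝔛.1 V, z.1 ∈ AffineGlue.bas h𝔛 p ∧ ∀ n : ℕ, ∃ s : ℕ,
          p ^ s • (R j₀).e q ∈ M k ⊔ AffineGlue.vI (idl h𝔛.1 V ^ (n + 1)) := fun z => by
        obtain ⟨V₁, hV₁, hzV, c, hc⟩ := (R k).rel V le_rfl ((R j₀).e q) (by simpa only [rm_self] using hq) z.1 z.2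
        obtain ⟨p, hzp, hpV⟩ := AffineGlue.exists_bas_le h𝔛 hV z.2 V₁ hzV
        refine ⟨p, hzp, fun n => (AffineGlue.locMod h𝔛 hV p n).mem_of_ext le_sup_right (Submodule.mem_sup_left ?_)⟩
        have e : resR h𝔛.1 (AffineGlue.bas_le h𝔛 p) ∘ (R j₀).e q =
            ∑ i, resR h𝔛.1 hpV (c i) • (resR h𝔛.1 (AffineGlue.bas_le h𝔛 p) ∘ (R k).e i) := funext fun l => by
          have h := congrArg (rr hpV) (hc l)
          simp only [map_sum, map_mul, rr_rr] at h
          simp only [Function.comp_apply, Finset.sum_apply, Pi.smul_apply, smul_eq_mul]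
          exact h
        rw [e]
        exact Submodule.sum_mem _ fun i _ => Submodule.smul_mem _ _
          (AffineGlue.mem_ext _ (Submodule.mem_sup_left (Submodule.subset_span ⟨i, rfl⟩)))
      choose p hzp hs using hloc
      refine mem_of_forall_mem_sup h𝔛 hV _ fun n => ?_
      have h := AffineGlue.mem_of_pow _ le_sup_right p
        (AffineGlue.span_sup_eq_top h𝔛 hV p (fun z hz => ⟨⟨z, hz⟩, hzp ⟨z, hz⟩⟩) n) fun z => hs z n
      obtain ⟨w, hw, w', hw', hww⟩ := Submodule.mem_sup.1 h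
      rw [← hww]
      exact add_mem (Submodule.mem_sup_left hw)
        (Submodule.mem_sup_right (FormalSpan.mem_smul_top_of_apply_mem _ (AffineGlue.mem_vI.1 hw')))
    have heq : M k ≤ M j₀ := le_of_eq (eq_of_le_of_not_lt hle (hmax _ ⟨k, rfl⟩)).symm
    choose d hd using fun i => (Submodule.mem_span_range_iff_exists_fun _).1
      (heq (Submodule.subset_span ⟨i, rfl⟩) : (R k).e i ∈ Submodule.span _ (Set.range (R j₀).e))
    refine ⟨W'', hW''.trans hW', hxW'', fun q => ∑ i, c i * rr ((hW''.trans hW').trans hW) (d i q), fun l => ?_⟩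
    have h := hc l
    rw [rr_rr] at h
    rw [h]
    have hd' : ∀ i, (R k).e i l = ∑ q, d i q * (R j₀).e q l := fun i => by
      have h := congrFun (hd i) l
      simp only [Finset.sum_apply, Pi.smul_apply, smul_eq_mul] at h
      exact h.symm
    simp only [hd', map_sum, map_mul, Finset.mul_sum, Finset.sum_mul, mul_assoc]
    exact Finset.sum_comm

/-- Filtered colimits keep relations finitely generated. -/
theorem relFin_colimit {Λ : Type u} [SmallCategory Λ] [IsFiltered Λ] {D : Λ ⥤ FSch.ModF 𝔛 h𝔛.1}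
    (c : Cocone D) (hc : IsColimit c) (hD : ∀ l, RelFin (O := 𝔛.Osh h𝔛.1) (D.obj l)) :
    RelFin (O := 𝔛.Osh h𝔛.1) c.pt := by
  intro U N g x hx
  obtain ⟨S, hS, hS'⟩ := FiltColim.exists_local_stage_fin (O := 𝔛.Osh h𝔛.1) c hc U g
  obtain ⟨V₁, hV₁, hxV₁, hSV⟩ := exists_nhd_of_mem hS hx
  obtain ⟨l₀, t₀, ht₀⟩ := hS' (homOfLE hV₁) hSV
  obtain ⟨V, hV, hxV, hVV⟩ := (goodBasis h𝔛).exists_mem x V₁ hxV₁
  have ht : ∀ i, apm (c.ι.app l₀).val V (rm (D.obj l₀) hVV (t₀ i)) = rm c.pt (hVV.trans hV₁) (g i) := fun i => by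
    rw [apm_rsm, ht₀]
    exact rm_rm c.pt hV₁ hVV (g i)
  have : Nonempty (Σ l, l₀ ⟶ l) := ⟨⟨l₀, 𝟙 _⟩⟩
  refine Exists.elim (exists_relData_of_directed h𝔛 hV (fun i => rm c.pt (hVV.trans hV₁) (g i))
    (ι := Σ l, l₀ ⟶ l) (Y := fun j => D.obj j.1) (fun j => hD j.1)
    (fun j i => apm (D.map j.2).val V (rm (D.obj l₀) hVV (t₀ i))) (fun i j => ?_) (fun j W hW a ha => ?_)
    (fun W hW a ha y hy => ?_)) fun l hl => ⟨V, hVV.trans hV₁, l, hxV, hl⟩
  · obtain ⟨l', α, β, e⟩ : ∃ (l' : Λ) (α : i.1 ⟶ l') (β : j.1 ⟶ l'), i.2 ≫ α = j.2 ≫ β :=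
      ⟨_, _, _, (IsFiltered.span i.2 j.2).choose_spec.choose_spec.choose_spec⟩
    refine ⟨⟨l', i.2 ≫ α⟩, fun W hW a ha => ?_⟩
    have key : ∀ {m : Λ} (γ : l₀ ⟶ m) (δ : m ⟶ l'),
        ∑ k, a k • rm (D.obj m) hW (apm (D.map γ).val V (rm (D.obj l₀) hVV (t₀ k))) = 0 →
          ∑ k, a k • rm (D.obj l') hW (apm (D.map (γ ≫ δ)).val V (rm (D.obj l₀) hVV (t₀ k))) = 0 :=
      fun {m} γ δ h0 => by
        have h := congrArg (apm (D.map δ).val W) h0
        rw [map_sum, map_zero] at h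
        refine Eq.trans (Finset.sum_congr rfl fun k _ => ?_) h
        rw [map_smul, D.map_comp]
        exact congrArg _ (apm_rsm (D.map δ).val (homOfLE hW) _).symm
    rcases ha with ha | ha
    · exact key i.2 α ha
    · show ∑ k, a k • rm (D.obj l') hW (apm (D.map (i.2 ≫ α)).val V (rm (D.obj l₀) hVV (t₀ k))) = 0
      rw [e]
      exact key j.2 β ha
  · have h := congrArg (apm (c.ι.app j.1).val W) ha
    rw [map_sum, map_zero] at h
    refine Eq.trans (Finset.sum_congr rfl fun k _ => ?_) h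
    rw [map_smul, ← ht]
    refine congrArg _ ((congrArg (rm c.pt hW) ?_).trans (apm_rsm (c.ι.app j.1).val (homOfLE hW) _).symm)
    exact congrArg (fun φ => apm (SheafOfModules.Hom.val φ) V (rm (D.obj l₀) hVV (t₀ k))) (c.w j.2).symm
  · obtain ⟨S₂, hS₂, hS₂'⟩ := FiltColim.exists_local_zero (O := 𝔛.Osh h𝔛.1) c hc W
      (∑ k, a k • rm (D.obj l₀) hW (rm (D.obj l₀) hVV (t₀ k))) (by
        rw [map_sum]
        refine Eq.trans (Finset.sum_congr rfl fun k _ => ?_) ha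
        rw [map_smul, apm_rsm, ht]
        rfl)
    obtain ⟨W', hW', hyW', hSW⟩ := exists_nhd_of_mem hS₂ hy
    obtain ⟨l', α, hα⟩ := hS₂' (homOfLE hW') hSW
    refine ⟨W', hW', hyW', ⟨l', α⟩, ?_⟩
    simp only [map_sum, map_smul, rsm_smul, apm_rsm, rsm_rsm] at hα ⊢
    exact hα

/-- Quotients by images of coherent modules keep relations finitely generated. -/
theorem relFin_cokernel {F X : FSch.ModF 𝔛 h𝔛.1} (ψ : F ⟶ X) (hF : cohP h𝔛 F)
    (hX : RelFin (O := 𝔛.Osh h𝔛.1) X) : RelFin (O := 𝔛.Osh h𝔛.1) (cokernel ψ) := by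
  intro U N g x hx
  obtain ⟨V₁, hV₁, hxV₁, t, ht⟩ : ∃ (V₁ : (𝔛.X 0).Opens) (hV₁ : V₁ ≤ U), x ∈ V₁ ∧ ∃ t : Fin N → sc X.val V₁,
      ∀ i, apm (cokernel.π ψ).val V₁ (t i) = rm (cokernel ψ) hV₁ (g i) := by
    classical
    have hc : ∀ i, ∃ (V : (𝔛.X 0).Opens) (hV : V ≤ U), x ∈ V ∧ ∃ t : sc X.val V,
        apm (cokernel.π ψ).val V t = rm (cokernel ψ) hV (g i) := fun i => by
      obtain ⟨S, hS, hS'⟩ := locSurj_of_epi (cokernel.π ψ) U (g i)
      obtain ⟨V, hV, hxV, hSV⟩ := exists_nhd_of_mem hS hx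
      exact ⟨V, hV, hxV, hS' (homOfLE hV) hSV⟩
    choose V hV hxV t ht using hc
    refine ⟨U ⊓ Finset.univ.inf V, inf_le_left, ⟨hx, ?_⟩,
      fun i => rm X (inf_le_right.trans (Finset.inf_le (Finset.mem_univ i))) (t i), fun i => ?_⟩
    · show x ∈ ((Finset.univ.inf V : Opens (𝔛.X 0)) : Set (𝔛.X 0))
      rw [Opens.coe_finset_inf]
      simp only [Finset.inf_eq_iInf, Set.iInf_eq_iInter, Set.mem_iInter]
      exact fun i _ => hxV i
    · rw [apm_rsm, ht]
      exact rm_rm _ _ _ _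
  obtain ⟨U₂, n, m, hx₂, ⟨P⟩⟩ := exists_presData (O := 𝔛.Osh h𝔛.1) hF x
  let D := P.toGenData.restrict (inf_le_right : V₁ ⊓ U₂ ≤ U₂)
  let t' : Fin N → sc X.val (V₁ ⊓ U₂) := fun i => rm X inf_le_left (t i)
  obtain ⟨V, hV, l, hxV, ⟨R⟩⟩ := hX (V₁ ⊓ U₂) (N + n) (Fin.append t' fun i => apm ψ.val _ (D.s i)) x ⟨hxV₁, hx₂⟩
  have hVU : V ≤ U := (hV.trans inf_le_left).trans hV₁
  have h0 : ∀ (W : (𝔛.X 0).Opens) (s : sc F.val W), apm (cokernel.π ψ).val W (apm ψ.val W s) = 0 := fun W s =>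
    congrArg (fun φ : F ⟶ cokernel ψ => apm φ.val W s) (cokernel.condition ψ)
  have htg : ∀ {W : (𝔛.X 0).Opens} (hW : W ≤ V) (i : Fin N),
      apm (cokernel.π ψ).val W (rm X hW (rm X hV (t' i))) = rm (cokernel ψ) hW (rm (cokernel ψ) hVU (g i)) :=
    fun hW i => by
      simp only [t', apm_rsm, ht, rm_rm]
  refine ⟨V, hVU, l, hxV, ⟨{ e := fun q i => R.e q (Fin.castAdd n i), zero := fun q => ?_,
                             rel := fun W hW a ha y hy => ?_ }⟩⟩
  · have h := congrArg (apm (cokernel.π ψ).val V) (R.zero q)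
    simp only [Fin.sum_univ_add, Fin.append_left, Fin.append_right, map_add, map_sum, map_smul, map_zero] at h
    refine Eq.trans ?_ h
    rw [Finset.sum_eq_zero (f := fun i : Fin n => _ • apm (cokernel.π ψ).val V (rm X hV (apm ψ.val _ (D.s i))))
      (fun i _ => by rw [← apm_rsm, h0, smul_zero]), add_zero]
    refine Finset.sum_congr rfl fun i _ => ?_
    have e := htg le_rfl i
    simp only [rm_self] at e
    rw [e]
  · have h1 : apm (cokernel.π ψ).val W (∑ i, a i • rm X hW (rm X hV (t' i))) = 0 := by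
      rw [map_sum]
      refine Eq.trans (Finset.sum_congr rfl fun i _ => ?_) ha
      rw [map_smul, htg]
    obtain ⟨W₁, hW₁, hy₁, s, hs⟩ := exists_local_lift ψ _ h1 hy
    obtain ⟨W₂, hW₂, hy₂, b, hb⟩ := D.gen W₁ ((hW₁.trans hW).trans hV) s y hy₁
    obtain ⟨W₃, hW₃, hy₃, c, hc⟩ := R.rel W₂ ((hW₂.trans hW₁).trans hW)
      (Fin.append (fun i => rr (hW₂.trans hW₁) (a i)) fun i => - b i) (by
        have e := congrArg (rm X hW₂) hs
        rw [← apm_rsm, hb] at e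
        simp only [map_sum, map_smul, rm_smul, rm_rm, apm_rsm, rr_rr] at e
        simp only [Fin.sum_univ_add, Fin.append_left, Fin.append_right, rm_rm, neg_smul, Finset.sum_neg_distrib]
        rw [e, add_neg_cancel]) y hy₂
    refine ⟨W₃, hW₃.trans (hW₂.trans hW₁), hy₃, c, fun i => ?_⟩
    have h := hc (Fin.castAdd n i)
    simp only [Fin.append_left, rr_rr] at h
    exact h

theorem relFin_of_ind {X : FSch.ModF 𝔛 h𝔛.1} (hX : ObjectProperty.ind.{u} (cohP h𝔛) X) :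
    RelFin (O := 𝔛.Osh h𝔛.1) X := by
  obtain ⟨J, _, _, pres, hP⟩ := hX
  exact relFin_colimit h𝔛 pres.cocone pres.isColimit fun j => relFin_coh h𝔛 (hP j)

open ZeroObject in
/-- A module with finitely generated relations covered by coherent modules is the union of its coherent
submodules. -/
theorem exists_pres_mono {X : FSch.ModF 𝔛 h𝔛.1} (hX : RelFin (O := 𝔛.Osh h𝔛.1) X) {κ : Type u}
    (K : κ → FSch.ModF 𝔛 h𝔛.1) (hK : ∀ k, cohP h𝔛 (K k)) (a : ∀ k, K k ⟶ X)
    (ha : ∀ {Z : FSch.ModF 𝔛 h𝔛.1} (g : X ⟶ Z), (∀ k, a k ≫ g = 0) → g = 0) :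
    ∃ (J : Type u) (_ : SmallCategory J) (_ : IsFiltered J) (pres : ColimitPresentation J X),
      (∀ j : J, cohP h𝔛 (pres.diag.obj j)) ∧ ∀ j : J, Mono (pres.ι.app j) := by
  classical
  have himg : ∀ {K : FSch.ModF 𝔛 h𝔛.1} (φ : K ⟶ X), cohP h𝔛 K →
      cohP h𝔛 (Subobject.mk (Abelian.image.ι φ) : FSch.ModF 𝔛 h𝔛.1) := fun φ hK =>
    (FPSmall.fpProp (𝔛.Osh h𝔛.1)).prop_of_iso (Subobject.underlyingIso _).symm
      (fp_image_of_relFin (goodBasis h𝔛) φ hK hX)
  let e := equivShrink.{u} (Subobject X)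
  let J : Type u := {s : Shrink.{u} (Subobject X) // cohP h𝔛 (e.symm s : FSch.ModF 𝔛 h𝔛.1)}
  let ob : J → Subobject X := fun j => e.symm j.1
  let mkJ : ∀ (S : Subobject X), cohP h𝔛 (S : FSch.ModF 𝔛 h𝔛.1) → J := fun S hS =>
    ⟨e S, by rw [Equiv.symm_apply_apply]; exact hS⟩
  have hmkJ : ∀ S hS, ob (mkJ S hS) = S := fun S hS => Equiv.symm_apply_apply e S
  letI : Preorder J := Preorder.lift ob
  have hne : Nonempty J := ⟨mkJ _ (himg (0 : (0 : FSch.ModF 𝔛 h𝔛.1) ⟶ X)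
    (FPSmall.fp_of_isZero (O := 𝔛.Osh h𝔛.1) (Limits.isZero_zero _)))⟩
  have : IsDirected J (· ≤ ·) := ⟨fun i j => by
    let φ := biprod.desc (ob i).arrow (ob j).arrow
    have hφ : cohP h𝔛 ((ob i : FSch.ModF 𝔛 h𝔛.1) ⊞ (ob j : FSch.ModF 𝔛 h𝔛.1)) :=
      (cohP h𝔛).prop_of_iso (biprod.isoCoprod _ _).symm ((cohP h𝔛).prop_coprod _ _ i.2 j.2)
    have hle : ∀ {A : FSch.ModF 𝔛 h𝔛.1} (p : A ⟶ (ob i : FSch.ModF 𝔛 h𝔛.1) ⊞ (ob j : FSch.ModF 𝔛 h𝔛.1)),
        (Subobject.mk (Abelian.image.ι φ)).Factors (p ≫ φ) := fun p =>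
      (Subobject.mk_factors_iff _ _).2 ⟨p ≫ Abelian.factorThruImage φ,
        (Category.assoc _ _ _).trans (congrArg (p ≫ ·) (kernel.lift_ι _ _ _))⟩
    refine ⟨mkJ _ (himg φ hφ), ?_, ?_⟩
    · show ob i ≤ ob (mkJ _ (himg φ hφ))
      rw [hmkJ _ (himg φ hφ)]
      have h1 := hle biprod.inl
      rw [biprod.inl_desc] at h1
      exact Subobject.le_of_comm (Subobject.factorThru _ _ h1) (Subobject.factorThru_arrow _ _ h1)
    · show ob j ≤ ob (mkJ _ (himg φ hφ))
      rw [hmkJ _ (himg φ hφ)]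
      have h1 := hle biprod.inr
      rw [biprod.inr_desc] at h1
      exact Subobject.le_of_comm (Subobject.factorThru _ _ h1) (Subobject.factorThru_arrow _ _ h1)⟩
  let F : J ⥤ MonoOver X := (Monotone.functor (f := ob) fun _ _ h => h) ⋙ Subobject.representative
  let c := colimit.cocone (F ⋙ MonoOver.forget _ ⋙ Over.forget _)
  let f : c.pt ⟶ X := colimit.desc _ (Cocone.mk X
    { app := fun j => (F.obj j).obj.hom
      naturality := fun i j g => (MonoOver.w (F.map g)).trans (Category.comp_id _).symm })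
  have hf : ∀ j, c.ι.app j ≫ f = (F.obj j).obj.hom := fun j => colimit.ι_desc _ _
  have : Mono f := IsGrothendieckAbelian.mono_of_isColimit_monoOver F (colimit.isColimit _) f hf
  have : Epi f := Preadditive.epi_of_cancel_zero _ fun {Z} g hg => ha g fun k => by
    let j := mkJ _ (himg (a k) (hK k))
    have h1 : (ob j).arrow ≫ g = 0 := by
      have h : c.ι.app j ≫ f ≫ g = 0 := by rw [hg, comp_zero]
      rwa [← Category.assoc, hf] at h
    rw [hmkJ _ (himg (a k) (hK k))] at h1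
    have h2 : (Subobject.underlyingIso (Abelian.image.ι (a k))).inv ≫
        (Subobject.mk (Abelian.image.ι (a k))).arrow ≫ g = 0 := by rw [h1, comp_zero]
    rw [← Category.assoc, Subobject.underlyingIso_arrow] at h2
    rw [show a k = Abelian.factorThruImage (a k) ≫ Abelian.image.ι (a k) from (kernel.lift_ι _ _ _).symm,
      Category.assoc, h2, comp_zero]
  have : IsIso f := isIso_of_mono_of_epi f
  refine ⟨J, inferInstance, inferInstance,
    { diag := F ⋙ MonoOver.forget _ ⋙ Over.forget _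
      ι := { app := fun j => (F.obj j).obj.hom
             naturality := fun i j g => (MonoOver.w (F.map g)).trans (Category.comp_id _).symm }
      isColimit := IsColimit.ofIsoColimit (colimit.isColimit _) (Cocone.ext (asIso f) hf) },
    fun j => j.2, fun j => (F.obj j).property⟩

theorem exists_pres_mono_of_ind {X : FSch.ModF 𝔛 h𝔛.1} (hX : ObjectProperty.ind.{u} (cohP h𝔛) X) :
    ∃ (J : Type u) (_ : SmallCategory J) (_ : IsFiltered J) (pres : ColimitPresentation J X),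
      (∀ j : J, cohP h𝔛 (pres.diag.obj j)) ∧ ∀ j : J, Mono (pres.ι.app j) := by
  have h := relFin_of_ind h𝔛 hX
  obtain ⟨J, _, _, pres, hP⟩ := hX
  refine exists_pres_mono h𝔛 h pres.diag.obj hP pres.ι.app fun g hg => pres.isColimit.hom_ext fun j => ?_
  exact (hg j).trans comp_zero.symm

theorem ind_of_cover {X : FSch.ModF 𝔛 h𝔛.1} (hX : RelFin (O := 𝔛.Osh h𝔛.1) X) {κ : Type u}
    (K : κ → FSch.ModF 𝔛 h𝔛.1) (hK : ∀ k, cohP h𝔛 (K k)) (a : ∀ k, K k ⟶ X)
    (ha : ∀ {Z : FSch.ModF 𝔛 h𝔛.1} (g : X ⟶ Z), (∀ k, a k ≫ g = 0) → g = 0) :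
    ObjectProperty.ind.{u} (cohP h𝔛) X := by
  obtain ⟨J, hJ, hJ', pres, hP, -⟩ := exists_pres_mono h𝔛 hX K hK a ha
  exact ⟨J, hJ, hJ', pres, hP⟩

/-- Cokernels of maps of filtered colimits of coherent modules. -/
theorem ind_cokernel {A B : FSch.ModF 𝔛 h𝔛.1} (hA : ObjectProperty.ind.{u} (cohP h𝔛) A)
    (hB : ObjectProperty.ind.{u} (cohP h𝔛) B) (φ : A ⟶ B) :
    ObjectProperty.ind.{u} (cohP h𝔛) (cokernel φ) := by
  have hrB := relFin_of_ind h𝔛 hB
  obtain ⟨JA, _, _, pA, hPA⟩ := hA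
  obtain ⟨JB, _, _, pB, hPB⟩ := hB
  refine ind_of_cover h𝔛 ?_ pB.diag.obj hPB (fun j => pB.ι.app j ≫ cokernel.π φ) fun g hg =>
    (cancel_epi (cokernel.π φ)).1 (pB.isColimit.hom_ext fun j => ?_)
  swap
  · rw [comp_zero]
    exact ((Category.assoc _ _ _).symm.trans (hg j)).trans comp_zero.symm
  intro U N g x hx
  -- lift the sections
  obtain ⟨V₁, hV₁, hxV₁, t, ht⟩ : ∃ (V₁ : (𝔛.X 0).Opens) (hV₁ : V₁ ≤ U), x ∈ V₁ ∧ ∃ t : Fin N → sc B.val V₁,
      ∀ i, apm (cokernel.π φ).val V₁ (t i) = rm (cokernel φ) hV₁ (g i) := by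
    classical
    have hc : ∀ i, ∃ (V : (𝔛.X 0).Opens) (hV : V ≤ U), x ∈ V ∧ ∃ t : sc B.val V,
        apm (cokernel.π φ).val V t = rm (cokernel φ) hV (g i) := fun i => by
      obtain ⟨S, hS, hS'⟩ := locSurj_of_epi (cokernel.π φ) U (g i)
      obtain ⟨V, hV, hxV, hSV⟩ := exists_nhd_of_mem hS hx
      exact ⟨V, hV, hxV, hS' (homOfLE hV) hSV⟩
    choose V hV hxV t ht using hc
    refine ⟨U ⊓ Finset.univ.inf V, inf_le_left, ⟨hx, ?_⟩,
      fun i => rm B (inf_le_right.trans (Finset.inf_le (Finset.mem_univ i))) (t i), fun i => ?_⟩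
    · show x ∈ ((Finset.univ.inf V : Opens (𝔛.X 0)) : Set (𝔛.X 0))
      rw [Opens.coe_finset_inf]
      simp only [Finset.inf_eq_iInf, Set.iInf_eq_iInter, Set.mem_iInter]
      exact fun i _ => hxV i
    · rw [apm_rsm, ht]
      exact rm_rm _ _ _ _
  obtain ⟨V, hV, hxV, hVV⟩ := (goodBasis h𝔛).exists_mem x V₁ hxV₁
  have : Nonempty JA := IsFiltered.nonempty
  let p : ∀ {i k : JA} (α : i ⟶ k), cokernel (pA.ι.app i ≫ φ) ⟶ cokernel (pA.ι.app k ≫ φ) := fun {i k} α =>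
    cokernel.desc _ (cokernel.π _) (by
      rw [← (pA.ι.naturality α).trans (Category.comp_id _), Category.assoc, Category.assoc]
      erw [← Category.assoc (pA.ι.app k)]
      rw [cokernel.condition, comp_zero])
  refine Exists.elim (exists_relData_of_directed h𝔛 hV
    (fun i => rm (cokernel φ) (hVV.trans hV₁) (g i)) (Y := fun i : JA => cokernel (pA.ι.app i ≫ φ))
    (fun i => relFin_cokernel h𝔛 _ (hPA i) hrB)
    (fun i l => apm (cokernel.π (pA.ι.app i ≫ φ)).val V (rm B hVV (t l)))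
    (fun i j => ?_) (fun j W hW a ha => ?_) (fun W hW a ha y hy => ?_))
    fun l hl => ⟨V, hVV.trans hV₁, l, hxV, hl⟩
  · refine ⟨IsFiltered.max i j, fun W hW a ha => ?_⟩
    have key : ∀ {m : JA} (δ : m ⟶ IsFiltered.max i j),
        ∑ l, a l • rm (cokernel (pA.ι.app m ≫ φ)) hW (apm (cokernel.π (pA.ι.app m ≫ φ)).val V (rm B hVV (t l))) = 0 →
        ∑ l, a l • rm (cokernel (pA.ι.app (IsFiltered.max i j) ≫ φ)) hW
          (apm (cokernel.π (pA.ι.app (IsFiltered.max i j) ≫ φ)).val V (rm B hVV (t l))) = 0 := fun {m} δ h0 => by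
      have h := congrArg (apm (p δ).val W) h0
      rw [map_sum, map_zero] at h
      refine Eq.trans (Finset.sum_congr rfl fun l _ => ?_) h
      rw [map_smul]
      refine congrArg _ ((congrArg (rm _ hW) ?_).trans (apm_rsm (p δ).val (homOfLE hW) _).symm)
      exact congrArg (fun χ : B ⟶ _ => apm χ.val V (rm B hVV (t l))) (cokernel.π_desc _ _ _).symm
    exact ha.elim (key (IsFiltered.leftToMax i j)) (key (IsFiltered.rightToMax i j))
  · let q : cokernel (pA.ι.app j ≫ φ) ⟶ cokernel φ :=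
      cokernel.desc _ (cokernel.π φ) (by rw [Category.assoc, cokernel.condition, comp_zero])
    have h := congrArg (apm q.val W) ha
    rw [map_sum, map_zero] at h
    refine Eq.trans (Finset.sum_congr rfl fun l _ => ?_) h
    rw [map_smul]
    refine congrArg _ ((congrArg (rm _ hW) ?_).trans (apm_rsm q.val (homOfLE hW) _).symm)
    refine Eq.trans ?_ (congrArg (fun χ : B ⟶ cokernel φ => apm χ.val V (rm B hVV (t l)))
      (cokernel.π_desc _ _ _).symm)
    rw [apm_rsm, ht]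
    exact (rm_rm _ _ _ _).symm
  · obtain ⟨W₁, hW₁, hy₁, s, hs⟩ := exists_local_lift φ (∑ l, a l • rm B hW (rm B hVV (t l))) (by
      rw [map_sum]
      refine Eq.trans (Finset.sum_congr rfl fun l _ => ?_) ha
      simp only [map_smul, apm_rsm, ht, rm_rm]) hy
    obtain ⟨S, hS, hS'⟩ := FiltColim.exists_local_stage (O := 𝔛.Osh h𝔛.1) pA.cocone pA.isColimit W₁ s
    obtain ⟨W₂, hW₂, hy₂, hSW⟩ := exists_nhd_of_mem hS hy₁
    obtain ⟨j, s', hs'⟩ := hS' (homOfLE hW₂) hSW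
    refine ⟨W₂, hW₂.trans hW₁, hy₂, j, ?_⟩
    have h1 : apm (pA.ι.app j ≫ φ).val W₂ s' = rm B (hW₂.trans hW₁) (∑ l, a l • rm B hW (rm B hVV (t l))) := by
      have e : apm (pA.ι.app j ≫ φ).val W₂ s' = apm φ.val W₂ (rsm A.val (homOfLE hW₂) s) :=
        congrArg (apm φ.val W₂) hs'
      rw [e, apm_rsm, hs]
      exact rm_rm _ _ _ _
    have h2 := congrArg (fun χ : pA.diag.obj j ⟶ cokernel (pA.ι.app j ≫ φ) => apm χ.val W₂ s')
      (cokernel.condition (pA.ι.app j ≫ φ))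
    have h3 : apm (cokernel.π (pA.ι.app j ≫ φ)).val W₂ (apm (pA.ι.app j ≫ φ).val W₂ s') = 0 := h2
    rw [h1] at h3
    simp only [map_sum, map_smul, rm_smul, rm_rm, apm_rsm] at h3 ⊢
    exact h3

/-- Kernels of maps of filtered colimits of coherent modules. -/
theorem ind_kernel {A B : FSch.ModF 𝔛 h𝔛.1} (hA : ObjectProperty.ind.{u} (cohP h𝔛) A)
    (hB : ObjectProperty.ind.{u} (cohP h𝔛) B) (φ : A ⟶ B) :
    ObjectProperty.ind.{u} (cohP h𝔛) (kernel φ) := by
  have hrA := relFin_of_ind h𝔛 hA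
  have hrB := relFin_of_ind h𝔛 hB
  obtain ⟨JA, _, _, pA, hPA⟩ := hA
  refine ind_of_cover h𝔛 (relFin_of_mono (kernel.ι φ) hrA) (fun j => kernel (pA.ι.app j ≫ φ))
    (fun j => fp_kernel_of_relFin (goodBasis h𝔛) _ (hPA j) hrB)
    (fun j => kernel.lift φ (kernel.ι (pA.ι.app j ≫ φ) ≫ pA.ι.app j) (by rw [Category.assoc, kernel.condition]))
    fun {Z} g hg => mod_hom_ext fun W t => ?_
  refine (eq_zero_of_local (m := apm g.val W t) fun x hx => ?_).trans rfl
  obtain ⟨S, hS, hS'⟩ :=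
    FiltColim.exists_local_stage (O := 𝔛.Osh h𝔛.1) pA.cocone pA.isColimit W (apm (kernel.ι φ).val W t)
  obtain ⟨V, hV, hxV, hSV⟩ := exists_nhd_of_mem hS hx
  obtain ⟨j, s, hs⟩ := hS' (homOfLE hV) hSV
  refine ⟨V, hV, hxV, ?_⟩
  obtain ⟨k, hk⟩ := exists_kernel_sec (pA.ι.app j ≫ φ) s (by
    show apm φ.val V (apm (pA.ι.app j).val V s) = 0
    erw [hs]
    rw [apm_rsm, apm_kernel_ι_comp, map_zero])
  let b := kernel.lift φ (kernel.ι (pA.ι.app j ≫ φ) ≫ pA.ι.app j) (by rw [Category.assoc, kernel.condition])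
  have e : apm b.val V k = rm (kernel φ) hV t := by
    apply injective_of_mono (kernel.ι φ) V
    have h1 : apm (kernel.ι φ).val V (apm b.val V k) =
        apm (pA.ι.app j).val V (apm (kernel.ι (pA.ι.app j ≫ φ)).val V k) :=
      congrArg (fun χ : kernel (pA.ι.app j ≫ φ) ⟶ A => apm χ.val V k) (kernel.lift_ι _ _ _)
    rw [h1, hk, apm_rsm]
    exact hs
  rw [← apm_rsm, ← e]
  exact congrArg (fun χ : kernel (pA.ι.app j ≫ φ) ⟶ Z => apm χ.val V k) (hg j)

instance containsZero_ind : (ObjectProperty.ind.{u} (cohP h𝔛)).ContainsZero :=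
  ⟨⟨_, Limits.isZero_zero _, (cohP h𝔛).le_ind _ (FPSmall.fp_of_isZero (O := 𝔛.Osh h𝔛.1) (Limits.isZero_zero _))⟩⟩

instance isClosedUnderCokernels_ind : (ObjectProperty.ind.{u} (cohP h𝔛)).IsClosedUnderCokernels := by
  refine ⟨?_⟩
  rintro _ ⟨f, k, hk, hX, hY⟩
  exact (ObjectProperty.ind.{u} (cohP h𝔛)).prop_of_iso
    (IsColimit.coconePointUniqueUpToIso (cokernelIsCokernel f) hk) (ind_cokernel h𝔛 hX hY f)

instance isClosedUnderKernels_ind : (ObjectProperty.ind.{u} (cohP h𝔛)).IsClosedUnderKernels := by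
  refine ⟨?_⟩
  rintro _ ⟨f, k, hk, hX, hY⟩
  exact (ObjectProperty.ind.{u} (cohP h𝔛)).prop_of_iso
    (IsLimit.conePointUniqueUpToIso (kernelIsKernel f) hk) (ind_kernel h𝔛 hX hY f)

theorem isClosedUnderColimitsOfShape_ind (J : Type u) [SmallCategory J] :
    (ObjectProperty.ind.{u} (cohP h𝔛)).IsClosedUnderColimitsOfShape J :=
  IndSubAdj.isClosedUnderColimitsOfShape (cohP h𝔛) J

instance isClosedUnderFiniteCoproducts_ind :
    (ObjectProperty.ind.{u} (cohP h𝔛)).IsClosedUnderFiniteCoproducts :=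
  ObjectProperty.IsClosedUnderFiniteCoproducts.of_isClosedUnderColimitsOfShape
    fun J _ => isClosedUnderColimitsOfShape_ind h𝔛 (Discrete J)

instance isClosedUnderFiniteProducts_ind :
    (ObjectProperty.ind.{u} (cohP h𝔛)).IsClosedUnderFiniteProducts := by
  have : (ObjectProperty.ind.{u} (cohP h𝔛)).IsClosedUnderBinaryProducts := by
    refine ⟨?_⟩
    rintro X ⟨p⟩
    let A := p.diag.obj ⟨WalkingPair.left⟩
    let B := p.diag.obj ⟨WalkingPair.right⟩
    have e : A ⊞ B ≅ X := biprod.isoProd A B ≪≫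
      IsLimit.conePointsIsoOfNatIso (limit.isLimit _) p.isLimit (diagramIsoPair p.diag).symm
    exact (ObjectProperty.ind.{u} (cohP h𝔛)).prop_of_iso ((biprod.isoCoprod A B).symm ≪≫ e)
      ((ObjectProperty.ind.{u} (cohP h𝔛)).prop_coprod _ _ (p.prop_diag_obj _) (p.prop_diag_obj _))
  exact ObjectProperty.IsClosedUnderFiniteProducts.mk'

theorem preservesFiniteColimits_ι : PreservesFiniteColimits (ObjectProperty.ind.{u} (cohP h𝔛)).ι := by
  refine preservesFiniteColimits_of_preservesFiniteColimitsOfSize.{u} _ fun J _ _ => ?_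
  have := isClosedUnderColimitsOfShape_ind h𝔛 J
  let cr := createsColimitsOfShapeFullSubcategoryInclusion (P := ObjectProperty.ind.{u} (cohP h𝔛)) J
  exact preservesColimitOfShape_of_createsColimitsOfShape_and_hasColimitsOfShape _

/-- The inclusion of the filtered colimits of coherent modules is a left adjoint. -/
theorem isLeftAdjoint_ι : (ObjectProperty.ind.{u} (cohP h𝔛)).ι.IsLeftAdjoint := by
  have := preservesFiniteColimits_ι h𝔛
  obtain ⟨I, G, hG, hrep⟩ := FPSmall.exists_small_family (𝔛.Osh h𝔛.1)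
  exact IndSubAdj.isLeftAdjoint_ι (cohP h𝔛) G hG hrep

end Groth.AdicLinTop.IndCoh
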