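import Groth.Agent.AdicLinTop.AlgzBridge
import Groth.Agent.AdicLinTop.CohKer
import Groth.Agent.AdicLinTop.AffineGlue
import Groth.Agent.AdicLinTop.IndCoh
import Groth.Agent.AdicLinTop.CompletionFlat
import Groth.Agent.AdicLinTop.ComplPull
import Groth.Agent.CohC3.ExistenceProperSupport

/-!
# Algebraisable coherent modules on a completion are those with proper support
-/

set_option autoImplicit false

universe u

open CategoryTheory CategoryTheory.Limits AlgebraicGeometry Opposite TopologicalSpace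

namespace Groth.AdicLinTop.Algebraizable

open Groth.CohC3 Groth.AdicLinTop.FormalReal Groth.AdicLinTop.FormalLevels Groth.AdicLinTop.ComplReal
open Groth.AdicLinTop.FormalCoh Groth.AdicLinTop.FormalSpan Groth.AdicLinTop.AlgzBridge
open Groth.AdicLinTop.FormalAffine
open Groth.QCohMod (res res_res res_self)

section Supp

variable {X : Scheme.{u}} {𝓘 : X.IdealSheafData} {h : (FSch.completionAlong X 𝓘).IsFormal}

/-- Every section over an open set missing `T` vanishes. -/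
def SuppIn (𝔉 : FSch.ModF (FSch.completionAlong X 𝓘) h) (T : Set X) : Prop :=
  ∀ U : ((FSch.completionAlong X 𝓘).X 0).Opens, (∀ p ∈ U, FSch.completionToX X 𝓘 0 p ∉ T) → ∀ x : Sec 𝔉 U, x = 0

variable {𝔉 𝔊 : FSch.ModF (FSch.completionAlong X 𝓘) h} {T T' : Set X}

theorem suppIn_mono_set (h𝔉 : SuppIn 𝔉 T) (hT : T ⊆ T') : SuppIn 𝔉 T' :=
  fun U hU x => h𝔉 U (fun p hp hpT => hU p hp (hT hpT)) x

theorem suppIn_of_mono (ι : 𝔊 ⟶ 𝔉) [Mono ι] (h𝔉 : SuppIn 𝔉 T) : SuppIn 𝔊 T := fun U hU x =>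
  Groth.SitesTopoi.ModH.injective_of_mono ι U ((h𝔉 U hU _).trans (map_zero _).symm)

theorem suppIn_of_epi (π : 𝔉 ⟶ 𝔊) [Epi π] (h𝔉 : SuppIn 𝔉 T) : SuppIn 𝔊 T := fun U hU x => by
  obtain ⟨S, hS, hS'⟩ := Groth.SitesTopoi.ModH.locSurj_of_epi π U x
  refine SpaceGlue.eq_of_local fun p hp => ?_
  obtain ⟨W, hW, hpW, hSW⟩ := SpacePres.exists_nhd_of_mem hS hp
  obtain ⟨t, ht⟩ := hS' (homOfLE hW) hSW
  refine ⟨W, hW, hpW, ?_⟩
  have ht0 : t = (0 : Sec 𝔉 W) := h𝔉 W (fun q hq => hU q (hW hq)) t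
  subst ht0
  exact (ht.symm.trans (map_zero _)).trans (map_zero _).symm

theorem suppIn_of_kernel (φ : 𝔉 ⟶ 𝔊) (hk : SuppIn (kernel φ) T) (h𝔊 : SuppIn 𝔊 T) : SuppIn 𝔉 T :=
  fun U hU x => by
    obtain ⟨k, hk'⟩ := CohKer.exists_kernel_sec φ x (h𝔊 U hU _)
    rw [← hk', hk U hU k]
    exact map_zero _

theorem suppIn_of_iso (e : 𝔉 ≅ 𝔊) (h𝔉 : SuppIn 𝔉 T) : SuppIn 𝔊 T := suppIn_of_mono e.inv h𝔉

theorem subsingleton_of_disjoint_support {G : X.Modules} [G.IsQuasicoherent]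
    (W : ((FSch.completionAlong X 𝓘).X 0).Opens)
    (hW : ∀ p ∈ W, FSch.completionToX X 𝓘 0 p ∉ CohB1.support G) (hc : IsClosed (CohB1.support G)) :
    Subsingleton Γ((Scheme.Modules.pullback (FSch.completionToX X 𝓘 0)).obj G, W) := by
  set i := FSch.completionToX X 𝓘 0
  refine subsingleton_of_forall_eq 0 fun s => CohTwo.eq_of_local _ _ _ fun p hp => ?_
  obtain ⟨U', hU'⟩ := QCohMod.exists_preimage_eq i W
  subst hU'
  obtain ⟨_, ⟨V, hV, rfl⟩, hpV, hVle⟩ := X.isBasis_affineOpens.exists_subset_of_mem_open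
    (show i p ∈ U' ⊓ ⟨_, hc.isOpen_compl⟩ from ⟨hp, hW p hp⟩) (U' ⊓ ⟨_, hc.isOpen_compl⟩ : X.Opens).2
  refine ⟨i ⁻¹ᵁ V, i.preimage_mono fun y hy => (hVle hy).1, hpV, ?_⟩
  have : Subsingleton Γ(G, V) := subsingleton_sections_of_disjoint G V fun y hy => (hVle hy).2
  have : Subsingleton Γ((Scheme.Modules.pullback i).obj G, i ⁻¹ᵁ V) :=
    @Function.Surjective.subsingleton _ _ _ this (QCohMod.unit_closedImmersion_app i G hV).1
  exact @Subsingleton.elim _ this _ _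

variable [IsLocallyNoetherian X]

theorem suppIn_complMod {G : X.Modules} (hG : Coh.IsCoh G) :
    SuppIn ((FSch.complMod 𝓘 G).realMod h) (CohB1.support G) := fun U hU x => by
  have := hG.1
  have hc := isClosed_support_of_isCoh G hG
  refine sec_ext_affine _ fun V hVU hV => ?_
  have hV0 : ∀ p ∈ (FSch.completionAlong X 𝓘).lvU h 0 V, FSch.completionToX X 𝓘 0 p ∉ CohB1.support G :=
    fun p hp => hU p (hVU ((AffineGlue.lvU_zero_eq (CompletionFlat.isLocNoethFormal X 𝓘) V).le hp))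
  have : Subsingleton Γ((FSch.complMod 𝓘 G).F 0, (FSch.completionAlong X 𝓘).lvU h 0 V) :=
    subsingleton_of_disjoint_support _ hV0 hc
  have hspan := span_of_lev_zero (CompletionFlat.isLocNoethFormal X 𝓘) (ComplPull.isCoh_complMod hG) hV
    (n := 0) Fin.elim0 (eq_top_iff.2 fun y _ => by rw [Subsingleton.elim y 0]; exact zero_mem _)
  have hsub : ∀ y : Sec ((FSch.complMod 𝓘 G).realMod h) V, y = 0 := fun y => by
    have hy : y ∈ Submodule.span (RS h V) (Set.range (Fin.elim0 : Fin 0 → Sec ((FSch.complMod 𝓘 G).realMod h) V)) :=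
      hspan ▸ Submodule.mem_top
    rwa [Set.range_eq_empty, Submodule.span_empty, Submodule.mem_bot] at hy
  exact (hsub _).trans (hsub _).symm

end Supp

section Algz

variable {A : Type u} [CommRing A] [IsNoetherianRing A] (J : Ideal A) [IsAdicComplete J A]
  {X : Scheme.{u}} [X.Over (Spec (CommRingCat.of A))] [IsSeparated (X ↘ Spec (CommRingCat.of A))]
  [LocallyOfFiniteType (X ↘ Spec (CommRingCat.of A))] [QuasiCompact (X ↘ Spec (CommRingCat.of A))]
  {𝓘 : X.IdealSheafData} (h𝓘 : 𝓘 = AlgzUnit.baseIdeal X J) {hX : (FSch.completionAlong X 𝓘).IsFormal}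

include h𝓘 in
/-- A coherent module with proper support is algebraisable. -/
theorem exists_algebraization {𝔉 : FSch.ModF (FSch.completionAlong X 𝓘) hX} (h𝔉 : FSch.IsCohF _ hX 𝔉)
    {T : Set X} (hT : ClSub.IsProperOver (X ↘ Spec (CommRingCat.of A)) T) (hs : SuppIn 𝔉 T) :
    ∃ G : X.Modules, Coh.IsCoh G ∧ ClSub.IsProperOver (X ↘ Spec (CommRingCat.of A)) (CohB1.support G) ∧
      Nonempty (𝔉 ≅ (FSch.complMod 𝓘 G).realMod hX) := by
  have := isNoetherian_of_finiteType A X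
  have hN := CompletionFlat.isLocNoethFormal X 𝓘
  have h𝔐 := isCoh_sys hN h𝔉
  have hη := isIso_ηmap hN h𝔉
  have hsupp : CohB1.support ((pushSys (sys hX 𝔉)).obj (op 0)) ⊆ T := by
    intro x hx
    by_contra hxT
    obtain ⟨hTc, -⟩ := hT
    obtain ⟨_, ⟨V, hV, rfl⟩, hxV, hVT⟩ :=
      X.isBasis_affineOpens.exists_subset_of_mem_open hxT hTc.isOpen_compl
    have := (h𝔐 0).1
    have : ((pushSys (sys hX 𝔉)).obj (op 0)).IsQuasicoherent :=
      QCohMod.isQCoh_pushforward (M := (sys hX 𝔉).F 0) (FSch.completionToX X 𝓘 0)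
    refine notMem_support_of_affine_sections _ hV ?_ hxV hx
    let W := FSch.completionToX X 𝓘 0 ⁻¹ᵁ V
    refine subsingleton_of_forall_eq 0 fun (y : Γ((sys hX 𝔉).F 0, W)) => ?_
    have hW : IsAffineOpen W := hV.preimage _
    have e := AffineGlue.lvU_zero_eq hN W
    obtain ⟨z, hz⟩ := lev_surjective hN h𝔐 hW 0 (res ((sys hX 𝔉).F 0) e.le y)
    obtain ⟨w, rfl⟩ : ∃ w, app (ηmap hX 𝔉) W w = z :=
      ⟨app (inv (ηmap hX 𝔉)) W z, by
        rw [← app_comp, IsIso.inv_hom_id]; rfl⟩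
    rw [hs W (fun p hp => hVT hp) w, map_zero, lev, map_zero, map_zero] at hz
    have h2 := congrArg (res ((sys hX 𝔉).F 0) e.ge) hz.symm
    rw [res_res, res_self, map_zero] at h2
    exact h2
  obtain ⟨G, hG, hGs, ⟨β⟩⟩ := algebraizesSupp_finiteType (A := A) (I := J) X (pushSys (sys hX 𝔉))
    (isCohFormal_pushSys J h𝓘 _ h𝔐) ⟨T, hT, hsupp⟩
  have := hG.1
  obtain ⟨e⟩ := nonempty_iso_complMod J h𝓘 _ h𝔐 β
  obtain ⟨e'⟩ := nonempty_realMod_iso hX e.symm
  exact ⟨G, hG, hGs.isProperOver hG, ⟨asIso (ηmap hX 𝔉) ≪≫ e'⟩⟩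

end Algz

end Groth.AdicLinTop.Algebraizable
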