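import Groth.Agent.AdicLinTop.Algebraizable
import Groth.Agent.S0791

/-!
# Coherent subquotients and extensions of algebraisable modules
-/

set_option autoImplicit false

universe u

open CategoryTheory CategoryTheory.Limits AlgebraicGeometry Opposite TopologicalSpace

namespace Groth.AdicLinTop.Algebraizable

variable {A : Type u} [CommRing A] {X : Scheme.{u}} {f : X ⟶ Spec (CommRingCat.of A)} {𝓘 : X.IdealSheafData}
  {h : (FSch.completionAlong X 𝓘).IsFormal}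

/-- The algebraisable modules. -/
abbrev Algz (f : X ⟶ Spec (CommRingCat.of A)) (𝔉 : FSch.ModF (FSch.completionAlong X 𝓘) h) : Prop :=
  ∃ G : X.Modules, Coh.IsCoh G ∧ ClSub.IsProperOver f (CohB1.support G) ∧
    Nonempty (𝔉 ≅ (FSch.complMod 𝓘 G).realMod h)

theorem Algz.exists_suppIn [IsLocallyNoetherian X] {𝔉 : FSch.ModF (FSch.completionAlong X 𝓘) h} (a : Algz f 𝔉) :
    ∃ T : Set X, ClSub.IsProperOver f T ∧ SuppIn 𝔉 T := by
  obtain ⟨G, hG, hT, ⟨e⟩⟩ := a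
  exact ⟨_, hT, suppIn_of_iso e.symm (suppIn_complMod hG)⟩

variable [IsNoetherianRing A] {J : Ideal A} [IsAdicComplete J A] [IsSeparated f] [LocallyOfFiniteType f]
  [QuasiCompact f]

theorem algz_of_suppIn (h𝓘 : 𝓘 = (FSch.idealSpec A J).comap f)
    {𝔉 : FSch.ModF (FSch.completionAlong X 𝓘) h} (h𝔉 : FSch.IsCohF _ h 𝔉) {T : Set X}
    (hT : ClSub.IsProperOver f T) (hs : SuppIn 𝔉 T) : Algz f 𝔉 :=
  letI : X.Over (Spec (CommRingCat.of A)) := ⟨f⟩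
  haveI : IsSeparated (X ↘ Spec (CommRingCat.of A)) := ‹IsSeparated f›
  haveI : LocallyOfFiniteType (X ↘ Spec (CommRingCat.of A)) := ‹LocallyOfFiniteType f›
  haveI : QuasiCompact (X ↘ Spec (CommRingCat.of A)) := ‹QuasiCompact f›
  exists_algebraization J h𝓘 h𝔉 hT hs

/-- A module whose kernel and target are algebraisable is algebraisable. -/
theorem algz_of_kernel [IsLocallyNoetherian X] (h𝓘 : 𝓘 = (FSch.idealSpec A J).comap f)
    {𝔉 𝔊 : FSch.ModF (FSch.completionAlong X 𝓘) h} (h𝔉 : FSch.IsCohF _ h 𝔉) (u : 𝔉 ⟶ 𝔊)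
    (ak : Algz f (kernel u)) (a𝔊 : Algz f 𝔊) : Algz f 𝔉 := by
  obtain ⟨T₁, hT₁, s₁⟩ := ak.exists_suppIn
  obtain ⟨T₂, hT₂, s₂⟩ := a𝔊.exists_suppIn
  refine algz_of_suppIn h𝓘 h𝔉 (Groth.Agent.S0791.result f Bool (fun b => bif b then T₁ else T₂)
    (by intro b; cases b <;> assumption))
    (suppIn_of_kernel u (suppIn_mono_set s₁ ?_) (suppIn_mono_set s₂ ?_))
  · exact fun x hx => Set.mem_iUnion.2 ⟨true, hx⟩
  · exact fun x hx => Set.mem_iUnion.2 ⟨false, hx⟩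

theorem algz_kernel_image_cokernel [IsLocallyNoetherian X] (h𝓘 : 𝓘 = (FSch.idealSpec A J).comap f)
    {𝔉 𝔊 : FSch.ModF (FSch.completionAlong X 𝓘) h} (h𝔉 : FSch.IsCohF _ h 𝔉) (h𝔊 : FSch.IsCohF _ h 𝔊)
    (a𝔉 : Algz f 𝔉) (a𝔊 : Algz f 𝔊) (u : 𝔉 ⟶ 𝔊) :
    Algz f (kernel u) ∧ Algz f (Abelian.image u) ∧ Algz f (cokernel u) := by
  obtain ⟨T₁, hT₁, s₁⟩ := a𝔉.exists_suppIn
  obtain ⟨T₂, hT₂, s₂⟩ := a𝔊.exists_suppIn
  have hN := CompletionFlat.isLocNoethFormal X 𝓘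
  exact ⟨algz_of_suppIn h𝓘 (CohKer.fp_kernel (IndCoh.goodBasis hN) u h𝔉 h𝔊) hT₁ (suppIn_of_mono (kernel.ι u) s₁),
    algz_of_suppIn h𝓘 (CohKer.fp_image (IndCoh.goodBasis hN) u h𝔉 h𝔊) hT₂
      (suppIn_of_mono (Abelian.image.ι u) s₂),
    algz_of_suppIn h𝓘 (CohKer.fp_cokernel u h𝔉 h𝔊) hT₂ (suppIn_of_epi (cokernel.π u) s₂)⟩

end Groth.AdicLinTop.Algebraizable
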