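import Groth.Prelude.Def_FSch3
import Groth.Agent.Divisors.IdealComap
import Groth.Agent.Calg1.Completion
import Mathlib.AlgebraicGeometry.Noetherian
import Mathlib.AlgebraicGeometry.Morphisms.QuasiCompact
import Mathlib.AlgebraicGeometry.Morphisms.UnderlyingMap
import Mathlib.RingTheory.AdicCompletion.Basic

/-!
Closed immersions, kernels and base change in systems of thickenings.
-/

universe u

open CategoryTheory CategoryTheory.Limits AlgebraicGeometry

namespace Groth.AdicLinTop.Thickenings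

section ker

variable {X Y Z P : Scheme.{u}}

theorem ker_eq_comap_of_isPullback {fst : P ⟶ X} {snd : P ⟶ Z} {f : X ⟶ Y} {i : Z ⟶ Y}
    [IsClosedImmersion i] (h : IsPullback fst snd f i) : fst.ker = i.ker.comap f := by
  rw [← Scheme.IdealSheafData.ker_fst_of_isClosedImmersion i f, ← h.isoPullback_hom_fst,
    Scheme.Hom.ker_comp_of_isIso]

theorem isPullback_of_mono (f : X ⟶ Y) (i : Y ⟶ Z) [Mono i] :
    IsPullback f (𝟙 X) i (f ≫ i) := by
  refine ⟨⟨by simp⟩, ⟨PullbackCone.isLimitAux' _ fun s => ⟨s.snd, ?_, Category.comp_id _, fun {m} _ h2 => (Category.comp_id m).symm.trans h2⟩⟩⟩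
  rw [← cancel_mono i]
  exact (Category.assoc _ _ _).trans s.condition.symm

theorem ker_eq_comap_ker_comp (f : X ⟶ Y) (i : Y ⟶ Z) [Mono i] [IsClosedImmersion (f ≫ i)] :
    f.ker = (f ≫ i).ker.comap i :=
  ker_eq_comap_of_isPullback (isPullback_of_mono f i)

theorem ker_inclusion {I J : X.IdealSheafData} (h : I ≤ J) :
    (Scheme.IdealSheafData.inclusion h).ker = J.comap I.subschemeι := by
  haveI : IsClosedImmersion (Scheme.IdealSheafData.inclusion h ≫ I.subschemeι) := by
    rw [Scheme.IdealSheafData.inclusion_subschemeι]; infer_instance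
  rw [ker_eq_comap_ker_comp _ I.subschemeι, Scheme.IdealSheafData.inclusion_subschemeι,
    Scheme.IdealSheafData.ker_subschemeι]

theorem surjective_inclusion {I J : X.IdealSheafData} (h : I ≤ J) (hs : J.support = I.support) :
    Surjective (Scheme.IdealSheafData.inclusion h) := by
  refine ⟨fun x => ?_⟩
  have hx : I.subschemeι x ∈ Set.range J.subschemeι := by
    rw [Scheme.IdealSheafData.range_subschemeι, hs, ← Scheme.IdealSheafData.range_subschemeι]
    exact ⟨x, rfl⟩
  obtain ⟨y, hy⟩ := hx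
  refine ⟨y, I.subschemeι.isClosedEmbedding.injective ?_⟩
  rw [← hy, ← Scheme.Hom.comp_apply, Scheme.IdealSheafData.inclusion_subschemeι]

theorem ideal_fg_comap (f : X ⟶ Y) [IsLocallyNoetherian Y] (I : Y.IdealSheafData) (x : X)
    (O : X.Opens) (hx : x ∈ O) :
    ∃ W : X.affineOpens, x ∈ W.1 ∧ W.1 ≤ O ∧ ((I.comap f).ideal W).FG := by
  obtain ⟨U, hU, -⟩ := Groth.Divisors.exists_affine_le (f x) ⊤ trivial
  obtain ⟨W, hW, hWle⟩ := Groth.Divisors.exists_affine_le x (O ⊓ f ⁻¹ᵁ U.1) ⟨hx, hU⟩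
  refine ⟨W, hW, hWle.trans inf_le_left, ?_⟩
  rw [Groth.Divisors.ideal_comap_affine I f U W (hWle.trans inf_le_right)]
  haveI : IsNoetherianRing Γ(Y, U.1) := IsLocallyNoetherian.component_noetherian U
  exact Ideal.FG.map (IsNoetherian.noetherian (I.ideal U) : (I.ideal U).FG) _

/-- Nilpotence of the ideal of a surjective closed immersion. -/
theorem ideal_ker_le_nilradical (i : X ⟶ Y) [IsClosedImmersion i] [Surjective i]
    (W : Y.affineOpens) : i.ker.ideal W ≤ nilradical Γ(Y, W.1) := by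
  have huniv : (i.ker.support : Set Y) = Set.univ :=
    Set.eq_univ_of_univ_subset ((i.surjective.range_eq).symm.le.trans i.range_subset_ker_support)
  refine (Scheme.zeroLocus_eq_univ_iff_subset_nilradical_of_isCompact W.2.isCompact _).mp
    (Set.eq_univ_of_forall fun y => ?_)
  by_cases hy : y ∈ W.1
  · exact ((i.ker.coe_support_inter W).le ⟨huniv ▸ Set.mem_univ y, hy⟩).1
  · rw [Scheme.mem_zeroLocus_iff]
    exact fun f _ hf => hy (Y.basicOpen_le f hf)

theorem isNoetherianRing_of_fg_nilradical {R S : Type u} [CommRing R] [CommRing S] [IsNoetherianRing S]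
    (φ : R →+* S) (hφ : Function.Surjective φ) (hfg : (RingHom.ker φ).FG)
    (hnil : RingHom.ker φ ≤ nilradical R) : IsNoetherianRing R := by
  obtain ⟨n, hn⟩ := (Ideal.FG.isNilpotent_iff_le_nilradical hfg).mpr hnil
  replace hn : RingHom.ker φ ^ n ≤ ⊥ := le_of_eq hn
  haveI : IsAdicComplete (RingHom.ker φ) R := by
    have hz : ∀ m, n ≤ m → ((RingHom.ker φ) ^ m • ⊤ : Submodule R R) = ⊥ := fun m hm => by
      rw [smul_eq_mul, Ideal.mul_top]
      exact le_bot_iff.mp ((Ideal.pow_le_pow_right hm).trans hn)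
    refine { haus' := fun x hx => ?_, prec' := fun f hf => ⟨f n, fun m => ?_⟩ }
    · have := hx n
      rwa [hz n le_rfl, SModEq.bot] at this
    · rcases le_total m n with h | h
      · exact hf h
      · have := hf h
        rw [hz n le_rfl, SModEq.bot] at this
        rw [this]
  haveI : IsNoetherianRing (R ⧸ RingHom.ker φ) :=
    isNoetherianRing_of_ringEquiv S (RingHom.quotientKerEquivOfSurjective hφ).symm
  exact Groth.Calg1.isNoetherianRing_of_isAdicComplete (RingHom.ker φ) hfg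

theorem isLocallyNoetherian_of_thickening (i : X ⟶ Y) [IsClosedImmersion i] [Surjective i]
    [IsLocallyNoetherian X] (hfg : ∀ y : Y, ∃ W : Y.affineOpens, y ∈ W.1 ∧ (i.ker.ideal W).FG) :
    IsLocallyNoetherian Y := by
  choose W hW hfgW using hfg
  refine isLocallyNoetherian_of_affine_cover (S := W)
    (top_le_iff.mp fun y _ => TopologicalSpace.Opens.mem_iSup.mpr ⟨y, hW y⟩) fun y => ?_
  haveI : IsNoetherianRing Γ(X, i ⁻¹ᵁ (W y).1) :=
    IsLocallyNoetherian.component_noetherian ⟨_, (W y).2.preimage i⟩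
  refine isNoetherianRing_of_fg_nilradical (i.app (W y).1).hom (i.app_surjective _ (W y).2) ?_ ?_
  · rw [← Scheme.Hom.ker_apply]; exact hfgW y
  · rw [← Scheme.Hom.ker_apply]; exact ideal_ker_le_nilradical i (W y)

end ker

section sys

variable {𝔛 𝔖 : FSch.Sys.{u}} {f : 𝔛 ⟶ 𝔖}

theorem isClosedImmersion_toX (h : 𝔛.IsFormal) (n : ℕ) :
    IsClosedImmersion (𝔛.toX n) ∧ Surjective (𝔛.toX n) := by
  induction n with
  | zero =>
    show IsClosedImmersion (𝟙 (𝔛.X 0)) ∧ Surjective (𝟙 (𝔛.X 0))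
    exact ⟨inferInstance, inferInstance⟩
  | succ n ih =>
    obtain ⟨h1, h2⟩ := ih
    haveI := (h n).1
    haveI : Surjective (𝔛.ι n) := ⟨(h n).2⟩
    show IsClosedImmersion (𝔛.toX n ≫ 𝔛.ι n) ∧ Surjective (𝔛.toX n ≫ 𝔛.ι n)
    exact ⟨inferInstance, inferInstance⟩

theorem isPullback_toX (hf : FSch.IsAdicHom f) (n : ℕ) :
    IsPullback (𝔛.toX n) ((f : FSch.Hom 𝔛 𝔖).app 0) ((f : FSch.Hom 𝔛 𝔖).app n) (𝔖.toX n) := by
  induction n with
  | zero =>
    haveI : IsIso (𝔛.toX 0) := inferInstanceAs (IsIso (𝟙 _))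
    haveI : IsIso (𝔖.toX 0) := inferInstanceAs (IsIso (𝟙 _))
    exact IsPullback.of_horiz_isIso ⟨by simp [FSch.Sys.toX]⟩
  | succ n ih => exact ih.paste_horiz (hf n)

theorem isFormal_of_isAdicHom (hf : FSch.IsAdicHom f) (h : 𝔖.IsFormal) : 𝔛.IsFormal := fun n => by
  refine ⟨MorphismProperty.of_isPullback (hf n).flip (h n).1, ?_⟩
  have hs : Surjective (𝔖.ι n) := ⟨(h n).2⟩
  exact (MorphismProperty.of_isPullback (P := @Surjective) (hf n).flip hs).surj

theorem isAdic_of_isAdicHom (hf : FSch.IsAdicHom f) (h : 𝔖.IsFormal) (ha : 𝔖.IsAdic) : 𝔛.IsAdic := fun n => by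
  haveI := (h n).1
  haveI := (isClosedImmersion_toX h (n + 1)).1
  rw [ker_eq_comap_of_isPullback (hf n), ker_eq_comap_of_isPullback (isPullback_toX hf (n + 1)), ha n,
    Groth.Divisors.comap_pow]

theorem isLocNoethFormal_of_isAdicHom (hf : FSch.IsAdicHom f) (h : 𝔖.IsLocNoethFormal)
    [IsLocallyNoetherian (𝔛.X 0)] : 𝔛.IsLocNoethFormal := by
  obtain ⟨hF, hA, hN⟩ := h
  have hF' := isFormal_of_isAdicHom hf hF
  refine ⟨hF', isAdic_of_isAdicHom hf hF hA, fun n => ?_⟩
  induction n with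
  | zero => infer_instance
  | succ n ih =>
    haveI := ih
    haveI := (hF' n).1
    haveI : Surjective (𝔛.ι n) := ⟨(hF' n).2⟩
    haveI := (hF n).1
    haveI := hN (n + 1)
    refine isLocallyNoetherian_of_thickening (𝔛.ι n) fun y => ?_
    rw [ker_eq_comap_of_isPullback (hf n)]
    obtain ⟨W, h1, -, h2⟩ := ideal_fg_comap ((f : FSch.Hom 𝔛 𝔖).app (n + 1)) (𝔖.ι n).ker y ⊤ trivial
    exact ⟨W, h1, h2⟩

end sys

end Groth.AdicLinTop.Thickenings
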