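import Groth.Agent.AdicLinTop.SysExamples
import Groth.Agent.AdicLinTop.Thickenings
import Groth.Agent.CohC3.ModIdeal
import Groth.Agent.CohC3.LimitSys
import Groth.Agent.QCohMod.Killed

/-!
# Quotients by powers of an ideal of the base as units of closed immersions
-/

set_option autoImplicit false

universe u

open CategoryTheory CategoryTheory.Limits AlgebraicGeometry Opposite TopologicalSpace

namespace Groth.AdicLinTop.AlgzUnit

open Groth.CohC3

variable {A : Type u} [CommRing A] {Z W : Scheme.{u}} [Z.Over (Spec (CommRingCat.of A))]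

/-- The ideal sheaf on a scheme over `Spec A` of an ideal of `A`. -/
noncomputable abbrev baseIdeal (Z : Scheme.{u}) [Z.Over (Spec (CommRingCat.of A))] (K : Ideal A) :
    Z.IdealSheafData :=
  (FSch.idealSpec A K).comap (Z ↘ Spec (CommRingCat.of A))

theorem baseApp_eq_appLE (U : Z.Opens) :
    baseApp (A := A) Z U = ((Z ↘ Spec (CommRingCat.of A)).appLE ⊤ U (fun _ _ => trivial)).hom.comp
      (Scheme.ΓSpecIso (CommRingCat.of A)).inv.hom := rfl

theorem baseIdeal_ideal (K : Ideal A) (U : Z.affineOpens) :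
    (baseIdeal Z K).ideal U = K.map (baseApp Z (U : Z.Opens)) := by
  rw [baseIdeal, Groth.Divisors.ideal_comap_affine (FSch.idealSpec A K) (Z ↘ Spec (CommRingCat.of A))
    ⟨⊤, isAffineOpen_top _⟩ U (fun _ _ => trivial), Thickenings.idealSpec_ideal_top, baseApp_eq_appLE,
    ← Ideal.map_map]

theorem baseIdeal_pow (K : Ideal A) (m : ℕ) : baseIdeal Z (K ^ m) = baseIdeal Z K ^ m := by
  rw [baseIdeal, Thickenings.idealSpec_pow, Groth.Divisors.comap_pow]

theorem baseIdeal_comap [W.Over (Spec (CommRingCat.of A))] (f : W ⟶ Z)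
    (hf : f ≫ (Z ↘ Spec (CommRingCat.of A)) = W ↘ Spec (CommRingCat.of A)) (K : Ideal A) :
    (baseIdeal Z K).comap f = baseIdeal W K := by
  rw [baseIdeal, baseIdeal, ← hf, Scheme.IdealSheafData.comap_comp]

theorem killedBy_of_killedByIdeal {K : Ideal A} {N : Z.Modules} [N.IsQuasicoherent]
    (h : ClSub.KilledByIdeal (baseIdeal Z K) N) : Formal.KilledBy K N := fun a ha => by
  refine hom_eq_zero_of_cover _ fun x => ?_
  obtain ⟨U, hU, hx⟩ := QCohMod.exists_affine_mem x
  exact ⟨U, hU, hx, fun s => h ⟨U, hU⟩ _ (by rw [baseIdeal_ideal]; exact Ideal.mem_map_of_mem _ ha) s⟩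

variable (i : W ⟶ Z) [IsClosedImmersion i]

/-- The unit of a closed immersion cut out by an ideal of the base is a quotient by that ideal. -/
theorem isQuot_unit {K : Ideal A} (hker : i.ker = baseIdeal Z K) (M : Z.Modules) [M.IsQuasicoherent] :
    IsQuot K ((Scheme.Modules.pullbackPushforwardAdjunction i).unit.app M) := by
  have hU : ∀ {U : Z.Opens} (hU : IsAffineOpen U) (s : Γ(M, U)),
      ((Scheme.Modules.pullbackPushforwardAdjunction i).unit.app M).app U s = 0 ↔
        s ∈ (K.map (baseApp Z U)) • (⊤ : Submodule Γ(Z, U) Γ(M, U)) := fun {U} hU s => by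
    rw [(QCohMod.unit_closedImmersion_app i M hU).2 s, hker, baseIdeal_ideal]
  refine isQuot_of_affine _ (fun a ha => ?_) (fun U hU' => (QCohMod.unit_closedImmersion_app i M hU').1)
    (fun U hU' s hs => (hU hU' s).1 hs)
  refine (mem_annHom _ _).2 (@hom_eq_zero_of_cover _ M _ (by assumption) _ fun x => ?_)
  obtain ⟨U, hU', hx⟩ := QCohMod.exists_affine_mem x
  refine ⟨U, hU', hx, fun s => (hU hU' (baseApp Z U a • s)).2 ?_⟩
  exact Submodule.smul_mem_smul (Ideal.mem_map_of_mem _ ha) trivial

/-- Direct image along a closed immersion keeps quotients by an ideal of the base. -/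
theorem isQuot_pushforward [W.Over (Spec (CommRingCat.of A))]
    (hi : i ≫ (Z ↘ Spec (CommRingCat.of A)) = W ↘ Spec (CommRingCat.of A)) {K : Ideal A} {M N : W.Modules}
    [M.IsQuasicoherent] {p : M ⟶ N} (h : IsQuot K p) :
    IsQuot K ((Scheme.Modules.pushforward i).map p) := by
  refine isQuot_of_affine _ (fun a ha => ?_) (fun U hU => h.app_surjective (hU.preimage i))
    (fun U hU x hx => ?_)
  · rw [mem_annHom, ← pushforward_map_smulMod hi, ← Functor.map_comp, (mem_annHom _ _).1 (h.le_ann ha)]
    exact (Scheme.Modules.pushforward i).map_zero _ _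
  · refine Submodule.smul_induction_on
      ((h.app_eq_zero_iff (U := i ⁻¹ᵁ U) (show Γ(M, i ⁻¹ᵁ U) from x) (hU.preimage i)).1 hx)
      (fun r hr t _ => ?_) fun _ _ => add_mem
    induction hr using Submodule.span_induction generalizing t with
    | mem b hb =>
      obtain ⟨a, ha, rfl⟩ := hb
      rw [← baseApp_preimage hi]
      exact Submodule.smul_mem_smul (r := baseApp Z U a)
        (n := (show Γ((Scheme.Modules.pushforward i).obj M, U) from t)) (Ideal.mem_map_of_mem _ ha) trivial
    | zero => rw [zero_smul]; exact zero_mem _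
    | add a b _ _ ha hb => rw [add_smul]; exact add_mem (ha t trivial) (hb t trivial)
    | smul a b _ hb => rw [smul_eq_mul, mul_comm, mul_smul]; exact hb _ trivial

end Groth.AdicLinTop.AlgzUnit
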