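import Groth.Agent.AdicLinTop.ComplData
import Mathlib.Algebra.Module.LocalizedModule.Basic
import Mathlib.RingTheory.Localization.Away.Basic

/-!
# Artin–Rees bounds, their localisation, and exactness of completion under such a bound
-/

set_option autoImplicit false

universe u v w

namespace Groth.AdicLinTop.ArtinReesLoc

/-- An Artin–Rees bound for a linear map. -/
def ARBound {R : Type*} [CommRing R] (I : Ideal R) {M N : Type*} [AddCommGroup M] [Module R M] [AddCommGroup N]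
    [Module R N] (g : M →ₗ[R] N) : Prop :=
  ∃ c : ℕ, ∀ k m, g m ∈ I ^ (k + c) • (⊤ : Submodule R N) → m ∈ I ^ k • (⊤ : Submodule R M)

section Loc

variable {R : Type*} [CommRing R] (f : R) {R' : Type*} [CommRing R'] [Algebra R R'] [IsLocalization.Away f R']
  {M : Type*} [AddCommGroup M] [Module R M] {M' : Type*} [AddCommGroup M'] [Module R M'] [Module R' M']
  [IsScalarTower R R' M'] (ℓ : M →ₗ[R] M') [IsLocalizedModule.Away f ℓ]

/-- Elements of the localisation of an ideal times the module. -/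
theorem exists_of_mem_map_smul (J : Ideal R) {z : M'}
    (hz : z ∈ J.map (algebraMap R R') • (⊤ : Submodule R' M')) :
    ∃ x ∈ J • (⊤ : Submodule R M), ∃ i : ℕ, algebraMap R R' (f ^ i) • z = ℓ x := by
  refine Submodule.smul_induction_on hz (fun a ha y _ => ?_) fun a b ⟨x, hx, i, hi⟩ ⟨y, hy, j, hj⟩ => ?_
  · obtain ⟨⟨⟨a₀, ha₀⟩, ⟨_, i, rfl⟩⟩, hi⟩ := (IsLocalization.mem_map_algebraMap_iff (Submonoid.powers f) R').1 ha
    obtain ⟨⟨y₀, ⟨_, l, rfl⟩⟩, hl⟩ := IsLocalizedModule.surj (Submonoid.powers f) ℓ y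
    refine ⟨a₀ • y₀, Submodule.smul_mem_smul ha₀ trivial, i + l, ?_⟩
    replace hl : algebraMap R R' (f ^ l) • y = ℓ y₀ := (IsScalarTower.algebraMap_smul R' (f ^ l) y).trans hl
    rw [map_smul, ← hl, ← IsScalarTower.algebraMap_smul R' a₀ (algebraMap R R' (f ^ l) • y), ← hi, smul_smul, smul_smul,
      pow_add, map_mul]
    congr 1
    ring
  · refine ⟨f ^ j • x + f ^ i • y, add_mem (Submodule.smul_mem _ _ hx) (Submodule.smul_mem _ _ hy), i + j, ?_⟩
    rw [map_add, map_smul, map_smul, ← hi, ← hj, ← IsScalarTower.algebraMap_smul R' (f ^ j),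
      ← IsScalarTower.algebraMap_smul R' (f ^ i) (algebraMap R R' (f ^ j) • b), smul_smul, smul_smul, ← map_mul,
      ← map_mul, ← pow_add, ← pow_add, smul_add, add_comm j i]

omit [IsLocalization.Away f R'] [IsLocalizedModule.Away f ℓ] in
theorem map_mem_smul (J : Ideal R) {x : M} (hx : x ∈ J • (⊤ : Submodule R M)) :
    ℓ x ∈ J.map (algebraMap R R') • (⊤ : Submodule R' M') := by
  refine Submodule.smul_induction_on hx (fun a ha y _ => ?_) fun a b ha hb => by rw [map_add]; exact add_mem ha hb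
  rw [map_smul, ← IsScalarTower.algebraMap_smul R' a]
  exact Submodule.smul_mem_smul (Ideal.mem_map_of_mem _ ha) trivial

variable {N : Type*} [AddCommGroup N] [Module R N] {N' : Type*} [AddCommGroup N'] [Module R N'] [Module R' N']
  [IsScalarTower R R' N'] (ℓN : N →ₗ[R] N') [IsLocalizedModule.Away f ℓN]

include f ℓ ℓN in
/-- Artin–Rees bounds localise. -/
theorem ARBound.localize {I : Ideal R} {g : M →ₗ[R] N} (hg : ARBound I g) (g' : M' →ₗ[R'] N')
    (hcomm : ∀ m, g' (ℓ m) = ℓN (g m)) : ARBound (I.map (algebraMap R R')) g' := by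
  obtain ⟨c, hc⟩ := hg
  refine ⟨c, fun k m' hm' => ?_⟩
  obtain ⟨⟨x, ⟨_, i, rfl⟩⟩, hx⟩ := IsLocalizedModule.surj (Submonoid.powers f) ℓ m'
  replace hx : algebraMap R R' (f ^ i) • m' = ℓ x := (IsScalarTower.algebraMap_smul R' (f ^ i) m').trans hx
  rw [← Ideal.map_pow] at hm'
  obtain ⟨y, hy, j, hj⟩ := exists_of_mem_map_smul f ℓN (I ^ (k + c)) hm'
  have e : ℓN (f ^ j • g x) = ℓN (f ^ i • y) := by
    rw [map_smul, map_smul, ← hcomm, ← hx, map_smul g', ← hj, ← IsScalarTower.algebraMap_smul R' (f ^ j),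
      ← IsScalarTower.algebraMap_smul R' (f ^ i) (algebraMap R R' (f ^ j) • g' m'), smul_comm]
  obtain ⟨⟨_, l, rfl⟩, hl⟩ := (IsLocalizedModule.eq_iff_exists (Submonoid.powers f) ℓN).1 e
  have h1 : f ^ l • f ^ j • x ∈ I ^ k • (⊤ : Submodule R M) := hc k _ (by
    rw [map_smul, map_smul]
    show f ^ l • f ^ j • g x ∈ _
    rw [show f ^ l • f ^ j • g x = f ^ l • f ^ i • y from hl]
    exact Submodule.smul_mem _ _ (Submodule.smul_mem _ _ hy))
  have h2 := map_mem_smul (R' := R') ℓ (I ^ k) h1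
  rw [map_smul, map_smul, ← hx, ← IsScalarTower.algebraMap_smul R' (f ^ j), ← IsScalarTower.algebraMap_smul R' (f ^ l),
    smul_smul, smul_smul, ← map_mul, ← map_mul, ← pow_add, ← pow_add, Ideal.map_pow] at h2
  obtain ⟨u, hu⟩ : IsUnit (algebraMap R R' (f ^ (l + j + i))) :=
    IsLocalization.map_units R' (⟨f ^ (l + j + i), l + j + i, rfl⟩ : Submonoid.powers f)
  rw [← hu] at h2
  simpa [smul_smul] using Submodule.smul_mem _ (↑u⁻¹ : R') h2

end Loc

section Compl

open Groth.AdicLinTop.ComplData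

variable {R : Type*} [CommRing R] {I : Ideal R}
  {M N P : Type*} [AddCommGroup M] [Module R M] [AddCommGroup N] [Module R N] [AddCommGroup P] [Module R P]
  {S T U : Type*} [Zero S] [Zero T] [Zero U]
  {cM : Compl I M S} {cN : Compl I N T} {cP : Compl I P U}

/-- Completion preserves injections with an Artin–Rees bound. -/
theorem injective {g : M →ₗ[R] N} {Φ : S → T}
    (hΦ : ∀ x k m, cM.rep x k m → cN.rep (Φ x) k (g m)) (hg : ARBound I g) : Function.Injective Φ := by
  obtain ⟨c, hc⟩ := hg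
  intro x y hxy
  refine cM.ext x y fun k => ?_
  obtain ⟨m, hm⟩ := cM.exists_rep x (k + c)
  obtain ⟨m', hm'⟩ := cM.exists_rep y (k + c)
  have h1 : g m - g m' ∈ I ^ (k + c + 1) • (⊤ : Submodule R N) :=
    (cN.rep_iff _ _ _ _ (hxy ▸ hΦ y _ m' hm' : cN.rep (Φ x) (k + c) (g m'))).1 (hΦ x _ m hm)
  have h2 : m - m' ∈ I ^ (k + 1) • (⊤ : Submodule R M) := by
    refine hc (k + 1) _ ?_
    rw [map_sub, show k + 1 + c = k + c + 1 by omega]
    exact h1
  exact ⟨m, step_le cM (Nat.le_add_right k c) hm,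
    (cM.rep_iff y k m' m (step_le cM (Nat.le_add_right k c) hm')).2 h2⟩

/-- Completion is exact in the middle under an Artin–Rees bound. -/
theorem exact {g : M →ₗ[R] N} {f : N →ₗ[R] P} {Φ : S → T}
    {Ψ : T → U} (hΦ : ∀ x k m, cM.rep x k m → cN.rep (Φ x) k (g m))
    (hΨ : ∀ y k n, cN.rep y k n → cP.rep (Ψ y) k (f n)) (hg : ARBound I g)
    (hf : Function.Surjective f) (hgf : ∀ n, f n = 0 → ∃ m, g m = n) {y : T} (hy : Ψ y = 0) :
    ∃ x, Φ x = y := by
  obtain ⟨c, hc⟩ := hg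
  choose b hb using cN.exists_rep y
  have happ : ∀ k, ∃ a, g a - b k ∈ I ^ (k + 1) • (⊤ : Submodule R N) := fun k => by
    have h1 : f (b k) ∈ I ^ (k + 1) • (⊤ : Submodule R P) := by
      have := (cP.rep_iff 0 k 0 (f (b k)) (cP.rep_zero k)).1 (hy ▸ hΨ y k _ (hb k))
      rwa [sub_zero] at this
    have h2 : f (b k) ∈ Submodule.map f (I ^ (k + 1) • ⊤) := by
      rw [Submodule.map_smul'', Submodule.map_top, LinearMap.range_eq_top.2 hf]
      exact h1
    obtain ⟨t, ht, ht'⟩ := h2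
    obtain ⟨a, ha⟩ := hgf (b k - t) (by rw [map_sub, ht', sub_self])
    exact ⟨a, by rw [ha, sub_sub_cancel_left]; exact neg_mem ht⟩
  choose a ha using happ
  have hle : ∀ i j, j ≤ i → I ^ i • (⊤ : Submodule R N) ≤ I ^ j • ⊤ :=
    fun i j hij => Submodule.smul_mono (Ideal.pow_le_pow_right hij) le_rfl
  have hb' : ∀ j k, j ≤ k → b k - b j ∈ I ^ (j + 1) • (⊤ : Submodule R N) := fun j k hjk =>
    (cN.rep_iff y j _ _ (hb j)).1 (step_le cN hjk (hb k))
  have hrep : ∀ k, cN.rep y k (g (a (k + c))) := fun k => by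
    refine (cN.rep_iff y k _ _ (hb k)).2 ?_
    rw [show g (a (k + c)) - b k = (g (a (k + c)) - b (k + c)) + (b (k + c) - b k) by abel]
    exact add_mem (hle _ _ (by omega) (ha _)) (hb' _ _ (Nat.le_add_right k c))
  obtain ⟨x, hx⟩ := cM.glue (fun k => a (k + c)) fun k => by
    refine hc (k + 1) _ ?_
    rw [map_sub, show k + 1 + c = k + c + 1 by omega,
      show g (a (k + c + 1)) - g (a (k + c)) =
        (g (a (k + c + 1)) - b (k + c + 1)) + (b (k + c + 1) - b (k + c)) - (g (a (k + c)) - b (k + c)) by abel]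
    exact sub_mem (add_mem (hle _ _ (by omega) (ha _)) (hb' _ _ (Nat.le_succ _))) (ha _)
  exact ⟨x, cN.ext _ _ fun k => ⟨_, hΦ x k _ (hx k), hrep k⟩⟩

/-- An element with representative zero at a level is a combination of generators of that power of the ideal. -/
theorem exists_seq_of_rep_zero (k : ℕ) {n : ℕ} (a : Fin n → R) (ha : Ideal.span (Set.range a) = I ^ (k + 1)) {x : S}
    (hx : cM.rep x k 0) :
    ∃ s : Fin n → ℕ → M, (∀ i j, s i (j + 1) - s i j ∈ I ^ (j + 1) • (⊤ : Submodule R M)) ∧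
      ∀ j, cM.rep x j (∑ i, a i • s i j) := by
  choose b hb using cM.exists_rep x
  have hb' : ∀ j, b (j + 1) - b j ∈ I ^ (j + 1) • (⊤ : Submodule R M) := fun j =>
    (cM.rep_iff x j _ _ (hb j)).1 (cM.step x j _ (hb (j + 1)))
  have hsplit : ∀ (l : ℕ) (z : M), z ∈ I ^ (k + 1 + l) • (⊤ : Submodule R M) →
      ∃ w : Fin n → M, (∀ i, w i ∈ I ^ l • (⊤ : Submodule R M)) ∧ z = ∑ i, a i • w i := by
    intro l z hz
    rw [pow_add, ← ha, Submodule.mul_smul] at hz
    refine Submodule.smul_induction_on hz (fun r hr y hy => ?_) fun p q ⟨wp, hp, ep⟩ ⟨wq, hq, eq⟩ => ?_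
    · obtain ⟨cf, hcf⟩ := (Submodule.mem_span_range_iff_exists_fun R).1 hr
      refine ⟨fun i => cf i • y, fun i => Submodule.smul_mem _ _ hy, ?_⟩
      rw [← hcf, Finset.sum_smul]
      refine Finset.sum_congr rfl fun i _ => ?_
      rw [smul_eq_mul, mul_comm, mul_smul]
    · exact ⟨wp + wq, fun i => add_mem (hp i) (hq i),
        by rw [ep, eq, ← Finset.sum_add_distrib]; simp only [Pi.add_apply, smul_add]⟩
  obtain ⟨w₀, -, hw₀⟩ := hsplit 0 (b k) (by
    have := (cM.rep_iff x k 0 (b k) hx).1 (hb k)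
    rwa [sub_zero] at this)
  choose w hw hws using fun l => hsplit l (b (k + l + 1) - b (k + l))
    (by rw [show k + 1 + l = k + l + 1 by omega]; exact hb' (k + l))
  refine ⟨fun i j => w₀ i + ∑ l ∈ Finset.range (j + 1), w l i, fun i j => ?_, fun j => ?_⟩
  · show (w₀ i + ∑ l ∈ Finset.range (j + 1 + 1), w l i) - (w₀ i + ∑ l ∈ Finset.range (j + 1), w l i) ∈ _
    rw [Finset.sum_range_succ _ (j + 1), add_sub_add_left_eq_sub, add_sub_cancel_left]
    exact hw (j + 1) i
  · have e : ∀ j, ∑ i, a i • (w₀ i + ∑ l ∈ Finset.range (j + 1), w l i) = b (k + (j + 1)) := fun j => by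
      simp only [smul_add, Finset.smul_sum, Finset.sum_add_distrib, ← hw₀]
      rw [Finset.sum_comm, Finset.sum_congr rfl fun l _ => (hws l).symm,
        show ∑ l ∈ Finset.range (j + 1), (b (k + l + 1) - b (k + l)) = b (k + (j + 1)) - b (k + 0) from
          Finset.sum_range_sub (fun l => b (k + l)) (j + 1), add_zero, add_sub_cancel]
    rw [e]
    exact step_le cM (by omega) (hb _)

end Compl

end Groth.AdicLinTop.ArtinReesLoc
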