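import Groth.Prelude.Def_LinTop
import Mathlib.Topology.Algebra.Nonarchimedean.Basic
import Mathlib.Topology.Algebra.InfiniteSum.Nonarchimedean
import Mathlib.Topology.Algebra.InfiniteSum.NatInt
import Mathlib.Topology.Algebra.Ring.Ideal
import Mathlib.RingTheory.Noetherian.Nilpotent
import Mathlib.RingTheory.Jacobson.Ideal
import Mathlib.RingTheory.AdicCompletion.Basic
import Mathlib.RingTheory.Finiteness.Ideal
import Mathlib.Tactic.LinearCombination

/-!
Basic facts on linearly topologized rings and ideals of definition.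
-/

set_option autoImplicit false

open Filter Topology

namespace Groth.AdicLinTop

variable {A : Type*} [CommRing A] [TopologicalSpace A]

theorem isOpen_of_le [IsTopologicalRing A] {I J : Ideal A} (h : IsOpen (I : Set A)) (hle : I ≤ J) :
    IsOpen (J : Set A) :=
  J.toAddSubgroup.isOpen_of_mem_nhds (g := 0)
    (Filter.mem_of_superset (h.mem_nhds I.zero_mem) hle)

theorem isOpen_of_mem_nhds [IsTopologicalRing A] {I : Ideal A} (h : (I : Set A) ∈ 𝓝 (0 : A)) :
    IsOpen (I : Set A) :=
  I.toAddSubgroup.isOpen_of_mem_nhds (g := 0) h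

theorem isClosed_of_isOpen [IsTopologicalRing A] {I : Ideal A} (h : IsOpen (I : Set A)) :
    IsClosed (I : Set A) :=
  AddSubgroup.isClosed_of_isOpen I.toAddSubgroup h

theorem exists_open_ideal_subset [IsTopologicalRing A] [IsLinearTopology A A] {s : Set A}
    (hs : s ∈ 𝓝 (0 : A)) : ∃ U : Ideal A, IsOpen (U : Set A) ∧ (U : Set A) ⊆ s :=
  (IsLinearTopology.hasBasis_open_submodule A).mem_iff.mp hs

/-- A linearly topologized ring is non-archimedean. -/
theorem nonarchimedeanRing [IsTopologicalRing A] [IsLinearTopology A A] : NonarchimedeanRing A where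
  is_nonarchimedean U hU := by
    obtain ⟨I, hI, hIU⟩ := exists_open_ideal_subset hU
    exact ⟨⟨I.toAddSubgroup, hI⟩, hIU⟩

/-- The closure of an ideal is cut out by the open ideals. -/
theorem mem_closure_iff [IsTopologicalRing A] [IsLinearTopology A A] {N : Ideal A} {x : A} :
    x ∈ closure (N : Set A) ↔ ∀ U : Ideal A, IsOpen (U : Set A) → x ∈ N ⊔ U := by
  constructor
  · intro hx U hU
    have hc : IsClosed ((N ⊔ U : Ideal A) : Set A) :=
      isClosed_of_isOpen (isOpen_of_le hU le_sup_right)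
    exact closure_minimal (SetLike.coe_subset_coe.mpr le_sup_left) hc hx
  · intro h
    rw [mem_closure_iff_nhds]
    intro t ht
    have ht' : (fun z => x + z) ⁻¹' t ∈ 𝓝 (0 : A) := by
      apply (continuous_const_add x).continuousAt.preimage_mem_nhds
      simpa using ht
    obtain ⟨U, hU, hUt⟩ := exists_open_ideal_subset ht'
    obtain ⟨a, ha, b, hb, hab⟩ := Submodule.mem_sup.mp (h U hU)
    refine ⟨a, ?_, ha⟩
    have := hUt (U.neg_mem hb)
    simp only [Set.mem_preimage, ← hab, add_neg_cancel_right] at this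
    exact this

theorem sup_pow_le (I J : Ideal A) (n : ℕ) : (I ⊔ J) ^ n ≤ I ⊔ J ^ n := by
  refine le_trans ?_ (le_of_eq (sup_comm (J ^ n) I))
  conv_rhs => rw [← Ideal.mk_ker (I := I), RingHom.ker_eq_comap_bot,
    ← Ideal.comap_map_of_surjective _ Ideal.Quotient.mk_surjective]
  rw [← Ideal.map_le_iff_le_comap, Ideal.map_pow, Ideal.map_pow, Ideal.map_sup,
    Ideal.map_quotient_self, bot_sup_eq]

section idd

variable {I J : Ideal A}

theorem pow_mono_idd {I J : Ideal A} {n : ℕ} (hI : LinTop.IsIdealOfDefinition A I)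
    (hJ : IsOpen (J : Set A)) (hn : J ^ n ≤ I) : LinTop.IsIdealOfDefinition A J := by
  refine ⟨hJ, fun U hU => ?_⟩
  obtain ⟨m, hm, hmU⟩ := hI.2 U hU
  refine ⟨(n + 1) * m, Nat.mul_pos n.succ_pos hm, fun x hx => hmU ?_⟩
  have h1 : J ^ (n + 1) ≤ I := (Ideal.pow_le_pow_right n.le_succ).trans hn
  rw [pow_mul] at hx
  exact Ideal.pow_right_mono h1 m hx

theorem exists_pow_le (hI : LinTop.IsIdealOfDefinition A I) {U : Ideal A}
    (hU : IsOpen (U : Set A)) : ∃ n : ℕ, 0 < n ∧ I ^ n ≤ U := by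
  obtain ⟨n, hn, h⟩ := hI.2 U (hU.mem_nhds U.zero_mem)
  exact ⟨n, hn, h⟩

theorem tendsto_zero_of_mem_pow (hI : LinTop.IsIdealOfDefinition A I) {a : ℕ → A}
    (ha : ∀ k, a k ∈ I ^ k) : Tendsto a atTop (𝓝 0) := by
  rw [tendsto_def]
  intro U hU
  obtain ⟨n, -, hn⟩ := hI.2 U hU
  exact mem_atTop_sets.mpr ⟨n, fun k hk => hn (Ideal.pow_le_pow_right hk (ha k))⟩

theorem isTopologicallyNilpotent_of_mem (hI : LinTop.IsIdealOfDefinition A I) {x : A} (hx : x ∈ I) :
    IsTopologicallyNilpotent x :=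
  tendsto_zero_of_mem_pow hI fun k => Ideal.pow_mem_pow hx k

theorem isTopologicallyNilpotent_iff_pow_mem (hI : LinTop.IsIdealOfDefinition A I) (x : A) :
    IsTopologicallyNilpotent x ↔ ∃ n : ℕ, 0 < n ∧ x ^ n ∈ I := by
  constructor
  · intro h
    have := Filter.Eventually.and (h.eventually_mem (hI.1.mem_nhds I.zero_mem))
      (eventually_gt_atTop 0)
    obtain ⟨n, hn, hn0⟩ := this.exists
    exact ⟨n, hn0, hn⟩
  · rintro ⟨n, hn, h⟩
    refine tendsto_def.mpr fun U hU => ?_
    obtain ⟨m, -, hm⟩ := hI.2 U hU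
    refine mem_atTop_sets.mpr ⟨n * m, fun k hk => hm ?_⟩
    show x ^ k ∈ I ^ m
    rw [← Nat.add_sub_of_le hk, pow_add, pow_mul]
    exact (I ^ m).mul_mem_right _ (Ideal.pow_mem_pow h m)

theorem exists_idd_ge_iff [IsTopologicalRing A] (hI : LinTop.IsIdealOfDefinition A I)
    (I' : Ideal A) :
    (∃ J : Ideal A, LinTop.IsIdealOfDefinition A J ∧ I' ≤ J) ↔ ∃ n : ℕ, 0 < n ∧ I' ^ n ≤ I := by
  constructor
  · rintro ⟨J, hJ, hle⟩
    obtain ⟨n, hn, h⟩ := exists_pow_le hJ hI.1
    exact ⟨n, hn, (Ideal.pow_right_mono hle n).trans h⟩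
  · rintro ⟨n, -, h⟩
    exact ⟨I ⊔ I', pow_mono_idd hI (isOpen_of_le hI.1 le_sup_left)
      ((sup_pow_le I I' n).trans (sup_le le_rfl h)), le_sup_right⟩

theorem exists_idd_mem_iff [IsTopologicalRing A] (hI : LinTop.IsIdealOfDefinition A I) (x : A) :
    (∃ J : Ideal A, LinTop.IsIdealOfDefinition A J ∧ x ∈ J) ↔ IsTopologicallyNilpotent x := by
  constructor
  · rintro ⟨J, hJ, hx⟩
    exact isTopologicallyNilpotent_of_mem hJ hx
  · intro h
    obtain ⟨n, hn, hx⟩ := (isTopologicallyNilpotent_iff_pow_mem hI x).mp h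
    obtain ⟨J, hJ, hle⟩ := (exists_idd_ge_iff hI (Ideal.span {x})).mpr ⟨n, hn, by
      rw [Ideal.span_singleton_pow, Ideal.span_le, Set.singleton_subset_iff]; exact hx⟩
    exact ⟨J, hJ, hle (Ideal.mem_span_singleton_self x)⟩

end idd

section complete

variable {B : Type*} [CommRing B] [UniformSpace B] [IsUniformAddGroup B] [IsTopologicalRing B]
  [IsLinearTopology B B] [CompleteSpace B]

theorem summable_of_tendsto_zero {a : ℕ → B} (ha : Tendsto a atTop (𝓝 0)) : Summable a := by
  haveI : NonarchimedeanRing B := nonarchimedeanRing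
  haveI : NonarchimedeanAddGroup B := { (nonarchimedeanRing (A := B)) with }
  exact NonarchimedeanAddGroup.summable_of_tendsto_cofinite_zero (Nat.cofinite_eq_atTop ▸ ha)

variable [T2Space B]

theorem isUnit_one_sub {x : B} (hx : IsTopologicallyNilpotent x) : IsUnit (1 - x) := by
  have hs : Summable (fun n : ℕ => x ^ n) := summable_of_tendsto_zero hx
  refine IsUnit.of_mul_eq_one (∑' n, x ^ n) ?_
  have h1 : ∑' n, x ^ n = 1 + x * ∑' n, x ^ n := by
    conv_lhs => rw [hs.tsum_eq_zero_add]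
    rw [pow_zero, ← hs.tsum_mul_left]
    simp_rw [pow_succ']
  linear_combination h1

theorem isUnit_one_add {x : B} (hx : IsTopologicallyNilpotent x) : IsUnit (1 + x) := by
  have h : IsTopologicallyNilpotent (-x) := by
    simpa using hx.mul_left (-1)
  simpa using isUnit_one_sub h

theorem le_jacobson_of_topNilp {I : Ideal B} (h : ∀ x ∈ I, IsTopologicallyNilpotent x) :
    I ≤ (⊥ : Ideal B).jacobson := fun x hx =>
  Ideal.mem_jacobson_bot.mpr fun y => by
    simpa [add_comm] using isUnit_one_add (h _ (I.mul_mem_right y hx))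

theorem isUnit_iff_isUnit_mk {J : Ideal B} (h : ∀ x ∈ J, IsTopologicallyNilpotent x) (f : B) :
    IsUnit f ↔ IsUnit (Ideal.Quotient.mk J f) := by
  refine ⟨fun hf => hf.map _, fun hf => ?_⟩
  obtain ⟨g, hg⟩ := hf.exists_left_inv
  obtain ⟨g, rfl⟩ := Ideal.Quotient.mk_surjective g
  rw [← map_mul, ← map_one (Ideal.Quotient.mk J), Ideal.Quotient.eq] at hg
  have := isUnit_one_add (h _ hg)
  rw [add_sub_cancel] at this
  exact isUnit_of_mul_isUnit_right this

/-- If `x = ∑ y k` with `y k` in `K k • span G` for a finite `G`, where the `K k` tend to zero,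
then `x` lies in the span of `G`. -/
theorem mem_of_hasSum {N : Ideal B} (hN : N.FG) {K : ℕ → Ideal B}
    (hK : ∀ U ∈ 𝓝 (0 : B), ∃ m, ∀ k, m ≤ k → (K k : Set B) ⊆ U)
    {y : ℕ → B} (hy : ∀ k, y k ∈ K k * N) {x : B} (hx : HasSum y x) : x ∈ N := by
  classical
  obtain ⟨r, g, hg⟩ := Submodule.fg_iff_exists_fin_generating_family.mp hN
  have : ∀ k, ∃ a : Fin r → B, (∀ i, a i ∈ K k) ∧ ∑ i, a i * g i = y k := by
    intro k
    have h := hy k
    rw [← smul_eq_mul, ← hg, Submodule.mem_ideal_smul_span_iff_exists_sum] at h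
    obtain ⟨a, ha, hsum⟩ := h
    refine ⟨a, ha, ?_⟩
    rw [← hsum, Finsupp.sum_fintype _ _ (fun i => zero_smul B (g i))]
    simp
  choose a ha hay using this
  have hs : ∀ i, Summable (fun k => a k i) := by
    intro i
    refine summable_of_tendsto_zero (tendsto_def.mpr fun U hU => ?_)
    obtain ⟨m, hm⟩ := hK U hU
    exact mem_atTop_sets.mpr ⟨m, fun k hk => hm k hk (ha k i)⟩
  have h1 : HasSum y (∑ i, (∑' k, a k i) * g i) := by
    have := hasSum_sum (s := Finset.univ) fun i (_ : i ∈ Finset.univ) =>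
      ((hs i).hasSum.mul_right (g i))
    simpa [hay] using this
  rw [hx.unique h1, ← hg]
  exact Submodule.sum_mem _ fun i _ =>
    Ideal.mul_mem_left _ _ (Submodule.subset_span (Set.mem_range_self i))

/-- A finitely generated ideal whose powers tend to zero makes a complete ring adically complete. -/
theorem isAdicComplete_of_fg_of_small {I : Ideal B} (hI : I.FG)
    (hK : ∀ U ∈ 𝓝 (0 : B), ∃ m, ∀ k, m ≤ k → ((I ^ k : Ideal B) : Set B) ⊆ U) :
    IsAdicComplete I B := by
  haveI hH : IsHausdorff I B := by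
    refine ⟨fun x hx => ?_⟩
    by_contra hne
    obtain ⟨m, hm⟩ := hK {x}ᶜ (isClosed_singleton.isOpen_compl.mem_nhds (Ne.symm hne))
    have := hx m
    rw [SModEq.zero, smul_eq_mul, Ideal.mul_top] at this
    exact hm m le_rfl this rfl
  haveI hP : IsPrecomplete I B := by
    refine ⟨fun f hf => ?_⟩
    have hd : ∀ k, f (k + 1) - f k ∈ I ^ k := by
      intro k
      have := (hf (Nat.le_succ k)).symm
      rwa [SModEq.sub_mem, smul_eq_mul, Ideal.mul_top] at this
    have hs : Summable (fun k => f (k + 1) - f k) := by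
      refine summable_of_tendsto_zero (tendsto_def.mpr fun U hU => ?_)
      obtain ⟨m, hm⟩ := hK U hU
      exact mem_atTop_sets.mpr ⟨m, fun k hk => hm k hk (hd k)⟩
    refine ⟨f 0 + ∑' k, (f (k + 1) - f k), fun n => ?_⟩
    rw [SModEq.sub_mem, smul_eq_mul, Ideal.mul_top]
    have h1 : HasSum (fun k => f (k + n + 1) - f (k + n))
        (∑' k, (f (k + 1) - f k) - (f n - f 0)) := by
      have := (hasSum_nat_add_iff' n).mpr hs.hasSum
      rwa [Finset.sum_range_sub f] at this
    have h2 := mem_of_hasSum (Ideal.FG.pow hI : (I ^ n).FG) hK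
      (fun k => by simpa [← pow_add] using hd (k + n)) h1
    have h3 := (I ^ n).neg_mem h2
    convert h3 using 1
    ring
  exact {}

/-- A finitely generated ideal inside an ideal of definition makes a complete ring adically complete. -/
theorem isAdicComplete_of_fg {I J : Ideal B} (hJ : LinTop.IsIdealOfDefinition B J) (hI : I.FG)
    (hIJ : I ≤ J) : IsAdicComplete I B := by
  refine isAdicComplete_of_fg_of_small hI fun U hU => ?_
  obtain ⟨m, -, hm⟩ := hJ.2 U hU
  exact ⟨m, fun k hk x hx => hm (Ideal.pow_right_mono hIJ m (Ideal.pow_le_pow_right hk hx))⟩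

theorem isAdicComplete_span_of_topNilp {e : B} (he : IsTopologicallyNilpotent e) :
    IsAdicComplete (Ideal.span {e}) B := by
  refine isAdicComplete_of_fg_of_small (Submodule.fg_span_singleton e) fun U hU => ?_
  obtain ⟨W, hW, hWU⟩ := exists_open_ideal_subset hU
  obtain ⟨m, hm⟩ := mem_atTop_sets.mp (he.eventually_mem (hW.mem_nhds W.zero_mem))
  refine ⟨m, fun k hk x hx => hWU ?_⟩
  rw [Ideal.span_singleton_pow] at hx
  exact (Ideal.span_singleton_le_iff_mem W).mpr (hm k hk) hx

end complete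

end Groth.AdicLinTop
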