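import Groth.Prelude.Def_FSch6

/-!
# Transposes of base change morphisms of squares of ringed sites
-/

set_option autoImplicit false

universe u

open CategoryTheory Opposite

namespace Groth.AdicLinTop.BcTranspose

open ModSite

variable {A : Type u} [SmallCategory A] {JA : GrothendieckTopology A}
  {B : Type u} [SmallCategory B] {JB : GrothendieckTopology B}
  {C : Type u} [SmallCategory C] {JC : GrothendieckTopology C}
  {D : Type u} [SmallCategory D] {JD : GrothendieckTopology D}
  {OA : Sheaf JA CommRingCat.{u}} {OB : Sheaf JB CommRingCat.{u}}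
  {OC : Sheaf JC CommRingCat.{u}} {OD : Sheaf JD CommRingCat.{u}}
  {a : RMor OA OB} {b : RMor OB OD} {c : RMor OA OC} {d : RMor OC OD}
  {e : b.fn ⋙ a.fn ≅ d.fn ⋙ c.fn}

theorem pushSq_app (h : RMor.SharpSq a b c d e) (G : Mod OA) (U : D) (x : G.val.obj (op (a.fn.obj (b.fn.obj U)))) :
    ((RMor.pushSq h).hom.app G).val.app (op U) x = G.val.map (e.inv.app U).op x := rfl

/-- A base change morphism followed by an adjunct, recognised on sections. -/
theorem bcMap_comp_eq (h : RMor.SharpSq a b c d e) (M : Mod OB) {G : Mod OA} (γ : M ⟶ a.push.obj G)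
    (γ' : b.push.obj M ⟶ d.push.obj (c.push.obj G))
    (H : ∀ (U : D) (i : c.fn.obj (d.fn.obj U) ⟶ a.fn.obj (b.fn.obj U)) (m : M.val.obj (op (b.fn.obj U))),
      γ'.val.app (op U) m = G.val.map i.op (γ.val.app (op (b.fn.obj U)) m)) :
    RMor.bcMap h M ≫ c.push.map ((a.adj.homEquiv _ _).symm γ) = (d.adj.homEquiv _ _).symm γ' := by
  apply (d.adj.homEquiv _ _).injective
  rw [Adjunction.homEquiv_naturality_right, RMor.bcMap_transpose, Equiv.apply_symm_apply, Category.assoc]
  erw [← (RMor.pushSq h).hom.naturality]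
  rw [Functor.comp_map, ← Category.assoc, ← Functor.map_comp,
    show a.adj.unit.app M ≫ a.push.map ((a.adj.homEquiv M G).symm γ) = γ from
      ((Adjunction.homEquiv_unit a.adj M G _).symm).trans (Equiv.apply_symm_apply _ _)]
  refine SheafOfModules.hom_ext (PresheafOfModules.hom_ext fun U => ?_)
  ext m
  exact ((H U.unop (e.inv.app U.unop) m).trans (pushSq_app h G U.unop _).symm).symm

end Groth.AdicLinTop.BcTranspose
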