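import Groth.Agent.AdicLinTop.AffineSections

/-!
# Coherent modules are generated by global sections over affine opens of a formal scheme
-/

set_option autoImplicit false

universe u

open CategoryTheory CategoryTheory.Limits AlgebraicGeometry TopologicalSpace Opposite

set_option backward.defeqAttrib.useBackward true
set_option backward.isDefEq.respectTransparency false
set_option backward.isDefEq.respectTransparency.types false
set_option synthInstance.maxHeartbeats 400000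

namespace Groth.AdicLinTop.GlobalGen

open Groth.SitesTopoi.ModH Groth.AdicLinTop.SpacePres Groth.AdicLinTop.CohKer Groth.AdicLinTop.FormalLevels
open Groth.AdicLinTop.FormalAffine Groth.AdicLinTop.AffineGlue Groth.AdicLinTop.AffineSections
open Groth.AdicLinTop.FormalReal (projR)

variable {𝔛 : FSch.Sys.{u}} (h𝔛 : 𝔛.IsLocNoethFormal) {F : FSch.ModF 𝔛 h𝔛.1} {U : (𝔛.X 0).Opens}

/-- The sections divisible by a power of the ideal of definition. -/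
noncomputable abbrev Ipow (W : (𝔛.X 0).Opens) (k : ℕ) : Submodule (RS h𝔛.1 W) (sc F.val W) :=
  idl h𝔛.1 W ^ k • (⊤ : Submodule (RS h𝔛.1 W) (sc F.val W))

lemma Ipow_anti (W : (𝔛.X 0).Opens) {k k' : ℕ} (h : k ≤ k') :
    Ipow h𝔛 (F := F) W k' ≤ Ipow h𝔛 W k :=
  Submodule.smul_mono_left (Ideal.pow_le_pow_right h)

lemma exists_extend' {W W' : (𝔛.X 0).Opens} (hW : IsAffineOpen W) (hF : RelFin (O := 𝔛.Osh h𝔛.1) F) {n : ℕ}
    (D : GenData (O := 𝔛.Osh h𝔛.1) F W n) (p : RS h𝔛.1 W) (e : W' ≤ W) (he : W' = bas h𝔛 p) {k j : ℕ}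
    (hkj : k ≤ j + 1) {x : sc F.val W'} (hx : x ∈ Ipow h𝔛 W' k) :
    ∃ (q : ℕ) (y : sc F.val W), y ∈ Ipow h𝔛 W k ∧
      resR h𝔛.1 e p ^ q • x - rm F e y ∈ Ipow h𝔛 W' (j + 1) := by
  subst he
  exact exists_extend h𝔛 hW hF D p hkj hx

lemma exists_pow_smul_mem' {W W' : (𝔛.X 0).Opens} (hW : IsAffineOpen W) (hF : RelFin (O := 𝔛.Osh h𝔛.1) F) {n : ℕ}
    (D : GenData (O := 𝔛.Osh h𝔛.1) F W n) (p : RS h𝔛.1 W) (e : W' ≤ W) (he : W' = bas h𝔛 p) (k : ℕ)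
    {c : sc F.val W} (hc : rm F e c ∈ Ipow h𝔛 W' (k + 1)) :
    ∃ q : ℕ, p ^ q • c ∈ Ipow h𝔛 W (k + 1) := by
  subst he
  exact exists_pow_smul_mem h𝔛 hW hF D p k hc

variable {J : Type u} (f : J → RS h𝔛.1 U)

/-- The overlap of two basic opens. -/
noncomputable abbrev ov2 (l m : J) : (𝔛.X 0).Opens := bas h𝔛 (f l) ⊓ bas h𝔛 (f m)

lemma ov2_eq (l m : J) : ov2 h𝔛 f l m = bas h𝔛 (resR h𝔛.1 (bas_le h𝔛 (f l)) (f m)) := (bas_res h𝔛 _ _).symm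

lemma ov3_eq (l m r : J) :
    ov2 h𝔛 f l m ⊓ bas h𝔛 (f r) = bas h𝔛 (resR h𝔛.1 (inf_le_left.trans (bas_le h𝔛 (f l)) : ov2 h𝔛 f l m ≤ U) (f r)) :=
  (bas_res h𝔛 _ _).symm

include h𝔛 in
lemma isAffineOpen_ov2 (hU : IsAffineOpen U) (l m : J) : IsAffineOpen (ov2 h𝔛 f l m) := by
  rw [ov2_eq]
  exact isAffineOpen_bas h𝔛 (isAffineOpen_bas h𝔛 hU (f l)) _

include h𝔛 in
lemma isAffineOpen_ov3 (hU : IsAffineOpen U) (l m r : J) :
    IsAffineOpen (ov2 h𝔛 f l m ⊓ bas h𝔛 (f r)) := by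
  rw [ov3_eq]
  exact isAffineOpen_bas h𝔛 (isAffineOpen_ov2 h𝔛 f hU l m) _

/-- A family of sections agreeing modulo a power of the ideal of definition. -/
def Compat (σ : ∀ l, sc F.val (bas h𝔛 (f l))) (k : ℕ) : Prop :=
  ∀ l m, rm F (inf_le_left : ov2 h𝔛 f l m ≤ _) (σ l) - rm F (inf_le_right : ov2 h𝔛 f l m ≤ _) (σ m) ∈
    Ipow h𝔛 (ov2 h𝔛 f l m) k

variable [Finite J] {n : J → ℕ} (D : ∀ l, GenData (O := 𝔛.Osh h𝔛.1) F (bas h𝔛 (f l)) (n l))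

include D in
/-- A compatible family modulo the ideal extending a power multiple of a given section. -/
theorem exists_compat_one (hU : IsAffineOpen U) (hF : RelFin (O := 𝔛.Osh h𝔛.1) F) (l₀ : J)
    (s : sc F.val (bas h𝔛 (f l₀))) :
    ∃ (p : ℕ) (σ : ∀ l, sc F.val (bas h𝔛 (f l))), Compat h𝔛 f σ 1 ∧
      resR h𝔛.1 (bas_le h𝔛 (f l₀)) (f l₀) ^ p • s - σ l₀ ∈ Ipow h𝔛 (bas h𝔛 (f l₀)) 1 := by
  classical
  have := Fintype.ofFinite J
  have hV := fun l => isAffineOpen_bas h𝔛 hU (f l)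
  have htop : ∀ {W : (𝔛.X 0).Opens} (x : sc F.val W), x ∈ Ipow h𝔛 W 0 := fun {W} x => by
    rw [Ipow, pow_zero, Ideal.one_eq_top, Submodule.top_smul]; exact Submodule.mem_top
  have hext := fun l => exists_extend' h𝔛 (hV l) hF (D l) (resR h𝔛.1 (bas_le h𝔛 (f l)) (f l₀))
    (inf_le_left : ov2 h𝔛 f l l₀ ≤ _) (ov2_eq h𝔛 f l l₀) (Nat.zero_le 1)
    (x := rm F (inf_le_right : ov2 h𝔛 f l l₀ ≤ _) s) (htop _)
  choose q y _ hy using hext
  let N := Finset.univ.sup q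
  let y' : ∀ l, sc F.val (bas h𝔛 (f l)) := fun l => resR h𝔛.1 (bas_le h𝔛 (f l)) (f l₀) ^ (N - q l) • y l
  have hy' : ∀ l, resR h𝔛.1 (inf_le_left.trans (bas_le h𝔛 (f l)) : ov2 h𝔛 f l l₀ ≤ U) (f l₀) ^ N •
      rm F (inf_le_right : ov2 h𝔛 f l l₀ ≤ _) s - rm F (inf_le_left : ov2 h𝔛 f l l₀ ≤ _) (y' l) ∈
      Ipow h𝔛 (ov2 h𝔛 f l l₀) 1 := fun l => by
    have h := Submodule.smul_mem _ (resR h𝔛.1 (inf_le_left.trans (bas_le h𝔛 (f l)) : ov2 h𝔛 f l l₀ ≤ U) (f l₀) ^ (N - q l))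
      (hy l)
    simp only [rr_rr, smul_sub, smul_smul, ← pow_add] at h
    rw [Nat.sub_add_cancel (Finset.le_sup (Finset.mem_univ l) : q l ≤ N)] at h
    simp only [y', rm_smul, map_pow, rr_rr]
    exact h
  -- agreement up to a power
  have hag : ∀ l m, ∃ r : ℕ, resR h𝔛.1 (inf_le_left.trans (bas_le h𝔛 (f l)) : ov2 h𝔛 f l m ≤ U) (f l₀) ^ r •
      (rm F (inf_le_left : ov2 h𝔛 f l m ≤ _) (y' l) - rm F (inf_le_right : ov2 h𝔛 f l m ≤ _) (y' m)) ∈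
      Ipow h𝔛 (ov2 h𝔛 f l m) 1 := fun l m => by
    refine exists_pow_smul_mem' h𝔛 (isAffineOpen_ov2 h𝔛 f hU l m) hF ((D l).restrict inf_le_left) _
      (inf_le_left : ov2 h𝔛 f l m ⊓ bas h𝔛 (f l₀) ≤ _) (ov3_eq h𝔛 f l m l₀) 0 ?_
    have hl : ov2 h𝔛 f l m ⊓ bas h𝔛 (f l₀) ≤ ov2 h𝔛 f l l₀ := le_inf (inf_le_left.trans inf_le_left) inf_le_right
    have hm : ov2 h𝔛 f l m ⊓ bas h𝔛 (f l₀) ≤ ov2 h𝔛 f m l₀ := le_inf (inf_le_left.trans inf_le_right) inf_le_right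
    have hW := isAffineOpen_ov3 h𝔛 f hU l m l₀
    have a := rm_mem h𝔛 (isAffineOpen_ov2 h𝔛 f hU l l₀) hW hl (hy' l)
    have b := rm_mem h𝔛 (isAffineOpen_ov2 h𝔛 f hU m l₀) hW hm (hy' m)
    have c := sub_mem b a
    simp only [map_sub, rm_smul, map_pow, rm_rm, rr_rr, sub_sub_sub_cancel_left] at c ⊢
    exact c
  choose r hr using hag
  let M := Finset.univ.sup fun lm : J × J => r lm.1 lm.2
  refine ⟨M + N, fun l => resR h𝔛.1 (bas_le h𝔛 (f l)) (f l₀) ^ M • y' l, fun l m => ?_, ?_⟩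
  · have h := Submodule.smul_mem _
      (resR h𝔛.1 (inf_le_left.trans (bas_le h𝔛 (f l)) : ov2 h𝔛 f l m ≤ U) (f l₀) ^ (M - r l m)) (hr l m)
    rw [smul_smul, ← pow_add, Nat.sub_add_cancel (Finset.le_sup (f := fun lm : J × J => r lm.1 lm.2)
      (Finset.mem_univ (l, m)) : r l m ≤ M), smul_sub] at h
    simp only [rm_smul, map_pow, rr_rr]
    exact h
  · have h := rm_mem h𝔛 (isAffineOpen_ov2 h𝔛 f hU l₀ l₀) (hV l₀) (le_inf le_rfl le_rfl) (hy' l₀)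
    simp only [map_sub, rm_smul, map_pow, rm_rm, rr_rr, rm_self] at h
    have h2 := Submodule.smul_mem _ (resR h𝔛.1 (bas_le h𝔛 (f l₀)) (f l₀) ^ M) h
    rw [smul_sub, smul_smul, ← pow_add] at h2
    exact h2

include h𝔛 in
/-- A partition of unity modulo the ideal. -/
theorem exists_partition [Fintype J] (hU : IsAffineOpen U) (hcov : ∀ x ∈ U, ∃ l, x ∈ bas h𝔛 (f l)) (M : ℕ) :
    ∃ u : J → RS h𝔛.1 U, ∑ r, u r * f r ^ M - 1 ∈ idl h𝔛.1 U := by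
  have h0 := span_sup_eq_top h𝔛 hU f hcov 0
  simp only [zero_add, pow_one] at h0
  have h1 : Ideal.span (Set.range fun r => f r ^ M) ⊔ idl h𝔛.1 U = ⊤ := by
    rw [← Ideal.radical_eq_top, ← top_le_iff, ← h0]
    refine sup_le (Ideal.span_le.2 ?_) (le_sup_right.trans Ideal.le_radical)
    rintro _ ⟨r, rfl⟩
    exact ⟨M, Submodule.mem_sup_left (Ideal.subset_span ⟨r, rfl⟩)⟩
  obtain ⟨a, ha, b, hb, hab⟩ := Submodule.mem_sup.1 (h1 ▸ Submodule.mem_top :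
    (1 : RS h𝔛.1 U) ∈ Ideal.span (Set.range fun r => f r ^ M) ⊔ idl h𝔛.1 U)
  obtain ⟨u, rfl⟩ := (Submodule.mem_span_range_iff_exists_fun _).1 ha
  refine ⟨u, ?_⟩
  simp only [smul_eq_mul] at hab
  rw [← hab, sub_add_cancel_left]
  exact neg_mem hb

include D in
/-- Extending differences on overlaps. -/
theorem exists_eps (hU : IsAffineOpen U) (hF : RelFin (O := 𝔛.Osh h𝔛.1) F) {k : ℕ}
    (σ : ∀ l, sc F.val (bas h𝔛 (f l))) (hσ : Compat h𝔛 f σ (k + 1)) :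
    ∃ (M : ℕ) (ε : ∀ l, J → sc F.val (bas h𝔛 (f l))), (∀ l r, ε l r ∈ Ipow h𝔛 (bas h𝔛 (f l)) (k + 1)) ∧
      ∀ l m r, resR h𝔛.1 (inf_le_left.trans (bas_le h𝔛 (f l)) : ov2 h𝔛 f l m ≤ U) (f r) ^ M •
          (rm F (inf_le_left : ov2 h𝔛 f l m ≤ _) (σ l) - rm F (inf_le_right : ov2 h𝔛 f l m ≤ _) (σ m)) -
        (rm F (inf_le_left : ov2 h𝔛 f l m ≤ _) (ε l r) - rm F (inf_le_right : ov2 h𝔛 f l m ≤ _) (ε m r)) ∈
        Ipow h𝔛 (ov2 h𝔛 f l m) (k + 2) := by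
  classical
  have := Fintype.ofFinite J
  have hV := fun l => isAffineOpen_bas h𝔛 hU (f l)
  have hext := fun l m => exists_extend' h𝔛 (hV l) hF (D l) (resR h𝔛.1 (bas_le h𝔛 (f l)) (f m))
    (inf_le_left : ov2 h𝔛 f l m ≤ _) (ov2_eq h𝔛 f l m) (show k + 1 ≤ k + 1 + 1 by omega) (hσ l m)
  choose q ε₀ hε₀ hε₀' using hext
  let N := Finset.univ.sup fun lm : J × J => q lm.1 lm.2
  let ε₁ : ∀ l, J → sc F.val (bas h𝔛 (f l)) := fun l m =>
    resR h𝔛.1 (bas_le h𝔛 (f l)) (f m) ^ (N - q l m) • ε₀ l m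
  have hε₁ : ∀ l m, resR h𝔛.1 (inf_le_left.trans (bas_le h𝔛 (f l)) : ov2 h𝔛 f l m ≤ U) (f m) ^ N •
      (rm F (inf_le_left : ov2 h𝔛 f l m ≤ _) (σ l) - rm F (inf_le_right : ov2 h𝔛 f l m ≤ _) (σ m)) -
      rm F (inf_le_left : ov2 h𝔛 f l m ≤ _) (ε₁ l m) ∈ Ipow h𝔛 (ov2 h𝔛 f l m) (k + 2) := fun l m => by
    have h := Submodule.smul_mem _
      (resR h𝔛.1 (inf_le_left.trans (bas_le h𝔛 (f l)) : ov2 h𝔛 f l m ≤ U) (f m) ^ (N - q l m)) (hε₀' l m)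
    rw [smul_sub, rr_rr, smul_smul, ← pow_add, Nat.sub_add_cancel (Finset.le_sup
      (f := fun lm : J × J => q lm.1 lm.2) (Finset.mem_univ (l, m)) : q l m ≤ N)] at h
    simp only [ε₁, rm_smul, map_pow, rr_rr]
    exact h
  have htriple : ∀ l m r, ∃ t : ℕ, resR h𝔛.1 (inf_le_left.trans (bas_le h𝔛 (f l)) : ov2 h𝔛 f l m ≤ U) (f r) ^ t •
      (resR h𝔛.1 (inf_le_left.trans (bas_le h𝔛 (f l)) : ov2 h𝔛 f l m ≤ U) (f r) ^ N •
          (rm F (inf_le_left : ov2 h𝔛 f l m ≤ _) (σ l) - rm F (inf_le_right : ov2 h𝔛 f l m ≤ _) (σ m)) -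
        (rm F (inf_le_left : ov2 h𝔛 f l m ≤ _) (ε₁ l r) - rm F (inf_le_right : ov2 h𝔛 f l m ≤ _) (ε₁ m r))) ∈
        Ipow h𝔛 (ov2 h𝔛 f l m) (k + 2) := fun l m r => by
    refine exists_pow_smul_mem' h𝔛 (isAffineOpen_ov2 h𝔛 f hU l m) hF ((D l).restrict inf_le_left) _
      (inf_le_left : ov2 h𝔛 f l m ⊓ bas h𝔛 (f r) ≤ _) (ov3_eq h𝔛 f l m r) (k + 1) ?_
    have hl : ov2 h𝔛 f l m ⊓ bas h𝔛 (f r) ≤ ov2 h𝔛 f l r := le_inf (inf_le_left.trans inf_le_left) inf_le_right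
    have hm : ov2 h𝔛 f l m ⊓ bas h𝔛 (f r) ≤ ov2 h𝔛 f m r := le_inf (inf_le_left.trans inf_le_right) inf_le_right
    have hW := isAffineOpen_ov3 h𝔛 f hU l m r
    have a := rm_mem h𝔛 (isAffineOpen_ov2 h𝔛 f hU l r) hW hl (hε₁ l r)
    have b := rm_mem h𝔛 (isAffineOpen_ov2 h𝔛 f hU m r) hW hm (hε₁ m r)
    have c := sub_mem a b
    simp only [map_sub, rm_smul, map_pow, rm_rm, rr_rr, smul_sub] at c ⊢
    convert c using 1
    abel
  choose t ht using htriple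
  let t₀ := Finset.univ.sup fun x : J × J × J => t x.1 x.2.1 x.2.2
  refine ⟨t₀ + N, fun l r => resR h𝔛.1 (bas_le h𝔛 (f l)) (f r) ^ t₀ • ε₁ l r,
    fun l r => Submodule.smul_mem _ _ (Submodule.smul_mem _ _ (hε₀ l r)), fun l m r => ?_⟩
  have h := Submodule.smul_mem _
    (resR h𝔛.1 (inf_le_left.trans (bas_le h𝔛 (f l)) : ov2 h𝔛 f l m ≤ U) (f r) ^ (t₀ - t l m r)) (ht l m r)
  rw [smul_smul, ← pow_add, Nat.sub_add_cancel (Finset.le_sup (f := fun x : J × J × J => t x.1 x.2.1 x.2.2)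
    (Finset.mem_univ (l, m, r)) : t l m r ≤ t₀), smul_sub, smul_smul, ← pow_add, smul_sub, smul_sub] at h
  simp only [rm_smul, map_pow, rr_rr, smul_sub]
  exact h

include D in
/-- Correcting a family to the next level. -/
theorem exists_step (hU : IsAffineOpen U) (hF : RelFin (O := 𝔛.Osh h𝔛.1) F)
    (hcov : ∀ x ∈ U, ∃ l, x ∈ bas h𝔛 (f l)) {k : ℕ}
    (σ : ∀ l, sc F.val (bas h𝔛 (f l))) (hσ : Compat h𝔛 f σ (k + 1)) :
    ∃ σ' : ∀ l, sc F.val (bas h𝔛 (f l)), Compat h𝔛 f σ' (k + 2) ∧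
      ∀ l, σ' l - σ l ∈ Ipow h𝔛 (bas h𝔛 (f l)) (k + 1) := by
  classical
  have := Fintype.ofFinite J
  obtain ⟨M, ε, hε, hε'⟩ := exists_eps h𝔛 f D hU hF σ hσ
  obtain ⟨u, hu⟩ := exists_partition h𝔛 f hU hcov M
  refine ⟨fun l => σ l - ∑ r, resR h𝔛.1 (bas_le h𝔛 (f l)) (u r) • ε l r, fun l m => ?_, fun l => ?_⟩
  · let e : ov2 h𝔛 f l m ≤ U := inf_le_left.trans (bas_le h𝔛 (f l))
    let δ := rm F (inf_le_left : ov2 h𝔛 f l m ≤ _) (σ l) - rm F (inf_le_right : ov2 h𝔛 f l m ≤ _) (σ m)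
    have h1 : ∑ r, resR h𝔛.1 e (u r) • (resR h𝔛.1 e (f r) ^ M • δ -
        (rm F (inf_le_left : ov2 h𝔛 f l m ≤ _) (ε l r) - rm F (inf_le_right : ov2 h𝔛 f l m ≤ _) (ε m r))) ∈
        Ipow h𝔛 (ov2 h𝔛 f l m) (k + 2) :=
      Submodule.sum_mem _ fun r _ => Submodule.smul_mem _ _ (hε' l m r)
    have h2 : (∑ r, resR h𝔛.1 e (u r) * resR h𝔛.1 e (f r) ^ M - 1) • δ ∈ Ipow h𝔛 (ov2 h𝔛 f l m) (k + 2) := by
      have hI : ∑ r, resR h𝔛.1 e (u r) * resR h𝔛.1 e (f r) ^ M - 1 ∈ idl h𝔛.1 (ov2 h𝔛 f l m) := by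
        rw [← map_idl h𝔛 hU (isAffineOpen_ov2 h𝔛 f hU l m) e]
        have h := Ideal.mem_map_of_mem (resR h𝔛.1 e) hu
        simpa only [map_sub, map_sum, map_mul, map_pow, map_one] using h
      rw [Ipow, pow_succ' (idl h𝔛.1 (ov2 h𝔛 f l m)) (k + 1), Submodule.mul_smul]
      exact Submodule.smul_mem_smul hI (hσ l m)
    have h3 := sub_mem h1 h2
    simp only [map_sub, map_sum, rm_smul, rr_rr]
    convert h3 using 1
    simp only [sub_smul, Finset.sum_smul, smul_sub, mul_smul, one_smul, Finset.sum_sub_distrib, δ]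
    abel
  · rw [sub_sub_cancel_left]
    exact neg_mem (Submodule.sum_mem _ fun r _ => Submodule.smul_mem _ _ (hε l r))

include h𝔛 in
/-- Limits of sequences of sections. -/
theorem exists_limit {W : (𝔛.X 0).Opens} (hW : IsAffineOpen W) (hF : RelFin (O := 𝔛.Osh h𝔛.1) F) {n : ℕ}
    (D : GenData (O := 𝔛.Osh h𝔛.1) F W n) (x : ℕ → sc F.val W)
    (hx : ∀ k, x (k + 1) - x k ∈ Ipow h𝔛 W (k + 1)) :
    ∃ y : sc F.val W, ∀ k, y - x k ∈ Ipow h𝔛 W (k + 1) := by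
  classical
  choose a ha hax using fun k => exists_coeff _ (span_eq_top h𝔛 hW hF D) _ (hx k)
  let P : ℕ → Fin n → RS h𝔛.1 W := fun k i => ∑ j ∈ Finset.range k, a j i
  have hP : ∀ k i, P (k + 1) i - P k i ∈ idl h𝔛.1 W ^ (k + 1) := fun k i => by
    simp only [P, Finset.sum_range_succ, add_sub_cancel_left]
    exact ha k i
  have hex : ∀ i, ∃ A : RS h𝔛.1 W, ∀ k, projR k W A = projR k W (P k i) := fun i =>
    (exists_unique_sec 𝔛 h𝔛.1 W (fun k => projR k W (P k i)) fun k => by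
      refine (OshProj_levelMap_apply h𝔛.1 W k _).trans ?_
      refine sub_eq_zero.1 (((map_sub ((𝔛.OshProj h𝔛.1 k).hom.app (op W)).hom _ _).symm).trans ?_)
      exact (mem_pow_iff h𝔛 hW k _).1 (hP k i)).exists
  choose A hA using hex
  have hAP : ∀ k i, A i - P k i ∈ idl h𝔛.1 W ^ (k + 1) := fun k i => by
    rw [mem_pow_iff h𝔛 hW k]
    exact (map_sub ((𝔛.OshProj h𝔛.1 k).hom.app (op W)).hom _ _).trans (sub_eq_zero.2 (hA i k))
  have hsum : ∀ k, x k = x 0 + ∑ i, P k i • D.s i := fun k => by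
    induction k with
    | zero => simp [P]
    | succ k ih =>
      simp only [P, Finset.sum_range_succ, add_smul, Finset.sum_add_distrib] at ih ⊢
      rw [← add_assoc, ← ih, hax, add_sub_cancel]
  refine ⟨x 0 + ∑ i, A i • D.s i, fun k => ?_⟩
  rw [hsum k, add_sub_add_left_eq_sub, ← Finset.sum_sub_distrib]
  refine Submodule.sum_mem _ fun i _ => ?_
  rw [← sub_smul]
  exact Submodule.smul_mem_smul (hAP k i) Submodule.mem_top

include D in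
/-- Every section over one of the basic opens is, up to a power and modulo the ideal, a global section. -/
theorem exists_global (hU : IsAffineOpen U) (hF : RelFin (O := 𝔛.Osh h𝔛.1) F)
    (hcov : ∀ x ∈ U, ∃ l, x ∈ bas h𝔛 (f l)) (l₀ : J) (s : sc F.val (bas h𝔛 (f l₀))) :
    ∃ (p : ℕ) (τ : sc F.val U),
      resR h𝔛.1 (bas_le h𝔛 (f l₀)) (f l₀) ^ p • s - rm F (bas_le h𝔛 (f l₀)) τ ∈
        Ipow h𝔛 (bas h𝔛 (f l₀)) 1 := by
  classical
  obtain ⟨p, σ₀, hσ₀, hs⟩ := exists_compat_one h𝔛 f D hU hF l₀ s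
  choose nxt hnxt hnxt' using fun k σ hσ => exists_step h𝔛 f D hU hF hcov (k := k) σ hσ
  let seq : ∀ k, {σ // Compat h𝔛 (F := F) f σ (k + 1)} := fun k =>
    Nat.recOn (motive := fun k => {σ // Compat h𝔛 (F := F) f σ (k + 1)}) k ⟨σ₀, hσ₀⟩
      fun k σ => ⟨nxt k σ.1 σ.2, hnxt k σ.1 σ.2⟩
  have hlim := fun l => exists_limit h𝔛 (isAffineOpen_bas h𝔛 hU (f l)) hF (D l) (fun k => (seq k).1 l)
    fun k => hnxt' k _ _ l
  choose σ hσ using hlim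
  have hcomp : ∀ l m, rm F (inf_le_left : ov2 h𝔛 f l m ≤ _) (σ l) =
      rm F (inf_le_right : ov2 h𝔛 f l m ≤ _) (σ m) := fun l m => by
    have hW := isAffineOpen_ov2 h𝔛 f hU l m
    have : Module.Finite (RS h𝔛.1 (ov2 h𝔛 f l m)) (sc F.val (ov2 h𝔛 f l m)) :=
      ⟨⟨Finset.univ.image ((D l).restrict (inf_le_left : ov2 h𝔛 f l m ≤ _)).s, by
        rw [Finset.coe_image, Finset.coe_univ, Set.image_univ]
        exact span_eq_top h𝔛 hW hF ((D l).restrict inf_le_left)⟩⟩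
    rw [← sub_eq_zero, ← Submodule.mem_bot (RS h𝔛.1 (ov2 h𝔛 f l m))]
    refine mem_of_forall_mem_sup h𝔛 hW _ fun k => Submodule.mem_sup_right ?_
    have a := rm_mem h𝔛 (isAffineOpen_bas h𝔛 hU (f l)) hW inf_le_left (hσ l k)
    have b := rm_mem h𝔛 (isAffineOpen_bas h𝔛 hU (f m)) hW inf_le_right (hσ m k)
    have c := add_mem (sub_mem a b) ((seq k).2 l m)
    simp only [map_sub] at c
    convert c using 1
    abel
  have hpair : ∀ {W : (𝔛.X 0).Opens} {l m : J} (hl : W ≤ bas h𝔛 (f l)) (hm : W ≤ bas h𝔛 (f m)),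
      rm F hl (σ l) = rm F hm (σ m) := fun {W l m} hl hm => by
    have h := congrArg (rm F (le_inf hl hm : W ≤ ov2 h𝔛 f l m)) (hcomp l m)
    simpa only [rm_rm] using h
  let S : Sieve U :=
    { arrows := fun V _ => ∃ l, V ≤ bas h𝔛 (f l)
      downward_closed := fun {Y Z} {g} hg g' => ⟨hg.choose, g'.le.trans hg.choose_spec⟩ }
  obtain ⟨τ, hτ⟩ := glueM F (S := S) (mem_of_nhds S fun x hx => by
      obtain ⟨l, hl⟩ := hcov x hx
      exact ⟨_, bas_le h𝔛 (f l), hl, l, le_rfl⟩)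
    (fun V g hg => rm F hg.choose_spec (σ hg.choose))
    (fun V W g hg h => (rm_rm F _ h.le _).trans (hpair _ _))
  refine ⟨p, τ, ?_⟩
  have e : rm F (bas_le h𝔛 (f l₀)) τ = σ l₀ := by
    rw [show rm F (bas_le h𝔛 (f l₀)) τ = _ from hτ (homOfLE (bas_le h𝔛 (f l₀))) ⟨l₀, le_rfl⟩]
    exact (hpair _ le_rfl).trans (rm_self F _)
  rw [e]
  have h := sub_mem hs (hσ l₀ 0)
  convert h using 1
  show _ = _ • s - σ₀ l₀ - (σ l₀ - σ₀ l₀)
  abel

/-- A coherent module is generated by finitely many sections over an affine open. -/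
theorem exists_genData (hU : IsAffineOpen U) (hF' : FSch.IsCohF 𝔛 h𝔛.1 F) :
    ∃ N, Nonempty (GenData (O := 𝔛.Osh h𝔛.1) F U N) := by
  classical
  have hF := relFin_of_isCohF h𝔛 hF'
  have hbas : ∀ x : U, ∃ f : RS h𝔛.1 U, x.1 ∈ bas h𝔛 f ∧ ∃ n,
      Nonempty (GenData (O := 𝔛.Osh h𝔛.1) F (bas h𝔛 f) n) := fun x => by
    obtain ⟨V, n, m, hxV, ⟨P⟩⟩ := exists_presData (O := 𝔛.Osh h𝔛.1) hF' x.1
    obtain ⟨f, hxf, hfV⟩ := exists_bas_le h𝔛 hU x.2 V hxV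
    exact ⟨f, hxf, n, ⟨P.toGenData.restrict hfV⟩⟩
  choose f₀ hxf n hD using hbas
  obtain ⟨s, hs⟩ := hU.isCompact.elim_finite_subcover (fun x : U => (bas h𝔛 (f₀ x) : Set (𝔛.X 0)))
    (fun x => (bas h𝔛 (f₀ x)).2) fun z hz => Set.mem_iUnion.2 ⟨⟨z, hz⟩, hxf ⟨z, hz⟩⟩
  let f : s → RS h𝔛.1 U := fun x => f₀ x.1
  have hcov : ∀ z ∈ U, ∃ j : s, z ∈ bas h𝔛 (f j) := fun z hz => by
    obtain ⟨x, hx, hzx⟩ := Set.mem_iUnion₂.1 (hs hz)
    exact ⟨⟨x, hx⟩, hzx⟩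
  let D := fun j : s => (hD j.1).some
  let ι := Σ j : s, Fin (n j.1)
  choose p τ hτ using fun i : ι => exists_global h𝔛 f D hU hF hcov i.1 ((D i.1).s i.2)
  let e := Fintype.equivFin ι
  refine ⟨Fintype.card ι, ⟨{ s := fun i => τ (e.symm i), gen := fun W hW t y hy => ?_ }⟩⟩
  obtain ⟨j, hyj⟩ := hcov y (hW hy)
  have hV := isAffineOpen_bas h𝔛 hU (f j)
  have hspan := span_eq_top h𝔛 hV hF (D j)
  let S : Submodule (RS h𝔛.1 (bas h𝔛 (f j))) (sc F.val (bas h𝔛 (f j))) :=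
    Submodule.span _ (Set.range fun i => rm F (bas_le h𝔛 (f j)) (τ (e.symm i)))
  have hle : (⊤ : Submodule (RS h𝔛.1 (bas h𝔛 (f j))) (sc F.val (bas h𝔛 (f j)))) ≤
      S ⊔ idl h𝔛.1 (bas h𝔛 (f j)) • ⊤ := by
    rw [← hspan, Submodule.span_le]
    rintro _ ⟨i, rfl⟩
    rw [hspan]
    obtain ⟨g, hg⟩ := (locMod h𝔛 hU (f j) 0).unit_pow (p ⟨j, i⟩)
    simp only [zero_add, pow_one] at hg
    have h1 : resR h𝔛.1 (bas_le h𝔛 (f j)) (f j) ^ p ⟨j, i⟩ • (D j).s i ∈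
        S ⊔ idl h𝔛.1 (bas h𝔛 (f j)) • ⊤ := by
      have h := hτ ⟨j, i⟩
      rw [Ipow, pow_one] at h
      rw [← add_sub_cancel (rm F (bas_le h𝔛 (f j)) (τ ⟨j, i⟩))
        (resR h𝔛.1 (bas_le h𝔛 (f j)) (f j) ^ p ⟨j, i⟩ • (D j).s i)]
      exact Submodule.add_mem_sup (Submodule.subset_span ⟨e ⟨j, i⟩, by simp⟩) h
    have h2 := sub_mem (Submodule.smul_mem _ g h1)
      (Submodule.mem_sup_right (S := S) (Submodule.smul_mem_smul hg (Submodule.mem_top (x := (D j).s i))))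
    convert h2 using 1
    rw [smul_smul, sub_smul, one_smul, mul_comm]
    rw [sub_sub_cancel, SetLike.mem_coe]
  have hfg : (⊤ : Submodule (RS h𝔛.1 (bas h𝔛 (f j))) (sc F.val (bas h𝔛 (f j)))).FG :=
    ⟨Finset.univ.image (D j).s, by rw [Finset.coe_image, Finset.coe_univ, Set.image_univ]; exact hspan⟩
  have := (FormalLevels.adic h𝔛 hV).1
  have hS : ⊤ ≤ S := Submodule.le_of_le_smul_of_le_jacobson_bot hfg
    (IsAdicComplete.le_jacobson_bot (idl h𝔛.1 (bas h𝔛 (f j)))) hle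
  obtain ⟨V, hV', hyV, a, ha⟩ := (D j).gen (W ⊓ bas h𝔛 (f j)) inf_le_right (rm F inf_le_left t) y ⟨hy, hyj⟩
  choose c hc using fun k => (Submodule.mem_span_range_iff_exists_fun _).1
    (hS Submodule.mem_top : (D j).s k ∈ S)
  refine ⟨V, hV'.trans inf_le_left, hyV, fun i => ∑ k, a k * rr (hV'.trans inf_le_right) (c k i), ?_⟩
  rw [rm_rm] at ha
  rw [ha]
  have hc' : ∀ k, rm F (hV'.trans inf_le_right : V ≤ bas h𝔛 (f j)) ((D j).s k) =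
      ∑ i, rr (hV'.trans inf_le_right) (c k i) • rm F ((hV'.trans inf_le_left).trans hW) (τ (e.symm i)) := fun k => by
    have h := congrArg (rm F (hV'.trans inf_le_right : V ≤ bas h𝔛 (f j))) (hc k)
    simp only [map_sum, rm_smul, rm_rm] at h
    exact h.symm
  refine (Finset.sum_congr rfl fun k _ => congrArg (a k • ·) (hc' k)).trans ?_
  simp only [Finset.smul_sum, Finset.sum_smul, mul_smul]
  exact Finset.sum_comm

/-- A coherent module has a presentation over every affine open. -/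
theorem exists_presData_affine (hU : IsAffineOpen U) (hF : FSch.IsCohF 𝔛 h𝔛.1 F) :
    ∃ N l, Nonempty (PresData (O := 𝔛.Osh h𝔛.1) F U N l) := by
  obtain ⟨N, ⟨D⟩⟩ := exists_genData h𝔛 hU hF
  obtain ⟨l, ⟨R⟩⟩ := exists_relData_of_fp h𝔛 hU hF D.s
  exact ⟨N, l, ⟨{ D with r := R.e, zero := R.zero, rel := R.rel }⟩⟩

end Groth.AdicLinTop.GlobalGen
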