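import Groth.Agent.AdicLinTop.InfPres
import Groth.Agent.AdicLinTop.GlobalGen
import Groth.Agent.AdicLinTop.IndCoh

/-!
# Filtered colimits of coherent modules on a formal scheme are quasi-coherent
-/

set_option autoImplicit false

universe u

open CategoryTheory CategoryTheory.Limits AlgebraicGeometry TopologicalSpace Opposite

set_option backward.defeqAttrib.useBackward true
set_option backward.isDefEq.respectTransparency false
set_option backward.isDefEq.respectTransparency.types false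
set_option synthInstance.maxHeartbeats 400000

namespace Groth.AdicLinTop.IndQcoh

open Groth.SitesTopoi.ModH Groth.AdicLinTop.SpacePres Groth.AdicLinTop.CohKer Groth.AdicLinTop.QuotFP
open Groth.AdicLinTop.FormalAffine Groth.AdicLinTop.IndCoh Groth.SitesTopoi

variable {𝔛 : FSch.Sys.{u}} (h𝔛 : 𝔛.IsLocNoethFormal) {X : FSch.ModF 𝔛 h𝔛.1} {U : (𝔛.X 0).Opens}

/-- Over an affine open, sections generating locally give a presentation. -/
theorem nonempty_presentation (hU : IsAffineOpen U) (hX : RelFin (O := 𝔛.Osh h𝔛.1) X) {I : Type u}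
    (g : I → sc X.val U)
    (hgen : ∀ (W : (𝔛.X 0).Opens) (hW : W ≤ U) (t : sc X.val W), ∀ x ∈ W,
      ∃ (V : (𝔛.X 0).Opens) (hV : V ≤ W), x ∈ V ∧ ∃ (s : Finset I) (a : I → rsec (𝔛.Osh h𝔛.1) V),
        rm X hV t = ∑ i ∈ s, a i • rm X (hV.trans hW) (g i)) :
    Nonempty ((ModSite.restr (𝔛.Osh h𝔛.1) U).obj X).Presentation := by
  classical
  refine InfPres.nonempty_presentation g hgen fun W hW s a ha x hx => ?_
  let e := s.equivFin
  let gs : Fin s.card → sc X.val U := fun k => g (e.symm k).1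
  obtain ⟨l, ⟨R⟩⟩ := AffineGlue.exists_relData_affine h𝔛 hU gs fun y hy => hX U s.card gs y hy
  obtain ⟨V, hV, hxV, c, hc⟩ := R.rel W hW (fun k => a (e.symm k).1) (by
    refine Eq.trans ?_ ha
    rw [← Finset.sum_coe_sort s]
    exact Equiv.sum_comp e.symm (fun i : s => a i.1 • rm X hW (g i.1))) x hx
  let ext : Fin l → I → RS h𝔛.1 U := fun q i => if h : i ∈ s then R.e q (e ⟨i, h⟩) else 0
  have hext : ∀ q, ∑ i ∈ s, ext q i • g i = 0 := fun q => by
    refine Eq.trans ?_ (R.zero q)
    rw [← Finset.sum_coe_sort s, ← Equiv.sum_comp e.symm]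
    refine Finset.sum_congr rfl fun k _ => ?_
    simp [ext, gs]
  let r : Fin l → InfPres.Rel (O := 𝔛.Osh h𝔛.1) g := fun q => ⟨(s, ext q), hext q⟩
  refine ⟨V, hV, hxV, Finset.univ.image r, fun r' => ∑ q ∈ Finset.univ.filter (fun q => r q = r'), c q, fun i => ?_⟩
  simp only [Finset.sum_mul]
  refine Eq.trans ?_ (Finset.sum_congr rfl fun r' _ => Finset.sum_congr rfl fun q hq =>
    congrArg (fun z : InfPres.Rel (O := 𝔛.Osh h𝔛.1) g =>
      c q * onSet z.1.1 (fun i => rr (hV.trans hW) (z.1.2 i)) i) (Finset.mem_filter.1 hq).2)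
  rw [Finset.sum_fiberwise_of_maps_to (fun q _ => Finset.mem_image_of_mem r (Finset.mem_univ q))
    (fun q => c q * onSet (r q).1.1 (fun i => rr (hV.trans hW) ((r q).1.2 i)) i)]
  by_cases hi : i ∈ s
  · simp only [onSet, r, if_pos hi, ext, dif_pos hi]
    have h := hc (e ⟨i, hi⟩)
    simp only [Equiv.symm_apply_apply] at h
    exact h
  · simp only [onSet, r, if_neg hi, mul_zero, Finset.sum_const_zero]

/-- A filtered colimit of coherent modules has a presentation over every affine open. -/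
theorem nonempty_presentation_of_ind (hU : IsAffineOpen U) (hX : ObjectProperty.ind.{u} (cohP h𝔛) X) :
    Nonempty ((ModSite.restr (𝔛.Osh h𝔛.1) U).obj X).Presentation := by
  classical
  have hR := relFin_of_ind h𝔛 hX
  obtain ⟨J, _, _, pres, hP⟩ := hX
  choose N hN using fun j => GlobalGen.exists_genData h𝔛 hU (hP j)
  let D := fun j => (hN j).some
  refine nonempty_presentation h𝔛 hU hR (I := Σ j : J, Fin (N j))
    (fun i => apm (pres.ι.app i.1).val U ((D i.1).s i.2)) fun W hW t x hx => ?_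
  obtain ⟨S, hS, hS'⟩ := FiltColim.exists_local_stage (O := 𝔛.Osh h𝔛.1) pres.cocone pres.isColimit W t
  obtain ⟨V₁, hV₁, hxV₁, hSV⟩ := exists_nhd_of_mem hS hx
  obtain ⟨j, t', ht'⟩ := hS' (homOfLE hV₁) hSV
  obtain ⟨V, hV, hxV, a, ha⟩ := (D j).gen V₁ (hV₁.trans hW) t' x hxV₁
  refine ⟨V, hV.trans hV₁, hxV, Finset.univ.image (Sigma.mk j),
    fun i => if h : i.1 = j then a (Fin.cast (by rw [h]) i.2) else 0, ?_⟩
  rw [Finset.sum_image (fun _ _ _ _ h => eq_of_heq (Sigma.mk.inj h).2)]
  simp only [↓reduceDIte, Fin.cast_refl, id_eq]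
  have h := congrArg (apm (pres.ι.app j).val V) ha
  simp only [map_sum, map_smul, rm, apm_rsm] at h ⊢
  refine Eq.trans ?_ h
  exact ((congrArg (rm X hV) ht').trans (rm_rm X hV₁ hV t)).symm

/-- A filtered colimit of coherent modules is quasi-coherent. -/
theorem isQuasicoherent_of_ind (hX : ObjectProperty.ind.{u} (cohP h𝔛) X) :
    SheafOfModules.IsQuasicoherent.{u} X :=
  InfPres.isQuasicoherent_of_presentations (O := 𝔛.Osh h𝔛.1) fun x => by
    obtain ⟨V, hV, hxV, -⟩ := (goodBasis h𝔛).exists_mem x ⊤ trivial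
    exact ⟨V, hxV, nonempty_presentation_of_ind h𝔛 hV hX⟩

end Groth.AdicLinTop.IndQcoh
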