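import Groth.Agent.AdicLinTop.QcohExt
import Groth.Agent.AdicLinTop.IndQcoh
import Groth.Agent.CohBase.GlobalSections

/-!
# Vanishing of higher cohomology on affine opens of a formal scheme

Čech cocycles of every degree of a module which is generated by its sections over an affine open and has locally
finitely generated relations split on coverings by basic opens; by Cartan's criterion its higher cohomology over
affine opens vanishes.
-/

set_option autoImplicit false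

universe u

open CategoryTheory CategoryTheory.Limits AlgebraicGeometry TopologicalSpace Opposite

set_option backward.defeqAttrib.useBackward true
set_option backward.isDefEq.respectTransparency false
set_option backward.isDefEq.respectTransparency.types false
set_option synthInstance.maxHeartbeats 400000

namespace Groth.AdicLinTop.CechHigher

open Groth.SitesTopoi.ModH Groth.AdicLinTop.SpacePres Groth.AdicLinTop.CohKer Groth.AdicLinTop.QcohLocal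
open Groth.AdicLinTop.FormalAffine Groth.AdicLinTop.AffineGlue Groth.AdicLinTop.AffineSections
open Groth.AdicLinTop.GlobalGen (Ipow exists_extend' exists_pow_smul_mem' exists_limit exists_partition)
open Groth.CohBase (inter inter_le inter_comp inter_one inter_cons CoverSystem)
open Groth.AdicLinTop.QcohExt (apm_rm)

variable {𝔛 : FSch.Sys.{u}} (h𝔛 : 𝔛.IsLocNoethFormal) {F : FSch.ModF 𝔛 h𝔛.1} {U : (𝔛.X 0).Opens}
variable {J : Type u} (f : J → RS h𝔛.1 U)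

/-- The intersection of the basic opens of a tuple. -/
noncomputable abbrev iB {n : ℕ} (x : Fin n → J) : (𝔛.X 0).Opens := inter (fun l => bas h𝔛 (f l)) x

lemma iB_le {n : ℕ} (x : Fin (n + 1) → J) : iB h𝔛 f x ≤ U :=
  (inter_le (fun l => bas h𝔛 (f l)) x 0).trans (bas_le h𝔛 _)

lemma iB_cons {n : ℕ} (r : J) (x : Fin (n + 1) → J) :
    iB h𝔛 f (Fin.cons r x : Fin (n + 2) → J) = bas h𝔛 (resR h𝔛.1 (iB_le h𝔛 f x) (f r)) := by
  rw [bas_res, iB, inter_cons, inf_comm]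

include h𝔛 in
lemma isAffineOpen_iB (hU : IsAffineOpen U) : ∀ {n : ℕ} (x : Fin (n + 1) → J), IsAffineOpen (iB h𝔛 f x)
  | 0, x => by
    rw [iB, inter_one]
    exact isAffineOpen_bas h𝔛 hU _
  | n + 1, x => by
    rw [← Fin.cons_self_tail x, iB_cons]
    exact isAffineOpen_bas h𝔛 (isAffineOpen_iB hU _) _

/-- Cochains. -/
abbrev Cc (F : FSch.ModF 𝔛 h𝔛.1) (p : ℕ) : Type u := ∀ x : Fin (p + 1) → J, sc F.val (iB h𝔛 f x)

/-- The differential. -/
noncomputable def dd {p : ℕ} (s : Cc h𝔛 f F p) : Cc h𝔛 f F (p + 1) := fun x =>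
  ∑ a : Fin (p + 2), ((-1 : ℤ) ^ (a : ℕ)) •
    rm F (inter_comp (fun l => bas h𝔛 (f l)) x a.succAbove) (s (x ∘ a.succAbove))

lemma dd_dd {p : ℕ} (s : Cc h𝔛 f F p) : dd h𝔛 f (dd h𝔛 f s) = 0 :=
  Groth.CohBase.dCoch_dCoch (fun l => bas h𝔛 (f l)) (ModSite.toAb F).obj s

lemma dd_sub {p : ℕ} (s t : Cc h𝔛 f F p) : dd h𝔛 f (s - t) = dd h𝔛 f s - dd h𝔛 f t := by
  funext x
  simp only [dd, Pi.sub_apply, map_sub, smul_sub, Finset.sum_sub_distrib]

lemma rm_congr {p : ℕ} (s : Cc h𝔛 f F p) {x y : Fin (p + 1) → J} (e : x = y) {W : (𝔛.X 0).Opens}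
    (hx : W ≤ iB h𝔛 f x) (hy : W ≤ iB h𝔛 f y) : rm F hx (s x) = rm F hy (s y) := by
  subst e
  rfl

/-- A cocycle is recovered on a smaller open from its values on tuples with a new first index. -/
lemma cocycle_cons {p : ℕ} {δ : Cc h𝔛 f F (p + 1)} (hδ : dd h𝔛 f δ = 0) (r : J) (x : Fin (p + 2) → J)
    {W : (𝔛.X 0).Opens} (hWx : W ≤ iB h𝔛 f x) (hWa : ∀ a : Fin (p + 2), W ≤ iB h𝔛 f (Fin.cons r (x ∘ a.succAbove)))
    (hW : W ≤ iB h𝔛 f (Fin.cons r x)) :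
    rm F hWx (δ x) = ∑ a : Fin (p + 2), ((-1 : ℤ) ^ (a : ℕ)) • rm F (hWa a) (δ (Fin.cons r (x ∘ a.succAbove))) := by
  have h := congrArg (rm F hW) (congrFun hδ (Fin.cons r x))
  simp only [dd, Fin.sum_univ_succ (n := p + 2), Pi.zero_apply, map_zero, map_neg, map_add, map_sum, map_zsmul, rm_rm,
    Fin.val_zero, pow_zero, one_smul, Fin.val_succ, pow_succ, mul_neg, mul_one, neg_smul, Finset.sum_neg_distrib,
    add_neg_eq_zero] at h
  refine (rm_congr h𝔛 f δ (show x = (Fin.cons r x : Fin (p + 3) → J) ∘ (0 : Fin (p + 3)).succAbove by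
    funext i; simp) hWx (hW.trans (inter_comp _ _ _))).trans (h.trans (Finset.sum_congr rfl fun a _ => ?_))
  refine congrArg _ (rm_congr h𝔛 f δ ?_ _ _)
  funext i
  induction i using Fin.cases with
  | zero => simp
  | succ i => simp

variable [Finite J] {n : J → ℕ} (D : ∀ l, GenData (O := 𝔛.Osh h𝔛.1) F (bas h𝔛 (f l)) (n l))

include D in
/-- A cocycle divisible by a power of the ideal splits up to a higher power. -/
theorem exists_step (hU : IsAffineOpen U) (hF : RelFin (O := 𝔛.Osh h𝔛.1) F)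
    (hcov : ∀ x ∈ U, ∃ l, x ∈ bas h𝔛 (f l)) {p k : ℕ} (δ : Cc h𝔛 f F (p + 1))
    (hδ : dd h𝔛 f δ = 0) (hk : ∀ x, δ x ∈ Ipow h𝔛 (iB h𝔛 f x) k) :
    ∃ σ : Cc h𝔛 f F p, (∀ y, σ y ∈ Ipow h𝔛 (iB h𝔛 f y) k) ∧
      ∀ x, δ x - dd h𝔛 f σ x ∈ Ipow h𝔛 (iB h𝔛 f x) (k + 1) := by
  classical
  have := Fintype.ofFinite J
  have hle : ∀ (y : Fin (p + 1) → J) (r : J), iB h𝔛 f (Fin.cons r y : Fin (p + 2) → J) ≤ iB h𝔛 f y := fun y r => by
    rw [iB, inter_cons]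
    exact inf_le_right
  have hext := fun (y : Fin (p + 1) → J) (r : J) => exists_extend' h𝔛 (isAffineOpen_iB h𝔛 f hU y) hF
    ((D (y 0)).restrict (inter_le _ y 0)) (resR h𝔛.1 (iB_le h𝔛 f y) (f r)) (hle y r) (iB_cons h𝔛 f r y)
    (show k ≤ k + 1 by omega) (hk (Fin.cons r y))
  choose q ε₀ hε₀ hε₀' using hext
  let N := Finset.univ.sup fun yr : (Fin (p + 1) → J) × J => q yr.1 yr.2
  let ε₁ : ∀ (y : Fin (p + 1) → J), J → sc F.val (iB h𝔛 f y) := fun y r =>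
    resR h𝔛.1 (iB_le h𝔛 f y) (f r) ^ (N - q y r) • ε₀ y r
  have hε₁ : ∀ y r, resR h𝔛.1 ((hle y r).trans (iB_le h𝔛 f y)) (f r) ^ N • δ (Fin.cons r y) -
      rm F (hle y r) (ε₁ y r) ∈ Ipow h𝔛 (iB h𝔛 f (Fin.cons r y)) (k + 1) := fun y r => by
    have h := Submodule.smul_mem _
      (resR h𝔛.1 ((hle y r).trans (iB_le h𝔛 f y)) (f r) ^ (N - q y r)) (hε₀' y r)
    rw [smul_sub, rr_rr, smul_smul, ← pow_add, Nat.sub_add_cancel (Finset.le_sup
      (f := fun yr : (Fin (p + 1) → J) × J => q yr.1 yr.2) (Finset.mem_univ (y, r)) : q y r ≤ N)] at h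
    simp only [ε₁, rm_smul, map_pow, rr_rr]
    exact h
  have htriple : ∀ (x : Fin (p + 2) → J) (r : J), ∃ t : ℕ, resR h𝔛.1 (iB_le h𝔛 f x) (f r) ^ t •
      (resR h𝔛.1 (iB_le h𝔛 f x) (f r) ^ N • δ x - ∑ a : Fin (p + 2), ((-1 : ℤ) ^ (a : ℕ)) •
        rm F (inter_comp (fun l => bas h𝔛 (f l)) x a.succAbove) (ε₁ (x ∘ a.succAbove) r)) ∈
        Ipow h𝔛 (iB h𝔛 f x) (k + 1) := fun x r => by
    let W := iB h𝔛 f (Fin.cons r x : Fin (p + 3) → J)
    have hWx : W ≤ iB h𝔛 f x := by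
      show inter _ _ ≤ _
      rw [inter_cons]
      exact inf_le_right
    have hWa : ∀ a : Fin (p + 2), W ≤ iB h𝔛 f (Fin.cons r (x ∘ a.succAbove)) := fun a => by
      show inter _ _ ≤ inter _ _
      rw [inter_cons, inter_cons]
      exact inf_le_inf le_rfl (inter_comp _ _ _)
    refine exists_pow_smul_mem' h𝔛 (isAffineOpen_iB h𝔛 f hU x) hF ((D (x 0)).restrict (inter_le _ x 0)) _
      hWx (iB_cons h𝔛 f r x) k ?_
    have hmem : ∀ a : Fin (p + 2), ((-1 : ℤ) ^ (a : ℕ)) •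
        rm F (hWa a) (resR h𝔛.1 ((hle _ r).trans (iB_le h𝔛 f _)) (f r) ^ N • δ (Fin.cons r (x ∘ a.succAbove)) -
          rm F (hle _ r) (ε₁ (x ∘ a.succAbove) r)) ∈ Ipow h𝔛 W (k + 1) := fun a =>
      zsmul_mem (rm_mem h𝔛 (isAffineOpen_iB h𝔛 f hU _) (isAffineOpen_iB h𝔛 f hU _) (hWa a) (hε₁ _ r)) _
    have hsum := Submodule.sum_mem _ fun a (_ : a ∈ Finset.univ) => hmem a
    simp only [map_sub, map_sum, map_zsmul, rm_smul, map_pow, rm_rm, rr_rr, smul_sub, Finset.sum_sub_distrib,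
      smul_comm ((-1 : ℤ) ^ (_ : ℕ)) ((_ : RS h𝔛.1 W) ^ N), ← Finset.smul_sum] at hsum ⊢
    rw [cocycle_cons h𝔛 f hδ r x hWx hWa le_rfl, Finset.smul_sum]
    exact hsum
  choose t ht using htriple
  let t₀ := Finset.univ.sup fun xr : (Fin (p + 2) → J) × J => t xr.1 xr.2
  let ε : ∀ (y : Fin (p + 1) → J), J → sc F.val (iB h𝔛 f y) := fun y r =>
    resR h𝔛.1 (iB_le h𝔛 f y) (f r) ^ t₀ • ε₁ y r
  have hε : ∀ y r, ε y r ∈ Ipow h𝔛 (iB h𝔛 f y) k := fun y r =>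
    Submodule.smul_mem _ _ (Submodule.smul_mem _ _ (hε₀ y r))
  have hε' : ∀ (x : Fin (p + 2) → J) (r : J), resR h𝔛.1 (iB_le h𝔛 f x) (f r) ^ (t₀ + N) • δ x -
      ∑ a : Fin (p + 2), ((-1 : ℤ) ^ (a : ℕ)) •
        rm F (inter_comp (fun l => bas h𝔛 (f l)) x a.succAbove) (ε (x ∘ a.succAbove) r) ∈
      Ipow h𝔛 (iB h𝔛 f x) (k + 1) := fun x r => by
    have h := Submodule.smul_mem _ (resR h𝔛.1 (iB_le h𝔛 f x) (f r) ^ (t₀ - t x r)) (ht x r)
    rw [smul_smul, ← pow_add, Nat.sub_add_cancel (Finset.le_sup (f := fun xr : (Fin (p + 2) → J) × J => t xr.1 xr.2)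
      (Finset.mem_univ (x, r)) : t x r ≤ t₀), smul_sub, smul_smul, ← pow_add, Finset.smul_sum] at h
    simp only [ε, rm_smul, map_pow, rr_rr, smul_comm ((-1 : ℤ) ^ (_ : ℕ)) ((_ : RS h𝔛.1 (iB h𝔛 f x)) ^ t₀)]
    exact h
  obtain ⟨u, hu⟩ := exists_partition h𝔛 f hU hcov (t₀ + N)
  refine ⟨fun y => ∑ r, resR h𝔛.1 (iB_le h𝔛 f y) (u r) • ε y r,
    fun y => Submodule.sum_mem _ fun r _ => Submodule.smul_mem _ _ (hε y r), fun x => ?_⟩
  let e : iB h𝔛 f x ≤ U := iB_le h𝔛 f x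
  have h1 : ∑ r, resR h𝔛.1 e (u r) • (resR h𝔛.1 e (f r) ^ (t₀ + N) • δ x -
      ∑ a : Fin (p + 2), ((-1 : ℤ) ^ (a : ℕ)) •
        rm F (inter_comp (fun l => bas h𝔛 (f l)) x a.succAbove) (ε (x ∘ a.succAbove) r)) ∈
      Ipow h𝔛 (iB h𝔛 f x) (k + 1) :=
    Submodule.sum_mem _ fun r _ => Submodule.smul_mem _ _ (hε' x r)
  have h2 : (∑ r, resR h𝔛.1 e (u r) * resR h𝔛.1 e (f r) ^ (t₀ + N) - 1) • δ x ∈
      Ipow h𝔛 (iB h𝔛 f x) (k + 1) := by
    have hI : ∑ r, resR h𝔛.1 e (u r) * resR h𝔛.1 e (f r) ^ (t₀ + N) - 1 ∈ idl h𝔛.1 (iB h𝔛 f x) := by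
      rw [← map_idl h𝔛 hU (isAffineOpen_iB h𝔛 f hU x) e]
      have h := Ideal.mem_map_of_mem (resR h𝔛.1 e) hu
      simpa only [map_sub, map_sum, map_mul, map_pow, map_one] using h
    rw [Ipow, pow_succ' (idl h𝔛.1 (iB h𝔛 f x)) k, Submodule.mul_smul]
    exact Submodule.smul_mem_smul hI (hk x)
  have h3 := sub_mem h1 h2
  convert h3 using 1
  simp only [sub_smul, Finset.sum_smul, smul_sub, mul_smul, one_smul, Finset.sum_sub_distrib, dd, map_sum, rm_smul,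
    rr_rr, Finset.smul_sum]
  rw [Finset.sum_comm (γ := J)]
  simp only [smul_comm ((-1 : ℤ) ^ (_ : ℕ)) (resR h𝔛.1 e (u _))]
  abel

include D in
/-- Cocycles split. -/
theorem exists_split (hU : IsAffineOpen U) (hF : RelFin (O := 𝔛.Osh h𝔛.1) F)
    (hcov : ∀ x ∈ U, ∃ l, x ∈ bas h𝔛 (f l)) {p : ℕ} (δ : Cc h𝔛 f F (p + 1)) (hδ : dd h𝔛 f δ = 0) :
    ∃ σ : Cc h𝔛 f F p, dd h𝔛 f σ = δ := by
  classical
  have := Fintype.ofFinite J
  let Approx : ℕ → Cc h𝔛 f F p → Prop := fun k s => ∀ x, δ x - dd h𝔛 f s x ∈ Ipow h𝔛 (iB h𝔛 f x) k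
  have hstep : ∀ k s, Approx k s → ∃ s', Approx (k + 1) s' ∧ ∀ y, s' y - s y ∈ Ipow h𝔛 (iB h𝔛 f y) k := by
    intro k s hs
    obtain ⟨σ, hσ, hσ'⟩ := exists_step h𝔛 f D hU hF hcov (δ - dd h𝔛 f s)
      (by rw [dd_sub, hδ, dd_dd, sub_zero]) hs
    refine ⟨fun y => s y + σ y, fun x => ?_, fun y => by simpa only [add_sub_cancel_left] using hσ y⟩
    convert hσ' x using 1
    simp only [dd, Pi.sub_apply, map_add, smul_add, Finset.sum_add_distrib]
    abel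
  have h0 : Approx 0 0 := fun x => by
    rw [Ipow, pow_zero, Ideal.one_eq_top, Submodule.top_smul]; exact Submodule.mem_top
  choose nxt hnxt hnxt' using hstep
  let seq : ∀ k, {s // Approx k s} := fun k =>
    Nat.recOn (motive := fun k => {s // Approx k s}) k ⟨0, h0⟩ fun k s => ⟨nxt k s.1 s.2, hnxt k s.1 s.2⟩
  have hlim := fun y : Fin (p + 1) → J => exists_limit h𝔛 (isAffineOpen_iB h𝔛 f hU y) hF
    ((D (y 0)).restrict (inter_le _ y 0)) (fun k => (seq (k + 1)).1 y)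
    fun k => hnxt' (k + 1) (seq (k + 1)).1 (seq (k + 1)).2 y
  choose σ hσ using hlim
  refine ⟨σ, funext fun x => ?_⟩
  have hW := isAffineOpen_iB h𝔛 f hU x
  have : Module.Finite (RS h𝔛.1 (iB h𝔛 f x)) (sc F.val (iB h𝔛 f x)) :=
    ⟨⟨Finset.univ.image ((D (x 0)).restrict (inter_le _ x 0)).s, by
      rw [Finset.coe_image, Finset.coe_univ, Set.image_univ]
      exact span_eq_top h𝔛 hW hF ((D (x 0)).restrict (inter_le _ x 0))⟩⟩
  rw [← sub_eq_zero, ← Submodule.mem_bot (RS h𝔛.1 (iB h𝔛 f x))]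
  refine mem_of_forall_mem_sup h𝔛 hW _ fun k => Submodule.mem_sup_right ?_
  have a : dd h𝔛 f σ x - dd h𝔛 f (seq (k + 1)).1 x ∈ Ipow h𝔛 (iB h𝔛 f x) (k + 1) := by
    rw [← Pi.sub_apply, ← dd_sub]
    exact Submodule.sum_mem _ fun a _ => zsmul_mem (rm_mem h𝔛 (isAffineOpen_iB h𝔛 f hU _) hW _ (hσ _ k)) _
  have c := sub_mem a ((seq (k + 1)).2 x)
  convert c using 1
  abel

omit D

include h𝔛 in
/-- Cocycles of a module generated by its sections split. -/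
theorem exists_split_gens (hU : IsAffineOpen U) (hF : RelFin (O := 𝔛.Osh h𝔛.1) F) {κ : Type u}
    {g : κ → sc F.val U} (hg : Gens (O := 𝔛.Osh h𝔛.1) g) (hcov : ∀ x ∈ U, ∃ l, x ∈ bas h𝔛 (f l)) {p : ℕ}
    (δ : Cc h𝔛 f F (p + 1)) (hδ : dd h𝔛 f δ = 0) : ∃ σ : Cc h𝔛 f F p, dd h𝔛 f σ = δ := by
  classical
  have := Fintype.ofFinite J
  choose S hS using fun x : Fin (p + 2) → J => QcohExt.exists_finset_local hg (iB_le h𝔛 f x)
    (isAffineOpen_iB h𝔛 f hU x).isCompact (δ x)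
  let S₀ : Finset κ := Finset.univ.biUnion S
  obtain ⟨C', ι, hι, ⟨D'⟩, he⟩ := SpanImage.exists_span_module (O := 𝔛.Osh h𝔛.1)
    (fun k : Fin S₀.card => g (S₀.equivFin.symm k).1)
  have := hι
  choose e he using he
  have hmem : ∀ x, ∃ d : sc C'.val (iB h𝔛 f x), apm ι.val _ d = δ x := fun x => by
    refine SpanImage.exists_sec_of_local (O := 𝔛.Osh h𝔛.1) ι (δ x) fun y hy => ?_
    obtain ⟨W, hW, hyW, a, ha⟩ := hS x y hy
    have hWU : W ≤ U := hW.trans (iB_le h𝔛 f x)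
    let a' : κ → rsec (𝔛.Osh h𝔛.1) W := fun i => if i ∈ S x then a i else 0
    refine ⟨W, hW, hyW, ∑ k, a' (S₀.equivFin.symm k).1 • rm C' hWU (e k), ?_⟩
    rw [ha, map_sum]
    refine Eq.trans (Finset.sum_congr rfl fun k _ => ?_)
      ((sum_fin S₀ a' fun i => rm F hWU (g i)).symm.trans ?_)
    · rw [map_smul, apm_rsm, he]
    · refine Eq.trans (Finset.sum_subset (fun i hi => Finset.mem_biUnion.2 ⟨x, Finset.mem_univ _, hi⟩)
        fun i _ hi => ?_).symm (Finset.sum_congr rfl fun i hi => ?_)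
      · simp only [a', if_neg hi, zero_smul]
      · simp only [a', if_pos hi]
  choose δ' hδ' using hmem
  have hcoc : dd h𝔛 f δ' = 0 := by
    funext x
    apply injective_of_mono ι
    refine Eq.trans ?_ ((congrFun hδ x).trans (map_zero (apm ι.val _)).symm)
    simp only [dd, map_sum, map_zsmul, apm_rm ι, hδ']
  obtain ⟨σ, hσ⟩ := exists_split h𝔛 f (fun l => D'.restrict (bas_le h𝔛 (f l))) hU
    (relFin_of_mono ι hF) hcov δ' hcoc
  refine ⟨fun y => apm ι.val _ (σ y), funext fun x => ?_⟩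
  refine Eq.trans ?_ ((congrArg (apm ι.val (iB h𝔛 f x)) (congrFun hσ x)).trans (hδ' x))
  simp only [dd, map_sum, map_zsmul, apm_rm ι]

omit [Finite J]

/-- Coverings of affine opens by finitely many basic opens. -/
noncomputable def coverSystem : CoverSystem (𝔛.X 0).toTopCat where
  B W := IsAffineOpen W
  adm W ι U := IsAffineOpen W ∧ Finite ι ∧
    ∃ f : ι → RS h𝔛.1 W, (U = fun i => bas h𝔛 (f i)) ∧ ∀ x ∈ W, ∃ i, x ∈ bas h𝔛 (f i)
  le := by
    rintro W ι U ⟨-, -, f, rfl, -⟩ i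
    exact bas_le h𝔛 (f i)
  cover := by
    rintro W ι U ⟨-, -, f, rfl, hcov⟩ x hx
    exact Opens.mem_iSup.2 (hcov x hx)
  inter_mem := by
    rintro W ι U ⟨hW, -, f, rfl, -⟩ n x
    exact isAffineOpen_iB h𝔛 f hW x
  refine := by
    intro W hW V hV
    have hp : ∀ x : W, ∃ p : RS h𝔛.1 W, x.1 ∈ bas h𝔛 p ∧ bas h𝔛 p ≤ V x := fun x => by
      obtain ⟨p, hxp, hp⟩ := exists_bas_le h𝔛 hW x.2 (V x ⊓ W) ⟨hV x, x.2⟩
      exact ⟨p, hxp, hp.trans inf_le_left⟩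
    choose p hxp hpV using hp
    obtain ⟨T, hT⟩ := hW.isCompact.elim_finite_subcover (fun x : W => (bas h𝔛 (p x) : Set (𝔛.X 0)))
      (fun x => (bas h𝔛 (p x)).2) fun z hz => Set.mem_iUnion.2 ⟨⟨z, hz⟩, hxp ⟨z, hz⟩⟩
    refine ⟨T, fun i => bas h𝔛 (p i.1), ⟨hW, inferInstance, fun i => p i.1, rfl, fun x hx => ?_⟩,
      fun i => ⟨i.1, hpV i.1⟩⟩
    obtain ⟨y, hy, hxy⟩ := Set.mem_iUnion₂.1 (hT hx)
    exact ⟨⟨y, hy⟩, hxy⟩

include h𝔛 in
/-- Higher cohomology over affine opens vanishes. -/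
theorem hVanish (hF : RelFin (O := 𝔛.Osh h𝔛.1) F)
    (hgen : ∀ W : (𝔛.X 0).Opens, IsAffineOpen W → ∃ (κ : Type u) (g : κ → sc F.val W), Gens (O := 𝔛.Osh h𝔛.1) g)
    (n : ℕ) {W : (𝔛.X 0).Opens} (hW : IsAffineOpen W) :
    Groth.CohBase.HVanish (X := (𝔛.X 0).toTopCat) (ModSite.toAb F) (n + 1) W :=
  (coverSystem h𝔛).hVanish (ModSite.toAb F) (fun W' ι U hU p => by
    obtain ⟨hW', hfin, f, rfl, hcov⟩ := hU
    obtain ⟨κ, g, hg⟩ := hgen W' hW'
    exact fun s hs => exists_split_gens h𝔛 f hW' hF hg hcov s hs) n hW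

include h𝔛 in
/-- Filtered colimits of coherent modules have no higher cohomology on affine opens. -/
theorem hVanish_of_ind (hF : ObjectProperty.ind.{u} (IndCoh.cohP h𝔛) F) (n : ℕ) {W : (𝔛.X 0).Opens}
    (hW : IsAffineOpen W) :
    Groth.CohBase.HVanish (X := (𝔛.X 0).toTopCat) (ModSite.toAb F) (n + 1) W :=
  hVanish h𝔛 (IndCoh.relFin_of_ind h𝔛 hF) (fun V hV => by
    obtain ⟨p⟩ := IndQcoh.nonempty_presentation_of_ind h𝔛 hV hF
    refine ⟨_, QuotFP.gv p le_rfl, fun W hW t x hx => ?_⟩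
    obtain ⟨V', hV', hxV, s, a, ha⟩ := QuotFP.exists_gv_comb p hW t hx
    exact ⟨V', hV', hxV, s, a, ha.trans (Finset.sum_congr rfl fun i _ => by rw [QuotFP.rm_gv])⟩) n hW

end Groth.AdicLinTop.CechHigher
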