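import Groth.Agent.CohBase.FiniteBC.PushNat
import Groth.Agent.SiteCohomology.ClosedPush

/-!
# Cohomology of direct images along closed embeddings, naturally
-/

set_option autoImplicit false

universe u

open CategoryTheory CategoryTheory.Limits TopologicalSpace Opposite Topology
open CategoryTheory.Abelian (Ext)

namespace Groth.AdicLinTop.ClosedCoh

open Groth.CohBase Groth.CohBase.FiniteBC

variable {Z X : TopCat.{u}} (i : Z ⟶ X) (hi : IsClosedEmbedding i.hom)

include hi in
theorem adjExt_bijective (A : AbSheaf X) (F : AbSheaf Z) (n : ℕ) :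
    Function.Bijective (Groth.EtaleBase.ExtAdj.adjExt (SiteCohomology.pullPushAdj i) A F n) :=
  have : PreservesFiniteColimits (pushSheaf i) := Groth.SiteCohomology.preservesFiniteColimits_push i hi
  have : PreservesFiniteLimits (pushSheaf i) :=
    (SiteCohomology.pullPushAdj i).rightAdjoint_preservesLimits.{0, 0}.preservesFiniteLimits
  Groth.EtaleBase.ExtAdj.adjExt_bijective_of_exact (SiteCohomology.pullPushAdj i) A F n

theorem precomp_bijective {P Q : AbSheaf Z} (c : P ≅ Q) (F : AbSheaf Z) (n : ℕ) :
    Function.Bijective fun z : Ext P F n => (Ext.mk₀ c.inv).comp z (zero_add n) :=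
  Function.bijective_iff_has_inverse.2 ⟨fun y => (Ext.mk₀ c.hom).comp y (zero_add n),
    fun z => by simp [Ext.mk₀_comp_mk₀_assoc], fun y => by simp [Ext.mk₀_comp_mk₀_assoc]⟩

include hi in
theorem pushMap_bijective (F : AbSheaf Z) (n : ℕ) : Function.Bijective (pushMap i F n) :=
  (precomp_bijective (nonempty_pull_constZ i).some F n).comp (adjExt_bijective i hi (constZ X) F n)

/-- Morphisms out of the inverse image of the free sheaf on an open. -/
noncomputable def homPullFree (U : Opens X) (F : AbSheaf Z) :
    ((CohTop.pull i).obj (freeOpen U) ⟶ F) ≃ F.obj.obj (op ((Opens.map i).obj U)) :=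
  ((SiteCohomology.pullPushAdj i).homEquiv _ _).trans (homFreeOpen U ((pushSheaf i).obj F)).toEquiv

theorem homPullFree_comp (U : Opens X) {F G : AbSheaf Z} (φ : F ⟶ G) (a : (CohTop.pull i).obj (freeOpen U) ⟶ F) :
    homPullFree i U G (a ≫ φ) = φ.hom.app (op ((Opens.map i).obj U)) (homPullFree i U F a) := by
  change homFreeOpen U _ ((SiteCohomology.pullPushAdj i).homEquiv _ _ (a ≫ φ)) = _
  rw [Adjunction.homEquiv_naturality_right]
  exact homFreeOpen_comp U _ _

theorem pullFree_hom_ext (U : Opens X) {F : AbSheaf Z} {a b : (CohTop.pull i).obj (freeOpen U) ⟶ F}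
    (h : homPullFree i U F a = homPullFree i U F b) : a = b :=
  (homPullFree i U F).injective h

/-- The inverse image of the free sheaf on an open. -/
noncomputable def pullFreeOpenIso (U : Opens X) :
    (CohTop.pull i).obj (freeOpen U) ≅ freeOpen ((Opens.map i).obj U) where
  hom := (homPullFree i U _).symm (homFreeOpen ((Opens.map i).obj U) _ (𝟙 _))
  inv := (homFreeOpen ((Opens.map i).obj U) _).symm (homPullFree i U _ (𝟙 ((CohTop.pull i).obj (freeOpen U))))
  hom_inv_id := pullFree_hom_ext i U (by
    rw [homPullFree_comp, Equiv.apply_symm_apply, ← homFreeOpen_comp, Category.id_comp, AddEquiv.apply_symm_apply])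
  inv_hom_id := (homFreeOpen ((Opens.map i).obj U) _).injective (by
    rw [homFreeOpen_comp, AddEquiv.apply_symm_apply, ← homPullFree_comp, Category.id_comp, Equiv.apply_symm_apply])

include hi in
/-- Vanishing for a direct image along a closed embedding. -/
theorem hVanish_push {F : AbSheaf Z} {n : ℕ} {U : Opens X} (h : HVanish F n ((Opens.map i).obj U)) :
    HVanish ((pushSheaf i).obj F) n U :=
  have : Subsingleton (Ext (freeOpen ((Opens.map i).obj U)) F n) := h
  ((precomp_bijective (pullFreeOpenIso i U) F n).comp (adjExt_bijective i hi (freeOpen U) F n)).1.subsingleton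

end Groth.AdicLinTop.ClosedCoh
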