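import Groth.Agent.AdicLinTop.SysExamples
import Mathlib.CategoryTheory.Limits.Shapes.Pullback.IsPullback.Basic

/-!
Pullbacks of systems of schemes; adic completion squares.
-/

universe u

open CategoryTheory CategoryTheory.Limits AlgebraicGeometry

namespace Groth.AdicLinTop.Thickenings

theorem isPullback_of_levelwise {𝔓 𝔛 𝔜 𝔖 : FSch.Sys.{u}} (p : 𝔓 ⟶ 𝔛) (q : 𝔓 ⟶ 𝔜) (f : 𝔛 ⟶ 𝔖)
    (g : 𝔜 ⟶ 𝔖) (h : ∀ n, IsPullback ((p : FSch.Hom _ _).app n) ((q : FSch.Hom _ _).app n)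
      ((f : FSch.Hom _ _).app n) ((g : FSch.Hom _ _).app n)) : IsPullback p q f g := by
  have hw : p ≫ f = q ≫ g := FSch.Hom.ext (funext fun n => (h n).w)
  have hsw : ∀ (s : PullbackCone f g) (n : ℕ),
      (s.fst : FSch.Hom _ _).app n ≫ (f : FSch.Hom _ _).app n =
        (s.snd : FSch.Hom _ _).app n ≫ (g : FSch.Hom _ _).app n := fun s n =>
    congrArg (fun φ => (φ : FSch.Hom _ _).app n) s.condition
  have hcomm : ∀ (s : PullbackCone f g) (n : ℕ), (h n).lift _ _ (hsw s n) ≫ 𝔓.ι n =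
      s.pt.ι n ≫ (h (n + 1)).lift _ _ (hsw s (n + 1)) := fun s n => by
    refine (h (n + 1)).hom_ext ?_ ?_
    · rw [Category.assoc, Category.assoc, (h (n + 1)).lift_fst, ← (p : FSch.Hom _ _).comm n,
        ← Category.assoc, (h n).lift_fst]
      exact (s.fst : FSch.Hom _ _).comm n
    · rw [Category.assoc, Category.assoc, (h (n + 1)).lift_snd, ← (q : FSch.Hom _ _).comm n,
        ← Category.assoc, (h n).lift_snd]
      exact (s.snd : FSch.Hom _ _).comm n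
  refine ⟨⟨hw⟩, ⟨PullbackCone.isLimitAux' _ fun s =>
    ⟨⟨fun n => (h n).lift _ _ (hsw s n), hcomm s⟩, FSch.Hom.ext (funext fun n => (h n).lift_fst _ _ _),
      FSch.Hom.ext (funext fun n => (h n).lift_snd _ _ _),
      fun {m} h1 h2 => FSch.Hom.ext (funext fun n => (h n).hom_ext ?_ ?_)⟩⟩⟩
  · exact (congrArg (fun φ => (φ : FSch.Hom _ _).app n) h1).trans ((h n).lift_fst _ _ _).symm
  · exact (congrArg (fun φ => (φ : FSch.Hom _ _).app n) h2).trans ((h n).lift_snd _ _ _).symm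

theorem isPullback_completionToX {X Y : Scheme.{u}} (f : X ⟶ Y) (𝓚 : Y.IdealSheafData)
    (h : FSch.PowCompat f (𝓚.comap f) 𝓚) (n : ℕ) :
    IsPullback (FSch.completionToX X (𝓚.comap f) n)
      ((FSch.completionMap f (𝓚.comap f) 𝓚 h : FSch.Hom _ _).app n) f (FSch.completionToX Y 𝓚 n) := by
  refine isPullback_of_isClosedImmersion _ _ _ _ ?_ ?_
  · exact (Scheme.IdealSheafData.subschemeMap_subschemeι _ _ f
      (Scheme.IdealSheafData.le_map_iff_comap_le.mpr (h n))).symm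
  · rw [show (FSch.completionToX Y 𝓚 n).ker = 𝓚 ^ (n + 1) from Scheme.IdealSheafData.ker_subschemeι _,
      show (FSch.completionToX X (𝓚.comap f) n).ker = (𝓚.comap f) ^ (n + 1) from
        Scheme.IdealSheafData.ker_subschemeι _, Groth.Divisors.comap_pow]

theorem isAdicHom_completionMap {X Y : Scheme.{u}} (f : X ⟶ Y) (𝓚 : Y.IdealSheafData)
    (h : FSch.PowCompat f (𝓚.comap f) 𝓚) : FSch.IsAdicHom (FSch.completionMap f (𝓚.comap f) 𝓚 h) := by
  intro n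
  refine IsPullback.of_right ?_ ((FSch.completionMap f (𝓚.comap f) 𝓚 h : FSch.Hom _ _).comm n).symm
    (isPullback_completionToX f 𝓚 h (n + 1))
  have e1 : (FSch.completionAlong X (𝓚.comap f)).ι n ≫ FSch.completionToX X (𝓚.comap f) (n + 1) =
      FSch.completionToX X (𝓚.comap f) n := Scheme.IdealSheafData.inclusion_subschemeι _
  have e2 : (FSch.completionAlong Y 𝓚).ι n ≫ FSch.completionToX Y 𝓚 (n + 1) =
      FSch.completionToX Y 𝓚 n := Scheme.IdealSheafData.inclusion_subschemeι _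
  rw [e1, e2]
  exact isPullback_completionToX f 𝓚 h n

theorem completionMap_app_toX {X Y : Scheme.{u}} (f : X ⟶ Y) (𝓘 : X.IdealSheafData) (𝓚 : Y.IdealSheafData)
    (h : FSch.PowCompat f 𝓘 𝓚) (n : ℕ) :
    (FSch.completionMap f 𝓘 𝓚 h : FSch.Hom _ _).app n ≫ FSch.completionToX Y 𝓚 n =
      FSch.completionToX X 𝓘 n ≫ f :=
  Scheme.IdealSheafData.subschemeMap_subschemeι _ _ f (Scheme.IdealSheafData.le_map_iff_comap_le.mpr (h n))

theorem isAdicHom_pullbackSnd {𝔛 𝔖 𝔖' : FSch.Sys.{u}} (f : 𝔛 ⟶ 𝔖) (g : 𝔖' ⟶ 𝔖)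
    (hf : FSch.IsAdicHom f) : FSch.IsAdicHom (FSch.pullbackSnd f g) := by
  intro n
  refine IsPullback.of_right (h₁₂ := pullback.fst _ _) (v₁₃ := (f : FSch.Hom _ _).app (n + 1))
    (h₂₂ := (g : FSch.Hom _ _).app (n + 1)) ?_ ((FSch.pullbackSnd f g : FSch.Hom _ _).comm n).symm
    (IsPullback.of_hasPullback _ _)
  have e1 : (FSch.pullbackSys f g).ι n ≫ pullback.fst _ _ =
      pullback.fst ((f : FSch.Hom _ _).app n) ((g : FSch.Hom _ _).app n) ≫ 𝔛.ι n :=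
    ((FSch.pullbackFst f g : FSch.Hom _ _).comm n).symm
  erw [e1]
  rw [← (g : FSch.Hom _ _).comm n]
  exact (IsPullback.of_hasPullback _ _).paste_horiz (hf n)

theorem isAdicHom_subSysι (𝔛 : FSch.Sys.{u}) (𝒜 : ∀ n, (𝔛.X n).IdealSheafData)
    (h : ∀ n, (𝒜 (n + 1)).comap (𝔛.ι n) = 𝒜 n) :
    FSch.IsAdicHom (FSch.subSysι 𝔛 𝒜 (fun n ↦ (h n).le)) := by
  intro n
  haveI : IsClosedImmersion ((FSch.subSysι 𝔛 𝒜 (fun n ↦ (h n).le) : FSch.Hom _ _).app n) :=
    inferInstanceAs (IsClosedImmersion (𝒜 n).subschemeι)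
  refine (isPullback_of_isClosedImmersion ((FSch.subSysι 𝔛 𝒜 (fun n ↦ (h n).le) : FSch.Hom _ _).app n)
    (𝒜 (n + 1)).subschemeι ((FSch.subSys 𝔛 𝒜 (fun n ↦ (h n).le)).ι n) (𝔛.ι n) ?_ ?_).flip
  · exact (Scheme.IdealSheafData.subschemeMap_subschemeι _ _ (𝔛.ι n)
      (Scheme.IdealSheafData.le_map_iff_comap_le.mpr (h n).le)).symm
  · rw [Scheme.IdealSheafData.ker_subschemeι, h n]
    exact (Scheme.IdealSheafData.ker_subschemeι _).symm

end Groth.AdicLinTop.Thickenings
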