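import Groth.Agent.AdicLinTop.ClosedImmGamma
import Groth.Agent.AdicLinTop.FormalCoh
import Groth.Agent.AdicLinTop.BcTranspose
import Groth.Agent.AdicLinTop.SysPullback

/-!
# Base change along closed immersions of formal schemes
-/

set_option autoImplicit false

universe u

open CategoryTheory CategoryTheory.Limits AlgebraicGeometry TopologicalSpace Opposite

namespace Groth.AdicLinTop.ClosedImmBc

open Groth.AdicLinTop.FormalLevels Groth.AdicLinTop.FormalReal Groth.AdicLinTop.FormalAffine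
open Groth.AdicLinTop.FormalSpan Groth.AdicLinTop.FormalPullback Groth.AdicLinTop.PullLevels
open Groth.AdicLinTop.ClosedImmRing

variable {ℨ 𝔛 𝔜 𝔖 : FSch.Sys.{u}} (p : ℨ ⟶ 𝔛) (f : 𝔛 ⟶ 𝔖) (q : ℨ ⟶ 𝔜) (g : 𝔜 ⟶ 𝔖) (w : p ≫ f = q ≫ g)
  (hℨ : ℨ.IsFormal) (h𝔛 : 𝔛.IsFormal) (h𝔜 : 𝔜.IsFormal) (h𝔖 : 𝔖.IsFormal) (𝔐 : FSch.ModSys 𝔛)

/-- Sections of a direct image are sections over the preimage. -/
theorem rs_push {ℨ 𝔜 : FSch.Sys.{u}} (q : ℨ ⟶ 𝔜) (hℨ : ℨ.IsFormal) (h𝔜 : 𝔜.IsFormal) (G : FSch.ModF ℨ hℨ)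
    {V V' : (𝔜.X 0).Opens} (e : V' ≤ V) (m : Sec G (pre q V)) :
    (rs ((FSch.pushF q hℨ h𝔜).obj G) e m : Sec G (pre q V')) =
      rs G (((q : FSch.Hom ℨ 𝔜).app 0).preimage_mono e) m := rfl

variable {h𝔛' : 𝔛.IsLocNoethFormal} {h𝔖' : 𝔖.IsLocNoethFormal} {h𝔜' : 𝔜.IsLocNoethFormal}
  {hℨ' : ℨ.IsLocNoethFormal}

/-- Restrictions of images under the comparison morphism. -/
theorem rm_img {U : (𝔖.X 0).Opens} {V : (𝔜.X 0).Opens} (e : V ≤ pre g U) (m : Sec (𝔐.realMod h𝔛'.1) (pre f U)) :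
    rs ((FSch.ModSys.pullback p 𝔐).realMod hℨ'.1) (((q : FSch.Hom ℨ 𝔜).app 0).preimage_mono e)
        (gVal p f q g w hℨ'.1 h𝔛'.1 𝔐 U m) =
      rs ((FSch.ModSys.pullback p 𝔐).realMod hℨ'.1) (le_pre p f q g w U e) (gammaVal p hℨ'.1 h𝔛'.1 𝔐 (pre f U) m) :=
  rs_rs _ _ _ _

/-- Generators and relations over an affine open of the base. -/
theorem nonempty_chart (hf : FSch.IsClosedImmHom f) (hq : FSch.IsClosedImmHom q)
    (hpb : ∀ k, IsPullback ((q : FSch.Hom _ _).app k) ((p : FSch.Hom _ _).app k) ((g : FSch.Hom _ _).app k)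
      ((f : FSch.Hom _ _).app k))
    (h𝔐 : 𝔐.IsCoh) {U : (𝔖.X 0).Opens} (hU : IsAffineOpen U) :
    Nonempty (PullRep.Chart (f := FSch.homMor g h𝔜'.1 h𝔖'.1)
      (gammaSq p f q g w hℨ'.1 h𝔛'.1 h𝔜'.1 h𝔖'.1 𝔐) U) := by
  classical
  have h𝔐' := isCoh_pullback p 𝔐 h𝔐
  have hW := FinitePush.isAffineOpen_pre f (isFiniteHom f hf) hU
  have := isNoetherianRing h𝔖' hU
  have := isNoetherianRing h𝔛' hW
  obtain ⟨n, s, hs⟩ := exists_span h𝔛' h𝔐 hW
  let S := shpR f h𝔛'.1 h𝔖'.1 U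
  let K : Submodule (RS h𝔖'.1 U) (Fin n → RS h𝔖'.1 U) :=
    { carrier := {a | ∑ i, S (a i) • s i = 0}
      add_mem' := fun {a c} ha hc => by
        simp only [Set.mem_setOf_eq, Pi.add_apply, map_add, add_smul, Finset.sum_add_distrib] at *
        rw [ha, hc, add_zero]
      zero_mem' := by simp
      smul_mem' := fun r a ha => by
        simp only [Set.mem_setOf_eq, Pi.smul_apply, smul_eq_mul, map_mul, mul_smul, ← Finset.smul_sum] at *
        rw [ha, smul_zero] }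
  obtain ⟨l, r, hr⟩ := Submodule.fg_iff_exists_fin_generating_family.1 (IsNoetherian.noetherian K)
  obtain ⟨l', r', hr'⟩ := Submodule.fg_iff_exists_fin_generating_family.1
    (IsNoetherian.noetherian (LinearMap.ker (Fintype.linearCombination (RS h𝔛'.1 (pre f U)) s)))
  choose lift hlift using fun j i => shpR_surjective f h𝔛' h𝔖' hf hU (r' j i)
  have hliftK : ∀ j, (fun i => lift j i) ∈ K := fun j => by
    have : r' j ∈ LinearMap.ker (Fintype.linearCombination (RS h𝔛'.1 (pre f U)) s) := hr' ▸ Submodule.subset_span ⟨j, rfl⟩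
    refine Eq.trans (Finset.sum_congr rfl fun i _ => ?_)
      ((Fintype.linearCombination_apply (RS h𝔛'.1 (pre f U)) s (r' j)).symm.trans this)
    rw [hlift]
  have hqV : ∀ {V : (𝔜.X 0).Opens}, IsAffineOpen V → IsAffineOpen (pre q V) := fun hV =>
    FinitePush.isAffineOpen_pre q (isFiniteHom q hq) hV
  have hspan : ∀ {V : (𝔜.X 0).Opens}, IsAffineOpen V → ∀ e : V ≤ pre g U,
      Submodule.span (RS hℨ'.1 (pre q V)) (Set.range fun i =>
        rs ((FSch.ModSys.pullback p 𝔐).realMod hℨ'.1) (le_pre p f q g w U e)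
          (gammaVal p hℨ'.1 h𝔛'.1 𝔐 (pre f U) (s i))) = ⊤ := by
    intro V hV e
    have := (h𝔐 0).1
    refine span_of_lev_zero hℨ' h𝔐' (hqV hV) _ ?_
    simp only [lev_rs_gammaVal]
    exact span_pull ((p : FSch.Hom ℨ 𝔛).app 0) (𝔐.F 0) (isAffineOpen_lvU h𝔛'.1 hW 0)
      (isAffineOpen_lvU hℨ'.1 (hqV hV) 0) (le_lvU p 0 (le_pre p f q g w U e)) _ (span_lev h𝔛' h𝔐 hW s hs 0)
  let G := (FSch.ModSys.pullback p 𝔐).realMod hℨ'.1
  have hmono : ∀ {V V' : (𝔜.X 0).Opens}, V' ≤ V → pre q V' ≤ pre q V := fun e =>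
    ((q : FSch.Hom ℨ 𝔜).app 0).preimage_mono e
  have hcomb : ∀ m : Sec (𝔐.realMod h𝔛'.1) (pre f U), ∃ c : Fin n → RS h𝔖'.1 U, m = ∑ i, S (c i) • s i := by
    intro m
    obtain ⟨c, hc⟩ := (Submodule.mem_span_range_iff_exists_fun _).1 (hs ▸ Submodule.mem_top : m ∈ _)
    choose c' hc' using fun i => shpR_surjective f h𝔛' h𝔖' hf hU (c i)
    exact ⟨c', hc.symm.trans (Finset.sum_congr rfl fun i _ => congrArg (· • s i) (hc' i).symm)⟩
  have hgen : ∀ (W : (𝔜.X 0).Opens) (hW' : W ≤ pre g U) (t : Sec G (pre q W)), ∀ x ∈ W,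
      ∃ (V : (𝔜.X 0).Opens) (hVW : V ≤ W), x ∈ V ∧ ∃ a : Fin n → RS h𝔜'.1 V,
        rs G (hmono hVW) t = ∑ i, shpR q hℨ'.1 h𝔜'.1 V (a i) •
          rs G (hmono (hVW.trans hW')) (gVal p f q g w hℨ'.1 h𝔛'.1 𝔐 U (s i)) := by
    intro W hW' t x hx
    obtain ⟨_, ⟨V, hVa, rfl⟩, hxV, hVW⟩ := (𝔜.X 0).isBasis_affineOpens.exists_subset_of_mem_open hx W.2
    have hVW : V ≤ W := hVW
    obtain ⟨a, ha⟩ := (Submodule.mem_span_range_iff_exists_fun _).1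
      (hspan hVa (hVW.trans hW') ▸ Submodule.mem_top : rs G (hmono hVW) t ∈ _)
    choose a' ha' using fun i => shpR_surjective q hℨ' h𝔜' hq hVa (a i)
    refine ⟨V, hVW, hxV, a', ha.symm.trans (Finset.sum_congr rfl fun i _ => ?_)⟩
    rw [← ha' i, ← rm_img (w := w) (h𝔛' := h𝔛') (hℨ' := hℨ') p f q g 𝔐 (hVW.trans hW') (s i)]
  have hrel : ∀ (W : (𝔜.X 0).Opens) (hW' : W ≤ pre g U) (a : Fin n → RS h𝔜'.1 W),
      ∑ i, shpR q hℨ'.1 h𝔜'.1 W (a i) • rs G (hmono hW') (gVal p f q g w hℨ'.1 h𝔛'.1 𝔐 U (s i)) = 0 →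
      ∀ x ∈ W, ∃ (V : (𝔜.X 0).Opens) (hVW : V ≤ W), x ∈ V ∧ ∃ c : Fin l → RS h𝔜'.1 V,
        ∀ i, resR h𝔜'.1 hVW (a i) = ∑ j, c j * resR h𝔜'.1 (hVW.trans hW') (shpR g h𝔜'.1 h𝔖'.1 U (r j i)) := by
    intro W hW' a ha x hx
    obtain ⟨_, ⟨V, hVa, rfl⟩, hxV, hVW⟩ := (𝔜.X 0).isBasis_affineOpens.exists_subset_of_mem_open hx W.2
    have hVW : V ≤ W := hVW
    let e := hVW.trans hW'
    let b : Fin n → RS h𝔜'.1 V := fun i => resR h𝔜'.1 hVW (a i)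
    let Q := shpR q hℨ'.1 h𝔜'.1 V
    let gU := (resR h𝔜'.1 e).comp (shpR g h𝔜'.1 h𝔖'.1 U)
    have hb : ∑ i, Q (b i) • rs G (le_pre p f q g w U e)
        (gammaVal p hℨ'.1 h𝔛'.1 𝔐 (pre f U) (s i)) = 0 := by
      have h1 := (congrArg (rs G (hmono hVW)) ha).trans (map_zero _)
      rw [map_sum] at h1
      refine Eq.trans (Finset.sum_congr rfl fun i _ => ?_) h1
      rw [← rm_img (w := w) (h𝔛' := h𝔛') (hℨ' := hℨ') p f q g 𝔐 e (s i), rs_smul, rs_rs]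
      exact congrArg (· • _) (FinitePush.res_shp q hℨ' h𝔜' hVW _ (a i)).symm
    obtain ⟨c, hc⟩ := (Submodule.mem_span_range_iff_exists_fun _).1
      (mem_span_relations p 𝔐 hℨ' h𝔛' h𝔐 hW (hqV hVa) (le_pre p f q g w U e) s hs r' hr' _ hb)
    choose c' hc' using fun j => shpR_surjective q hℨ' h𝔜' hq hVa (c j)
    let L : Submodule (RS h𝔜'.1 V) (Fin n → RS h𝔜'.1 V) :=
      Submodule.span _ (Set.range fun j => fun i => gU (r j i))
    have hK : ∀ v ∈ K, (fun i => gU (v i)) ∈ L := fun v hv => by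
      rw [← hr] at hv
      induction hv using Submodule.span_induction with
      | mem v hv => obtain ⟨j, rfl⟩ := hv; exact Submodule.subset_span ⟨j, rfl⟩
      | zero => simp only [Pi.zero_apply, map_zero]; exact zero_mem L
      | add v v' _ _ hv hv' => simp only [Pi.add_apply, map_add]; exact add_mem hv hv'
      | smul c v _ hv => simp only [Pi.smul_apply, smul_eq_mul, map_mul]; exact L.smul_mem (gU c) hv
    have hbL : b ∈ L := by
      have hd : ∀ i, Q (b i - ∑ j, c' j * gU (lift j i)) = 0 := fun i => by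
        rw [map_sub, sub_eq_zero, map_sum]
        refine (congrFun hc i).symm.trans ((Finset.sum_apply i _ _).trans (Finset.sum_congr rfl fun j _ => ?_))
        rw [map_mul, Pi.smul_apply, smul_eq_mul, hc' j]
        refine congrArg (c j * ·) ?_
        rw [← hlift j i, ← shpR_square f p q g w hℨ'.1 h𝔛'.1 h𝔜'.1 h𝔖'.1 e le_rfl (le_pre p f q g w U e) (lift j i)]
        exact resR_refl _
      have h2 : b = (∑ j, c' j • fun i => gU (lift j i)) + fun i => (b i - ∑ j, c' j * gU (lift j i)) := funext fun i => by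
        simp only [Pi.add_apply, Finset.sum_apply, Pi.smul_apply, smul_eq_mul, add_sub_cancel]
      rw [h2]
      refine add_mem (Submodule.sum_mem _ fun j _ => L.smul_mem _ (hK _ (hliftK j))) ?_
      rw [pi_eq_sum_univ' (fun i => (b i - ∑ j, c' j * gU (lift j i)))]
      refine Submodule.sum_mem _ fun i _ => ?_
      have h3 := mem_of_shpR_eq_zero f p q g h𝔛' h𝔖' h𝔜' hℨ'.1 hf hq hpb hU hVa e _ (hd i)
      suffices hsing : ∀ y ∈ (RingHom.ker (shpR f h𝔛'.1 h𝔖'.1 U)).map gU, y • (Pi.single i 1 : Fin n → RS h𝔜'.1 V) ∈ L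
        from hsing _ h3
      intro y hy
      refine Submodule.span_induction (fun y hy => ?_) (by rw [zero_smul]; exact zero_mem L)
        (fun y y' _ _ hy hy' => by rw [add_smul]; exact add_mem hy hy')
        (fun c y _ hy => by rw [smul_eq_mul, mul_smul]; exact L.smul_mem c hy) hy
      obtain ⟨z, hz, rfl⟩ := hy
      have h4 : (fun i' => gU ((Pi.single i z : Fin n → RS h𝔖'.1 U) i')) ∈ L := hK _ (by
        show ∑ i', S ((Pi.single i z : Fin n → RS h𝔖'.1 U) i') • s i' = 0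
        refine Finset.sum_eq_zero fun i' _ => ?_
        by_cases hi : i' = i
        · subst hi; rw [Pi.single_eq_same, show S z = 0 from hz, zero_smul]
        · rw [Pi.single_eq_of_ne hi, map_zero, zero_smul])
      convert h4 using 1
      funext i'
      by_cases hi : i' = i
      · subst hi; simp
      · simp [Pi.single_eq_of_ne hi]
    obtain ⟨d, hd⟩ := (Submodule.mem_span_range_iff_exists_fun _).1 hbL
    exact ⟨V, hVW, hxV, d, fun i =>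
      ((congrFun hd i).symm.trans (Finset.sum_apply i _ _)).trans (Finset.sum_congr rfl fun j _ => rfl)⟩
  exact ⟨{ n := n, l := l, s := s, r := r
           zero := fun j => (hr ▸ Submodule.subset_span ⟨j, rfl⟩ : r j ∈ K)
           comb := hcomb
           gen := hgen
           rel := hrel }⟩

/-- The comparison morphism is adjoint to an isomorphism. -/
theorem isIso_adjunct (hf : FSch.IsClosedImmHom f) (hq : FSch.IsClosedImmHom q)
    (hpb : ∀ k, IsPullback ((q : FSch.Hom _ _).app k) ((p : FSch.Hom _ _).app k) ((g : FSch.Hom _ _).app k)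
      ((f : FSch.Hom _ _).app k))
    (h𝔐 : 𝔐.IsCoh) :
    IsIso (((FSch.homMor g h𝔜'.1 h𝔖'.1).adj.homEquiv _ _).symm
      (gammaSq p f q g w hℨ'.1 h𝔛'.1 h𝔜'.1 h𝔖'.1 𝔐)) := by
  refine PullRep.isIso_adjunct (f := FSch.homMor g h𝔜'.1 h𝔖'.1)
    (γ := gammaSq p f q g w hℨ'.1 h𝔛'.1 h𝔜'.1 h𝔖'.1 𝔐)
    (B := {U : (𝔖.X 0).Opens | IsAffineOpen U})
    (fun U hU => (nonempty_chart (h𝔛' := h𝔛') (h𝔖' := h𝔖') (h𝔜' := h𝔜') (hℨ' := hℨ') p f q g w 𝔐 hf hq hpb h𝔐 (U := U) hU).some) (fun W₁ W₂ x _ _ h₁ h₂ => ?_)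
    (fun x => ?_) (fun U x hx => ?_)
  · obtain ⟨_, ⟨W, hW, rfl⟩, hxW, hle⟩ := (𝔖.X 0).isBasis_affineOpens.exists_subset_of_mem_open
      (show (g : FSch.Hom 𝔜 𝔖).app 0 x ∈ W₁ ⊓ W₂ from ⟨h₁, h₂⟩) (W₁ ⊓ W₂).2
    exact ⟨W, hW, fun y hy => (hle hy).1, fun y hy => (hle hy).2, hxW⟩
  · obtain ⟨_, ⟨W, hW, rfl⟩, hxW, -⟩ := (𝔖.X 0).isBasis_affineOpens.exists_subset_of_mem_open
      (Set.mem_univ ((g : FSch.Hom 𝔜 𝔖).app 0 x)) isOpen_univ
    exact ⟨W, hW, hxW⟩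
  · obtain ⟨_, ⟨W, hW, rfl⟩, hxW, hle⟩ := (𝔖.X 0).isBasis_affineOpens.exists_subset_of_mem_open hx U.2
    exact ⟨W, hW, hxW, hle⟩

theorem bcMap_comp {F : FSch.ModF 𝔛 h𝔛} (θ : F ⟶ 𝔐.realMod h𝔛) :
    FSch.bcMapF p f q g w hℨ h𝔛 h𝔜 h𝔖 F ≫
      (FSch.pushF q hℨ h𝔜).map (((FSch.homMor p hℨ h𝔛).adj.homEquiv _ _).symm (θ ≫ gamma p hℨ h𝔛 𝔐)) =
    ((FSch.homMor g h𝔜 h𝔖).adj.homEquiv _ _).symm
      ((FSch.pushF f h𝔛 h𝔖).map θ ≫ gammaSq p f q g w hℨ h𝔛 h𝔜 h𝔖 𝔐) :=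
  BcTranspose.bcMap_comp_eq (FSch.Hom.sharp_sq p f q g w hℨ h𝔛 h𝔜 h𝔖) F _ _ fun U i m =>
    (map_eq_rs ((FSch.ModSys.pullback p 𝔐).realMod hℨ) i
      (gammaVal p hℨ h𝔛 𝔐 (pre f U) (app θ (pre f U) m))).symm

end Groth.AdicLinTop.ClosedImmBc
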