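import Groth.Agent.AdicLinTop.ClosedImmRing
import Groth.Agent.AdicLinTop.FormalCoh
import Groth.Agent.AdicLinTop.BcTranspose
import Groth.Agent.AdicLinTop.SysPullback

/-!
# The comparison morphism of a commutative square of formal schemes
-/

set_option autoImplicit false

universe u

open CategoryTheory CategoryTheory.Limits AlgebraicGeometry TopologicalSpace Opposite

namespace Groth.AdicLinTop.ClosedImmBc

open Groth.AdicLinTop.FormalLevels Groth.AdicLinTop.FormalReal Groth.AdicLinTop.FormalAffine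
open Groth.AdicLinTop.FormalSpan Groth.AdicLinTop.FormalPullback Groth.AdicLinTop.PullLevels
open Groth.AdicLinTop.ClosedImmRing

variable {ℨ 𝔛 𝔜 𝔖 : FSch.Sys.{u}} (p : ℨ ⟶ 𝔛) (f : 𝔛 ⟶ 𝔖) (q : ℨ ⟶ 𝔜) (g : 𝔜 ⟶ 𝔖) (w : p ≫ f = q ≫ g)
  (hℨ : ℨ.IsFormal) (h𝔛 : 𝔛.IsFormal) (h𝔜 : 𝔜.IsFormal) (h𝔖 : 𝔖.IsFormal) (𝔐 : FSch.ModSys 𝔛)

theorem map_eq_rs {𝔗 : FSch.Sys.{u}} {h : 𝔗.IsFormal} (M : FSch.ModF 𝔗 h) {U V : (𝔗.X 0).Opens} (i : V ⟶ U)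
    (x : Sec M U) : M.val.map i.op x = rs M i.le x :=
  congrArg (fun t : V ⟶ U => M.val.map t.op x) (Subsingleton.elim i (homOfLE i.le))

theorem resR_refl {𝔗 : FSch.Sys.{u}} {h : 𝔗.IsFormal} {U : (𝔗.X 0).Opens} (a : RS h U) :
    resR h (le_refl U) a = a :=
  Groth.SitesTopoi.ModH.rsR_id a

include w in
theorem le_pre (U : (𝔖.X 0).Opens) {V : (𝔜.X 0).Opens} (e : V ≤ pre g U) :
    pre q V ≤ pre p (pre f U) :=
  (((q : FSch.Hom _ _).app 0).preimage_mono e).trans (FSch.Hom.sq_preimage p f q g w U).ge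

/-- The value of the comparison morphism of the square. -/
noncomputable def gVal (U : (𝔖.X 0).Opens) (m : Sec (𝔐.realMod h𝔛) (pre f U)) :
    Sec ((FSch.ModSys.pullback p 𝔐).realMod hℨ) (pre q (pre g U)) :=
  rs ((FSch.ModSys.pullback p 𝔐).realMod hℨ) (le_pre p f q g w U le_rfl) (gammaVal p hℨ h𝔛 𝔐 (pre f U) m)

theorem gVal_add (U : (𝔖.X 0).Opens) (m m' : Sec (𝔐.realMod h𝔛) (pre f U)) :
    gVal p f q g w hℨ h𝔛 𝔐 U (m + m') = gVal p f q g w hℨ h𝔛 𝔐 U m + gVal p f q g w hℨ h𝔛 𝔐 U m' := by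
  unfold gVal
  rw [gammaVal_add, map_add]

theorem gVal_rs {U U' : (𝔖.X 0).Opens} (e : U' ≤ U) (m : Sec (𝔐.realMod h𝔛) (pre f U)) :
    gVal p f q g w hℨ h𝔛 𝔐 U' (rs (𝔐.realMod h𝔛) (((f : FSch.Hom 𝔛 𝔖).app 0).preimage_mono e) m) =
      rs ((FSch.ModSys.pullback p 𝔐).realMod hℨ)
        (((q : FSch.Hom ℨ 𝔜).app 0).preimage_mono (((g : FSch.Hom 𝔜 𝔖).app 0).preimage_mono e))
        (gVal p f q g w hℨ h𝔛 𝔐 U m) := by
  unfold gVal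
  rw [gammaVal_rs, rs_rs, rs_rs]

theorem gVal_smul (U : (𝔖.X 0).Opens) (a : RS h𝔖 U) (m : Sec (𝔐.realMod h𝔛) (pre f U)) :
    gVal p f q g w hℨ h𝔛 𝔐 U (shpR f h𝔛 h𝔖 U a • m) =
      shpR q hℨ h𝔜 (pre g U) (shpR g h𝔜 h𝔖 U a) • gVal p f q g w hℨ h𝔛 𝔐 U m := by
  unfold gVal
  rw [gammaVal_smul, rs_smul, ← shpR_square f p q g w hℨ h𝔛 h𝔜 h𝔖 le_rfl le_rfl (le_pre p f q g w U le_rfl) a,
    resR_refl, resR_refl]

/-- The comparison morphism of the square. -/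
noncomputable def gammaSq :
    (FSch.pushF f h𝔛 h𝔖).obj (𝔐.realMod h𝔛) ⟶
      (FSch.pushF g h𝔜 h𝔖).obj ((FSch.pushF q hℨ h𝔜).obj ((FSch.ModSys.pullback p 𝔐).realMod hℨ)) :=
  ⟨PresheafOfModules.homMk
    { app := fun U => AddCommGrpCat.ofHom (AddMonoidHom.mk' (fun m => gVal p f q g w hℨ h𝔛 𝔐 U.unop m) fun m m' =>
        gVal_add p f q g w hℨ h𝔛 𝔐 U.unop m m')
      naturality := fun U U' i => by
        ext m
        exact gVal_rs p f q g w hℨ h𝔛 𝔐 i.unop.le m }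
    fun U a m => gVal_smul p f q g w hℨ h𝔛 h𝔜 h𝔖 𝔐 U.unop a m⟩

end Groth.AdicLinTop.ClosedImmBc
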