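import Groth.Agent.AdicLinTop.PullLevels
import Groth.Agent.AdicLinTop.PullRep
import Groth.Agent.QCohMod.PullbackQCoh
import Groth.Agent.QCohMod.Coherent

/-!
# Inverse images of realisations along morphisms of locally Noetherian formal systems
-/

set_option autoImplicit false

universe u

open CategoryTheory CategoryTheory.Limits AlgebraicGeometry TopologicalSpace Opposite

namespace Groth.AdicLinTop.FormalPullback

open Groth.AdicLinTop.FormalLevels Groth.AdicLinTop.FormalReal Groth.AdicLinTop.FormalAffine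
open Groth.AdicLinTop.FormalSpan Groth.AdicLinTop.ComplReal Groth.AdicLinTop.PullLevels
open Groth.QCohMod (res resFun res_res res_smul res_app res_self resFun_resFun)
open Groth.PicAux (pullSec pullSec_smul res_pullSec)

variable {𝔛 𝔜 : FSch.Sys.{u}} (φ : 𝔛 ⟶ 𝔜) {h : 𝔛.IsFormal} {h' : 𝔜.IsFormal} (𝔐 : FSch.ModSys 𝔜)

/-- The preimage of an open of the smallest level. -/
noncomputable abbrev pre (U : (𝔜.X 0).Opens) : (𝔛.X 0).Opens := (φ : FSch.Hom 𝔛 𝔜).app 0 ⁻¹ᵁ U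

variable (h h') in
/-- The map of structure sheaves on sections. -/
noncomputable abbrev shpR (U : (𝔜.X 0).Opens) : RS h' U →+* RS h (pre φ U) :=
  ((FSch.Hom.sharp φ h h').hom.app (op U)).hom

theorem projR_shpR (k : ℕ) (U : (𝔜.X 0).Opens) (a : RS h' U) :
    projR k (pre φ U) (shpR φ h h' U a) =
      ((φ : FSch.Hom 𝔛 𝔜).app k).appLE _ _ (le_lvU φ k (le_refl (pre φ U))) (projR k U a) :=
  congr(($(FSch.Hom.sharp_proj φ h h' k)).hom.app (op U) a)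

theorem projR_resR_shpR (k : ℕ) (U : (𝔜.X 0).Opens) {V : (𝔛.X 0).Opens} (e : V ≤ pre φ U) (a : RS h' U) :
    projR k V (resR h e (shpR φ h h' U a)) =
      ((φ : FSch.Hom 𝔛 𝔜).app k).appLE _ _ (le_lvU φ k e) (projR k U a) := by
  rw [projR_resR, projR_shpR]
  exact congr($(Scheme.Hom.appLE_map ((φ : FSch.Hom 𝔛 𝔜).app k) (le_lvU φ k (le_refl (pre φ U)))
    (homOfLE (lvU_mono h k e)).op) (projR k U a))

variable (h h') in
/-- The family of the images of a section at the levels. -/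
noncomputable def pevAt (U : (𝔜.X 0).Opens) (x : Sec (𝔐.realMod h') U) :
    ∀ k, Γ((FSch.ModSys.pullback φ 𝔐).F k, 𝔛.lvU h k (pre φ U)) :=
  fun k => pev (h := h) φ 𝔐 k le_rfl (lev h' 𝔐 k U x)

theorem pevAt_apply (U : (𝔜.X 0).Opens) (x : Sec (𝔐.realMod h') U) (k : ℕ) :
    pevAt φ h h' 𝔐 U x k = pev (h := h) φ 𝔐 k le_rfl (lev h' 𝔐 k U x) := rfl

theorem trans_pevAt (U : (𝔜.X 0).Opens) (x : Sec (𝔐.realMod h') U) (k : ℕ) :
    pushEquiv k _ (pre φ U) (app (trans h (FSch.ModSys.pullback φ 𝔐) k) (pre φ U)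
      ((pushEquiv (k + 1) _ (pre φ U)).symm (pevAt φ h h' 𝔐 U x (k + 1)))) = pevAt φ h h' 𝔐 U x k := by
  rw [pevAt_apply, pevAt_apply, trans_pev, trans_lev]

variable (h h') in
theorem exists_gammaVal (U : (𝔜.X 0).Opens) (x : Sec (𝔐.realMod h') U) :
    ∃ y : Sec ((FSch.ModSys.pullback φ 𝔐).realMod h) (pre φ U),
      ∀ k, lev h (FSch.ModSys.pullback φ 𝔐) k _ y = pevAt φ h h' 𝔐 U x k :=
  exists_lev (pevAt φ h h' 𝔐 U x) (trans_pevAt φ 𝔐 U x)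

variable (h h') in
/-- The value of the canonical morphism. -/
noncomputable def gammaVal (U : (𝔜.X 0).Opens) (x : Sec (𝔐.realMod h') U) :
    Sec ((FSch.ModSys.pullback φ 𝔐).realMod h) (pre φ U) :=
  (exists_gammaVal φ h h' 𝔐 U x).choose

theorem lev_gammaVal (U : (𝔜.X 0).Opens) (x : Sec (𝔐.realMod h') U) (k : ℕ) :
    lev h (FSch.ModSys.pullback φ 𝔐) k _ (gammaVal φ h h' 𝔐 U x) = pev (h := h) φ 𝔐 k le_rfl (lev h' 𝔐 k U x) :=
  ((exists_gammaVal φ h h' 𝔐 U x).choose_spec k).trans (pevAt_apply φ 𝔐 U x k)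

theorem lev_add {𝔷 : FSch.Sys.{u}} {h₀ : 𝔷.IsFormal} (𝔑 : FSch.ModSys 𝔷) (k : ℕ) (U : (𝔷.X 0).Opens)
    (x y : Sec (𝔑.realMod h₀) U) : lev h₀ 𝔑 k U (x + y) = lev h₀ 𝔑 k U x + lev h₀ 𝔑 k U y := by
  rw [lev, map_add, map_add]
  rfl

theorem lev_rs_gammaVal (k : ℕ) (U : (𝔜.X 0).Opens) {V : (𝔛.X 0).Opens} (e : V ≤ pre φ U)
    (x : Sec (𝔐.realMod h') U) :
    lev h (FSch.ModSys.pullback φ 𝔐) k V (rs ((FSch.ModSys.pullback φ 𝔐).realMod h) e (gammaVal φ h h' 𝔐 U x)) =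
      pev (h := h) φ 𝔐 k e (lev h' 𝔐 k U x) := by
  rw [lev_rs, lev_gammaVal]
  exact (pev_res φ 𝔐 k le_rfl e le_rfl e (lev h' 𝔐 k U x)).symm.trans
    (congrArg (pev (h := h) φ 𝔐 k e) (res_self (𝔐.F k) _))

theorem gammaVal_add (U : (𝔜.X 0).Opens) (x y : Sec (𝔐.realMod h') U) :
    gammaVal φ h h' 𝔐 U (x + y) = gammaVal φ h h' 𝔐 U x + gammaVal φ h h' 𝔐 U y :=
  lev_ext_gen fun k => by
    rw [lev_gammaVal, lev_add, lev_add, pev_add, lev_gammaVal, lev_gammaVal]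

theorem gammaVal_rs {U U' : (𝔜.X 0).Opens} (e : U' ≤ U) (x : Sec (𝔐.realMod h') U) :
    gammaVal φ h h' 𝔐 U' (rs (𝔐.realMod h') e x) =
      rs ((FSch.ModSys.pullback φ 𝔐).realMod h) (((φ : FSch.Hom 𝔛 𝔜).app 0).preimage_mono e)
        (gammaVal φ h h' 𝔐 U x) :=
  lev_ext_gen fun k => by
    rw [lev_gammaVal, lev_rs_gammaVal, lev_rs]
    exact (pev_res φ 𝔐 k (((φ : FSch.Hom 𝔛 𝔜).app 0).preimage_mono e) le_rfl e le_rfl
      (lev h' 𝔐 k U x)).trans (res_self _ _)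

theorem gammaVal_smul (U : (𝔜.X 0).Opens) (a : RS h' U) (x : Sec (𝔐.realMod h') U) :
    gammaVal φ h h' 𝔐 U (a • x) = shpR φ h h' U a • gammaVal φ h h' 𝔐 U x :=
  lev_ext_gen fun k => by
    rw [lev_gammaVal, lev_smul, lev_smul, pev_smul, lev_gammaVal, projR_shpR]

variable (h h') in
/-- The canonical morphism from a realisation to the direct image of the realisation of the inverse image. -/
noncomputable def gamma :
    𝔐.realMod h' ⟶ (FSch.pushF φ h h').obj ((FSch.ModSys.pullback φ 𝔐).realMod h) :=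
  ⟨PresheafOfModules.homMk
    { app := fun U => AddCommGrpCat.ofHom (AddMonoidHom.mk' (fun x => gammaVal φ h h' 𝔐 U.unop x) fun x y =>
        gammaVal_add φ 𝔐 U.unop x y)
      naturality := fun U U' i => by
        ext x
        exact gammaVal_rs φ 𝔐 i.unop.le x }
    fun U a x => gammaVal_smul φ 𝔐 U.unop a x⟩

variable (h𝔛 : 𝔛.IsLocNoethFormal) (h𝔜 : 𝔜.IsLocNoethFormal) (h𝔐 : 𝔐.IsCoh)

include h𝔐 in
theorem isCoh_pullback : (FSch.ModSys.pullback φ 𝔐).IsCoh := fun k =>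
  have := (h𝔐 k).1
  ⟨Groth.QCohMod.isQCoh_pullback_obj _ _, Groth.QCohMod.isFT_pullback _ _ (h𝔐 k).2⟩

include h𝔛 h𝔜 h𝔐 in
/-- Relations among the images over an affine open come from relations. -/
theorem mem_span_relations {U : (𝔜.X 0).Opens} (hU : IsAffineOpen U) {V : (𝔛.X 0).Opens} (hV : IsAffineOpen V)
    (e : V ≤ pre φ U) {n l : ℕ} (s : Fin n → Sec (𝔐.realMod h𝔜.1) U)
    (hs : Submodule.span (RS h𝔜.1 U) (Set.range s) = ⊤) (r : Fin l → Fin n → RS h𝔜.1 U)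
    (hr : Submodule.span (RS h𝔜.1 U) (Set.range r) = LinearMap.ker (Fintype.linearCombination (RS h𝔜.1 U) s))
    (b : Fin n → RS h𝔛.1 V)
    (hb : ∑ i, b i • rs ((FSch.ModSys.pullback φ 𝔐).realMod h𝔛.1) e (gammaVal φ h𝔛.1 h𝔜.1 𝔐 U (s i)) = 0) :
    b ∈ Submodule.span (RS h𝔛.1 V)
      (Set.range fun j => fun i => resR h𝔛.1 e (shpR φ h𝔛.1 h𝔜.1 U (r j i))) := by
  classical
  have := isNoetherianRing h𝔛 hV
  obtain ⟨-, hpU, -⟩ := FormalLevels.adic h𝔜 hU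
  obtain ⟨-, hpV, -⟩ := FormalLevels.adic h𝔛 hV
  refine mem_of_forall_mem_sup h𝔛 hV _ fun k => ?_
  have := (h𝔐 k).1
  let S : Submodule (RS h𝔛.1 V) (Fin n → RS h𝔛.1 V) := Submodule.span (RS h𝔛.1 V)
    (Set.range fun j => fun i => resR h𝔛.1 e (shpR φ h𝔛.1 h𝔜.1 U (r j i)))
  let A := ((φ : FSch.Hom 𝔛 𝔜).app k).appLE (𝔜.lvU h𝔜.1 k U) (𝔛.lvU h𝔛.1 k V) (le_lvU φ k e)
  suffices key : ∀ w, w ∈ Submodule.span Γ(𝔛.X k, 𝔛.lvU h𝔛.1 k V)
      ((fun a : Fin n → Γ(𝔜.X k, 𝔜.lvU h𝔜.1 k U) => fun i => A (a i)) ''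
        {a | ∑ i, a i • lev h𝔜.1 𝔐 k U (s i) = 0}) →
      ∃ v ∈ S, (fun i => projR k V (v i)) = w by
    have h0 : ∑ i, projR k V (b i) • pev (h := h𝔛.1) φ 𝔐 k e (lev h𝔜.1 𝔐 k U (s i)) = 0 := by
      have e' := congrArg (lev h𝔛.1 (FSch.ModSys.pullback φ 𝔐) k V) hb
      rw [lev_sum, show lev h𝔛.1 (FSch.ModSys.pullback φ 𝔐) k V 0 = 0 by rw [lev, map_zero, map_zero]] at e'
      refine Eq.trans (Finset.sum_congr rfl fun i _ => ?_) e'
      rw [lev_smul, lev_rs_gammaVal]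
    obtain ⟨v, hv, hvw⟩ := key _ (rel_pull ((φ : FSch.Hom 𝔛 𝔜).app k) (𝔐.F k) (isAffineOpen_lvU h𝔜.1 hU k)
      (isAffineOpen_lvU h𝔛.1 hV k) (le_lvU φ k e) _ (span_lev h𝔜 h𝔐 hU s hs k) _ h0)
    refine Submodule.mem_sup.2 ⟨v, hv, b - v, mem_smul_top_of_apply_mem _ fun i => ?_, add_sub_cancel _ _⟩
    rw [mem_pow_iff h𝔛 hV k]
    exact (map_sub _ _ _).trans (sub_eq_zero.2 (congrFun hvw i).symm)
  intro w hw
  induction hw using Submodule.span_induction with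
  | zero => exact ⟨0, zero_mem _, funext fun i => map_zero _⟩
  | add x y _ _ hx hy =>
    obtain ⟨v, hv, rfl⟩ := hx
    obtain ⟨t, ht, rfl⟩ := hy
    exact ⟨v + t, add_mem hv ht, funext fun i => map_add _ _ _⟩
  | smul c x _ hx =>
    obtain ⟨v, hv, rfl⟩ := hx
    obtain ⟨c, rfl⟩ := (hpV k).1 c
    exact ⟨c • v, S.smul_mem c hv, funext fun i => map_mul _ _ _⟩
  | mem x hx =>
    obtain ⟨a, ha, rfl⟩ := hx
    choose c hc using fun i => (hpU k).1 (a i)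
    have h0 : lev h𝔜.1 𝔐 k U (∑ i, c i • s i) = 0 := by
      rw [lev_sum]
      refine Eq.trans (Finset.sum_congr rfl fun i _ => ?_) ha
      rw [lev_smul, show projR k U (c i) = a i from hc i]
    rw [lev_eq_zero_iff h𝔜 h𝔐 hU k, ← hs, ← Fintype.range_linearCombination, LinearMap.range_eq_map,
      ← Submodule.map_smul''] at h0
    obtain ⟨d, hd, hdc⟩ := h0
    have hcd : c - d ∈ Submodule.span (RS h𝔜.1 U) (Set.range r) := by
      rw [hr, LinearMap.mem_ker, map_sub, sub_eq_zero, Fintype.linearCombination_apply]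
      exact hdc.symm
    obtain ⟨g, hg⟩ := (Submodule.mem_span_range_iff_exists_fun _).1 hcd
    refine ⟨fun i => resR h𝔛.1 e (shpR φ h𝔛.1 h𝔜.1 U (c i - d i)), ?_, funext fun i => ?_⟩
    · refine (Submodule.mem_span_range_iff_exists_fun _).2
        ⟨fun j => resR h𝔛.1 e (shpR φ h𝔛.1 h𝔜.1 U (g j)), funext fun i => ?_⟩
      simp only [Finset.sum_apply, Pi.smul_apply, smul_eq_mul]
      rw [← show ∑ j, g j * r j i = c i - d i from (Finset.sum_apply i _ _).symm.trans (congrFun hg i), map_sum, map_sum]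
      exact Finset.sum_congr rfl fun j _ => by rw [map_mul, map_mul]
    · refine (projR_resR_shpR φ k U e (c i - d i)).trans (congrArg A ?_)
      have hd' : projR k U (d i) = 0 := (mem_pow_iff h𝔜 hU k _).1 (apply_mem_of_mem_smul_top _ hd i)
      rw [show projR k U (c i - d i) = projR k U (c i) - projR k U (d i) from map_sub _ _ _, hd', sub_zero]
      exact hc i

include h𝔛 h𝔜 h𝔐 in
/-- Generators and relations over an affine open. -/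
theorem nonempty_chart {U : (𝔜.X 0).Opens} (hU : IsAffineOpen U) :
    Nonempty (PullRep.Chart (f := FSch.homMor φ h𝔛.1 h𝔜.1) (gamma φ h𝔛.1 h𝔜.1 𝔐) U) := by
  classical
  have h𝔐' := isCoh_pullback φ 𝔐 h𝔐
  have := isNoetherianRing h𝔜 hU
  obtain ⟨n, s, hs⟩ := exists_span h𝔜 h𝔐 hU
  obtain ⟨l, r, hr⟩ := Submodule.fg_iff_exists_fin_generating_family.1
    (IsNoetherian.noetherian (LinearMap.ker (Fintype.linearCombination (RS h𝔜.1 U) s)))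
  have hspan : ∀ {V : (𝔛.X 0).Opens}, IsAffineOpen V → ∀ e : V ≤ pre φ U,
      Submodule.span (RS h𝔛.1 V) (Set.range fun i =>
        rs ((FSch.ModSys.pullback φ 𝔐).realMod h𝔛.1) e (gammaVal φ h𝔛.1 h𝔜.1 𝔐 U (s i))) = ⊤ := by
    intro V hV e
    have := (h𝔐 0).1
    refine span_of_lev_zero h𝔛 h𝔐' hV _ ?_
    simp only [lev_rs_gammaVal]
    exact span_pull ((φ : FSch.Hom 𝔛 𝔜).app 0) (𝔐.F 0) (isAffineOpen_lvU h𝔜.1 hU 0) (isAffineOpen_lvU h𝔛.1 hV 0)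
      (le_lvU φ 0 e) _ (span_lev h𝔜 h𝔐 hU s hs 0)
  refine ⟨{ n := n, l := l, s := s, r := r, zero := fun j => ?_, comb := fun m => ?_, gen := ?_, rel := ?_ }⟩
  · have : r j ∈ LinearMap.ker (Fintype.linearCombination (RS h𝔜.1 U) s) := hr ▸ Submodule.subset_span ⟨j, rfl⟩
    exact (Fintype.linearCombination_apply (RS h𝔜.1 U) s (r j)).symm.trans this
  · obtain ⟨c, hc⟩ := (Submodule.mem_span_range_iff_exists_fun _).1 (hs ▸ Submodule.mem_top : m ∈ _)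
    exact ⟨c, hc.symm⟩
  · intro W hW t x hx
    obtain ⟨_, ⟨V, hVa, rfl⟩, hxV, hVW⟩ := (𝔛.X 0).isBasis_affineOpens.exists_subset_of_mem_open hx W.2
    have hVW : V ≤ W := hVW
    obtain ⟨a, ha⟩ := (Submodule.mem_span_range_iff_exists_fun _).1
      (hspan hVa (hVW.trans hW) ▸ Submodule.mem_top :
        rs ((FSch.ModSys.pullback φ 𝔐).realMod h𝔛.1) hVW t ∈ _)
    exact ⟨V, hVW, hxV, a, ha.symm⟩
  · intro W hW a ha x hx
    obtain ⟨_, ⟨V, hVa, rfl⟩, hxV, hVW⟩ := (𝔛.X 0).isBasis_affineOpens.exists_subset_of_mem_open hx W.2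
    have hVW : V ≤ W := hVW
    have hb : ∑ i, resR h𝔛.1 hVW (a i) • rs ((FSch.ModSys.pullback φ 𝔐).realMod h𝔛.1) (hVW.trans hW)
        (gammaVal φ h𝔛.1 h𝔜.1 𝔐 U (s i)) = 0 := by
      have := congrArg (rs ((FSch.ModSys.pullback φ 𝔐).realMod h𝔛.1) hVW) ha
      rw [map_sum, map_zero] at this
      refine Eq.trans (Finset.sum_congr rfl fun i _ => ?_) this
      exact ((rs_smul _ hVW (a i) _).trans (congrArg _ (rs_rs _ hW hVW (gammaVal φ h𝔛.1 h𝔜.1 𝔐 U (s i))))).symm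
    obtain ⟨c, hc⟩ := (Submodule.mem_span_range_iff_exists_fun _).1
      (mem_span_relations φ 𝔐 h𝔛 h𝔜 h𝔐 hU hVa (hVW.trans hW) s hs r hr _ hb)
    refine ⟨V, hVW, hxV, c, fun i => ?_⟩
    exact ((congrFun hc i).symm.trans (Finset.sum_apply i _ _)).trans (Finset.sum_congr rfl fun j _ => rfl)

include h𝔛 h𝔜 h𝔐 in
theorem isIso_gamma_adjunct :
    IsIso (((FSch.homMor φ h𝔛.1 h𝔜.1).adj.homEquiv _ _).symm (gamma φ h𝔛.1 h𝔜.1 𝔐)) := by
  refine PullRep.isIso_adjunct (f := FSch.homMor φ h𝔛.1 h𝔜.1) (γ := gamma φ h𝔛.1 h𝔜.1 𝔐)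
    (B := {U : (𝔜.X 0).Opens | IsAffineOpen U})
    (fun U hU => (nonempty_chart φ 𝔐 h𝔛 h𝔜 h𝔐 (U := U) hU).some) (fun W₁ W₂ x _ _ h₁ h₂ => ?_) (fun x => ?_)
    (fun U x hx => ?_)
  · obtain ⟨_, ⟨W, hW, rfl⟩, hxW, hle⟩ := (𝔜.X 0).isBasis_affineOpens.exists_subset_of_mem_open
      (show (φ : FSch.Hom 𝔛 𝔜).app 0 x ∈ W₁ ⊓ W₂ from ⟨h₁, h₂⟩) (W₁ ⊓ W₂).2
    exact ⟨W, hW, fun y hy => (hle hy).1, fun y hy => (hle hy).2, hxW⟩
  · obtain ⟨_, ⟨W, hW, rfl⟩, hxW, -⟩ := (𝔜.X 0).isBasis_affineOpens.exists_subset_of_mem_open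
      (Set.mem_univ ((φ : FSch.Hom 𝔛 𝔜).app 0 x)) isOpen_univ
    exact ⟨W, hW, hxW⟩
  · obtain ⟨_, ⟨W, hW, rfl⟩, hxW, hle⟩ := (𝔜.X 0).isBasis_affineOpens.exists_subset_of_mem_open hx U.2
    exact ⟨W, hW, hxW, hle⟩

theorem res_back {Z : Scheme.{u}} (M : Z.Modules) {A B : Z.Opens} (e₁ : B ≤ A) (e₂ : A ≤ B) (m : Γ(M, A)) :
    res M e₂ (res M e₁ m) = m := by rw [res_res, res_self]

theorem gamma_proj (k : ℕ) :
    gamma φ h h' 𝔐 ≫ (FSch.pushF φ h h').map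
        (FSch.realProj 𝔛 h (FSch.ModSys.pullback φ 𝔐).F (FSch.ModSys.pullback φ 𝔐).toPush k) ≫
        (FSch.lvPushSq φ h h' k).hom.app ((FSch.ModSys.pullback φ 𝔐).F k) =
      FSch.realProj 𝔜 h' 𝔐.F 𝔐.toPush k ≫ (FSch.levelMor 𝔜 h' k).push.map
        ((ModSite.RMor.ofScheme ((φ : FSch.Hom 𝔛 𝔜).app k)).adj.unit.app (𝔐.F k)) :=
  SheafOfModules.hom_ext (Groth.SitesTopoi.ModH.pm_hom_ext fun U x =>
    (congrArg (res ((FSch.ModSys.pullback φ 𝔐).F k) (FSch.Hom.lvU_preimage φ h h' k U).le)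
      (lev_gammaVal φ 𝔐 U x k)).trans (res_back _ _ _ _))

include h𝔛 h𝔜 h𝔐 in
theorem exists_iso :
    ∃ e : (FSch.pullF φ h𝔛.1 h𝔜.1).obj (𝔐.realMod h𝔜.1) ≅ (FSch.ModSys.pullback φ 𝔐).realMod h𝔛.1,
      ∀ k : ℕ, (FSch.homMor φ h𝔛.1 h𝔜.1).adj.homEquiv _ _ e.hom ≫
          (FSch.pushF φ h𝔛.1 h𝔜.1).map (FSch.realProj 𝔛 h𝔛.1 _ _ k) ≫
          (FSch.lvPushSq φ h𝔛.1 h𝔜.1 k).hom.app ((FSch.ModSys.pullback φ 𝔐).F k) =
        FSch.realProj 𝔜 h𝔜.1 _ _ k ≫ (FSch.levelMor 𝔜 h𝔜.1 k).push.map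
          ((ModSite.RMor.ofScheme ((φ : FSch.Hom 𝔛 𝔜).app k)).adj.unit.app (𝔐.F k)) :=
  have := isIso_gamma_adjunct φ 𝔐 h𝔛 h𝔜 h𝔐
  ⟨asIso (((FSch.homMor φ h𝔛.1 h𝔜.1).adj.homEquiv _ _).symm (gamma φ h𝔛.1 h𝔜.1 𝔐)), fun k =>
    (congrArg (· ≫ _) (Equiv.apply_symm_apply ((FSch.homMor φ h𝔛.1 h𝔜.1).adj.homEquiv _ _)
      (gamma φ h𝔛.1 h𝔜.1 𝔐))).trans (gamma_proj φ 𝔐 k)⟩

end Groth.AdicLinTop.FormalPullback
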