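import Groth.Agent.AdicLinTop.FinitePush
import Groth.Agent.AdicLinTop.FormalPullback
import Groth.Agent.S5737

/-!
# Closed immersions of formal schemes on rings of sections, and their base change
-/

set_option autoImplicit false

universe u

open CategoryTheory CategoryTheory.Limits AlgebraicGeometry TopologicalSpace Opposite

namespace Groth.AdicLinTop.ClosedImmRing

open Groth.AdicLinTop.FormalLevels Groth.AdicLinTop.FormalReal Groth.AdicLinTop.FormalAffine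
open Groth.AdicLinTop.FormalPullback Groth.AdicLinTop.PullLevels

variable {𝔛 𝔖 : FSch.Sys.{u}} (f : 𝔛 ⟶ 𝔖) (h𝔛 : 𝔛.IsLocNoethFormal) (h𝔖 : 𝔖.IsLocNoethFormal)
  (hf : FSch.IsClosedImmHom f) {U : (𝔖.X 0).Opens}

include hf in
theorem isFiniteHom : FSch.IsFiniteHom f :=
  haveI := hf.2
  ⟨hf.1, inferInstance⟩

include hf in
theorem shpR_surjective (hU : IsAffineOpen U) : Function.Surjective (shpR f h𝔛.1 h𝔖.1 U) := by
  have hW := FinitePush.isAffineOpen_pre f (isFiniteHom f hf) hU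
  have := hf.2
  haveI := (FormalLevels.adic h𝔖 hU).1
  haveI : IsHausdorff ((idl h𝔖.1 U).map (shpR f h𝔛.1 h𝔖.1 U)) (RS h𝔛.1 (pre f U)) := by
    rw [show (idl h𝔖.1 U).map (shpR f h𝔛.1 h𝔖.1 U) = idl h𝔛.1 (pre f U) from
      FinitePush.map_idl f h𝔛 h𝔖 (isFiniteHom f hf) hU]
    exact (FormalLevels.adic h𝔛 hW).1.toIsHausdorff
  have hgen : ∀ v : RS h𝔛.1 (pre f U), ∃ c : Fin 1 → RS h𝔖.1 U,
      v - ∑ i, shpR f h𝔛.1 h𝔖.1 U (c i) * (fun _ : Fin 1 => (1 : RS h𝔛.1 (pre f U))) i ∈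
        (idl h𝔖.1 U).map (shpR f h𝔛.1 h𝔖.1 U) := fun v => by
    obtain ⟨y, hy⟩ := ((bijective_res (le_lvU f 0 (le_refl (pre f U)))
      (FSch.Hom.lvU_preimage f h𝔛.1 h𝔖.1 0 U).le).2.comp
      (((f : FSch.Hom 𝔛 𝔖).app 0).app_surjective _ (isAffineOpen_lvU h𝔖.1 hU 0))) (projR 0 (pre f U) v)
    obtain ⟨c, rfl⟩ := ((FormalLevels.adic h𝔖 hU).2.1 0).1 y
    refine ⟨fun _ => c, ?_⟩
    rw [show (idl h𝔖.1 U).map (shpR f h𝔛.1 h𝔖.1 U) = idl h𝔛.1 (pre f U) from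
      FinitePush.map_idl f h𝔛 h𝔖 (isFiniteHom f hf) hU, Fin.sum_univ_one, mul_one]
    exact (map_sub _ _ _).trans (sub_eq_zero.2 (hy.symm.trans (projR_shpR f 0 U c).symm))
  intro v
  obtain ⟨c, hc⟩ := FiniteAdicAlg.gen_of_gen_mod (shpR f h𝔛.1 h𝔖.1 U) (idl h𝔖.1 U)
    (fun _ : Fin 1 => (1 : RS h𝔛.1 (pre f U))) hgen v
  exact ⟨c 0, by rw [hc, Fin.sum_univ_one, mul_one]⟩

variable {ℨ 𝔜 : FSch.Sys.{u}} (p : ℨ ⟶ 𝔛) (q : ℨ ⟶ 𝔜) (g : 𝔜 ⟶ 𝔖) (w : p ≫ f = q ≫ g) (hℨ : ℨ.IsFormal)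

include w in
/-- The square of rings of sections commutes. -/
theorem shpR_square (h𝔛' : 𝔛.IsFormal) (h𝔜 : 𝔜.IsFormal) (h𝔖' : 𝔖.IsFormal) {U : (𝔖.X 0).Opens}
    {V : (𝔜.X 0).Opens} (e : V ≤ pre g U) {V' : (ℨ.X 0).Opens} (e₁ : V' ≤ pre q V)
    (e₂ : V' ≤ pre p (pre f U)) (a : RS h𝔖' U) :
    resR hℨ e₁ (shpR q hℨ h𝔜 V (resR h𝔜 e (shpR g h𝔜 h𝔖' U a))) =
      resR hℨ e₂ (shpR p hℨ h𝔛' (pre f U) (shpR f h𝔛' h𝔖' U a)) := by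
  refine sub_eq_zero.1 (sec_eq_zero hℨ fun k => (map_sub _ _ _).trans (sub_eq_zero.2 ?_))
  show projR k V' (resR hℨ e₁ (shpR q hℨ h𝔜 V (resR h𝔜 e (shpR g h𝔜 h𝔖' U a)))) =
    projR k V' (resR hℨ e₂ (shpR p hℨ h𝔛' (pre f U) (shpR f h𝔛' h𝔖' U a)))
  rw [projR_resR_shpR, projR_resR_shpR, projR_resR_shpR, projR_shpR]
  have e₃ : ℨ.lvU hℨ k V' ≤ ((p : FSch.Hom _ _).app k ≫ (f : FSch.Hom _ _).app k) ⁻¹ᵁ 𝔖.lvU h𝔖' k U :=
    (le_lvU (h' := h𝔛') p k e₂).trans (((p : FSch.Hom _ _).app k).preimage_mono (le_lvU f k le_rfl))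
  exact (congr($(FSch.appLE_comp_appLE_of_eq _ _ _ (FSch.Hom.sq_app p f q g w k).symm (𝔖.lvU h𝔖' k U) (𝔜.lvU h𝔜 k V)
      (ℨ.lvU hℨ k V') (le_lvU g k e) (le_lvU q k e₁) e₃) (projR k U a))).trans
    congr($(FSch.appLE_comp_appLE_of_eq _ _ _ rfl (𝔖.lvU h𝔖' k U) (𝔛.lvU h𝔛' k (pre f U))
      (ℨ.lvU hℨ k V') (le_lvU f k le_rfl) (le_lvU p k e₂) e₃) (projR k U a)).symm

/-- In a cartesian square with `f` a closed immersion the kernel of `q` is generated by that of `f`. -/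
theorem mem_of_shpR_eq_zero {ℨ 𝔜 : FSch.Sys.{u}} (p : ℨ ⟶ 𝔛) (q : ℨ ⟶ 𝔜) (g : 𝔜 ⟶ 𝔖)
    (h𝔛 : 𝔛.IsLocNoethFormal) (h𝔖 : 𝔖.IsLocNoethFormal) (h𝔜 : 𝔜.IsLocNoethFormal) (hℨ : ℨ.IsFormal)
    (hf : FSch.IsClosedImmHom f) (hq : FSch.IsClosedImmHom q)
    (hpb : ∀ k, IsPullback ((q : FSch.Hom _ _).app k) ((p : FSch.Hom _ _).app k) ((g : FSch.Hom _ _).app k)
      ((f : FSch.Hom _ _).app k))
    {U : (𝔖.X 0).Opens} (hU : IsAffineOpen U) {V : (𝔜.X 0).Opens} (hV : IsAffineOpen V) (e : V ≤ pre g U)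
    (x : RS h𝔜.1 V) (hx : shpR q hℨ h𝔜.1 V x = 0) :
    x ∈ (RingHom.ker (shpR f h𝔛.1 h𝔖.1 U)).map ((resR h𝔜.1 e).comp (shpR g h𝔜.1 h𝔖.1 U)) := by
  haveI := isNoetherianRing h𝔜 hV
  obtain ⟨-, hpU, -⟩ := FormalLevels.adic h𝔖 hU
  obtain ⟨-, hpV, -⟩ := FormalLevels.adic h𝔜 hV
  have hW := FinitePush.isAffineOpen_pre f (isFiniteHom f hf) hU
  haveI := hf.2
  haveI : IsAffineHom ((q : FSch.Hom _ _).app 0) := haveI := hq.2; inferInstance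
  refine FormalAffine.mem_of_forall_mem_sup h𝔜 hV _ fun k => ?_
  haveI := Groth.Agent.S5737.result f h𝔛 h𝔖 hf.1 k
  let UU : (𝔖.X k).affineOpens := ⟨_, isAffineOpen_lvU h𝔖.1 hU k⟩
  let VV : (𝔜.X k).affineOpens := ⟨_, isAffineOpen_lvU h𝔜.1 hV k⟩
  haveI : IsClosedImmersion ((q : FSch.Hom _ _).app k) :=
    MorphismProperty.of_isPullback (P := @IsClosedImmersion) (hpb k).flip inferInstance
  have h1 : projR k V x ∈ ((q : FSch.Hom _ _).app k).ker.ideal VV := by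
    rw [← ker_appLE_eq ((q : FSch.Hom _ _).app k) VV _ (le_lvU q k (le_refl (pre q V)))
      (FSch.Hom.lvU_preimage q hℨ h𝔜.1 k V).le, RingHom.mem_ker]
    exact (projR_shpR q k V x).symm.trans ((congrArg (projR k (pre q V)) hx).trans (map_zero _))
  rw [Thickenings.ker_eq_comap_of_isPullback (hpb k),
    Groth.BlowUpBasics.ideal_comap _ _ UU VV (le_lvU g k e)] at h1
  have hle : ((f : FSch.Hom _ _).app k).ker.ideal UU ≤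
      (RingHom.ker (shpR f h𝔛.1 h𝔖.1 U)).map ((𝔖.OshProj h𝔖.1 k).hom.app (op U)).hom := by
    intro z hz
    rw [← ker_appLE_eq ((f : FSch.Hom _ _).app k) UU _ (le_lvU f k (le_refl (pre f U)))
      (FSch.Hom.lvU_preimage f h𝔛.1 h𝔖.1 k U).le, RingHom.mem_ker] at hz
    obtain ⟨a, rfl⟩ := (hpU k).1 z
    have ha : shpR f h𝔛.1 h𝔖.1 U a ∈ idl h𝔛.1 (pre f U) ^ (k + 1) :=
      (mem_pow_iff h𝔛 hW k _).2 ((projR_shpR f k U a).trans hz)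
    rw [show idl h𝔛.1 (pre f U) = (idl h𝔖.1 U).map (shpR f h𝔛.1 h𝔖.1 U) from
      (FinitePush.map_idl f h𝔛 h𝔖 (isFiniteHom f hf) hU).symm, ← Ideal.map_pow] at ha
    obtain ⟨a', ha', e'⟩ := (Ideal.mem_map_iff_of_surjective _ (shpR_surjective f h𝔛 h𝔖 hf hU)).1 ha
    have h2 := Ideal.mem_map_of_mem ((𝔖.OshProj h𝔖.1 k).hom.app (op U)).hom
      (show a - a' ∈ RingHom.ker (shpR f h𝔛.1 h𝔖.1 U) by rw [RingHom.mem_ker, map_sub, e', sub_self])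
    rwa [map_sub, show ((𝔖.OshProj h𝔖.1 k).hom.app (op U)).hom a' = 0 from (mem_pow_iff h𝔖 hU k _).1 ha',
      sub_zero] at h2
  have h3 := Ideal.map_mono hle h1
  have hcomp : (((g : FSch.Hom _ _).app k).appLE _ _ (le_lvU g k e)).hom.comp
        ((𝔖.OshProj h𝔖.1 k).hom.app (op U)).hom =
      ((𝔜.OshProj h𝔜.1 k).hom.app (op V)).hom.comp ((resR h𝔜.1 e).comp (shpR g h𝔜.1 h𝔖.1 U)) :=
    RingHom.ext fun a => (projR_resR_shpR g k U e a).symm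
  replace h3 := (map_map_comm hcomp (RingHom.ker (shpR f h𝔛.1 h𝔖.1 U))).le h3
  obtain ⟨y, hy, hyx⟩ := (Ideal.mem_map_iff_of_surjective _ (hpV k).1).1 h3
  refine Submodule.mem_sup.2 ⟨y, hy, x - y, ?_, add_sub_cancel _ _⟩
  rw [smul_eq_mul, Ideal.mul_top, mem_pow_iff h𝔜 hV k]
  exact (map_sub _ _ _).trans (sub_eq_zero.2 hyx.symm)

end Groth.AdicLinTop.ClosedImmRing
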