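import Groth.Agent.CohBase.MayerVietoris
import Mathlib.AlgebraicGeometry.Noetherian

/-!
# Uniform bounds on cohomology from vanishing on affine opens
-/

set_option autoImplicit false

universe u

open CategoryTheory Limits TopologicalSpace Opposite AlgebraicGeometry

namespace Groth.AdicLinTop.QcqsBound

open Groth.CohBase

variable {X : Scheme.{u}}

/-- Abelian sheaves without higher cohomology on affine opens. -/
def AffAcyclic (F : AbSheaf X.toTopCat) : Prop :=
  ∀ (V : X.Opens), IsAffineOpen V → ∀ n, HVanish (X := X.toTopCat) F (n + 1) V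

/-- Opens cutting every affine open in an affine open. -/
def CutsAffine (B U : X.Opens) : Prop := ∀ V : X.Opens, IsAffineOpen V → V ≤ U → IsAffineOpen (V ⊓ B)

lemma cutsAffine_top (U : X.Opens) : CutsAffine ⊤ U := fun V hV _ => by rwa [inf_top_eq]

/-- Preimages of basic opens cut affine opens in affine opens. -/
lemma cutsAffine_preimage_basicOpen {Y : Scheme.{u}} (f : X ⟶ Y) {W : Y.Opens} (s : Γ(Y, W)) :
    CutsAffine (f ⁻¹ᵁ Y.basicOpen s) (f ⁻¹ᵁ W) := fun V hV hVW => by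
  rw [show V ⊓ f ⁻¹ᵁ Y.basicOpen s = X.basicOpen ((f.appLE W V hVW).hom s) from
    (Scheme.basicOpen_appLE f V W hVW s).symm]
  exact hV.basicOpen _

/-- On a quasi-separated scheme cohomology vanishes above a bound uniform in principal shrinkings. -/
theorem exists_bound [QuasiSeparatedSpace X] (U : X.Opens) (hU : IsCompact (U : Set X)) :
    ∃ d : ℕ, ∀ F : AbSheaf X.toTopCat, AffAcyclic F → ∀ B : X.Opens, CutsAffine B U → ∀ p, d ≤ p →
      HVanish (X := X.toTopCat) F p (U ⊓ B) := by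
  refine qcqs_induction (fun U => ∃ d : ℕ, ∀ F : AbSheaf X.toTopCat, AffAcyclic F → ∀ B : X.Opens,
      CutsAffine B U → ∀ p, d ≤ p → HVanish (X := X.toTopCat) F p (U ⊓ B))
    (fun U hU => ⟨1, fun F hF B hB p hp => ?_⟩) ?_ U hU
  · obtain ⟨p, rfl⟩ := Nat.exists_eq_succ_of_ne_zero (show p ≠ 0 by omega)
    exact hF _ (hB U hU le_rfl) p
  · rintro U V - - ⟨a, ha⟩ ⟨b, hb⟩ ⟨c, hc⟩
    refine ⟨max (max a b) (c + 1), fun F hF B hB p hp => ?_⟩
    obtain ⟨p, rfl⟩ := Nat.exists_eq_succ_of_ne_zero (show p ≠ 0 by omega)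
    rw [inf_sup_right]
    refine hVanish_sup (X := X.toTopCat) ?_
      (ha F hF B (fun W hW hle => hB W hW (hle.trans le_sup_left)) _ (by omega))
      (hb F hF B (fun W hW hle => hB W hW (hle.trans le_sup_right)) _ (by omega))
    rw [show U ⊓ B ⊓ (V ⊓ B) = U ⊓ V ⊓ B by rw [inf_inf_inf_comm, inf_idem]]
    exact hc F hF B (fun W hW hle => hB W hW (hle.trans (inf_le_left.trans le_sup_left))) p (by omega)

/-- Uniform bound on preimages of a basis of the target. -/
theorem exists_bound_preimage [CompactSpace X] [IsLocallyNoetherian X] {Y : Scheme.{u}} [CompactSpace Y]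
    (f : X ⟶ Y) : ∃ (N : ℕ) (B' : Set Y.Opens),
      (∀ (U : Y.Opens), ∀ y ∈ U, ∃ W ∈ B', W ≤ U ∧ y ∈ W) ∧
      ∀ W ∈ B', ∀ F : AbSheaf X.toTopCat, AffAcyclic F → ∀ p, N < p →
        HVanish (X := X.toTopCat) F p (f ⁻¹ᵁ W) := by
  classical
  obtain ⟨S, hS⟩ := isCompact_univ.elim_finite_subcover (fun V : Y.affineOpens => (V.1 : Set Y))
    (fun V => V.1.2) fun y _ => by
      obtain ⟨_, ⟨V, hV, rfl⟩, hyV, -⟩ := Y.isBasis_affineOpens.exists_subset_of_mem_open
        (Set.mem_univ y) isOpen_univ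
      exact Set.mem_iUnion.2 ⟨⟨V, hV⟩, hyV⟩
  have : IsNoetherian X := ⟨⟩
  choose d hd using fun V : Y.affineOpens =>
    exists_bound (X := X) (f ⁻¹ᵁ V.1) (TopologicalSpace.NoetherianSpace.isCompact _)
  refine ⟨S.sup d, {W | ∃ V ∈ S, ∃ s : Γ(Y, V.1), W = Y.basicOpen s}, fun U y hy => ?_, ?_⟩
  · obtain ⟨V, hVS, hyV⟩ := Set.mem_iUnion₂.1 (hS (Set.mem_univ y))
    obtain ⟨s, hsU, hys⟩ := V.2.exists_basicOpen_le (V := U) ⟨y, hy⟩ hyV
    exact ⟨_, ⟨V, hVS, s, rfl⟩, hsU, hys⟩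
  · rintro _ ⟨V, hVS, s, rfl⟩ F hF p hp
    have h := hd V F hF _ (cutsAffine_preimage_basicOpen f s) p
      ((Finset.le_sup hVS).trans hp.le)
    rwa [inf_eq_right.2 (Scheme.Hom.preimage_mono f (Y.basicOpen_le s))] at h

end Groth.AdicLinTop.QcqsBound
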