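import Groth.Agent.AdicLinTop.AffinePushD
import Groth.Agent.AdicLinTop.QcqsBound

/-!
# Bounds on unbounded direct images from quasi-compact formal schemes
-/

set_option autoImplicit false

universe u

open CategoryTheory CategoryTheory.Limits AlgebraicGeometry TopologicalSpace Opposite

attribute [local instance] HasDerivedCategory.standard

set_option backward.defeqAttrib.useBackward true
set_option backward.isDefEq.respectTransparency false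
set_option backward.isDefEq.respectTransparency.types false
set_option synthInstance.maxHeartbeats 400000

namespace Groth.AdicLinTop.CompactPushD

open Groth.AdicLinTop.AffineGens

lemma exists_basis_cover {X : Scheme.{u}} {B : Set X.Opens}
    (hB : ∀ (U : X.Opens), ∀ y ∈ U, ∃ W ∈ B, W ≤ U ∧ y ∈ W) (U : X.Opens) (T : Sieve U)
    (hT : T ∈ Opens.grothendieckTopology X U) :
    ∃ (ι : Type u) (Y : ι → X.Opens) (g : ∀ i, Y i ⟶ U), (∀ i, T.arrows (g i)) ∧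
      Sieve.ofArrows Y g ∈ Opens.grothendieckTopology X U ∧ ∀ i, Y i ∈ B := by
  refine ⟨{p : X.Opens // ∃ h : p ≤ U, p ∈ B ∧ T.arrows (homOfLE h)}, fun p => p.1,
    fun p => homOfLE p.2.choose, fun p => p.2.choose_spec.2, fun x hx => ?_, fun p => p.2.choose_spec.1⟩
  obtain ⟨W, g, hg, hxW⟩ := hT x hx
  obtain ⟨V, hV, hVW, hxV⟩ := hB W x hxW
  have h : V ≤ U := hVW.trans g.le
  have hp : ∃ h : V ≤ U, V ∈ B ∧ T.arrows (homOfLE h) := ⟨h, hV, by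
    rw [Subsingleton.elim (homOfLE h) (homOfLE hVW ≫ g)]
    exact T.downward_closed hg _⟩
  exact ⟨V, homOfLE h, Sieve.ofArrows_mk _ _ (⟨V, hp⟩ : {p : X.Opens // ∃ h : p ≤ U, p ∈ B ∧ T.arrows (homOfLE h)}),
    hxV⟩

lemma affAcyclic {𝔛 : FSch.Sys.{u}} {h𝔛 : 𝔛.IsLocNoethFormal} {F : FSch.ModF 𝔛 h𝔛.1} (hF : affGen h𝔛 F) :
    QcqsBound.AffAcyclic (X := 𝔛.X 0) (ModSite.toAb F) := fun _ hV n => affGen.hVanish hF n hV

/-- Direct images from quasi-compact formal schemes raise upper bounds on cohomology boundedly. -/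
theorem exists_bound {𝔛 𝔜 : FSch.Sys.{u}} (h𝔛 : 𝔛.IsLocNoethFormal) [CompactSpace (𝔛.X 0)]
    (h𝔜 : 𝔜.IsFormal) [CompactSpace (𝔜.X 0)] (f : 𝔛 ⟶ 𝔜)
    [SiteCmp.HasRpushD (FSch.homMor f h𝔛.1 h𝔜)] :
    ∃ N : ℕ, ∀ (G : DerivedCategory (FSch.ModF 𝔛 h𝔛.1)), WSerre.cohIn (affGen h𝔛) G → ∀ e : ℤ, G.IsLE e →
      ∀ i : ℤ, e + N < i → IsZero (SiteCmp.HMod ((SiteCmp.RpushD (FSch.homMor f h𝔛.1 h𝔜)).obj G) i) := by
  haveI := h𝔛.2.2 0
  obtain ⟨N, B', hB', hN⟩ := QcqsBound.exists_bound_preimage ((f : FSch.Hom 𝔛 𝔜).app 0)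
  refine ⟨N, fun G hG e he i hi => ?_⟩
  refine RpushBound.isZero_homology_RpushD (affGen h𝔛) (FSch.homMor f h𝔛.1 h𝔜)
    {V | IsAffineOpen V} B' (fun U => ?_) (fun V _ => ⟨0, fun T hT => ?_⟩)
    (fun U => ?_) (fun V _ => ⟨N, fun T hT => ?_⟩) N (by lia) (fun F hF p hp => ?_) G hG e i hi
  · obtain ⟨ι, Y, g, -, hY, hB⟩ := exists_affine_cover U ⊤ (GrothendieckTopology.top_mem _ _)
    exact ⟨ι, Y, g, hY, hB⟩
  · obtain ⟨ι, Y, g, hg, hY, hB⟩ := exists_affine_cover V T hT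
    refine ⟨ι, Y, g, hg, hY, fun i F hF k hk => ?_⟩
    obtain ⟨m, rfl⟩ := Nat.exists_eq_succ_of_ne_zero (by lia : k ≠ 0)
    exact affGen.hVanish hF m (hB i)
  · obtain ⟨ι, Y, g, -, hY, hB⟩ := exists_basis_cover hB' U ⊤ (GrothendieckTopology.top_mem _ _)
    exact ⟨ι, Y, g, hY, hB⟩
  · obtain ⟨ι, Y, j, hg, hY, hB⟩ := exists_basis_cover hB' V T hT
    exact ⟨ι, Y, j, hg, hY, fun i F hF k hk => hN _ (hB i) _ (affAcyclic hF) k hk⟩
  · obtain ⟨m, rfl⟩ := Nat.exists_eq_succ_of_ne_zero (by lia : p ≠ 0)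
    exact RpushVanish.isZero_rightDerived_push ((f : FSch.Hom 𝔛 𝔜).app 0).base (O' := 𝔛.Osh h𝔛.1)
      (O := 𝔜.Osh h𝔜) (FSch.pushF f h𝔛.1 h𝔜) (Iso.refl _) F m fun V y hy => by
        obtain ⟨W, hW, hWV, hyW⟩ := hB' V y hy
        exact ⟨W, hWV, hyW, hN W hW _ (affAcyclic hF) (m + 1) (by lia)⟩

end Groth.AdicLinTop.CompactPushD
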