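import Groth.Agent.AdicLinTop.ComplSections
import Groth.Agent.AdicLinTop.ArtinReesLoc
import Groth.Agent.PropsBasic.FPSections

/-!
# Completions of modules on affine schemes without Noetherian hypotheses
-/

set_option autoImplicit false

universe u

open CategoryTheory CategoryTheory.Limits AlgebraicGeometry TopologicalSpace Opposite

namespace Groth.AdicLinTop.ComplAffine

open Groth.AdicLinTop.FormalLevels Groth.AdicLinTop.FormalReal Groth.AdicLinTop.FormalAffine
open Groth.AdicLinTop.FormalSpan Groth.AdicLinTop.ComplReal Groth.AdicLinTop.ComplSections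
open Groth.AdicLinTop.ArtinReesLoc
open Groth.QCohMod (res resFun res_res res_smul res_app appₗ)

variable {X : Scheme.{u}} {𝓘 : X.IdealSheafData} {h : (FSch.completionAlong X 𝓘).IsFormal}

theorem arBound_basicOpen {U : X.Opens} (hU : IsAffineOpen U) {F G : X.Modules} [F.IsQuasicoherent]
    [G.IsQuasicoherent] (φ : F ⟶ G) (hφ : ARBound (𝓘.ideal ⟨U, hU⟩) (appₗ φ U)) (g : Γ(X, U)) :
    ARBound (𝓘.ideal ⟨X.basicOpen g, hU.basicOpen g⟩) (appₗ φ (X.basicOpen g)) := by
  letI := PropsBasic.FPSections.resModule F g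
  letI := PropsBasic.FPSections.resModule G g
  haveI := PropsBasic.FPSections.isScalarTower_resModule F g
  haveI := PropsBasic.FPSections.isScalarTower_resModule G g
  haveI : IsLocalization.Away g Γ(X, X.basicOpen g) := IsAffineOpen.isLocalization_basicOpen hU g
  haveI : IsLocalizedModule.Away g (PropsBasic.FPSections.resₗ F g) := PropsBasic.FPSections.isLocalizedModule_resₗ F hU g
  haveI : IsLocalizedModule.Away g (PropsBasic.FPSections.resₗ G g) := PropsBasic.FPSections.isLocalizedModule_resₗ G hU g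
  have h1 := ARBound.localize g (PropsBasic.FPSections.resₗ F g) (PropsBasic.FPSections.resₗ G g) hφ (appₗ φ (X.basicOpen g))
    fun m => (res_app φ (X.basicOpen_le g) m).symm
  have e : (𝓘.ideal ⟨U, hU⟩).map (algebraMap Γ(X, U) Γ(X, X.basicOpen g)) =
      𝓘.ideal ⟨X.basicOpen g, hU.basicOpen g⟩ :=
    Scheme.IdealSheafData.map_ideal 𝓘 (U := ⟨X.basicOpen g, hU.basicOpen g⟩) (V := ⟨U, hU⟩) (X.basicOpen_le g)
  rwa [e] at h1

section Can

variable {F : X.Modules} [F.IsQuasicoherent] {W : X.Opens} (hW : IsAffineOpen W)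

include hW in
theorem can_bijective (hc : IsAdicComplete (𝓘.ideal ⟨W, hW⟩) Γ(F, W)) :
    Function.Bijective (can h F W) := by
  let C := compl h hW F
  have hsm : ∀ n, ((𝓘.ideal ⟨W, hW⟩) ^ n • ⊤ : Submodule Γ(X, W) Γ(F, W)) ≤ (𝓘.ideal ⟨W, hW⟩) ^ n • ⊤ := fun _ => le_rfl
  constructor
  · intro m m' e
    refine sub_eq_zero.1 (hc.haus' (m - m') fun n => SModEq.zero.2 ?_)
    have h1 : C.rep (can h F W m) n m := lev_can W m n
    have h2 : C.rep (can h F W m) n m' := by rw [e]; exact lev_can W m' n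
    exact Submodule.smul_mono (Ideal.pow_le_pow_right (Nat.le_succ n)) le_rfl
      ((C.rep_iff _ n m' m h2).1 h1)
  · intro x
    choose b hb using C.exists_rep x
    obtain ⟨L, hL⟩ := hc.prec' b fun {m n} hmn => by
      refine SModEq.symm (SModEq.sub_mem.2 ?_)
      exact Submodule.smul_mono (Ideal.pow_le_pow_right (Nat.le_succ m)) le_rfl
        ((C.rep_iff x m _ _ (hb m)).1 (ComplData.step_le C hmn (hb n)))
    refine ⟨L, C.ext _ _ fun k => ⟨b k, ?_, hb k⟩⟩
    refine (C.rep_iff _ k L (b k) (lev_can W L k)).2 ?_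
    have h3 := SModEq.sub_mem.1 (hL (k + 1))
    rw [show b k - L = (b (k + 1) - L) - (b (k + 1) - b k) by abel]
    exact sub_mem h3 ((C.rep_iff x k _ _ (hb k)).1 (C.step x k _ (hb (k + 1))))

end Can

variable [IsAffine X]

theorem exists_basic (U : ((FSch.completionAlong X 𝓘).X 0).Opens) (x : (FSch.completionAlong X 𝓘).X 0)
    (hx : x ∈ U) : ∃ V ∈ {V | ∃ g : Γ(X, ⊤), op0 𝓘 (X.basicOpen g) = V}, x ∈ V ∧ V ≤ U := by
  obtain ⟨O, hO, e⟩ := (FSch.completionToX X 𝓘 0).isClosedEmbedding.isInducing.isOpen_iff.1 U.2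
  have hxO : (FSch.completionToX X 𝓘 0) x ∈ O := by
    show x ∈ (FSch.completionToX X 𝓘 0) ⁻¹' O
    rw [e]
    exact hx
  obtain ⟨g, hgO, hxg⟩ := (isAffineOpen_top X).exists_basicOpen_le (V := ⟨O, hO⟩) ⟨_, hxO⟩ (Opens.mem_top _)
  refine ⟨op0 𝓘 (X.basicOpen g), ⟨g, rfl⟩, hxg, fun y hy => ?_⟩
  have : y ∈ (FSch.completionToX X 𝓘 0) ⁻¹' O := hgO hy
  rwa [e] at this

/-- Completion is exact on an affine scheme given an Artin–Rees bound. -/
theorem shortExact_compl (S : ShortComplex X.Modules) (hS : S.ShortExact) [S.X₁.IsQuasicoherent]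
    [S.X₂.IsQuasicoherent] [S.X₃.IsQuasicoherent]
    (hAR : ARBound (𝓘.ideal ⟨⊤, isAffineOpen_top X⟩) (appₗ S.f ⊤))
    (w : FSch.ModSys.realModMap h (FSch.complModMap 𝓘 S.f) ≫ FSch.ModSys.realModMap h (FSch.complModMap 𝓘 S.g) = 0) :
    (ShortComplex.mk _ _ w).ShortExact := by
  have := hS.mono_f
  have := hS.epi_g
  refine shortExact_of_basis _ exists_basic ?_ ?_ ?_ <;> rintro _ ⟨g, rfl⟩
  all_goals
    have hW := (isAffineOpen_top X).basicOpen g
    have hb := arBound_basicOpen (isAffineOpen_top X) S.f hAR g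
  · exact ArtinReesLoc.injective (rep_capp hW S.f) hb
  · intro y hy
    exact ArtinReesLoc.exact (rep_capp hW S.f) (rep_capp hW S.g) hb
      (Groth.QCohMod.app_surjective_of_epi S.g hW)
      (fun n hn => Groth.QCohMod.exists_app_eq_of_exact hS.exact hW n hn) hy
  · exact ComplData.surjective (rep_capp hW S.g) (Groth.QCohMod.app_surjective_of_epi S.g hW)

/-- Morphisms of completions are determined by their values on global sections. -/
theorem hom_ext_can {F G : X.Modules} [F.IsQuasicoherent] [G.IsQuasicoherent]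
    (hI : (𝓘.ideal ⟨⊤, isAffineOpen_top X⟩).FG)
    (a b : (FSch.complMod 𝓘 F).realMod h ⟶ (FSch.complMod 𝓘 G).realMod h)
    (hab : ∀ m, app a (op0 𝓘 ⊤) (can h F ⊤ m) = app b (op0 𝓘 ⊤) (can h F ⊤ m)) : a = b := by
  have key : ∀ g : Γ(X, ⊤), ∀ x, app a (op0 𝓘 (X.basicOpen g)) x = app b (op0 𝓘 (X.basicOpen g)) x := by
    intro g
    have hW : IsAffineOpen (X.basicOpen g) := (isAffineOpen_top X).basicOpen g
    have hcan : ∀ m, app a (op0 𝓘 (X.basicOpen g)) (can h F (X.basicOpen g) m) =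
        app b (op0 𝓘 (X.basicOpen g)) (can h F (X.basicOpen g) m) := by
      intro m
      obtain ⟨n, t, ht⟩ := Groth.QCohMod.exists_pow_smul_eq_res F (isAffineOpen_top X) g m
      have hu : IsUnit (resFun X (X.basicOpen_le g) g ^ n) :=
        (RingedSpace.isUnit_res_basicOpen X.toRingedSpace g).pow n
      obtain ⟨v, hv⟩ := hu.map (sharp h (X.basicOpen g))
      have h1 := congrArg (rs ((FSch.complMod 𝓘 G).realMod h) ((FSch.completionToX X 𝓘 0).preimage_mono (X.basicOpen_le g)))
        (hab t)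
      rw [← rs_app, ← rs_app, ← can_res (X.basicOpen_le g), ht, can_smul, map_smul, map_smul, ← hv] at h1
      exact v.isUnit.smul_left_cancel.1 h1
    intro x
    refine lev_ext_gen fun k => ?_
    obtain ⟨m, hm⟩ := (compl h hW F).exists_rep x k
    suffices hz : ∀ y, (compl h hW F).rep y k 0 → ∀ c : (FSch.complMod 𝓘 F).realMod h ⟶ (FSch.complMod 𝓘 G).realMod h,
        lev h (FSch.complMod 𝓘 G) k _ (app c (op0 𝓘 (X.basicOpen g)) y) = 0 by
      have hy : (compl h hW F).rep (x - can h F (X.basicOpen g) m) k 0 := by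
        show lev h (FSch.complMod 𝓘 F) k _ (x - can h F (X.basicOpen g) m) = cev h F k (X.basicOpen g) 0
        rw [show cev h F k (X.basicOpen g) 0 = 0 by rw [← sub_self (0 : Γ(F, X.basicOpen g)), cev_sub, sub_self],
          lev, map_sub, map_sub, sub_eq_zero]
        exact hm.trans (lev_can _ m k).symm
      have ha := hz _ hy a
      have hb := hz _ hy b
      rw [map_sub, lev, map_sub, map_sub, sub_eq_zero] at ha hb
      exact ha.trans ((congrArg (lev h (FSch.complMod 𝓘 G) k _) (hcan m)).trans hb.symm)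
    intro y hy c
    have hfg : (𝓘.ideal ⟨X.basicOpen g, hW⟩ ^ (k + 1)).FG := by
      rw [← Scheme.IdealSheafData.map_ideal 𝓘 (U := ⟨X.basicOpen g, hW⟩) (V := ⟨⊤, isAffineOpen_top X⟩)
        (X.basicOpen_le g)]
      exact Ideal.FG.pow (hI.map _)
    obtain ⟨r, e, he⟩ := Submodule.fg_iff_exists_fin_generating_family.1 hfg
    obtain ⟨s, hs, hsy⟩ := exists_seq_of_rep_zero (cM := compl h hW F) k e he hy
    choose z hz using fun i => (compl h hW F).glue (s i) (hs i)
    have hy' : y = ∑ i, sharp h (X.basicOpen g) (e i) • z i := by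
      refine lev_ext_gen fun j => ?_
      rw [lev_sum, show lev h (FSch.complMod 𝓘 F) j _ y = cev h F j (X.basicOpen g) (∑ i, e i • s i j) from hsy j]
      refine ((map_sum (AddMonoidHom.mk' (cev h F j (X.basicOpen g)) (cev_add j (X.basicOpen g))) _ _).trans ?_)
      refine Finset.sum_congr rfl fun i _ => ?_
      rw [lev_smul, projR_sharp, show lev h (FSch.complMod 𝓘 F) j _ (z i) = cev h F j (X.basicOpen g) (s i j) from hz i j]
      exact cev_smul j _ _ _
    rw [hy', map_sum, lev_sum]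
    refine Finset.sum_eq_zero fun i _ => ?_
    rw [map_smul, lev_smul, projR_sharp_eq_zero hW k (he ▸ Submodule.subset_span ⟨i, rfl⟩), zero_smul]
  refine SheafOfModules.hom_ext (PresheafOfModules.hom_ext fun U => ?_)
  ext x
  exact sec_ext_basis _ exists_basic fun V hVU ⟨g, hg⟩ => by
    subst hg
    exact (rs_app a hVU x).symm.trans ((key g _).trans (rs_app b hVU x))

end Groth.AdicLinTop.ComplAffine
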