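import Groth.Agent.AdicLinTop.GenBounds
import Groth.Agent.AdicLinTop.BcTranspose

/-!
# The base change morphism from the completion of a direct image, for proper maps
-/

set_option autoImplicit false

universe u

open CategoryTheory CategoryTheory.Limits AlgebraicGeometry TopologicalSpace Opposite

namespace Groth.AdicLinTop.ComplBc

open Groth.AdicLinTop.FormalLevels Groth.AdicLinTop.FormalReal
open Groth.AdicLinTop.ComplReal Groth.AdicLinTop.ComplPull Groth.AdicLinTop.ComplPush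
open Groth.AdicLinTop.FormalPullback (pre)

variable {X Y : Scheme.{u}} [IsLocallyNoetherian X] [IsLocallyNoetherian Y]
    (f : X ⟶ Y) {𝓘 : Y.IdealSheafData} {𝓚 : X.IdealSheafData}
    (hpc : FSch.PowCompat f 𝓚 𝓘) {hX : (FSch.completionAlong X 𝓚).IsFormal} {hY : (FSch.completionAlong Y 𝓘).IsFormal}
    (F : X.Modules)

omit [IsLocallyNoetherian X] in
theorem isCoh_push [IsProper f] (hF : Coh.IsCoh F) : Coh.IsCoh ((Scheme.Modules.pushforward f).obj F) :=
  letI : Y.Over (Spec (CommRingCat.of (ULift.{u} ℤ))) := ⟨specULiftZIsTerminal.from Y⟩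
  letI : X.Over (Spec (CommRingCat.of (ULift.{u} ℤ))) := ⟨specULiftZIsTerminal.from X⟩
  Groth.CohC3.isCoh_pushforward (specULiftZIsTerminal.hom_ext _ _) hF

/-- The morphism `gammaP` on the direct image along the morphism of ringed sites. -/
noncomputable abbrev gammaP' : (ModSite.RMor.ofScheme f).push.obj (asMod F) ⟶
    (uMor Y 𝓘 hY).push.obj ((FSch.pushF (gHat hpc) hX hY).obj ((FSch.complMod 𝓚 F).realMod hX)) :=
  gammaP hpc hX hY F

theorem map_eq_rs {𝔛 : FSch.Sys.{u}} {h : 𝔛.IsFormal} (M : FSch.ModF 𝔛 h) {U V : (𝔛.X 0).Opens} (i : V ⟶ U)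
    (x : Sec M U) : M.val.map i.op x = rs M i.le x :=
  congrArg (fun t : V ⟶ U => M.val.map t.op x) (Subsingleton.elim i (homOfLE i.le))

theorem gammaP_app (U : Y.Opens) (e : pre (gHat hpc) (op0 𝓘 U) ≤ op0 𝓚 (f ⁻¹ᵁ U)) (m : Γ(F, f ⁻¹ᵁ U)) :
    (gammaP hpc hX hY F).val.app (op U) m =
      rs ((FSch.complMod 𝓚 F).realMod hX) e ((gamma hX F).val.app (op (f ⁻¹ᵁ U)) m) := rfl

/-- The base change morphism through the comparison. -/
theorem bcMap_comp :
    FSch.schBcMap (FSch.completionMap f 𝓚 𝓘 hpc) hX hY f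
      (FSch.completionToX X 𝓚) (FSch.completionToX_comm X 𝓚)
      (FSch.completionToX Y 𝓘) (FSch.completionToX_comm Y 𝓘)
      (FSch.completionMap_sq f 𝓚 𝓘 hpc) F ≫
      (FSch.pushF (FSch.completionMap f 𝓚 𝓘 hpc) hX hY).map (((uMor X 𝓚 hX).adj.homEquiv _ _).symm (gamma hX F)) =
    ((uMor Y 𝓘 hY).adj.homEquiv _ _).symm (gammaP' (hX := hX) (hY := hY) f hpc F) :=
  BcTranspose.bcMap_comp_eq
    (FSch.schSharp_sq (FSch.completionMap f 𝓚 𝓘 hpc) hX hY f (FSch.completionToX X 𝓚) (FSch.completionToX_comm X 𝓚)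
      (FSch.completionToX Y 𝓘) (FSch.completionToX_comm Y 𝓘) (FSch.completionMap_sq f 𝓚 𝓘 hpc))
    (asMod F) (gamma hX F) (gammaP' (hX := hX) (hY := hY) f hpc F) (fun U i m => by refine (gammaP_app (hX := hX) (hY := hY) f hpc F U (leOfHom i) m).trans ?_; exact (map_eq_rs (h := hX) ((FSch.complMod 𝓚 F).realMod hX) i ((gamma hX F).val.app (op (f ⁻¹ᵁ U)) m)).symm)

theorem isIso_adjunct_gammaP (hG : Coh.IsCoh ((Scheme.Modules.pushforward f).obj F))
    (hb : ∀ (W : Y.Opens) (hW : IsAffineOpen W), Bounds hpc (hZ := hX) F W (𝓘.ideal ⟨W, hW⟩)) :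
    IsIso (((uMor Y 𝓘 hY).adj.homEquiv _ _).symm (gammaP hpc hX hY F)) := by
  rw [← comp_fac hpc (hZ := hX) (hX := hY) F hG, Adjunction.homEquiv_naturality_right_symm]
  exact @IsIso.comp_isIso _ _ _ _ _ _ _ (isIso_gamma_adjunct hY hG) (isIso_comp hpc hX hY F hG hb)

/-- The completion of a direct image along a proper morphism is the direct image of the completion. -/
theorem isIso_schBcMap [IsProper f] (h𝓚 : 𝓚 = 𝓘.comap f) (hF : Coh.IsCoh F) :
    IsIso (FSch.schBcMap (FSch.completionMap f 𝓚 𝓘 hpc) hX hY f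
      (FSch.completionToX X 𝓚) (FSch.completionToX_comm X 𝓚)
      (FSch.completionToX Y 𝓘) (FSch.completionToX_comm Y 𝓘)
      (FSch.completionMap_sq f 𝓚 𝓘 hpc) F) :=
  @IsIso.of_isIso_fac_right _ _ _ _ _ _ _ _ (@Functor.map_isIso _ _ _ _ _ _ _ _ (isIso_gamma_adjunct hX hF))
    (isIso_adjunct_gammaP f hpc F (isCoh_push f F hF) fun _ hW => GenBounds.bounds f hW h𝓚 hpc hF)
    (bcMap_comp f hpc F)

end Groth.AdicLinTop.ComplBc
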