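import Mathlib.RingTheory.Filtration
import Mathlib.Tactic

/-!
# Completions presented by approximating sequences

A set `S` is presented as the `I`-adic completion of a module `M` by a relation
"`m` represents `x` modulo `I ^ (k + 1)`". Exactness of completion follows by Artin–Rees.
-/

set_option autoImplicit false

universe u v w

namespace Groth.AdicLinTop.ComplData

/-- A presentation of `S` as the adic completion of `M`. -/
structure Compl {R : Type*} [CommRing R] (I : Ideal R) (M : Type*) [AddCommGroup M] [Module R M]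
    (S : Type*) [Zero S] where
  /-- `m` represents `x` modulo `I ^ (k + 1)`. -/
  rep : S → ℕ → M → Prop
  exists_rep : ∀ x k, ∃ m, rep x k m
  rep_iff : ∀ x k m m', rep x k m → (rep x k m' ↔ m' - m ∈ I ^ (k + 1) • (⊤ : Submodule R M))
  step : ∀ x k m, rep x (k + 1) m → rep x k m
  rep_zero : ∀ k, rep 0 k 0
  ext : ∀ x y, (∀ k, ∃ m, rep x k m ∧ rep y k m) → x = y
  glue : ∀ a : ℕ → M, (∀ k, a (k + 1) - a k ∈ I ^ (k + 1) • (⊤ : Submodule R M)) → ∃ x, ∀ k, rep x k (a k)

variable {R : Type*} [CommRing R] {I : Ideal R}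
  {M N P : Type*} [AddCommGroup M] [Module R M] [AddCommGroup N] [Module R N] [AddCommGroup P] [Module R P]
  {S T U : Type*} [Zero S] [Zero T] [Zero U]
  {cM : Compl I M S} {cN : Compl I N T} {cP : Compl I P U}

theorem step_le (cM : Compl I M S) {x : S} {j k : ℕ} (hjk : j ≤ k) {m : M} (hm : cM.rep x k m) :
    cM.rep x j m := by
  induction k, hjk using Nat.le_induction with
  | base => exact hm
  | succ k _ ih => exact ih (cM.step x k m hm)

/-- Completion preserves surjections. -/
theorem surjective {g : M →ₗ[R] N} {Φ : S → T} (hΦ : ∀ x k m, cM.rep x k m → cN.rep (Φ x) k (g m))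
    (hg : Function.Surjective g) : Function.Surjective Φ := by
  intro y
  choose c hc using cN.exists_rep y
  have hlift : ∀ k, ∃ d ∈ I ^ (k + 1) • (⊤ : Submodule R M), g d = c (k + 1) - c k := fun k => by
    have h1 : c (k + 1) - c k ∈ Submodule.map g (I ^ (k + 1) • ⊤) := by
      rw [Submodule.map_smul'', Submodule.map_top, LinearMap.range_eq_top.2 hg]
      exact (cN.rep_iff y k _ _ (hc k)).1 (cN.step y k _ (hc (k + 1)))
    exact h1
  choose d hd hd' using hlift
  obtain ⟨a0, ha0⟩ := hg (c 0)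
  have ha : ∀ k, g (a0 + ∑ i ∈ Finset.range k, d i) = c k := fun k => by
    simp only [map_add, map_sum, hd', ha0, Finset.sum_range_sub c, add_sub_cancel]
  obtain ⟨x, hx⟩ := cM.glue (fun k => a0 + ∑ i ∈ Finset.range k, d i) fun k => by
    simp only [Finset.sum_range_succ, add_sub_add_left_eq_sub, add_sub_cancel_left]
    exact hd k
  exact ⟨x, cN.ext _ _ fun k => ⟨c k, ha k ▸ hΦ x k _ (hx k), hc k⟩⟩

/-- Artin–Rees for an injective map. -/
theorem exists_artinRees [IsNoetherianRing R] [Module.Finite R N] (I : Ideal R) {g : M →ₗ[R] N}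
    (hg : Function.Injective g) :
    ∃ c : ℕ, ∀ k m, g m ∈ I ^ (k + c) • (⊤ : Submodule R N) → m ∈ I ^ k • (⊤ : Submodule R M) := by
  obtain ⟨c, hc⟩ := Ideal.exists_pow_inf_eq_pow_smul I (LinearMap.range g)
  refine ⟨c, fun k m hm => ?_⟩
  have h1 : g m ∈ I ^ (k + c) • (⊤ : Submodule R N) ⊓ LinearMap.range g := ⟨hm, m, rfl⟩
  rw [hc (k + c) (Nat.le_add_left c k), Nat.add_sub_cancel] at h1
  have h2 : g m ∈ Submodule.map g (I ^ k • ⊤) := by
    rw [Submodule.map_smul'', Submodule.map_top]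
    exact Submodule.smul_mono le_rfl inf_le_right h1
  obtain ⟨m', hm', e⟩ := h2
  rwa [← show m' = m from hg e]

/-- Completion preserves injections of finite modules over a Noetherian ring. -/
theorem injective [IsNoetherianRing R] [Module.Finite R N] {g : M →ₗ[R] N} {Φ : S → T}
    (hΦ : ∀ x k m, cM.rep x k m → cN.rep (Φ x) k (g m)) (hg : Function.Injective g) :
    Function.Injective Φ := by
  obtain ⟨c, hc⟩ := exists_artinRees I hg
  intro x y hxy
  refine cM.ext x y fun k => ?_
  obtain ⟨m, hm⟩ := cM.exists_rep x (k + c)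
  obtain ⟨m', hm'⟩ := cM.exists_rep y (k + c)
  have h1 : g m - g m' ∈ I ^ (k + c + 1) • (⊤ : Submodule R N) :=
    (cN.rep_iff _ _ _ _ (hxy ▸ hΦ y _ m' hm' : cN.rep (Φ x) (k + c) (g m'))).1 (hΦ x _ m hm)
  have h2 : m - m' ∈ I ^ (k + 1) • (⊤ : Submodule R M) := by
    refine hc (k + 1) _ ?_
    rw [map_sub, show k + 1 + c = k + c + 1 by omega]
    exact h1
  exact ⟨m, step_le cM (Nat.le_add_right k c) hm,
    (cM.rep_iff y k m' m (step_le cM (Nat.le_add_right k c) hm')).2 h2⟩

/-- Completion is exact in the middle. -/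
theorem exact [IsNoetherianRing R] [Module.Finite R N] {g : M →ₗ[R] N} {f : N →ₗ[R] P} {Φ : S → T}
    {Ψ : T → U} (hΦ : ∀ x k m, cM.rep x k m → cN.rep (Φ x) k (g m))
    (hΨ : ∀ y k n, cN.rep y k n → cP.rep (Ψ y) k (f n)) (hg : Function.Injective g)
    (hf : Function.Surjective f) (hgf : ∀ n, f n = 0 → ∃ m, g m = n) {y : T} (hy : Ψ y = 0) :
    ∃ x, Φ x = y := by
  obtain ⟨c, hc⟩ := exists_artinRees I hg
  choose b hb using cN.exists_rep y
  have happ : ∀ k, ∃ a, g a - b k ∈ I ^ (k + 1) • (⊤ : Submodule R N) := fun k => by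
    have h1 : f (b k) ∈ I ^ (k + 1) • (⊤ : Submodule R P) := by
      have := (cP.rep_iff 0 k 0 (f (b k)) (cP.rep_zero k)).1 (hy ▸ hΨ y k _ (hb k))
      rwa [sub_zero] at this
    have h2 : f (b k) ∈ Submodule.map f (I ^ (k + 1) • ⊤) := by
      rw [Submodule.map_smul'', Submodule.map_top, LinearMap.range_eq_top.2 hf]
      exact h1
    obtain ⟨t, ht, ht'⟩ := h2
    obtain ⟨a, ha⟩ := hgf (b k - t) (by rw [map_sub, ht', sub_self])
    exact ⟨a, by rw [ha, sub_sub_cancel_left]; exact neg_mem ht⟩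
  choose a ha using happ
  have hle : ∀ i j, j ≤ i → I ^ i • (⊤ : Submodule R N) ≤ I ^ j • ⊤ :=
    fun i j hij => Submodule.smul_mono (Ideal.pow_le_pow_right hij) le_rfl
  have hb' : ∀ j k, j ≤ k → b k - b j ∈ I ^ (j + 1) • (⊤ : Submodule R N) := fun j k hjk =>
    (cN.rep_iff y j _ _ (hb j)).1 (step_le cN hjk (hb k))
  have hrep : ∀ k, cN.rep y k (g (a (k + c))) := fun k => by
    refine (cN.rep_iff y k _ _ (hb k)).2 ?_
    rw [show g (a (k + c)) - b k = (g (a (k + c)) - b (k + c)) + (b (k + c) - b k) by abel]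
    exact add_mem (hle _ _ (by omega) (ha _)) (hb' _ _ (Nat.le_add_right k c))
  obtain ⟨x, hx⟩ := cM.glue (fun k => a (k + c)) fun k => by
    refine hc (k + 1) _ ?_
    rw [map_sub, show k + 1 + c = k + c + 1 by omega,
      show g (a (k + c + 1)) - g (a (k + c)) =
        (g (a (k + c + 1)) - b (k + c + 1)) + (b (k + c + 1) - b (k + c)) - (g (a (k + c)) - b (k + c)) by abel]
    exact sub_mem (add_mem (hle _ _ (by omega) (ha _)) (hb' _ _ (Nat.le_succ _))) (ha _)
  exact ⟨x, cN.ext _ _ fun k => ⟨_, hΦ x k _ (hx k), hrep k⟩⟩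

end Groth.AdicLinTop.ComplData
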