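import Groth.Agent.CohBase.RpushAffineLin
import Groth.Agent.CohCmpLib.Cls
import Groth.Agent.CohC3.PushFF

/-!
# Formal functions for higher direct images over affine opens, for any model of the quotients
-/

set_option autoImplicit false

universe u

open CategoryTheory CategoryTheory.Limits AlgebraicGeometry TopologicalSpace Opposite

set_option backward.defeqAttrib.useBackward true
set_option backward.isDefEq.respectTransparency false
set_option backward.isDefEq.respectTransparency.types false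
set_option synthInstance.maxHeartbeats 400000
set_option maxHeartbeats 1000000

namespace Groth.AdicLinTop.ComplFF

open Groth.CohBase Groth.CohC3
open Groth.QCohMod (res appₗ)

variable {X Y : Scheme.{u}} (f : X ⟶ Y) {W : Y.Opens} (hW : IsAffineOpen W)
  [HasInjectiveResolutions X.Modules] (p : ℕ)

/-- The inverse image over the ring of the affine open. -/
@[reducible] noncomputable def preOver : (f ⁻¹ᵁ W).toScheme.Over (Spec (CommRingCat.of Γ(Y, W))) := ⟨overMap f hW⟩

/-- Sections of a higher direct image from a cocycle. -/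
noncomputable def secOf (M : X.Modules) :
    (Res.ofInjective (injectiveResolution M)).Cyc (f ⁻¹ᵁ W) p →+ Γ((Coh.Rpush f p).obj M, W) :=
  (((injectiveResolution M).isoRightDerivedObj (Coh.push f) p).inv.app W).hom.comp (θH f (injectiveResolution M) p W)

theorem θ_map {S : Scheme.{u}} {K L : CochainComplex S.Modules ℕ} (φ : K ⟶ L) (q : ℕ) (V : S.Opens)
    (z : LinearMap.ker (appₗ (K.d q (q + 1)) V)) (z' : LinearMap.ker (appₗ (L.d q (q + 1)) V))
    (h : z'.1 = (φ.f q).app V z.1) :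
    (HomologicalComplex.homologyMap φ q).app V (θ K q V z) = θ L q V z' := by
  obtain ⟨c, rfl⟩ := (cycSecEquiv K q V).surjective z
  rw [θ_iCycles, show z' = cycSecEquiv L q V ((HomologicalComplex.cyclesMap φ q).app V c) from Subtype.ext (h.trans ?_),
    θ_iCycles]
  · exact congr($(HomologicalComplex.homologyπ_naturality φ q).app V c)
  · exact (congr($(HomologicalComplex.cyclesMap_i φ q).app V c)).symm

theorem secOf_map {M N : X.Modules} (g : M ⟶ N) (z : (Res.ofInjective (injectiveResolution M)).Cyc (f ⁻¹ᵁ W) p) :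
    ∃ (φ : Res.Hom (Res.ofInjective (injectiveResolution M)) (Res.ofInjective (injectiveResolution N)))
      (z' : (Res.ofInjective (injectiveResolution N)).Cyc (f ⁻¹ᵁ W) p),
      φ.f₀ = g ∧ z'.1 = (φ.f p).app (f ⁻¹ᵁ W) z.1 ∧
        ((Coh.Rpush f p).map g).app W (secOf f p M z) = secOf f p N z' := by
  let I := injectiveResolution M
  let J := injectiveResolution N
  let φ : I.cocomplex ⟶ J.cocomplex := InjectiveResolution.desc g J I
  have hφ : I.ι.f 0 ≫ φ.f 0 = g ≫ J.ι.f 0 := InjectiveResolution.desc_commutes_zero g J I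
  let φR : Res.Hom (Res.ofInjective I) (Res.ofInjective J) :=
    { f₀ := g, f := fun n => φ.f n, comm₀ := hφ, comm := fun n => (φ.comm n (n + 1)).symm }
  have hz : (φ.f p).app (f ⁻¹ᵁ W) z.1 ∈ (Res.ofInjective J).Cyc (f ⁻¹ᵁ W) p := by
    rw [Res.mem_cyc]
    exact (congr($(φ.comm p (p + 1)).app (f ⁻¹ᵁ W) z.1)).trans
      ((congrArg ((φ.f (p + 1)).app (f ⁻¹ᵁ W)) (Res.mem_cyc.1 z.2)).trans (map_zero _))
  refine ⟨φR, ⟨_, hz⟩, rfl, rfl, ?_⟩
  have e := InjectiveResolution.isoRightDerivedObj_inv_naturality g I J φ hφ (Coh.push f) p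
  refine (congrArg (fun t : _ ⟶ (Coh.Rpush f p).obj N => Scheme.Modules.Hom.app t W (θH f I p W z)) e).trans ?_
  exact congrArg ((J.isoRightDerivedObj (Coh.push f) p).inv.app W) (θ_map
    (((Coh.push f).mapHomologicalComplex (ComplexShape.up ℕ)).map φ) p W (pushCyc f I p W z)
    (pushCyc f J p W ⟨_, hz⟩) rfl)

variable [QuasiCompact f] [QuasiSeparated f]

include hW in
/-- Sections of higher direct images are the cohomology of the preimage, naturally and linearly. -/
theorem exists_secEquiv (M : X.Modules) [M.IsQuasicoherent] :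
    letI := preOver f hW
    ∃ e : Coh.HH (f ⁻¹ᵁ W).toScheme (M.restrict (f ⁻¹ᵁ W).ι) p ≃ₗ[Γ(Y, W)] Γ((Coh.Rpush f p).obj M, W),
      ∀ z, e (CohCmpLib.clsU (Res.ofInjective (injectiveResolution M)) (f ⁻¹ᵁ W) p z) = secOf f p M z := by
  letI := preOver f hW
  let R := Res.ofInjective (injectiveResolution M)
  let α : R.Cyc (f ⁻¹ᵁ W) p →+ Coh.HH (f ⁻¹ᵁ W).toScheme (M.restrict (f ⁻¹ᵁ W).ι) p := CohCmpLib.clsU R (f ⁻¹ᵁ W) p
  let β := secOf f p M (W := W)
  let e := (injectiveResolution M).isoRightDerivedObj (Coh.push f) p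
  have hβ0 : ∀ z, β z = 0 ↔ z.1 ∈ R.Bd (f ⁻¹ᵁ W) p := fun z => by
    refine ⟨fun h => θH_ker f _ p hW z ?_, fun h => (congrArg (e.inv.app W) (θH_eq_zero_of_bd f _ p z h)).trans (map_zero _)⟩
    have h2 := congrArg (e.hom.app W) h
    rw [map_zero] at h2
    exact (congr($(e.inv_hom_id).app W (θH f (injectiveResolution M) p W z))).symm.trans h2
  have hker : α.ker = β.ker := by
    ext z
    exact (CohCmpLib.clsU_eq_zero_iff (flasque_ofInjective _) _ p z).trans (hβ0 z).symm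
  have hβs : Function.Surjective β := fun s => by
    obtain ⟨z, hz⟩ := θH_surjective f (injectiveResolution M) p hW (e.hom.app W s)
    exact ⟨z, (congrArg (e.inv.app W) hz).trans congr($(e.hom_inv_id).app W s)⟩
  let e₀ := addEquivOfSameKer α β (CohCmpLib.clsU_surjective (flasque_ofInjective _) _ p) hβs hker
  have he : ∀ z, e₀ (α z) = β z := addEquivOfSameKer_apply α β _ _ hker
  refine ⟨AddEquiv.toLinearEquiv e₀ fun a x => ?_, he⟩
  obtain ⟨z, rfl⟩ := CohCmpLib.clsU_surjective (R := R) (flasque_ofInjective _) (f ⁻¹ᵁ W) p x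
  have h1 : a • α z = α ((f.app W).hom a • z) := by
    refine Eq.trans ?_ (CohCmpLib.clsU_smul R (f ⁻¹ᵁ W) p ((f.app W).hom a) z).symm
    exact congrArg (fun t => (show Γ((f ⁻¹ᵁ W).toScheme, ⊤) from t) • α z) (toGlobal_overMap f hW a)
  show e₀ (a • α z) = a • e₀ (α z)
  rw [h1, he, he]
  exact (congrArg (e.inv.app W) (θH_smul f (injectiveResolution M) p W a z)).trans (Scheme.Modules.Hom.app_smul _ a _)

include hW in
/-- Naturality of the identification. -/
theorem secEquiv_natural {M N : X.Modules} [M.IsQuasicoherent] [N.IsQuasicoherent] (g : M ⟶ N)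
    (eM : letI := preOver f hW
      Coh.HH (f ⁻¹ᵁ W).toScheme (M.restrict (f ⁻¹ᵁ W).ι) p ≃ₗ[Γ(Y, W)] Γ((Coh.Rpush f p).obj M, W))
    (eN : letI := preOver f hW
      Coh.HH (f ⁻¹ᵁ W).toScheme (N.restrict (f ⁻¹ᵁ W).ι) p ≃ₗ[Γ(Y, W)] Γ((Coh.Rpush f p).obj N, W))
    (hM : ∀ z, eM (CohCmpLib.clsU (Res.ofInjective (injectiveResolution M)) (f ⁻¹ᵁ W) p z) = secOf f p M z)
    (hN : ∀ z, eN (CohCmpLib.clsU (Res.ofInjective (injectiveResolution N)) (f ⁻¹ᵁ W) p z) = secOf f p N z)
    (x : Coh.HH (f ⁻¹ᵁ W).toScheme (M.restrict (f ⁻¹ᵁ W).ι) p) :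
    letI := preOver f hW
    eN (hmap Γ(Y, W) ((Scheme.Modules.restrictFunctor (f ⁻¹ᵁ W).ι).map g) p x) =
      ((Coh.Rpush f p).map g).app W (eM x) := by
  letI := preOver f hW
  obtain ⟨z, rfl⟩ := CohCmpLib.clsU_surjective (R := Res.ofInjective (injectiveResolution M))
    (flasque_ofInjective _) (f ⁻¹ᵁ W) p x
  obtain ⟨φ, z', h₀, hz', hsec⟩ := secOf_map f p g z
  refine Eq.trans ?_ ((congrArg (((Coh.Rpush f p).map g).app W) (hM z)).trans hsec).symm
  refine Eq.trans (congrArg eN ?_) (hN z')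
  refine Eq.trans ?_ (CohCmpLib.clsU_map φ (f ⁻¹ᵁ W) p z z' hz').symm
  rw [h₀]
  rfl

omit [QuasiCompact f] [QuasiSeparated f] in
include hW in
/-- Formal functions over an affine open, for any model of the quotients by powers of an ideal. -/
theorem exists_bounds [IsProper f] [IsLocallyNoetherian Y] {F : X.Modules} (hF : Coh.IsCoh F) (I : Ideal Γ(Y, W))
    {Q : ℕ → X.Modules} [∀ k, (Q k).IsQuasicoherent] (u : ∀ k, F ⟶ Q k)
    (hu : letI := preOver f hW
      ∀ k, IsQuot (A := Γ(Y, W)) (I ^ (k + 1)) ((Scheme.Modules.restrictFunctor (f ⁻¹ᵁ W).ι).map (u k))) :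
    ∃ c, (∀ k (s : Γ((Coh.Rpush f p).obj F, W)), ((Coh.Rpush f p).map (u (k + c))).app W s = 0 →
        s ∈ I ^ (k + 1) • (⊤ : Submodule Γ(Y, W) Γ((Coh.Rpush f p).obj F, W))) ∧
      ∀ k (t : Q (k + c) ⟶ Q k), u (k + c) ≫ t = u k → ∀ y : Γ((Coh.Rpush f p).obj (Q (k + c)), W),
        ∃ s, ((Coh.Rpush f p).map (u k)).app W s = ((Coh.Rpush f p).map t).app W y := by
  letI := preOver f hW
  let W₀ : X.Opens := f ⁻¹ᵁ W
  let A : Type u := Γ(Y, W)
  have : IsNoetherianRing Γ(Y, W) := IsLocallyNoetherian.component_noetherian ⟨W, hW⟩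
  have hpr : IsProper (f ∣_ W) := IsZariskiLocalAtTarget.restrict (P := @IsProper) (inferInstance : IsProper f) W
  have : IsProper (W₀.toScheme ↘ Spec (CommRingCat.of Γ(Y, W))) :=
    MorphismProperty.comp_mem _ _ _ hpr inferInstance
  have : AlgebraicGeometry.IsNoetherian W₀.toScheme := isNoetherian_of_proper Γ(Y, W) _
  haveI := hF.1
  let Fn := Scheme.Modules.restrictFunctor W₀.ι
  have hF' : Coh.IsCoh (Fn.obj F) :=
    ⟨(QCohMod.isQCoh_iff_of_iso ((Scheme.Modules.restrictFunctorIsoPullback W₀.ι).app F)).2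
        (QCohMod.isQCoh_pullback_obj W₀.ι F),
      @QCohMod.isFT_of_epi _ _ _ (((Scheme.Modules.restrictFunctorIsoPullback W₀.ι).app F).inv)
        inferInstance (QCohMod.isFT_pullback W₀.ι F hF.2)⟩
  have hP := finClass_isCoh (A := Γ(Y, W)) (X := W₀.toScheme) fun G hG q => finite_HH_of_proper Γ(Y, W) W₀.toScheme hG q
  have hPM := fun n => isCoh_powSub (I := I) hF' n
  obtain ⟨c₁, hc₁⟩ := exists_ker_modPowπ_le hP hPM hF' p
  obtain ⟨c₂, hc₂⟩ := exists_range_qTr_le hP hPM hF' p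
  obtain ⟨eF, heF⟩ := exists_secEquiv f hW p F
  choose eQ heQ using fun k => exists_secEquiv f hW p (Q k)
  have nat : ∀ k x, eQ k (hmap Γ(Y, W) (Fn.map (u k)) p x) = ((Coh.Rpush f p).map (u k)).app W (eF x) := fun k x =>
    secEquiv_natural f hW p (u k) eF (eQ k) heF (heQ k) x
  refine ⟨max c₁ c₂, fun k s hs => ?_, fun k t ht y => ?_⟩
  · obtain ⟨x, rfl⟩ := eF.surjective s
    obtain ⟨δ, hδ⟩ := (hu (k + max c₁ c₂)).desc (Formal.modPowπ I (k + max c₁ c₂ + 1) (Fn.obj F))
      (isQuot_modPowπ _ _ _).le_ann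
    have h0 : hmap Γ(Y, W) (Formal.modPowπ I (k + max c₁ c₂ + 1) (Fn.obj F)) p x = 0 := by
      rw [← hδ, ← hmap_comp, (eQ (k + max c₁ c₂)).injective ((nat _ x).trans (hs.trans (map_zero _).symm)), map_zero]
    have h1 := hc₁ _ h0
    refine Submodule.smul_mono_left (Ideal.pow_le_pow_right (by omega : k + 1 ≤ k + max c₁ c₂ + 1 - c₁)) ?_
    refine Submodule.smul_induction_on h1 (fun r hr z _ => ?_) (fun a b ha hb => by rw [map_add]; exact add_mem ha hb)
    rw [map_smul]
    exact Submodule.smul_mem_smul hr trivial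
  · let m := k + max c₁ c₂
    obtain ⟨z, rfl⟩ := (eQ m).surjective y
    obtain ⟨γ, hγ⟩ := (hu m).desc (Formal.modPowπ I (m + 1) (Fn.obj F)) (isQuot_modPowπ _ _ _).le_ann
    obtain ⟨δ, hδ⟩ := (isQuot_modPowπ I (k + 1) (Fn.obj F)).desc (Fn.map (u k)) (hu k).le_ann
    obtain ⟨x, hx⟩ := hc₂ (k + 1) (m + 1) (by omega) (by omega) (hmap Γ(Y, W) γ p z)
    refine ⟨eF x, ?_⟩
    refine (nat k x).symm.trans (Eq.trans ?_ (secEquiv_natural f hW p t (eQ m) (eQ k) (heQ m) (heQ k) z))
    congr 1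
    rw [← hδ, ← hmap_comp, hx, hmap_comp, hmap_comp]
    refine congrArg (fun φ => hmap Γ(Y, W) φ p z) ((hu m).hom_ext ?_)
    rw [← Category.assoc, hγ, ← Category.assoc, modPowπ_qTr, hδ, ← Functor.map_comp, ht]

end Groth.AdicLinTop.ComplFF
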