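import Groth.Agent.AdicLinTop.ExtCompare
import Groth.Agent.AdicLinTop.SpacePres
import Groth.Agent.CohBase.GlobalSections
import Groth.Agent.LocCohZBase.RestrExt

/-!
# Restriction of modules to an open subspace, as abelian sheaves with an action of the sections of the rings
-/

set_option autoImplicit false

universe u

open CategoryTheory CategoryTheory.Limits TopologicalSpace Opposite
open CategoryTheory.Abelian (Ext)

set_option backward.defeqAttrib.useBackward true
set_option backward.isDefEq.respectTransparency false
set_option backward.isDefEq.respectTransparency.types false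
set_option synthInstance.maxHeartbeats 400000

namespace Groth.AdicLinTop.RestrAct

open Groth.SitesTopoi.ModH Groth.AdicLinTop.SpacePres Groth.CohBase Groth.LocCohZBase

variable {T : TopCat.{u}}

section Cmp

variable (U : Opens T)

/-- The unit section over the subspace, as a map from the constant sheaf. -/
noncomputable def cU : constZ (TopCat.of U) ⟶ (CohTop.restrFunctor U).obj (freeOpen U) :=
  (homConstZ _).symm ((freeOpen U).obj.map (homOfLE (functor_top_le U)).op (homFreeOpen U _ (𝟙 _)))

theorem homConstZ_cU {F : AbSheaf T} (φ : freeOpen U ⟶ F) :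
    homConstZ _ (cU U ≫ (CohTop.restrFunctor U).map φ) =
      F.obj.map (homOfLE (functor_top_le U)).op (homFreeOpen U F φ) := by
  rw [homConstZ_comp, cU, AddEquiv.apply_symm_apply]
  conv_rhs => rw [← Category.id_comp φ, homFreeOpen_comp]
  exact NatTrans.naturality_apply φ.hom (homOfLE (functor_top_le U)).op _

theorem bijective_cU (F : AbSheaf T) :
    Function.Bijective fun φ : freeOpen U ⟶ F => cU U ≫ (CohTop.restrFunctor U).map φ := by
  refine ⟨fun a b e => (homFreeOpen U F).injective ((res_functor_top_bijective (V := U) F).1 ?_), fun ψ => ?_⟩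
  · rw [← homConstZ_cU, ← homConstZ_cU]
    exact congrArg _ e
  · obtain ⟨s, hs⟩ := (res_functor_top_bijective (V := U) F).2 (homConstZ _ ψ)
    refine ⟨(homFreeOpen U F).symm s, (homConstZ _).injective ?_⟩
    rw [homConstZ_cU, AddEquiv.apply_symm_apply, hs]

/-- Cohomology on an open is cohomology of the restriction. -/
noncomputable def resH (F : AbSheaf T) (i : ℕ) :
    Ext (freeOpen U) F i →+ Ext (constZ (TopCat.of U)) ((CohTop.restrFunctor U).obj F) i :=
  ExtCompare.cmpHom (CohTop.restrFunctor U) (cU U) F i

theorem bijective_resH (F : AbSheaf T) (i : ℕ) : Function.Bijective (resH U F i) :=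
  ExtCompare.bijective_cmp (CohTop.restrFunctor U) (cU U) (bijective_cU U)
    (fun I _ i => by
      haveI : Injective ((CohTop.restrFunctor U).obj I) := injective_restr U I
      exact subsingleton_of_forall_eq 0 fun x => Ext.eq_zero_of_injective x) i F

theorem resH_map {F G : AbSheaf T} (φ : F ⟶ G) (i : ℕ) (x : Ext (freeOpen U) F i) :
    resH U G i (x.comp (Ext.mk₀ φ) (add_zero i)) =
      (resH U F i x).comp (Ext.mk₀ ((CohTop.restrFunctor U).map φ)) (add_zero i) :=
  ExtCompare.cmp_map _ _ φ x

end Cmp

variable {O : Sheaf (Opens.grothendieckTopology T) CommRingCat.{u}} (U : Opens T)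

/-- A module as an abelian sheaf on an open subspace. -/
noncomputable abbrev restrAb (M : ModSite.Mod O) : AbSheaf (TopCat.of U) :=
  (CohTop.restrFunctor U).obj (ModSite.toAb M)

/-- The map of a linear map. -/
noncomputable abbrev restrMap {M N : ModSite.Mod O} (φ : M ⟶ N) : restrAb U M ⟶ restrAb U N :=
  (CohTop.restrFunctor U).map ((SheafOfModules.toSheaf _).map φ)

/-- The image of an open of the subspace. -/
abbrev img (W : Opens (TopCat.of U)) : Opens T := (isOpenMap_incl U).functor.obj W

theorem img_le (W : Opens (TopCat.of U)) : img U W ≤ U := functor_obj_le U W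

/-- Multiplication by a section of the structure sheaf. -/
noncomputable def smulHom (M : ModSite.Mod O) (a : rsec O U) : restrAb U M ⟶ restrAb U M :=
  ⟨{ app := fun W => AddCommGrpCat.ofHom
      (AddMonoidHom.mk' (fun x : sc M.val (img U W.unop) => rr (img_le U W.unop) a • x) fun x y => smul_add _ x y)
     naturality := fun W W' i => by
       refine AddCommGrpCat.hom_ext (AddMonoidHom.ext fun x => ?_)
       have hle : img U W'.unop ≤ img U W.unop := leOfHom ((isOpenMap_incl U).functor.map i.unop)
       show rr (img_le U W'.unop) a • rm M hle (show sc M.val (img U W.unop) from x) =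
         rm M hle (rr (img_le U W.unop) a • (show sc M.val (img U W.unop) from x))
       rw [rm_smul, rr_rr] }⟩

theorem smulHom_app (M : ModSite.Mod O) (a : rsec O U) (W : Opens (TopCat.of U)) (x : sc M.val (img U W)) :
    (smulHom U M a).hom.app (op W) x = rr (img_le U W) a • x := rfl

theorem hom_ext_sec (M : ModSite.Mod O) {f g : restrAb U M ⟶ restrAb U M}
    (h : ∀ (W : Opens (TopCat.of U)) (x : sc M.val (img U W)), f.hom.app (op W) x = g.hom.app (op W) x) : f = g :=
  Sheaf.hom_ext (NatTrans.ext (funext fun W => AddCommGrpCat.hom_ext (AddMonoidHom.ext fun x => h W.unop x)))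

/-- The action of the sections of the structure sheaf. -/
noncomputable def smulEnd (M : ModSite.Mod O) : rsec O U →+* End (restrAb U M) where
  toFun := smulHom U M
  map_one' := hom_ext_sec U M fun W x => by
    rw [smulHom_app, map_one, one_smul]
    rfl
  map_mul' a b := hom_ext_sec U M fun W x => by
    rw [smulHom_app, map_mul, mul_smul]
    rfl
  map_zero' := hom_ext_sec U M fun W x => by
    rw [smulHom_app, map_zero, zero_smul]
    rfl
  map_add' a b := hom_ext_sec U M fun W x => by
    rw [smulHom_app, map_add, add_smul]
    rfl

theorem smulHom_naturality {M N : ModSite.Mod O} (φ : M ⟶ N) (a : rsec O U) :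
    smulHom U M a ≫ restrMap U φ = restrMap U φ ≫ smulHom U N a :=
  Sheaf.hom_ext (NatTrans.ext (funext fun W => AddCommGrpCat.hom_ext (AddMonoidHom.ext fun x =>
    (apm φ.val (img U W.unop)).map_smul _ _)))

end Groth.AdicLinTop.RestrAct
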