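import Groth.Agent.AdicLinTop.ExtTower
import Groth.Agent.AdicLinTop.RestrAct
import Groth.Agent.AdicLinTop.FormalCoh
import Groth.Agent.CohBase.Modules

/-!
# The tower of levels of a coherent module on a formal scheme
-/

set_option autoImplicit false

universe u

open CategoryTheory CategoryTheory.Limits AlgebraicGeometry TopologicalSpace Opposite

set_option backward.defeqAttrib.useBackward true
set_option backward.isDefEq.respectTransparency false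
set_option backward.isDefEq.respectTransparency.types false
set_option synthInstance.maxHeartbeats 400000

namespace Groth.AdicLinTop.FormalTower

open Groth.SitesTopoi.ModH Groth.AdicLinTop.SpacePres Groth.AdicLinTop.FormalAffine Groth.AdicLinTop.FormalReal
open Groth.AdicLinTop.FormalCoh (sys isCoh_sys unit_toPush)
open Groth.AdicLinTop.RestrAct

variable {𝔛 : FSch.Sys.{u}} (h𝔛 : 𝔛.IsLocNoethFormal) (𝔉 : FSch.ModF 𝔛 h𝔛.1)

/-- The reduction to a level. -/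
noncomputable abbrev levM (k : ℕ) : FSch.ModF 𝔛 h𝔛.1 :=
  (FSch.levelMor 𝔛 h𝔛.1 k).push.obj ((FSch.levelMor 𝔛 h𝔛.1 k).pull.obj 𝔉)

theorem levelTrans_eq (k : ℕ) :
    FSch.levelTrans 𝔛 h𝔛.1 𝔉 k = trans h𝔛.1 (sys h𝔛.1 𝔉) k := by
  have h1 : ((FSch.levelMor 𝔛 h𝔛.1 (k + 1)).adj.homEquiv _ _).symm
      ((FSch.levelMor 𝔛 h𝔛.1 k).adj.unit.app 𝔉 ≫
        (FSch.pushCompareInv 𝔛 h𝔛.1 k).app ((FSch.levelMor 𝔛 h𝔛.1 k).pull.obj 𝔉)) =
      (sys h𝔛.1 𝔉).toPush k := by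
    rw [Equiv.symm_apply_eq]
    refine Eq.trans ?_ (Adjunction.homEquiv_unit _ _ _ _).symm
    let ψ := (FSch.levelMor 𝔛 h𝔛.1 (k + 1)).adj.unit.app 𝔉 ≫
      (FSch.levelMor 𝔛 h𝔛.1 (k + 1)).push.map ((sys h𝔛.1 𝔉).toPush k)
    let i := (Groth.AdicLinTop.FormalCoh.compareIso h𝔛.1 k).app ((FSch.levelMor 𝔛 h𝔛.1 k).pull.obj 𝔉)
    have e : ψ ≫ i.hom = (FSch.levelMor 𝔛 h𝔛.1 k).adj.unit.app 𝔉 :=
      (Category.assoc _ _ _).trans (unit_toPush h𝔛.1 𝔉 k)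
    exact ((Iso.eq_comp_inv i).2 e).symm
  exact congrArg (fun ψ => (FSch.levelMor 𝔛 h𝔛.1 (k + 1)).push.map ψ ≫
    (FSch.pushCompare 𝔛 h𝔛.1 k).app ((FSch.levelMor 𝔛 h𝔛.1 k).pull.obj 𝔉)) h1

variable (h𝔉 : FSch.IsCohF 𝔛 h𝔛.1 𝔉)

include h𝔉 in
/-- Transitions are surjective over affine opens. -/
theorem surjective_trans {V : (𝔛.X 0).Opens} (hV : IsAffineOpen V) (k : ℕ) :
    Function.Surjective (apm (FSch.levelTrans 𝔛 h𝔛.1 𝔉 k).val V) := by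
  rw [levelTrans_eq h𝔛]
  exact (trans_spec h𝔛 (isCoh_sys h𝔛 h𝔉) hV k).1

include h𝔉 in
/-- The kernel of a transition is killed by the ideal of definition. -/
theorem smul_eq_zero_of_trans_eq_zero {V : (𝔛.X 0).Opens} (k : ℕ) {a : RS h𝔛.1 V} (ha : projR 0 V a = 0)
    (x : sc (levM h𝔛 𝔉 (k + 1)).val V) (hx : apm (FSch.levelTrans 𝔛 h𝔛.1 𝔉 k).val V x = 0) : a • x = 0 := by
  rw [levelTrans_eq h𝔛] at hx
  refine eq_zero_of_local fun p hp => ?_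
  obtain ⟨_, ⟨W, hW, rfl⟩, hpW, hWV⟩ := (𝔛.X 0).isBasis_affineOpens.exists_subset_of_mem_open hp V.2
  refine ⟨W, hWV, hpW, ?_⟩
  let 𝔐 := sys h𝔛.1 𝔉
  have h𝔐 : 𝔐.IsCoh := isCoh_sys h𝔛 h𝔉
  have ha' : resR h𝔛.1 hWV a ∈ idl h𝔛.1 W := by
    rw [RingHom.mem_ker]
    refine (projR_resR 0 hWV a).trans ?_
    rw [ha, map_zero]
  have hx' : app (trans h𝔛.1 𝔐 k) W (rs _ hWV x) = 0 :=
    (rs_app (trans h𝔛.1 𝔐 k) hWV x).trans ((congrArg _ hx).trans (map_zero _))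
  obtain ⟨m, hm⟩ := ((proj_spec h𝔛 h𝔐 hW).2 (k + 1)).1 (rs _ hWV x)
  have hm0 : app (proj h𝔛.1 𝔐 k) W m = 0 := by
    rw [← proj_trans h𝔛.1 𝔐 k, app_comp]
    exact (congrArg _ hm).trans hx'
  have hmem := ((proj_spec h𝔛 h𝔐 hW).2 k).2.le (LinearMap.mem_ker.2 hm0)
  have hres : app (proj h𝔛.1 𝔐 (k + 1)) W (resR h𝔛.1 hWV a • m) = 0 := by
    refine LinearMap.mem_ker.1 (((proj_spec h𝔛 h𝔐 hW).2 (k + 1)).2.ge ?_)
    rw [pow_succ', Submodule.mul_smul]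
    exact Submodule.smul_mem_smul ha' hmem
  rw [rm_smul]
  refine Eq.trans (congrArg (_ • ·) hm.symm) (((app (proj h𝔛.1 𝔐 (k + 1)) W).map_smul _ _).symm.trans hres)

variable (U : (𝔛.X 0).Opens) {A : Type u} [CommRing A] (φ : A →+* RS h𝔛.1 U)

/-- The tower of abelian sheaves on an open subspace. -/
noncomputable abbrev FU (k : ℕ) : Groth.CohBase.AbSheaf (TopCat.of U) :=
  restrAb (T := (𝔛.X 0).toTopCat) U (levM h𝔛 𝔉 k)

/-- Its transitions. -/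
noncomputable abbrev pk (k : ℕ) : FU h𝔛 𝔉 U (k + 1) ⟶ FU h𝔛 𝔉 U k :=
  restrMap U (FSch.levelTrans 𝔛 h𝔛.1 𝔉 k)

/-- The action at a level. -/
noncomputable def σU (k : ℕ) : A →+* End (FU h𝔛 𝔉 U k) := (smulEnd U (levM h𝔛 𝔉 k)).comp φ

theorem σU_app (k : ℕ) (a : A) (W : Opens (TopCat.of U)) (x : sc (levM h𝔛 𝔉 k).val (img U W)) :
    (show FU h𝔛 𝔉 U k ⟶ FU h𝔛 𝔉 U k from σU h𝔛 𝔉 U φ k a).hom.app (op W) x =
      rr (img_le U W) (φ a) • x := rfl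

include h𝔉 in
theorem epi_pk (k : ℕ) : Epi (pk h𝔛 𝔉 U k) := by
  haveI : Epi (FSch.levelTrans 𝔛 h𝔛.1 𝔉 k) := epi_of_affine_surjective _ fun V hV => surjective_trans h𝔛 𝔉 h𝔉 hV k
  haveI : Epi ((SheafOfModules.toSheaf _).map (FSch.levelTrans 𝔛 h𝔛.1 𝔉 k)) := inferInstance
  exact (CohTop.restrFunctor U).map_epi _

include h𝔉 in
/-- The tower satisfies the hypotheses of the cohomological machinery. -/
theorem data {r : ℕ} (t : Fin r → A) (ht : ∀ i, φ (t i) ∈ idl h𝔛.1 U) :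
    ExtTower.Data (pk h𝔛 𝔉 U) t (σU h𝔛 𝔉 U φ) where
  epi := epi_pk h𝔛 𝔉 h𝔉 U
  nat m a := smulHom_naturality U (FSch.levelTrans 𝔛 h𝔛.1 𝔉 m) (φ a)
  kill0 i := hom_ext_sec U _ fun W x => by
    refine (σU_app h𝔛 𝔉 U φ 0 (t i) W x).trans ((smul_push_eq_zero 0 _ _ ?_ x).trans ?_)
    · refine (projR_resR 0 (img_le U W) (φ (t i))).trans ?_
      rw [show projR 0 U (φ (t i)) = 0 from ht i, map_zero]
    · rfl
  killK i m := by
    refine Sheaf.hom_ext (NatTrans.ext (funext fun W => AddCommGrpCat.hom_ext (AddMonoidHom.ext fun s => ?_)))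
    show rr (img_le U W.unop) (φ (t i)) •
      (show sc (levM h𝔛 𝔉 (m + 1)).val (img U W.unop) from (kernel.ι (pk h𝔛 𝔉 U m)).hom.app W s) = 0
    refine smul_eq_zero_of_trans_eq_zero h𝔛 𝔉 h𝔉 m ?_ _ ?_
    · refine (projR_resR 0 (img_le U W.unop) (φ (t i))).trans ?_
      rw [show projR 0 U (φ (t i)) = 0 from ht i, map_zero]
    · exact ConcreteCategory.congr_hom (congrArg (fun ψ => ψ.hom.app W) (kernel.condition (pk h𝔛 𝔉 U m))) s

end Groth.AdicLinTop.FormalTower
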