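import Groth.Agent.AdicLinTop.ComplPull
import Groth.Agent.AdicLinTop.FormalTower
import Groth.Agent.QCohMod.QCQS
import Groth.Agent.QCohMod.PullbackQCoh
import Groth.Prelude.Def_Coh

/-!
# Levels of the completion of a module, seen on the scheme
-/

set_option autoImplicit false

universe u

open CategoryTheory CategoryTheory.Limits AlgebraicGeometry TopologicalSpace Opposite

set_option backward.defeqAttrib.useBackward true
set_option backward.isDefEq.respectTransparency false
set_option backward.isDefEq.respectTransparency.types false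
set_option synthInstance.maxHeartbeats 400000
set_option maxHeartbeats 1000000

namespace Groth.AdicLinTop.ComplLevels

open Groth.SitesTopoi.ModH Groth.AdicLinTop.SpacePres
open Groth.AdicLinTop.ComplPull (uMor)

variable (X : Scheme.{u}) (𝓘 : X.IdealSheafData) (hX : (FSch.completionAlong X 𝓘).IsFormal) (k : ℕ)

/-- The comparison of direct images from a level. -/
noncomputable abbrev cmp :=
  FSch.schPushCompare (FSch.completionAlong X 𝓘) hX (FSch.completionToX X 𝓘) (FSch.completionToX_comm X 𝓘) k

theorem cmp_app (G : ((FSch.completionAlong X 𝓘).X k).Modules) (U : X.Opens)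
    (x : Γ(G, FSch.completionToX X 𝓘 k ⁻¹ᵁ U)) :
    ((cmp X 𝓘 hX k).app G).val.app (op U) x =
      G.presheaf.map (homOfLE (FSch.lvU_p _ hX _ (FSch.completionToX_comm X 𝓘) k U).ge).op x := rfl

theorem isIso_cmp : IsIso (cmp X 𝓘 hX k) := by
  haveI : ∀ G, IsIso ((cmp X 𝓘 hX k).app G) := fun G => by
    have hb : ∀ U : X.Opens, Function.Bijective (((cmp X 𝓘 hX k).app G).val.app (op U)) := fun U => by
      have e := FSch.lvU_p _ hX _ (FSch.completionToX_comm X 𝓘) k U
      refine ⟨fun a b h => ?_, fun y => ⟨Groth.QCohMod.res G e.le y, ?_⟩⟩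
      · rw [cmp_app, cmp_app] at h
        have h2 := congrArg (Groth.QCohMod.res G e.le) (show Groth.QCohMod.res G e.ge a = Groth.QCohMod.res G e.ge b from h)
        rwa [Groth.QCohMod.res_res, Groth.QCohMod.res_res, Groth.QCohMod.res_self, Groth.QCohMod.res_self] at h2
      · rw [cmp_app]
        show Groth.QCohMod.res G e.ge (Groth.QCohMod.res G e.le y) = y
        rw [Groth.QCohMod.res_res, Groth.QCohMod.res_self]
    haveI : Mono ((cmp X 𝓘 hX k).app G) := mono_of_injective _ fun W => (hb W).1
    haveI : Epi ((cmp X 𝓘 hX k).app G) := ⟨fun g g' h => mod_hom_ext fun W z => by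
      obtain ⟨y, rfl⟩ := (hb W).2 z
      exact congrArg (fun φ => apm (SheafOfModules.Hom.val φ) W y) h⟩
    exact isIso_of_mono_of_epi _
  exact NatIso.isIso_of_isIso_app _

/-- A level seen on the scheme is the direct image of the pullback to the level. -/
theorem exists_levels (F : X.Modules) :
    ∃ θ : (Scheme.Modules.pushforward (FSch.completionToX X 𝓘 k)).obj
          ((Scheme.Modules.pullback (FSch.completionToX X 𝓘 k)).obj F) ⟶
        (show FSch.ModF (FSch.completionAlong X 𝓘) hX ⥤ X.Modules from (uMor X 𝓘 hX).push).obj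
          ((FSch.levelMor (FSch.completionAlong X 𝓘) hX k).push.obj
            ((FSch.levelMor (FSch.completionAlong X 𝓘) hX k).pull.obj ((uMor X 𝓘 hX).pull.obj F))),
      IsIso θ ∧ (Scheme.Modules.pullbackPushforwardAdjunction (FSch.completionToX X 𝓘 k)).unit.app F ≫ θ =
        (show (F : X.Modules) ⟶ (show FSch.ModF (FSch.completionAlong X 𝓘) hX ⥤ X.Modules from (uMor X 𝓘 hX).push).obj
          ((uMor X 𝓘 hX).pull.obj F) from (uMor X 𝓘 hX).adj.unit.app F) ≫
          (show FSch.ModF (FSch.completionAlong X 𝓘) hX ⥤ X.Modules from (uMor X 𝓘 hX).push).map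
            ((FSch.levelMor (FSch.completionAlong X 𝓘) hX k).adj.unit.app ((uMor X 𝓘 hX).pull.obj F)) := by
  haveI := isIso_cmp X 𝓘 hX k
  let A1 := (uMor X 𝓘 hX).adj.comp (FSch.levelMor (FSch.completionAlong X 𝓘) hX k).adj
  let A2 := (Scheme.Modules.pullbackPushforwardAdjunction (FSch.completionToX X 𝓘 k)).ofNatIsoRight
    (asIso (cmp X 𝓘 hX k))
  let L := Adjunction.leftAdjointUniq A2 A1
  refine ⟨(cmp X 𝓘 hX k).app _ ≫ ((FSch.levelMor (FSch.completionAlong X 𝓘) hX k).push ⋙ (uMor X 𝓘 hX).push).map
    (L.hom.app F), inferInstance, ?_⟩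
  have h1 := Adjunction.unit_leftAdjointUniq_hom_app A2 A1 F
  refine Eq.trans ?_ (h1.trans (Adjunction.comp_unit_app _ _ _))
  refine (Category.assoc _ _ _).symm.trans (congrArg (fun t : F ⟶ _ => t ≫ _) ?_)
  simp [A2, Adjunction.ofNatIsoRight]

end Groth.AdicLinTop.ComplLevels
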