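import Groth.Agent.AdicLinTop.ComplPull
import Groth.Agent.AdicLinTop.FormalPullback

/-!
# Completions of direct images are direct images of completions, given bounds
-/

set_option autoImplicit false

universe u

open CategoryTheory CategoryTheory.Limits AlgebraicGeometry TopologicalSpace Opposite

namespace Groth.AdicLinTop.ComplPush

open Groth.AdicLinTop.FormalLevels Groth.AdicLinTop.FormalReal Groth.AdicLinTop.FormalAffine
open Groth.AdicLinTop.FormalSpan Groth.AdicLinTop.ComplReal Groth.AdicLinTop.ComplPull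
open Groth.AdicLinTop.FormalPullback (pre shpR projR_shpR)
open Groth.AdicLinTop.CompletionFlat (sharp)
open Groth.QCohMod (res res_res res_self)

section Linear

variable {𝔛 𝔜 : FSch.Sys.{u}} (φ : 𝔛 ⟶ 𝔜) {h : 𝔛.IsFormal} (h𝔜 : 𝔜.IsLocNoethFormal) {N : FSch.ModF 𝔜 h𝔜.1}
  {𝔐 : FSch.ModSys 𝔛}

/-- Maps into direct images of realisations respect the filtration by the ideal of definition. -/
theorem lev_app_add_of_mem (θ : N ⟶ (FSch.pushF φ h h𝔜.1).obj (𝔐.realMod h)) {U : (𝔜.X 0).Opens} (hU : IsAffineOpen U)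
    (k : ℕ) (d g₀ : Sec N U) (hd : d ∈ idl h𝔜.1 U ^ (k + 1) • (⊤ : Submodule (RS h𝔜.1 U) (Sec N U))) :
    lev h 𝔐 k (pre φ U) (app θ U (g₀ + d)) = lev h 𝔐 k (pre φ U) (app θ U g₀) := by
  refine (congrArg (lev h 𝔐 k (pre φ U)) (map_add (app θ U) g₀ d)).trans ?_
  refine (FormalPullback.lev_add 𝔐 k _ _ _).trans ?_
  refine (congrArg (lev h 𝔐 k (pre φ U) (app θ U g₀) + ·) ?_).trans (add_zero _)
  refine Submodule.smul_induction_on hd (fun a ha y _ => ?_) (fun y y' hy hy' => ?_)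
  · refine (congrArg (lev h 𝔐 k (pre φ U)) ((app θ U).map_smul a y)).trans ?_
    refine (lev_smul 𝔐 k (shpR φ h h𝔜.1 U a) (show Sec (𝔐.realMod h) (pre φ U) from app θ U y)).trans ?_
    rw [projR_shpR, (mem_pow_iff h𝔜 hU k a).1 ha, map_zero, zero_smul]
  · refine (congrArg (lev h 𝔐 k (pre φ U)) (map_add (app θ U) y y')).trans ?_
    refine (FormalPullback.lev_add 𝔐 k _ _ _).trans ?_
    exact (congrArg₂ (· + ·) hy hy').trans (add_zero _)

end Linear

variable {X Z : Scheme.{u}} {g : Z ⟶ X} {𝓚 : Z.IdealSheafData} {𝓘 : X.IdealSheafData}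
  (hpc : FSch.PowCompat g 𝓚 𝓘) {hZ : (FSch.completionAlong Z 𝓚).IsFormal} {hX : (FSch.completionAlong X 𝓘).IsFormal}
  (F : Z.Modules)

/-- The completed morphism. -/
noncomputable abbrev gHat : FSch.completionAlong Z 𝓚 ⟶ FSch.completionAlong X 𝓘 := FSch.completionMap g 𝓚 𝓘 hpc

include hpc in
theorem pre_op0 (W : X.Opens) : pre (gHat hpc) (op0 𝓘 W) = op0 𝓚 (g ⁻¹ᵁ W) := by
  have h := congrArg (fun t : (FSch.completionAlong Z 𝓚).X 0 ⟶ X => t ⁻¹ᵁ W) (FSch.completionMap_sq g 𝓚 𝓘 hpc 0)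
  exact h.symm

variable (hZ) in
/-- The image of a section of the direct image at a level upstairs. -/
noncomputable def cevP (k : ℕ) (W : X.Opens) (m : Γ(F, g ⁻¹ᵁ W)) :
    Γ((FSch.complMod 𝓚 F).F k, (FSch.completionAlong Z 𝓚).lvU hZ k (pre (gHat hpc) (op0 𝓘 W))) :=
  res _ (lvU_mono hZ k (pre_op0 hpc W).le) (cev hZ F k (g ⁻¹ᵁ W) m)

variable [IsLocallyNoetherian Z]

variable (hZ) in
/-- The value of the canonical morphism. -/
noncomputable def pVal (W : X.Opens) (m : Γ(F, g ⁻¹ᵁ W)) :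
    Sec ((FSch.complMod 𝓚 F).realMod hZ) (pre (gHat hpc) (op0 𝓘 W)) :=
  rs ((FSch.complMod 𝓚 F).realMod hZ) (pre_op0 hpc W).le (gammaVal hZ F (g ⁻¹ᵁ W) m)

theorem lev_pVal (k : ℕ) (W : X.Opens) (m : Γ(F, g ⁻¹ᵁ W)) :
    lev hZ (FSch.complMod 𝓚 F) k (pre (gHat hpc) (op0 𝓘 W)) (pVal hpc hZ F W m) = cevP hpc hZ F k W m :=
  (lev_rs (FSch.complMod 𝓚 F) k (pre_op0 hpc W).le _).trans
    (congrArg (res _ _) (lev_gammaVal F (g ⁻¹ᵁ W) m k))

theorem cevP_add (k : ℕ) (W : X.Opens) (m m' : Γ(F, g ⁻¹ᵁ W)) :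
    cevP hpc hZ F k W (m + m') = cevP hpc hZ F k W m + cevP hpc hZ F k W m' :=
  (congrArg (res _ _) (cev_add hZ F k (g ⁻¹ᵁ W) m m')).trans (map_add _ _ _)

theorem pVal_add (W : X.Opens) (m m' : Γ(F, g ⁻¹ᵁ W)) :
    pVal hpc hZ F W (m + m') = pVal hpc hZ F W m + pVal hpc hZ F W m' :=
  lev_ext_gen fun k => by
    rw [FormalPullback.lev_add, lev_pVal, lev_pVal, lev_pVal, cevP_add]

theorem pVal_rs {W W' : X.Opens} (e : W' ≤ W) (m : Γ(F, g ⁻¹ᵁ W)) :
    pVal hpc hZ F W' (res F (g.preimage_mono e) m) =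
      rs ((FSch.complMod 𝓚 F).realMod hZ)
        (((gHat hpc : FSch.Hom _ _).app 0).preimage_mono ((FSch.completionToX X 𝓘 0).preimage_mono e))
        (pVal hpc hZ F W m) :=
  lev_ext_gen fun k => by
    rw [lev_rs, lev_pVal, lev_pVal]
    refine (congrArg (res _ (lvU_mono hZ k (pre_op0 hpc W').le)) (cev_res F k (g.preimage_mono e) m)).trans ?_
    exact (res_res _ _ _ _).trans (res_res _ _ _ _).symm

theorem appLE_sq (k : ℕ) (W : X.Opens) {B : ((FSch.completionAlong Z 𝓚).X k).Opens}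
    (e₁ : B ≤ FSch.completionToX Z 𝓚 k ⁻¹ᵁ (g ⁻¹ᵁ W)) {C : ((FSch.completionAlong X 𝓘).X k).Opens}
    (e₂ : C ≤ FSch.completionToX X 𝓘 k ⁻¹ᵁ W) (e₃ : B ≤ ((gHat hpc : FSch.Hom _ _).app k) ⁻¹ᵁ C) (r : Γ(X, W)) :
    (FSch.completionToX Z 𝓚 k).appLE (g ⁻¹ᵁ W) B e₁ (g.app W r) =
      ((gHat hpc : FSch.Hom _ _).app k).appLE C B e₃ ((FSch.completionToX X 𝓘 k).appLE W C e₂ r) := by
  have key : ∀ {S : Scheme.{u}} (a b : S ⟶ X) (hab : a = b) (B : S.Opens) (ea : B ≤ a ⁻¹ᵁ W) (eb : B ≤ b ⁻¹ᵁ W),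
      a.appLE W B ea = b.appLE W B eb := by
    intro S a b hab B ea eb
    subst hab
    rfl
  rw [← CommRingCat.comp_apply, ← CommRingCat.comp_apply, Scheme.Hom.app_eq_appLE, Scheme.Hom.appLE_comp_appLE,
    Scheme.Hom.appLE_comp_appLE]
  exact congr($(key _ _ (FSch.completionMap_sq g 𝓚 𝓘 hpc k) B _ _) r)

variable [IsLocallyNoetherian X] in
theorem pVal_smul (W : X.Opens) (r : Γ(X, W)) (m : Γ(F, g ⁻¹ᵁ W)) :
    pVal hpc hZ F W (g.app W r • m) = shpR (gHat hpc) hZ hX (op0 𝓘 W) (sharp X 𝓘 hX W r) • pVal hpc hZ F W m :=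
  lev_ext_gen fun k => by
    rw [lev_smul, lev_pVal, lev_pVal, projR_shpR, projR_sharp]
    refine (congrArg (res _ (lvU_mono hZ k (pre_op0 hpc W).le)) (cev_smul F k (g ⁻¹ᵁ W) (g.app W r) m)).trans ?_
    refine (Groth.QCohMod.res_smul _ _ _ _).trans ?_
    refine congrArg (· • cevP hpc hZ F k W m) ?_
    refine Eq.trans (congr($(Scheme.Hom.appLE_map (FSch.completionToX Z 𝓚 k) (le_preimage hZ k (g ⁻¹ᵁ W))
      (homOfLE (lvU_mono hZ k (pre_op0 hpc W).le)).op) (g.app W r))) ?_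
    exact appLE_sq hpc k W _ (le_preimage hX k W) _ r

variable [IsLocallyNoetherian X]

variable (hZ hX) in
/-- The canonical morphism from the direct image to the completion upstairs. -/
noncomputable def gammaP : asMod ((Scheme.Modules.pushforward g).obj F) ⟶
    (uMor X 𝓘 hX).push.obj ((FSch.pushF (gHat hpc) hZ hX).obj ((FSch.complMod 𝓚 F).realMod hZ)) :=
  ⟨PresheafOfModules.homMk
    { app := fun W => AddCommGrpCat.ofHom (AddMonoidHom.mk' (fun m => pVal hpc hZ F W.unop m) fun m m' =>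
        pVal_add hpc F W.unop m m')
      naturality := fun W W' i => by
        ext m
        exact pVal_rs hpc F i.unop.le m }
    fun W r m => pVal_smul hpc (hX := hX) F W.unop r m⟩

theorem img_gammaP (W : X.Opens) (m : Γ(F, g ⁻¹ᵁ W)) :
    PullRep.img (gammaP hpc hZ hX F) (show Γ((Scheme.Modules.pushforward g).obj F, W) from m) =
      (show Sec ((FSch.pushF (gHat hpc) hZ hX).obj ((FSch.complMod 𝓚 F).realMod hZ)) (op0 𝓘 W) from
        pVal hpc hZ F W m) := rfl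

/-- Bounds for sections of the levels over the inverse image of an open. -/
def Bounds (W : X.Opens) (I : Ideal Γ(X, W)) : Prop :=
  ∃ c : ℕ, (∀ n (m : Γ((Scheme.Modules.pushforward g).obj F, W)), cevP hpc hZ F (n + c) W m = 0 →
      m ∈ I ^ (n + 1) • (⊤ : Submodule Γ(X, W) Γ((Scheme.Modules.pushforward g).obj F, W))) ∧
    ∀ n (y : Sec ((FSch.complMod 𝓚 F).realMod hZ) (pre (gHat hpc) (op0 𝓘 W))),
      ∃ m : Γ(F, g ⁻¹ᵁ W), lev hZ (FSch.complMod 𝓚 F) n (pre (gHat hpc) (op0 𝓘 W)) y = cevP hpc hZ F n W m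

variable (hG : Coh.IsCoh ((Scheme.Modules.pushforward g).obj F))

variable (hX hZ) in
/-- The comparison map. -/
noncomputable def comp : (FSch.complMod 𝓘 ((Scheme.Modules.pushforward g).obj F)).realMod hX ⟶
    (FSch.pushF (gHat hpc) hZ hX).obj ((FSch.complMod 𝓚 F).realMod hZ) :=
  @inv _ _ _ _ (((uMor X 𝓘 hX).adj.homEquiv _ _).symm (gamma hX ((Scheme.Modules.pushforward g).obj F)))
      (isIso_gamma_adjunct hX hG) ≫
    ((uMor X 𝓘 hX).adj.homEquiv _ _).symm (gammaP hpc hZ hX F)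

theorem comp_fac : gamma hX ((Scheme.Modules.pushforward g).obj F) ≫ (uMor X 𝓘 hX).push.map (comp hpc hZ hX F hG) =
    gammaP hpc hZ hX F := by
  apply ((uMor X 𝓘 hX).adj.homEquiv _ _).symm.injective
  rw [Adjunction.homEquiv_naturality_right_symm]
  exact @IsIso.hom_inv_id_assoc _ _ _ _ _ (isIso_gamma_adjunct hX hG) _ _

theorem app_comp_gammaVal (W : X.Opens) (m : Γ((Scheme.Modules.pushforward g).obj F, W)) :
    app (comp hpc hZ hX F hG) (op0 𝓘 W) (gammaVal hX ((Scheme.Modules.pushforward g).obj F) W m) =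
      PullRep.img (gammaP hpc hZ hX F) m := by
  have h := congrArg (fun t => PullRep.img (f := uMor X 𝓘 hX) t m) (comp_fac hpc (hZ := hZ) (hX := hX) F hG)
  exact h

theorem lev_app_comp {W : X.Opens} (hW : IsAffineOpen W) (k : ℕ)
    (x : Sec ((FSch.complMod 𝓘 ((Scheme.Modules.pushforward g).obj F)).realMod hX) (op0 𝓘 W))
    (m : Γ((Scheme.Modules.pushforward g).obj F, W))
    (hx : lev hX (FSch.complMod 𝓘 ((Scheme.Modules.pushforward g).obj F)) k _ x =
      cev hX ((Scheme.Modules.pushforward g).obj F) k W m) :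
    lev hZ (FSch.complMod 𝓚 F) k (pre (gHat hpc) (op0 𝓘 W)) (app (comp hpc hZ hX F hG) (op0 𝓘 W) x) =
      cevP hpc hZ F k W m := by
  have hN := CompletionFlat.isLocNoethFormal X 𝓘
  have hW0 : IsAffineOpen (op0 𝓘 W) := isAffineOpen_op0 hW
  obtain ⟨d, rfl⟩ : ∃ d, gammaVal hX ((Scheme.Modules.pushforward g).obj F) W m + d = x := ⟨_, add_sub_cancel _ x⟩
  have hd : d ∈ idl hX (op0 𝓘 W) ^ (k + 1) • (⊤ : Submodule (RS hX (op0 𝓘 W)) _) := by
    refine (lev_eq_zero_iff hN (isCoh_complMod hG) hW0 k d).1 ?_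
    rw [FormalPullback.lev_add, lev_gammaVal] at hx
    exact add_eq_left.1 hx
  have h1 := lev_app_add_of_mem (gHat hpc) (h := hZ) hN (𝔐 := FSch.complMod 𝓚 F) (comp hpc hZ hX F hG) hW0 k d
    (gammaVal hX ((Scheme.Modules.pushforward g).obj F) W m) hd
  have h2 : app (comp hpc hZ hX F hG) (op0 𝓘 W) (gammaVal hX ((Scheme.Modules.pushforward g).obj F) W m) =
      (show Sec ((FSch.pushF (gHat hpc) hZ hX).obj ((FSch.complMod 𝓚 F).realMod hZ)) (op0 𝓘 W) from
        pVal hpc hZ F W m) :=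
    (app_comp_gammaVal hpc F hG W m).trans (img_gammaP hpc F W m)
  exact h1.trans ((congrArg (lev hZ (FSch.complMod 𝓚 F) k (pre (gHat hpc) (op0 𝓘 W))) h2).trans (lev_pVal hpc F k W m))

theorem exists_approx {W : X.Opens} {I : Ideal Γ(X, W)} {c : ℕ}
    (hc₁ : ∀ n (m : Γ((Scheme.Modules.pushforward g).obj F, W)), cevP hpc hZ F (n + c) W m = 0 →
      m ∈ I ^ (n + 1) • (⊤ : Submodule Γ(X, W) Γ((Scheme.Modules.pushforward g).obj F, W)))
    (y : Sec ((FSch.complMod 𝓚 F).realMod hZ) (pre (gHat hpc) (op0 𝓘 W)))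
    (hy : ∀ n, ∃ m : Γ(F, g ⁻¹ᵁ W),
      lev hZ (FSch.complMod 𝓚 F) n (pre (gHat hpc) (op0 𝓘 W)) y = cevP hpc hZ F n W m) :
    ∃ a : ℕ → Γ((Scheme.Modules.pushforward g).obj F, W),
      (∀ k, a (k + 1) - a k ∈ I ^ (k + 1) • (⊤ : Submodule Γ(X, W) Γ((Scheme.Modules.pushforward g).obj F, W))) ∧
      ∀ k, lev hZ (FSch.complMod 𝓚 F) k (pre (gHat hpc) (op0 𝓘 W)) y = cevP hpc hZ F k W (a k) := by
  choose s hs using hy
  have key : ∀ d i, lev hZ (FSch.complMod 𝓚 F) i (pre (gHat hpc) (op0 𝓘 W)) y = cevP hpc hZ F i W (s (i + d)) := by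
    intro d
    induction d with
    | zero => exact hs
    | succ d ih =>
      intro i
      have h1 := ih (i + 1)
      rw [show i + 1 + d = i + (d + 1) by omega, ← lev_pVal] at h1
      rw [← lev_pVal, ← trans_lev, h1, trans_lev]
  refine ⟨fun k => s (k + c), fun k => hc₁ k _ ?_, fun k => key c k⟩
  refine (congrArg (res _ (lvU_mono hZ (k + c) (pre_op0 hpc W).le)) (cev_sub hZ F (k + c) (g ⁻¹ᵁ W) _ _)).trans ?_
  rw [map_sub]
  refine sub_eq_zero.2 ?_
  have h1 := key 1 (k + c)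
  rw [show k + c + 1 = k + 1 + c by omega] at h1
  exact h1.symm.trans (key 0 (k + c))

theorem bijective_comp {W : X.Opens} (hW : IsAffineOpen W) (hb : Bounds hpc (hZ := hZ) F W (𝓘.ideal ⟨W, hW⟩)) :
    Function.Bijective (app (comp hpc hZ hX F hG) (op0 𝓘 W)) := by
  obtain ⟨c, hc₁, hc₂⟩ := hb
  have := hG.1
  let K := compl hX hW ((Scheme.Modules.pushforward g).obj F)
  have hrep : ∀ x k m, K.rep x k m → lev hZ (FSch.complMod 𝓚 F) k (pre (gHat hpc) (op0 𝓘 W))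
      (app (comp hpc hZ hX F hG) (op0 𝓘 W) x) = cevP hpc hZ F k W m := fun x k m h =>
    lev_app_comp hpc F hG hW k x m h
  refine ⟨(injective_iff_map_eq_zero _).2 fun x hx => K.ext _ _ fun k => ⟨0, ?_, K.rep_zero k⟩, fun y => ?_⟩
  · obtain ⟨m, hm⟩ := K.exists_rep x (k + c)
    have hz : cevP hpc hZ F (k + c) W m = 0 := by
      refine (hrep x _ m hm).symm.trans ((congrArg (lev hZ (FSch.complMod 𝓚 F) (k + c) (pre (gHat hpc) (op0 𝓘 W)))
        (show (show Sec ((FSch.complMod 𝓚 F).realMod hZ) (pre (gHat hpc) (op0 𝓘 W)) from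
          app (comp hpc hZ hX F hG) (op0 𝓘 W) x) = 0 from hx)).trans ?_)
      rw [lev, map_zero, map_zero]
    refine (K.rep_iff x k m 0 (ComplData.step_le K (Nat.le_add_right k c) hm)).2 ?_
    rw [zero_sub]
    exact neg_mem (hc₁ k m hz)
  · obtain ⟨a, ha, ha'⟩ := exists_approx hpc F hc₁
      (show Sec ((FSch.complMod 𝓚 F).realMod hZ) (pre (gHat hpc) (op0 𝓘 W)) from y) (fun n => hc₂ n y)
    obtain ⟨x, hx⟩ := K.glue a ha
    refine ⟨x, ?_⟩
    exact lev_ext_gen (h := hZ) (𝔐 := FSch.complMod 𝓚 F) (U := pre (gHat hpc) (op0 𝓘 W))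
      fun k => (hrep x k _ (hx k)).trans (ha' k).symm

variable (hX hZ) in
/-- The comparison is an isomorphism when the bounds hold on affine opens. -/
theorem isIso_comp (hb : ∀ (W : X.Opens) (hW : IsAffineOpen W), Bounds hpc (hZ := hZ) F W (𝓘.ideal ⟨W, hW⟩)) :
    IsIso (comp hpc hZ hX F hG) := by
  have hom_ext : ∀ {M N : FSch.ModF (FSch.completionAlong X 𝓘) hX} (a b : M ⟶ N),
      (∀ V ∈ {V | ∃ W : X.Opens, IsAffineOpen W ∧ op0 𝓘 W = V}, ∀ m, app a V m = app b V m) → a = b :=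
    fun {M N} a b hab => SheafOfModules.hom_ext (PresheafOfModules.hom_ext fun U => by
      ext m
      exact sec_ext_basis N exists_op0 fun V hVU hV =>
        (rs_app a hVU m).symm.trans ((hab V hV _).trans (rs_app b hVU m)))
  have hb' : ∀ V ∈ {V | ∃ W : X.Opens, IsAffineOpen W ∧ op0 𝓘 W = V}, Function.Bijective (app (comp hpc hZ hX F hG) V) := by
    rintro _ ⟨W, hW, rfl⟩
    exact bijective_comp hpc F hG hW (hb W hW)
  have : Mono (comp hpc hZ hX F hG) :=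
    ⟨fun a b e => hom_ext a b fun V hV m => (hb' V hV).1 (by rw [← app_comp, ← app_comp, e])⟩
  have : Epi (comp hpc hZ hX F hG) := ⟨fun a b e => hom_ext a b fun V hV n => by
    obtain ⟨m, rfl⟩ := (hb' V hV).2 n
    rw [← app_comp, ← app_comp, e]⟩
  exact isIso_of_mono_of_epi _

end Groth.AdicLinTop.ComplPush
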