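import Groth.Agent.AdicLinTop.FormalSpan
import Groth.Agent.AdicLinTop.SysExamples
import Groth.Agent.AdicLinTop.ComplData

/-!
# Completions of modules on a scheme as modules on the formal completion
-/

set_option autoImplicit false

universe u

open CategoryTheory CategoryTheory.Limits AlgebraicGeometry TopologicalSpace Opposite

namespace Groth.AdicLinTop.ComplReal

open Groth.AdicLinTop.FormalLevels Groth.AdicLinTop.FormalReal Groth.AdicLinTop.FormalAffine
open Groth.AdicLinTop.FormalSpan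
open Groth.QCohMod (res resFun res_res res_smul res_app)
open Groth.PicAux (pullSec pullSec_comp res_pullSec pullSec_map)

section Aux

variable {X Y Z : Scheme.{u}}

/-- Composition of the maps on sections of inverse images. -/
theorem pullbackComp_res (f : X ⟶ Y) (g : Y ⟶ Z) (L : Z.Modules) {O : Z.Opens}
    {A : Y.Opens} {B : X.Opens} (h₁ : A ≤ g ⁻¹ᵁ O) (h₂ : B ≤ f ⁻¹ᵁ A) (h₃ : B ≤ f ⁻¹ᵁ g ⁻¹ᵁ O)
    (m : Γ(L, O)) :
    ((Scheme.Modules.pullbackComp f g).hom.app L).app B (res _ h₂ (pullSec f _ (res _ h₁ (pullSec g L m)))) =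
      res _ h₃ (pullSec (f ≫ g) L m) := by
  refine (congrArg (fun z => ((Scheme.Modules.pullbackComp f g).hom.app L).app B (res _ h₂ z))
    (res_pullSec f ((Scheme.Modules.pullback g).obj L) h₁ (pullSec g L m)).symm).trans ?_
  refine (congrArg (fun z => ((Scheme.Modules.pullbackComp f g).hom.app L).app B z)
    (res_res ((Scheme.Modules.pullback f).obj ((Scheme.Modules.pullback g).obj L)) _ h₂ _)).trans ?_
  refine (Eq.symm (res_app ((Scheme.Modules.pullbackComp f g).hom.app L) h₃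
    (pullSec f _ (pullSec g L m)))).trans ?_
  exact congrArg (res _ h₃) (pullSec_comp f g L m)

/-- Congruence of the maps on sections of inverse images. -/
theorem pullbackCongr_res {f g : X ⟶ Y} (e : f = g) (L : Y.Modules) {O : Y.Opens} {B : X.Opens}
    (h₁ : B ≤ f ⁻¹ᵁ O) (h₂ : B ≤ g ⁻¹ᵁ O) (m : Γ(L, O)) :
    ((Scheme.Modules.pullbackCongr e).hom.app L).app B (res _ h₁ (pullSec f L m)) =
      res _ h₂ (pullSec g L m) := by
  subst e
  simp [Scheme.Modules.pullbackCongr]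

/-- The transition isomorphism of a completion on sections. -/
theorem comp_congr_res (f : X ⟶ Y) (g : Y ⟶ Z) {k : X ⟶ Z} (e : f ≫ g = k) (L : Z.Modules) {O : Z.Opens}
    {A : Y.Opens} (h₁ : A ≤ g ⁻¹ᵁ O) (h₄ : f ⁻¹ᵁ A ≤ k ⁻¹ᵁ O) (m : Γ(L, O)) :
    ((Scheme.Modules.pullbackComp f g ≪≫ Scheme.Modules.pullbackCongr e).hom.app L).app (f ⁻¹ᵁ A)
      (pullSec f _ (res _ h₁ (pullSec g L m))) = res _ h₄ (pullSec k L m) := by
  subst e
  have h := pullbackComp_res f g L h₁ (le_refl (f ⁻¹ᵁ A)) h₄ m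
  rw [Groth.QCohMod.res_self] at h
  simp only [Scheme.Modules.pullbackCongr, eqToIso_refl, Iso.trans_refl, Functor.comp_obj]
  exact h

/-- The transition isomorphism of a completion on sections, for a given isomorphism. -/
theorem comp_congr_app (f : X ⟶ Y) (g : Y ⟶ Z) {k : X ⟶ Z} (e : f ≫ g = k) (L : Z.Modules)
    (E : (Scheme.Modules.pullback f).obj ((Scheme.Modules.pullback g).obj L) ≅ (Scheme.Modules.pullback k).obj L)
    (hE : E = (Scheme.Modules.pullbackComp f g ≪≫ Scheme.Modules.pullbackCongr e).app L) {O : Z.Opens}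
    {A : Y.Opens} (h₁ : A ≤ g ⁻¹ᵁ O) (h₄ : f ⁻¹ᵁ A ≤ k ⁻¹ᵁ O) (m : Γ(L, O)) :
    E.hom.app (f ⁻¹ᵁ A) (pullSec f _ (res _ h₁ (pullSec g L m))) = res _ h₄ (pullSec k L m) := by
  subst hE
  exact comp_congr_res f g e L h₁ h₄ m

end Aux

variable {X : Scheme.{u}} {𝓘 : X.IdealSheafData} {h : (FSch.completionAlong X 𝓘).IsFormal}

/-- The open of the completion above an open of the scheme. -/
noncomputable abbrev op0 (𝓘 : X.IdealSheafData) (W : X.Opens) : ((FSch.completionAlong X 𝓘).X 0).Opens :=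
  FSch.completionToX X 𝓘 0 ⁻¹ᵁ W

variable (h) in
theorem le_preimage (k : ℕ) (W : X.Opens) :
    (FSch.completionAlong X 𝓘).lvU h k (op0 𝓘 W) ≤ FSch.completionToX X 𝓘 k ⁻¹ᵁ W :=
  (FSch.lvU_p _ h _ (FSch.completionToX_comm X 𝓘) k W).ge

variable (h) in
theorem preimage_le (k : ℕ) (W : X.Opens) :
    FSch.completionToX X 𝓘 k ⁻¹ᵁ W ≤ (FSch.completionAlong X 𝓘).lvU h k (op0 𝓘 W) :=
  (FSch.lvU_p _ h _ (FSch.completionToX_comm X 𝓘) k W).le

variable (h) in
/-- The image of a section in a level of the completion. -/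
noncomputable def cev (F : X.Modules) (k : ℕ) (W : X.Opens) (m : Γ(F, W)) :
    Γ((FSch.complMod 𝓘 F).F k, (FSch.completionAlong X 𝓘).lvU h k (op0 𝓘 W)) :=
  res _ (le_preimage h k W) (pullSec (FSch.completionToX X 𝓘 k) F m)

theorem cev_map {F G : X.Modules} (φ : F ⟶ G) (k : ℕ) (W : X.Opens) (m : Γ(F, W)) :
    ((FSch.complModMap 𝓘 φ).app k).app _ (cev h F k W m) = cev h G k W (φ.app W m) := by
  rw [cev, FSch.complModMap_app, ← res_app]
  exact congrArg (res _ _) (pullSec_map _ φ m)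

variable (h) in
theorem cev_sub (F : X.Modules) (k : ℕ) (W : X.Opens) (m m' : Γ(F, W)) :
    cev h F k W (m - m') = cev h F k W m - cev h F k W m' := by
  exact (congrArg (res _ (le_preimage h k W))
    (map_sub (((Scheme.Modules.pullbackPushforwardAdjunction (FSch.completionToX X 𝓘 k)).unit.app F).app W).hom
      m m')).trans (map_sub _ _ _)

theorem trans_cev (F : X.Modules) (k : ℕ) (W : X.Opens) (m : Γ(F, W)) :
    pushEquiv k _ (op0 𝓘 W) (app (trans h (FSch.complMod 𝓘 F) k) (op0 𝓘 W)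
      ((pushEquiv (k + 1) _ (op0 𝓘 W)).symm (cev h F (k + 1) W m))) = cev h F k W m := by
  rw [trans_apply, AddEquiv.apply_symm_apply]
  have h₄ : (FSch.completionAlong X 𝓘).ι k ⁻¹ᵁ (FSch.completionAlong X 𝓘).lvU h (k + 1) (op0 𝓘 W) ≤
      FSch.completionToX X 𝓘 k ⁻¹ᵁ W :=
    ((FSch.completionAlong X 𝓘).lvU_succ h k (op0 𝓘 W)).le.trans (le_preimage h k W)
  have hE : (FSch.complMod 𝓘 F).e k = (FSch.complTransIso 𝓘 k).app F := rfl
  have key := comp_congr_app ((FSch.completionAlong X 𝓘).ι k) (FSch.completionToX X 𝓘 (k + 1))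
    (Scheme.IdealSheafData.inclusion_subschemeι (FSch.pow_succ_le X 𝓘 k)) F
    ((FSch.complMod 𝓘 F).e k) hE (le_preimage h (k + 1) W) h₄ m
  show res ((FSch.complMod 𝓘 F).F k) _ _ = _
  rw [show cev h F (k+1) W m = res ((Scheme.Modules.pullback (FSch.completionToX X 𝓘 (k + 1))).obj F) (le_preimage h (k + 1) W) (pullSec (FSch.completionToX X 𝓘 (k + 1)) F m) from rfl]
  have q : ∀ a, a = res ((Scheme.Modules.pullback (𝓘 ^ (k + 1)).subschemeι).obj F) h₄ (pullSec (𝓘 ^ (k + 1)).subschemeι F m) →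
      res ((FSch.complMod 𝓘 F).F k) ((FSch.completionAlong X 𝓘).lvU_le h k (op0 𝓘 W)) a = cev h F k W m := by
    intro a ha
    subst ha
    exact res_res ((Scheme.Modules.pullback (FSch.completionToX X 𝓘 k)).obj F) h₄
      ((FSch.completionAlong X 𝓘).lvU_le h k (op0 𝓘 W)) _
  refine q _ (Eq.trans ?_ key)
  refine congrArg (fun z => ((FSch.complMod 𝓘 F).e k).hom.app _ z) ?_
  rfl

variable [IsLocallyNoetherian X] {W : X.Opens} (hW : IsAffineOpen W)

include hW in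
omit [IsLocallyNoetherian X] in
theorem isAffineOpen_op0 : IsAffineOpen (op0 𝓘 W) := hW.preimage (FSch.completionToX X 𝓘 0)

include hW in
omit [IsLocallyNoetherian X] in
theorem cev_spec (F : X.Modules) [F.IsQuasicoherent] (k : ℕ) :
    Function.Surjective (cev h F k W) ∧
      ∀ m, cev h F k W m = 0 ↔ m ∈ 𝓘.ideal ⟨W, hW⟩ ^ (k + 1) • (⊤ : Submodule Γ(X, W) Γ(F, W)) := by
  obtain ⟨hs, hk⟩ := Groth.QCohMod.unit_closedImmersion_app (FSch.completionToX X 𝓘 k) F hW
  have hb : Function.Bijective (res ((FSch.complMod 𝓘 F).F k) (le_preimage h k W)) := by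
    have key : ∀ {A B : ((FSch.completionAlong X 𝓘).X k).Opens} (e : A ≤ B), B ≤ A →
        Function.Bijective (res ((FSch.complMod 𝓘 F).F k) e) := fun e e' => by
      obtain rfl := le_antisymm e e'
      refine ⟨fun a b hab => ?_, fun a => ⟨a, Groth.QCohMod.res_self _ a⟩⟩
      rwa [Groth.QCohMod.res_self, Groth.QCohMod.res_self] at hab
    exact key _ (preimage_le h k W)
  refine ⟨hb.2.comp hs, fun m => ?_⟩
  refine (map_eq_zero_iff _ hb.1).trans ((hk m).trans ?_)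
  rw [show (FSch.completionToX X 𝓘 k).ker = 𝓘 ^ (k + 1) from Scheme.IdealSheafData.ker_subschemeι _,
    Scheme.IdealSheafData.ideal_pow, Pi.pow_apply]

section Generic

variable {𝔛 : FSch.Sys.{u}} {h : 𝔛.IsFormal} {𝔐 : FSch.ModSys 𝔛} {U : (𝔛.X 0).Opens}

theorem app_trans_proj (k : ℕ) (x : Sec (𝔐.realMod h) U) :
    app (trans h 𝔐 k) U (app (proj h 𝔐 (k + 1)) U x) = app (proj h 𝔐 k) U x :=
  congr(app $(proj_trans h 𝔐 k) U x)

theorem lev_ext_gen {m m' : Sec (𝔐.realMod h) U} (e : ∀ k, lev h 𝔐 k U m = lev h 𝔐 k U m') : m = m' :=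
  (exists_unique_sec h 𝔐 U (fun k => app (proj h 𝔐 k) U m') fun k => app_trans_proj k m').unique
    (fun k => (pushEquiv k (𝔐.F k) U).injective (e k)) fun _ => rfl

theorem exists_lev (c : ∀ k, Γ(𝔐.F k, 𝔛.lvU h k U))
    (hc : ∀ k, pushEquiv k (𝔐.F k) U (app (trans h 𝔐 k) U ((pushEquiv (k + 1) (𝔐.F (k + 1)) U).symm (c (k + 1)))) = c k) :
    ∃ m : Sec (𝔐.realMod h) U, ∀ k, lev h 𝔐 k U m = c k := by
  obtain ⟨m, hm, -⟩ := exists_unique_sec h 𝔐 U (fun k => (pushEquiv k (𝔐.F k) U).symm (c k)) fun k =>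
    (pushEquiv k (𝔐.F k) U).injective ((hc k).trans (AddEquiv.apply_symm_apply _ _).symm)
  exact ⟨m, fun k => (congrArg (pushEquiv k (𝔐.F k) U) (hm k)).trans (AddEquiv.apply_symm_apply _ _)⟩

theorem trans_lev (k : ℕ) (m : Sec (𝔐.realMod h) U) :
    pushEquiv k (𝔐.F k) U (app (trans h 𝔐 k) U ((pushEquiv (k + 1) (𝔐.F (k + 1)) U).symm (lev h 𝔐 (k + 1) U m))) =
      lev h 𝔐 k U m := by
  rw [lev, AddEquiv.symm_apply_apply, app_trans_proj]
  rfl

variable (h 𝔐 U) in
/-- The presentation of the sections of a realisation as a completion. -/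
noncomputable def mkCompl {R : Type*} [CommRing R] (I : Ideal R) {M : Type*} [AddCommGroup M] [Module R M]
    (c : ∀ k, M → Γ(𝔐.F k, 𝔛.lvU h k U)) (hc0 : ∀ k m m', c k (m - m') = c k m - c k m')
    (hs : ∀ k, Function.Surjective (c k))
    (hk : ∀ k m, c k m = 0 ↔ m ∈ I ^ (k + 1) • (⊤ : Submodule R M))
    (htr : ∀ k m, pushEquiv k (𝔐.F k) U (app (trans h 𝔐 k) U ((pushEquiv (k + 1) (𝔐.F (k + 1)) U).symm (c (k + 1) m))) = c k m) :
    ComplData.Compl I M (Sec (𝔐.realMod h) U) where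
  rep x k m := lev h 𝔐 k U x = c k m
  exists_rep x k := (hs k (lev h 𝔐 k U x)).imp fun _ e => e.symm
  rep_iff x k m m' e := by rw [← hk, hc0, sub_eq_zero, e, eq_comm]
  step x k m e := by rw [← trans_lev k x, e, htr]
  rep_zero k := by rw [(hk k 0).2 (zero_mem _), lev, map_zero, map_zero]
  ext x y e := lev_ext_gen fun k => (e k).elim fun _ hm => hm.1.trans hm.2.symm
  glue a ha := exists_lev (fun k => c k (a k)) fun k =>
    (htr k (a (k + 1))).trans (sub_eq_zero.1 ((hc0 k _ _).symm.trans ((hk k _).2 (ha k))))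

theorem lev_map {𝔑 : FSch.ModSys 𝔛} (φ : 𝔐 ⟶ 𝔑) (k : ℕ) (U : (𝔛.X 0).Opens) (m : Sec (𝔐.realMod h) U) :
    lev h 𝔑 k U (app (FSch.ModSys.realModMap h φ) U m) = (φ.app k).app _ (lev h 𝔐 k U m) := by
  have e := FSch.realLimMap_realProj 𝔛 h φ.app (FSch.ModSys.Hom.toPush_comm _) k
  exact congrArg (pushEquiv k _ _) (congr(app $e U m))

theorem app_sub_zero {M N : FSch.ModF 𝔛 h} (φ : M ⟶ N) (U : (𝔛.X 0).Opens) : app φ U 0 = 0 := map_zero _

/-- Sections agreeing on a basis inside are equal. -/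
theorem sec_ext_basis (M : FSch.ModF 𝔛 h) {B : Set (𝔛.X 0).Opens}
    (hB : ∀ (U : (𝔛.X 0).Opens) (x : (𝔛.X 0)), x ∈ U → ∃ V ∈ B, x ∈ V ∧ V ≤ U) {U : (𝔛.X 0).Opens}
    {a b : Sec M U} (hab : ∀ (V : (𝔛.X 0).Opens) (hVU : V ≤ U), V ∈ B → rs M hVU a = rs M hVU b) : a = b := by
  refine TopCat.Presheaf.section_ext
    (⟨M.val.presheaf, M.isSheaf⟩ : TopCat.Sheaf AddCommGrpCat.{u} (𝔛.X 0).carrier) U a b fun x hx => ?_
  obtain ⟨V, hV, hxV, hVU⟩ := hB U x hx
  have h1 := TopCat.Presheaf.germ_res_apply M.val.presheaf (homOfLE hVU) x hxV a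
  have h2 := TopCat.Presheaf.germ_res_apply M.val.presheaf (homOfLE hVU) x hxV b
  exact h1.symm.trans ((congrArg _ (hab V hVU hV)).trans h2)

/-- A short complex of modules on the formal scheme that is short exact on a basis is short exact. -/
theorem shortExact_of_basis (S : ShortComplex (FSch.ModF 𝔛 h)) {B : Set (𝔛.X 0).Opens}
    (hB : ∀ (U : (𝔛.X 0).Opens) (x : (𝔛.X 0)), x ∈ U → ∃ V ∈ B, x ∈ V ∧ V ≤ U)
    (h₁ : ∀ V ∈ B, Function.Injective (app S.f V))
    (h₂ : ∀ V ∈ B, ∀ y, app S.g V y = 0 → ∃ x, app S.f V x = y)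
    (h₃ : ∀ V ∈ B, Function.Surjective (app S.g V)) : S.ShortExact := by
  have hom_ext : ∀ {M N : FSch.ModF 𝔛 h} (a b : M ⟶ N),
      (∀ V ∈ B, ∀ m, app a V m = app b V m) → a = b := fun {M N} a b hab =>
    SheafOfModules.hom_ext (PresheafOfModules.hom_ext fun U => by
      ext m
      exact sec_ext_basis N hB fun V hVU hV =>
        (rs_app a hVU m).symm.trans ((hab V hV _).trans (rs_app b hVU m)))
  have hf : Mono S.f := ⟨fun a b e => hom_ext a b fun V hV m => h₁ V hV (by rw [← app_comp, ← app_comp, e])⟩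
  have hg : Epi S.g := ⟨fun a b e => hom_ext a b fun V hV n => by
    obtain ⟨m, rfl⟩ := h₃ V hV n
    rw [← app_comp, ← app_comp, e]⟩
  refine ShortComplex.ShortExact.mk ((ShortComplex.exact_iff_epi_kernel_lift S).2 ⟨fun a b e => hom_ext a b fun V hV k => ?_⟩)
  obtain ⟨x, hx⟩ := h₂ V hV (app (kernel.ι S.g) V k) (by rw [← app_comp, kernel.condition]; rfl)
  have hinj : Function.Injective (app (kernel.ι S.g) V) := by
    have : Mono ((SheafOfModules.evaluation _ (op V)).map (kernel.ι S.g)) := inferInstance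
    exact (ModuleCat.mono_iff_injective _).1 this
  obtain rfl : app (kernel.lift S.g S.f S.zero) V x = k := hinj (by rw [← app_comp, kernel.lift_ι, hx])
  rw [← app_comp, ← app_comp, e]

theorem realModMap_zero_of_levels {𝔑 𝔓 : FSch.ModSys 𝔛} (φ : 𝔐 ⟶ 𝔑) (ψ : 𝔑 ⟶ 𝔓)
    (h0 : ∀ k, φ.app k ≫ ψ.app k = 0) :
    FSch.ModSys.realModMap h φ ≫ FSch.ModSys.realModMap h ψ = 0 :=
  hom_ext_affine fun V _ m => by
    refine lev_ext_gen fun k => ?_
    rw [app_comp, lev_map, lev_map, app_zero, show lev h 𝔓 k V 0 = 0 by rw [lev, map_zero, map_zero]]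
    exact congr(($(h0 k)).app (𝔛.lvU h k V) (lev h 𝔐 k V m))

end Generic

section Exact

variable (h) in
/-- The map on sections of completions induced by a morphism. -/
noncomputable abbrev capp {F G : X.Modules} (φ : F ⟶ G) (W : X.Opens) :=
  app (FSch.ModSys.realModMap h (FSch.complModMap 𝓘 φ)) (op0 𝓘 W)

omit [IsLocallyNoetherian X] in
theorem lev_capp {F G : X.Modules} (φ : F ⟶ G) (k : ℕ) (W : X.Opens) (m : Sec ((FSch.complMod 𝓘 F).realMod h) (op0 𝓘 W)) :
    lev h (FSch.complMod 𝓘 G) k _ (capp h φ W m) =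
      ((FSch.complModMap 𝓘 φ).app k).app _ (lev h (FSch.complMod 𝓘 F) k _ m) := by
  have e := FSch.realLimMap_realProj (FSch.completionAlong X 𝓘) h (FSch.complModMap 𝓘 φ).app
    (FSch.ModSys.Hom.toPush_comm _) k
  exact congrArg (pushEquiv k _ _) (congr(app $e (op0 𝓘 W) m))

omit [IsLocallyNoetherian X] in
variable (h) in
/-- The family of maps to the levels of a completion. -/
noncomputable def cevW (F : X.Modules) (W : X.Opens) : ∀ k : ℕ,
    Γ(F, W) → Γ((FSch.complMod 𝓘 F).F k, (FSch.completionAlong X 𝓘).lvU h k (op0 𝓘 W)) :=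
  fun k => cev h F k W

omit [IsLocallyNoetherian X] in
theorem trans_cevW_aux (F : X.Modules) (W : X.Opens) (k : ℕ) (m : Γ(F, W))
    (a : Γ((FSch.complMod 𝓘 F).F (k + 1), (FSch.completionAlong X 𝓘).lvU h (k + 1) (op0 𝓘 W)))
    (b : Γ((FSch.complMod 𝓘 F).F k, (FSch.completionAlong X 𝓘).lvU h k (op0 𝓘 W)))
    (ha : a = cev h F (k + 1) W m) (hb : b = cev h F k W m) :
    pushEquiv k _ (op0 𝓘 W) (app (trans h (FSch.complMod 𝓘 F) k) (op0 𝓘 W)
      ((pushEquiv (k + 1) _ (op0 𝓘 W)).symm a)) = b := by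
  subst ha hb
  exact trans_cev F k W m

omit [IsLocallyNoetherian X] in
theorem cevW_apply (F : X.Modules) (W : X.Opens) (k : ℕ) (m : Γ(F, W)) :
    cevW h F W k m = cev h F k W m :=
  rfl

omit [IsLocallyNoetherian X] in
theorem trans_cevW (F : X.Modules) (W : X.Opens) (k : ℕ) (m : Γ(F, W)) :
    pushEquiv k _ (op0 𝓘 W) (app (trans h (FSch.complMod 𝓘 F) k) (op0 𝓘 W)
      ((pushEquiv (k + 1) _ (op0 𝓘 W)).symm (cevW h F W (k + 1) m))) = cevW h F W k m :=
  trans_cevW_aux F W k m _ _ (cevW_apply F W (k + 1) m) (cevW_apply F W k m)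

variable (h) in
omit [IsLocallyNoetherian X] in
/-- The sections of a completion over an affine open as a completion. -/
noncomputable def compl (hW : IsAffineOpen W) (F : X.Modules) [F.IsQuasicoherent] :
    ComplData.Compl (𝓘.ideal ⟨W, hW⟩) Γ(F, W) (Sec ((FSch.complMod 𝓘 F).realMod h) (op0 𝓘 W)) :=
  mkCompl h (FSch.complMod 𝓘 F) (op0 𝓘 W) (𝓘.ideal ⟨W, hW⟩) (cevW h F W) (fun k => cev_sub h F k W)
    (fun k => (cev_spec hW F k).1) (fun k => (cev_spec hW F k).2) (trans_cevW F W)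

omit [IsLocallyNoetherian X] in
theorem rep_capp (hW : IsAffineOpen W) {F G : X.Modules} [F.IsQuasicoherent] [G.IsQuasicoherent] (φ : F ⟶ G)
    (x : Sec ((FSch.complMod 𝓘 F).realMod h) (op0 𝓘 W)) (k : ℕ) (m : Γ(F, W))
    (hm : (compl h hW F).rep x k m) : (compl h hW G).rep (capp h φ W x) k (Groth.QCohMod.appₗ φ W m) :=
  (lev_capp φ k W x).trans ((congrArg _ hm).trans (cev_map φ k W m))

omit [IsLocallyNoetherian X] in
theorem exists_op0 (U : ((FSch.completionAlong X 𝓘).X 0).Opens) (x : (FSch.completionAlong X 𝓘).X 0)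
    (hx : x ∈ U) : ∃ V ∈ {V | ∃ W : X.Opens, IsAffineOpen W ∧ op0 𝓘 W = V}, x ∈ V ∧ V ≤ U := by
  obtain ⟨O, hO, e⟩ := (FSch.completionToX X 𝓘 0).isClosedEmbedding.isInducing.isOpen_iff.1 U.2
  have hxO : (FSch.completionToX X 𝓘 0) x ∈ O := by
    show x ∈ (FSch.completionToX X 𝓘 0) ⁻¹' O
    rw [e]
    exact hx
  obtain ⟨_, ⟨W, hW, rfl⟩, hxW, hWO⟩ := X.isBasis_affineOpens.exists_subset_of_mem_open hxO hO
  refine ⟨op0 𝓘 W, ⟨W, hW, rfl⟩, hxW, fun y hy => ?_⟩
  have : y ∈ (FSch.completionToX X 𝓘 0) ⁻¹' O := hWO hy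
  rwa [e] at this

omit [IsLocallyNoetherian X] in
theorem realModMap_comp_eq_zero {F G H : X.Modules} (φ : F ⟶ G) (ψ : G ⟶ H) (hφψ : φ ≫ ψ = 0) :
    FSch.ModSys.realModMap h (FSch.complModMap 𝓘 φ) ≫ FSch.ModSys.realModMap h (FSch.complModMap 𝓘 ψ) = 0 :=
  realModMap_zero_of_levels _ _ fun k =>
    (((Scheme.Modules.pullback (FSch.completionToX X 𝓘 k)).map_comp φ ψ).symm.trans
      (congrArg (Scheme.Modules.pullback (FSch.completionToX X 𝓘 k)).map hφψ)).trans
      ((Scheme.Modules.pullback (FSch.completionToX X 𝓘 k)).map_zero _ _)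

/-- Completion of coherent modules is exact. -/
theorem shortExact_compl (S : ShortComplex X.Modules) (hS : S.ShortExact)
    (h1 : Coh.IsCoh S.X₁) (h2 : Coh.IsCoh S.X₂) (h3 : Coh.IsCoh S.X₃)
    (w : FSch.ModSys.realModMap h (FSch.complModMap 𝓘 S.f) ≫ FSch.ModSys.realModMap h (FSch.complModMap 𝓘 S.g) = 0) :
    (ShortComplex.mk _ _ w).ShortExact := by
  have := h1.1
  have := h2.1
  have := h3.1
  have := hS.mono_f
  have := hS.epi_g
  refine shortExact_of_basis _ exists_op0 ?_ ?_ ?_ <;> rintro _ ⟨W, hW, rfl⟩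
  all_goals
    have : IsNoetherianRing Γ(X, W) := IsLocallyNoetherian.component_noetherian ⟨W, hW⟩
    have : Module.Finite Γ(X, W) Γ(S.X₂, W) := ((Groth.QCohMod.isCoh_iff _).1 h2).2 W hW
  · exact ComplData.injective (rep_capp hW S.f) (Groth.QCohMod.app_injective_of_mono S.f W)
  · intro y hy
    exact ComplData.exact (rep_capp hW S.f) (rep_capp hW S.g) (Groth.QCohMod.app_injective_of_mono S.f W)
      (Groth.QCohMod.app_surjective_of_epi S.g hW)
      (fun n hn => Groth.QCohMod.exists_app_eq_of_exact hS.exact hW n hn) hy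
  · exact ComplData.surjective (rep_capp hW S.g) (Groth.QCohMod.app_surjective_of_epi S.g hW)

end Exact

end Groth.AdicLinTop.ComplReal
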