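import Groth.Agent.AdicLinTop.RpushDerived
import Groth.Agent.AdicLinTop.AffineGens
import Groth.Agent.AdicLinTop.ComplPush
import Groth.Agent.SiteCohomology.AcyclicImage
import Groth.Agent.SitesTopoi.Mod.SpaceFlat
import Groth.Agent.S13345

/-!
# Injective resolutions from a completion to the scheme

Modules without higher cohomology on affine opens of a completion are acyclic for the direct image to the scheme.
-/

set_option autoImplicit false

universe u

open CategoryTheory CategoryTheory.Limits AlgebraicGeometry TopologicalSpace Opposite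
open CategoryTheory.Abelian (Ext)

set_option backward.defeqAttrib.useBackward true
set_option backward.isDefEq.respectTransparency false
set_option backward.isDefEq.respectTransparency.types false
set_option synthInstance.maxHeartbeats 400000
set_option maxHeartbeats 1000000

namespace Groth.AdicLinTop.ComplRes

open Groth.SitesTopoi.ModH Groth.AdicLinTop.SpacePres Groth.AdicLinTop.RestrAct Groth.AdicLinTop.ResSec
open Groth.AdicLinTop.RpushClass Groth.AdicLinTop.RpushDerived
open Groth.AdicLinTop.ComplPull (uMor)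
open Groth.AdicLinTop.ComplReal (op0 isAffineOpen_op0)
open Groth.AdicLinTop.ModHomology (rm_apm apm_comp_apply)

variable {X : Scheme.{u}} [IsLocallyNoetherian X] {𝓘 : X.IdealSheafData}
  (hX : (FSch.completionAlong X 𝓘).IsFormal)

/-- The completion is a locally Noetherian formal scheme. -/
theorem hN : (FSch.completionAlong X 𝓘).IsLocNoethFormal := CompletionFlat.isLocNoethFormal X 𝓘

/-- Direct image from the completion. -/
noncomputable abbrev iP : FSch.ModF (FSch.completionAlong X 𝓘) hX ⥤ X.Modules :=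
  show FSch.ModF (FSch.completionAlong X 𝓘) hX ⥤ X.Modules from (uMor X 𝓘 hX).push

instance additive_iP : (iP hX).Additive := ⟨fun {_ _ _ _} => rfl⟩

instance preservesFiniteLimits_iP : PreservesFiniteLimits (iP hX) :=
  show PreservesFiniteLimits (uMor X 𝓘 hX).push from
    (uMor X 𝓘 hX).adj.rightAdjoint_preservesLimits.{0, 0}.preservesFiniteLimits

theorem injective_iP (I : FSch.ModF (FSch.completionAlong X 𝓘) hX) (hI : Injective I) :
    Injective ((iP hX).obj I) := by
  haveI : PreservesFiniteLimits (uMor X 𝓘 hX).pull := Groth.Agent.S13345.result X 𝓘 hX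
  haveI := hI
  exact (Injective.injective_of_adjoint (uMor X 𝓘 hX).adj I : Injective ((uMor X 𝓘 hX).push.obj I))

variable [HasInjectiveResolutions (FSch.ModF (FSch.completionAlong X 𝓘) hX)]
  {M : FSch.ModF (FSch.completionAlong X 𝓘) hX} (hM : AffineGens.affGen (hN (X := X) (𝓘 := 𝓘)) M)

include hM in
/-- Over an affine open positive cocycles are coboundaries. -/
theorem mem_bd {R : Rz (hN (X := X) (𝓘 := 𝓘)) M} {U : ((FSch.completionAlong X 𝓘).X 0).Opens} (hU : IsAffineOpen U)
    (k : ℕ) (z : Cyc R.res U (k + 1)) : z.1 ∈ Bd R.res U (k + 1) := by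
  refine (clsU_eq_zero_iff U R.flasque_res (k + 1) z).1 ?_
  haveI : Subsingleton (Ext (Groth.CohBase.freeOpen U) (ModSite.toAb M) (k + 1)) := hM.hVanish k hU
  obtain ⟨w, hw⟩ := (bijective_resH U (ModSite.toAb M) (k + 1)).2 (clsU R.res U (k + 1) z)
  rw [← hw, Subsingleton.elim w 0, map_zero]

include hM in
theorem push_cyc_mem_bd (J : InjectiveResolution M) {W : X.Opens} (hW : IsAffineOpen W) (k : ℕ)
    (z : SecHom.Z (((uMor X 𝓘 hX).push.mapHomologicalComplex (ComplexShape.up ℕ)).obj J.cocomplex) (k + 1) W) :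
    ∃ w, apm ((((uMor X 𝓘 hX).push.mapHomologicalComplex (ComplexShape.up ℕ)).obj J.cocomplex).d k (k + 1)).val W w = z.1 := by
  have z1 : sc (J.cocomplex.X (k + 1)).val (op0 𝓘 W) := z.1
  have key : ∀ y : sc (J.cocomplex.X (k + 1)).val (op0 𝓘 W), apm (J.cocomplex.d (k + 1) (k + 1 + 1)).val (op0 𝓘 W) y = 0 →
      ∃ w : sc (J.cocomplex.X k).val (op0 𝓘 W), apm (J.cocomplex.d k (k + 1)).val (op0 𝓘 W) w = y := fun y hy =>
    mem_bd hX hM (R := ofInj J) (isAffineOpen_op0 (𝓘 := 𝓘) hW) k ⟨y, hy⟩
  exact key z.1 z.2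

include hM in
theorem exactAt_push (J : InjectiveResolution M) (k : ℕ) :
    (((uMor X 𝓘 hX).push.mapHomologicalComplex (ComplexShape.up ℕ)).obj J.cocomplex).ExactAt (k + 1) := by
  let L := ((uMor X 𝓘 hX).push.mapHomologicalComplex (ComplexShape.up ℕ)).obj J.cocomplex
  refine (HomologicalComplex.exactAt_iff_isZero_homology _ _).2 ((IsZero.iff_id_eq_zero _).2 ?_)
  refine mod_hom_ext fun U η => (eq_zero_of_local (m := apm (𝟙 (L.homology (k + 1))).val U η) fun x hx => ?_).trans
    (ModHomology.apm_zero_apply η).symm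
  obtain ⟨V, hV, z, hxV, hz⟩ := SecHom.θ_exists_local (K := L) η hx
  obtain ⟨_, ⟨W, hW, rfl⟩, hxW, hWV⟩ := X.isBasis_affineOpens.exists_subset_of_mem_open hxV V.2
  refine ⟨W, le_trans hWV hV, hxW, ?_⟩
  have h0 : SecHom.θ L (k + 1) W ⟨_, SecHom.rm_mem_Z hWV z.2⟩ = 0 := by
    obtain ⟨w, hw⟩ := push_cyc_mem_bd hX hM J hW k ⟨_, SecHom.rm_mem_Z hWV z.2⟩
    exact SecHom.θ_d (K := L) (a := k) w _ hw
  rw [show apm (𝟙 (L.homology (k + 1))).val U η = η from rfl, ← rm_rm _ hV hWV, ← hz, SecHom.rm_θ]
  exact h0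

/-- The injective resolution on the scheme. -/
noncomputable def pushRes (J : InjectiveResolution M) : InjectiveResolution ((iP hX).obj M) :=
  Groth.SiteCohomology.mapInjectiveResolution (iP hX) J (injective_iP hX) fun k => exactAt_push hX hM J k

end Groth.AdicLinTop.ComplRes
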