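import Mathlib.RingTheory.AdicCompletion.Basic
import Mathlib.RingTheory.Finiteness.Ideal
import Mathlib.RingTheory.Finiteness.Basic
import Mathlib.Tactic.Abel

/-!
Limits of adic inverse systems, phrased through the kernels `K n` of the projections.
-/

set_option autoImplicit false

namespace Groth.AdicLinTop.InvLim

/-- In a tower of surjections every element extends to a compatible family. -/
theorem exists_compat.{w} (n : ℕ) : ∀ (X : ℕ → Type w) (g : ∀ k, X (k + 1) → X k),
    (∀ k, Function.Surjective (g k)) → ∀ x : X n,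
      ∃ y : ∀ k, X k, (∀ k, g k (y (k + 1)) = y k) ∧ y n = x := by
  induction n with
  | zero =>
    intro X g hg x
    choose s hs using hg
    exact ⟨fun k => Nat.rec x (fun k w => s k w) k, fun k => hs k _, rfl⟩
  | succ n ih =>
    intro X g hg x
    obtain ⟨y, hy, hyn⟩ := ih (fun k => X (k + 1)) (fun k => g (k + 1)) (fun k => hg (k + 1)) x
    refine ⟨fun k => match k with | 0 => g 0 (y 0) | k + 1 => y k, fun k => ?_, hyn⟩
    cases k with
    | zero => rfl
    | succ k => exact hy k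

variable {A : Type*} [CommRing A] {I : Ideal A} {L : Type*} [AddCommGroup L] [Module A L]
variable {K : ℕ → Submodule A L}

theorem exists_coeff {m : ℕ} (J : Ideal A) (l : Fin m → L) {x : L}
    (hx : x ∈ J • Submodule.span A (Set.range l)) :
    ∃ a : Fin m → A, (∀ i, a i ∈ J) ∧ ∑ i, a i • l i = x := by
  obtain ⟨a, ha, rfl⟩ := (Submodule.mem_ideal_smul_span_iff_exists_sum J l x).mp hx
  exact ⟨a, ha, (Finsupp.sum_fintype a (fun i c => c • l i) (fun i => zero_smul A (l i))).symm⟩

theorem exists_coeff' {c : ℕ} (g : Fin c → A) (N : Submodule A L) {x : L}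
    (hx : x ∈ Ideal.span (Set.range g) • N) :
    ∃ y : Fin c → L, (∀ i, y i ∈ N) ∧ ∑ i, g i • y i = x := by
  refine Submodule.smul_induction_on hx (fun r hr y hy => ?_) ?_
  · obtain ⟨a, rfl⟩ := Ideal.mem_span_range_iff_exists_fun.mp hr
    refine ⟨fun i => a i • y, fun i => N.smul_mem _ hy, ?_⟩
    rw [Finset.sum_smul]
    exact Finset.sum_congr rfl fun i _ => by rw [smul_smul, mul_comm]
  · rintro x y ⟨u, hu, rfl⟩ ⟨w, hw, rfl⟩
    exact ⟨u + w, fun i => N.add_mem (hu i) (hw i), by simp [Finset.sum_add_distrib]⟩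

variable (hanti : Antitone K) (hsep : ∀ x : L, (∀ k, x ∈ K k) → x = 0)
  (hcomp : ∀ s : ℕ → L, (∀ k, s (k + 1) - s k ∈ K k) → ∃ x, ∀ k, x - s k ∈ K k)
  (hle : ∀ n, I ^ (n + 1) • (⊤ : Submodule A L) ≤ K n)

include hanti hsep hcomp hle in
/-- For finitely generated `I` the kernels are the powers of `I`. -/
theorem le_of_fg (hI : I.FG) (hstep : ∀ n, K n ≤ I ^ (n + 1) • ⊤ ⊔ K (n + 1)) (n : ℕ) :
    K n ≤ I ^ (n + 1) • ⊤ := by
  obtain ⟨c, g, hg⟩ := Submodule.fg_iff_exists_fin_generating_family.mp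
    (Ideal.FG.pow hI : (I ^ (n + 1)).FG)
  replace hg : Ideal.span (Set.range g) = I ^ (n + 1) := hg
  intro x hx
  have step : ∀ k, ∀ r ∈ K (n + k), ∃ r' ∈ K (n + (k + 1)), ∃ m : Fin c → L,
      (∀ i, m i ∈ I ^ k • (⊤ : Submodule A L)) ∧ r = ∑ i, g i • m i + r' := by
    intro k r hr
    obtain ⟨u, hu, r', hr', rfl⟩ := Submodule.mem_sup.mp (hstep _ hr)
    rw [show n + k + 1 = (n + 1) + k by omega, pow_add, ← smul_eq_mul, Submodule.smul_assoc,
      ← hg] at hu
    obtain ⟨m, hm, rfl⟩ := exists_coeff' g _ hu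
    exact ⟨r', hr', m, hm, rfl⟩
  choose! nxt hnxt m hm hr using step
  let r : ℕ → L := fun k => Nat.rec x (fun k w => nxt k w) k
  have hrK : ∀ k, r k ∈ K (n + k) := by
    intro k
    induction k with
    | zero => exact hx
    | succ k ih => exact hnxt _ _ ih
  let s : Fin c → ℕ → L := fun i k => ∑ l ∈ Finset.range (k + 1), m l (r l) i
  have hX : ∀ i, ∃ X, ∀ k, X - s i k ∈ K k := by
    refine fun i => hcomp (s i) fun k => hle k ?_
    simp only [s, Finset.sum_range_succ _ (k + 1), add_sub_cancel_left]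
    exact hm _ _ (hrK _) i
  choose X hX using hX
  have hsum : ∀ k, x = ∑ i, g i • (∑ l ∈ Finset.range k, m l (r l) i) + r k := by
    intro k
    induction k with
    | zero => simp [r]
    | succ k ih =>
      simp only [Finset.sum_range_succ, smul_add, Finset.sum_add_distrib]
      rw [add_assoc]
      exact ih.trans (congrArg _ (hr _ _ (hrK k)))
  have hx' : x = ∑ i, g i • X i := by
    refine sub_eq_zero.mp (hsep _ fun k => ?_)
    have h1 : x - ∑ i, g i • X i = r (k + 1) - ∑ i, g i • (X i - s i k) := by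
      simp only [smul_sub, Finset.sum_sub_distrib]
      conv_lhs => rw [hsum (k + 1)]
      simp only [s]
      abel
    rw [h1]
    exact sub_mem (hanti (by omega) (hrK (k + 1)))
      (sum_mem fun i _ => Submodule.smul_mem _ _ (hX i k))
  rw [hx']
  exact sum_mem fun i _ => Submodule.smul_mem_smul
    (hg ▸ Ideal.subset_span ⟨i, rfl⟩) Submodule.mem_top

include hanti hsep hle in
/-- If `A` is `I`-adically complete, approximations by finitely many elements suffice. -/
theorem le_of_finite [IsPrecomplete I A] {m : ℕ} (l : Fin m → L)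
    (hstep : ∀ n, K n ≤ I ^ (n + 1) • Submodule.span A (Set.range l) ⊔ K (n + 1)) (n : ℕ) :
    K n ≤ I ^ (n + 1) • Submodule.span A (Set.range l) := by
  intro x hx
  have step : ∀ k, ∀ r ∈ K (n + k), ∃ r' ∈ K (n + (k + 1)), ∃ a : Fin m → A,
      (∀ i, a i ∈ I ^ (n + k + 1)) ∧ r = ∑ i, a i • l i + r' := by
    intro k r hr
    obtain ⟨u, hu, r', hr', rfl⟩ := Submodule.mem_sup.mp (hstep _ hr)
    obtain ⟨a, ha, rfl⟩ := exists_coeff _ l hu
    exact ⟨r', hr', a, ha, rfl⟩
  choose! nxt hnxt a ha hr using step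
  let r : ℕ → L := fun k => Nat.rec x (fun k w => nxt k w) k
  have hrK : ∀ k, r k ∈ K (n + k) := by
    intro k
    induction k with
    | zero => exact hx
    | succ k ih => exact hnxt _ _ ih
  let s : Fin m → ℕ → A := fun i k => ∑ j ∈ Finset.range k, a j (r j) i
  have hX : ∀ i, ∃ X, ∀ k, s i k ≡ X [SMOD (I ^ k • ⊤ : Submodule A A)] := by
    refine fun i => IsPrecomplete.prec inferInstance fun {p q} hpq => ?_
    rw [SModEq.sub_mem, ← neg_mem_iff, neg_sub, smul_eq_mul, Ideal.mul_top]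
    simp only [s]
    rw [← Finset.sum_Ico_eq_sub _ hpq]
    refine sum_mem fun j hj => ?_
    have := (Finset.mem_Ico.mp hj).1
    exact Ideal.pow_le_pow_right (by omega) (ha j _ (hrK j) i)
  choose X hX using hX
  simp only [SModEq.sub_mem, smul_eq_mul, Ideal.mul_top] at hX
  have hsum : ∀ k, x = ∑ i, s i k • l i + r k := by
    intro k
    induction k with
    | zero => simp [r, s]
    | succ k ih =>
      simp only [s, Finset.sum_range_succ, add_smul, Finset.sum_add_distrib]
      rw [add_assoc]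
      exact ih.trans (congrArg _ (hr _ _ (hrK k)))
  have hX' : ∀ i, X i ∈ I ^ (n + 1) := fun i => by
    have h1 : s i (n + 1) ∈ I ^ (n + 1) :=
      sum_mem fun j _ => Ideal.pow_le_pow_right (by omega) (ha j _ (hrK j) i)
    simpa using sub_mem h1 (hX i (n + 1))
  have hx' : x = ∑ i, X i • l i := by
    refine sub_eq_zero.mp (hsep _ fun k => ?_)
    have h1 : x - ∑ i, X i • l i = r (k + 1) + ∑ i, (s i (k + 1) - X i) • l i := by
      simp only [sub_smul, Finset.sum_sub_distrib]
      conv_lhs => rw [hsum (k + 1)]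
      abel
    rw [h1]
    exact add_mem (hanti (by omega) (hrK (k + 1)))
      (hle k (sum_mem fun i _ => Submodule.smul_mem_smul (hX i (k + 1)) Submodule.mem_top))
  rw [hx']
  exact sum_mem fun i _ => Submodule.smul_mem_smul (hX' i)
    (Submodule.subset_span ⟨i, rfl⟩)

include hsep hcomp in
theorem isAdicComplete (heq : ∀ n, K n = I ^ (n + 1) • ⊤) : IsAdicComplete I L := by
  haveI : IsHausdorff I L :=
    ⟨fun x hx => hsep x fun k => heq k ▸ SModEq.zero.mp (hx (k + 1))⟩
  haveI : IsPrecomplete I L := by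
    refine ⟨fun f hf => ?_⟩
    obtain ⟨x, hx⟩ := hcomp (fun k => f (k + 1)) fun k => by
      rw [heq k]
      exact SModEq.sub_mem.mp (hf (Nat.le_succ (k + 1))).symm
    refine ⟨x, fun k => ?_⟩
    cases k with
    | zero => simp [SModEq.sub_mem]
    | succ k =>
      rw [SModEq.sub_mem, ← neg_mem_iff, neg_sub, ← heq k]
      exact hx k
  exact {}

section system

universe v

variable {M : ℕ → Type v} [∀ n, AddCommGroup (M n)] [∀ n, Module A (M n)]
  (f : ∀ n, M (n + 1) →ₗ[A] M n) (π : ∀ n, L →ₗ[A] M n) (hπ : ∀ n, f n ∘ₗ π (n + 1) = π n)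
  (hlift : ∀ y : (∀ n, M n), (∀ n, f n (y (n + 1)) = y n) → ∃ x : L, ∀ n, π n x = y n)
  (hf : ∀ n, Function.Surjective (f n))

include hπ in
theorem antitone_ker : Antitone fun n => LinearMap.ker (π n) :=
  antitone_nat_of_succ_le fun n x (hx : π (n + 1) x = 0) => by
    rw [LinearMap.mem_ker, ← hπ n, LinearMap.comp_apply, hx, map_zero]

include hπ hlift in
theorem complete_ker (s : ℕ → L) (hs : ∀ k, s (k + 1) - s k ∈ LinearMap.ker (π k)) :
    ∃ x, ∀ k, x - s k ∈ LinearMap.ker (π k) := by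
  obtain ⟨x, hx⟩ := hlift (fun k => π k (s k)) fun k => by
    rw [← LinearMap.comp_apply, hπ]
    exact sub_eq_zero.mp (by rw [← map_sub]; exact hs k)
  exact ⟨x, fun k => by rw [LinearMap.mem_ker, map_sub, hx k, sub_self]⟩

include hlift hf in
theorem surjective_proj (n : ℕ) : Function.Surjective (π n) := fun x => by
  obtain ⟨y, hy, hyn⟩ := exists_compat n M (fun k => f k) hf x
  obtain ⟨l, hl⟩ := hlift y hy
  exact ⟨l, by rw [hl, hyn]⟩

include hf in
theorem smul_top_eq_bot (hker : ∀ n, LinearMap.ker (f n) = I ^ (n + 1) • (⊤ : Submodule A (M (n + 1))))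
    (n : ℕ) : I ^ (n + 1) • (⊤ : Submodule A (M n)) = ⊥ := by
  have h : Submodule.map (f n) (⊤ : Submodule A (M (n + 1))) = ⊤ := by
    rw [Submodule.map_top, LinearMap.range_eq_top.mpr (hf n)]
  rw [← h, ← Submodule.map_smul'', ← hker, eq_bot_iff]
  rintro _ ⟨z, hz, rfl⟩
  exact hz

include hlift hf hπ in
theorem pow_smul_top_le_ker
    (hker : ∀ n, LinearMap.ker (f n) = I ^ (n + 1) • (⊤ : Submodule A (M (n + 1)))) (n : ℕ) :
    I ^ (n + 1) • (⊤ : Submodule A L) ≤ LinearMap.ker (π n) := by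
  rw [LinearMap.ker, ← Submodule.map_le_iff_le_comap, Submodule.map_smul'']
  exact (Submodule.smul_mono le_rfl le_top).trans (smul_top_eq_bot f hf hker n).le

include hπ hlift hf in
theorem ker_le_step
    (hker : ∀ n, LinearMap.ker (f n) = I ^ (n + 1) • (⊤ : Submodule A (M (n + 1)))) (n : ℕ) :
    LinearMap.ker (π n) ≤ I ^ (n + 1) • ⊤ ⊔ LinearMap.ker (π (n + 1)) := by
  intro x hx
  have h1 : π (n + 1) x ∈ Submodule.map (π (n + 1)) (I ^ (n + 1) • ⊤) := by
    rw [Submodule.map_smul'', Submodule.map_top,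
      LinearMap.range_eq_top.mpr (surjective_proj f π hlift hf (n + 1)), ← hker,
      LinearMap.mem_ker, ← LinearMap.comp_apply, hπ]
    exact hx
  obtain ⟨y, hy, hyx⟩ := h1
  exact Submodule.mem_sup.mpr ⟨y, hy, x - y, by simp [LinearMap.mem_ker, hyx], add_sub_cancel _ _⟩

end system

end Groth.AdicLinTop.InvLim
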