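import Groth.Agent.AdicLinTop.ComplAffine
import Groth.Agent.AdicLinTop.InverseLimit

/-!
# The structure sheaf of a completion over an affine open, for a finitely generated ideal
-/

set_option autoImplicit false

universe u

open CategoryTheory CategoryTheory.Limits AlgebraicGeometry TopologicalSpace Opposite

namespace Groth.AdicLinTop.ComplRing

open Groth.AdicLinTop.FormalLevels Groth.AdicLinTop.FormalReal Groth.AdicLinTop.FormalAffine
open Groth.AdicLinTop.ComplReal Groth.AdicLinTop.ComplSections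

variable {X : Scheme.{u}} {𝓘 : X.IdealSheafData} {h : (FSch.completionAlong X 𝓘).IsFormal}
  {W : X.Opens} (hW : IsAffineOpen W)

/-- The ideal of definition over an affine open. -/
noncomputable abbrev defIdeal (h : (FSch.completionAlong X 𝓘).IsFormal) : Ideal (RS h (op0 𝓘 W)) :=
  (𝓘.ideal ⟨W, hW⟩).map (sharp h W)

include hW in
theorem projR_surjective (k : ℕ) : Function.Surjective (fun r => projR k (op0 𝓘 W) (sharp h W r)) := by
  intro y
  obtain ⟨r, hr⟩ := ((bijective_res (le_preimage h k W) (preimage_le h k W)).2.comp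
    ((𝓘 ^ (k + 1)).subschemeι.app_surjective W hW)) y
  exact ⟨r, (projR_sharp k W r).trans hr⟩

theorem projR_sharp_eq_zero_iff (k : ℕ) (r : Γ(X, W)) :
    projR k (op0 𝓘 W) (sharp h W r) = 0 ↔ r ∈ 𝓘.ideal ⟨W, hW⟩ ^ (k + 1) := by
  have hk : RingHom.ker ((FSch.completionToX X 𝓘 k).appLE W ((FSch.completionAlong X 𝓘).lvU h k (op0 𝓘 W))
      (le_preimage h k W)).hom = 𝓘.ideal ⟨W, hW⟩ ^ (k + 1) :=
    (ker_appLE_eq (FSch.completionToX X 𝓘 k) ⟨W, hW⟩ _ (le_preimage h k W) (preimage_le h k W)).trans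
      (congrArg (fun J : X.IdealSheafData => J.ideal ⟨W, hW⟩)
        (Scheme.IdealSheafData.ker_subschemeι (𝓘 ^ (k + 1))))
  rw [projR_sharp, ← hk]
  rfl

/-- The kernel of the projection to a level. -/
noncomputable abbrev kerP (h : (FSch.completionAlong X 𝓘).IsFormal) (W : X.Opens) (k : ℕ) :
    Ideal (RS h (op0 𝓘 W)) :=
  RingHom.ker (((FSch.completionAlong X 𝓘).OshProj h k).hom.app (op (op0 𝓘 W))).hom

theorem mem_kerP {k : ℕ} {a : RS h (op0 𝓘 W)} : a ∈ kerP h W k ↔ projR k (op0 𝓘 W) a = 0 := Iff.rfl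

theorem kerP_antitone : Antitone (kerP h W) :=
  antitone_nat_of_succ_le fun k a (ha : projR (k + 1) (op0 𝓘 W) a = 0) => by
    rw [mem_kerP, projR, ← OshProj_levelMap_apply]
    exact (congrArg _ ha).trans (map_zero _)

theorem defIdeal_pow_le (k : ℕ) : defIdeal hW h ^ (k + 1) ≤ kerP h W k := by
  rw [← Ideal.map_pow, Ideal.map_le_iff_le_comap]
  exact fun r hr => (projR_sharp_eq_zero_iff hW k r).2 hr

theorem kerP_complete (s : ℕ → RS h (op0 𝓘 W)) (hs : ∀ k, s (k + 1) - s k ∈ kerP h W k) :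
    ∃ x, ∀ k, x - s k ∈ kerP h W k := by
  obtain ⟨x, hx, -⟩ := exists_unique_sec (FSch.completionAlong X 𝓘) h (op0 𝓘 W)
    (fun k => projR k (op0 𝓘 W) (s k)) fun k => by
    refine (OshProj_levelMap_apply h (op0 𝓘 W) k (s (k + 1))).trans ?_
    exact sub_eq_zero.1 ((map_sub _ _ _).symm.trans (hs k))
  exact ⟨x, fun k => (map_sub _ _ _).trans (sub_eq_zero.2 (hx k))⟩

variable (hfg : (𝓘.ideal ⟨W, hW⟩).FG)

include hW hfg in
theorem kerP_eq (k : ℕ) : kerP h W k = defIdeal hW h ^ (k + 1) := by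
  refine le_antisymm ?_ (defIdeal_pow_le hW k)
  have key := InvLim.le_of_fg (A := RS h (op0 𝓘 W)) (L := RS h (op0 𝓘 W)) (I := defIdeal hW h)
    (K := kerP h W) kerP_antitone (fun x hx => sec_eq_zero h hx) kerP_complete
    (fun n => by
      rw [smul_eq_mul, Ideal.mul_top]
      exact defIdeal_pow_le hW n)
    (hfg.map _) (fun n x hx => ?_) k
  · simpa using key
  · obtain ⟨r, hr⟩ := projR_surjective (h := h) hW (n + 1) (projR (n + 1) (op0 𝓘 W) x)
    have h1 : x - sharp h W r ∈ kerP h W (n + 1) := (map_sub _ _ _).trans (sub_eq_zero.2 hr.symm)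
    refine Submodule.mem_sup.2 ⟨sharp h W r, ?_, x - sharp h W r, h1, add_sub_cancel _ _⟩
    rw [smul_eq_mul, Ideal.mul_top, ← Ideal.map_pow]
    refine Ideal.mem_map_of_mem _ ((projR_sharp_eq_zero_iff (h := h) hW n r).1 ?_)
    have := (kerP h W n).sub_mem hx (kerP_antitone (Nat.le_succ n) h1)
    rwa [sub_sub_cancel] at this

include hW hfg in
theorem mem_defIdeal_pow (k : ℕ) (a : RS h (op0 𝓘 W)) :
    a ∈ defIdeal hW h ^ (k + 1) ↔ projR k (op0 𝓘 W) a = 0 := by
  rw [← kerP_eq hW hfg k]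
  rfl

include hW hfg in
theorem isAdicComplete_RS : IsAdicComplete (defIdeal hW h) (RS h (op0 𝓘 W)) :=
  InvLim.isAdicComplete (K := kerP h W) (fun x hx => sec_eq_zero h hx) kerP_complete fun n => by
    rw [smul_eq_mul, Ideal.mul_top]
    exact kerP_eq hW hfg n

end Groth.AdicLinTop.ComplRing
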