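import Groth.Agent.AdicLinTop.ComplPull

/-!
# Modules on a completion recognised as completions through their levels

A module `T` on the completion with a map from a coherent module `R` on the scheme is the inverse image of `R`
when the images of `R` in a separated system of quotients of `T` killed by powers of the ideal are bounded.
-/

set_option autoImplicit false

universe u

open CategoryTheory CategoryTheory.Limits AlgebraicGeometry TopologicalSpace Opposite

set_option backward.defeqAttrib.useBackward true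
set_option backward.isDefEq.respectTransparency false
set_option backward.isDefEq.respectTransparency.types false
set_option synthInstance.maxHeartbeats 400000
set_option maxHeartbeats 1000000

namespace Groth.AdicLinTop.ComplTarget

open Groth.AdicLinTop.FormalLevels Groth.AdicLinTop.FormalReal Groth.AdicLinTop.FormalAffine
open Groth.AdicLinTop.ComplReal Groth.AdicLinTop.ComplPull Groth.AdicLinTop.FormalSpan

variable {X : Scheme.{u}} [IsLocallyNoetherian X] {𝓘 : X.IdealSheafData}
  {hX : (FSch.completionAlong X 𝓘).IsFormal} {R : X.Modules} (hR : Coh.IsCoh R)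
  {T : FSch.ModF (FSch.completionAlong X 𝓘) hX} {G : ℕ → FSch.ModF (FSch.completionAlong X 𝓘) hX}
  (q : ∀ k, T ⟶ G k) (γ : asMod R ⟶ (uMor X 𝓘 hX).push.obj T)

/-- The image of a section in a level. -/
noncomputable abbrev lvl (k : ℕ) (W : X.Opens) (η : Sec T (op0 𝓘 W)) : Sec (G k) (op0 𝓘 W) :=
  app (q k) (op0 𝓘 W) η

/-- The hypotheses. -/
structure Bounded : Prop where
  kill : ∀ k (W : X.Opens), IsAffineOpen W → ∀ a ∈ idl hX (op0 𝓘 W) ^ (k + 1), ∀ g : Sec (G k) (op0 𝓘 W), a • g = 0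
  sep : ∀ (W : X.Opens) (η : Sec T (op0 𝓘 W)), (∀ k, lvl q k W η = 0) → η = 0
  step : ∀ k (W : X.Opens) (η : Sec T (op0 𝓘 W)), lvl q (k + 1) W η = 0 → lvl q k W η = 0
  bounds : ∀ (W : X.Opens) (hW : IsAffineOpen W), ∃ c,
    (∀ n (m : Γ(R, W)), lvl q (n + c) W (PullRep.img γ m) = 0 →
      m ∈ 𝓘.ideal ⟨W, hW⟩ ^ (n + 1) • (⊤ : Submodule Γ(X, W) Γ(R, W))) ∧
    ∀ n (η : Sec T (op0 𝓘 W)), ∃ m : Γ(R, W), lvl q n W (PullRep.img γ m) = lvl q n W η

/-- The map from the completion. -/
noncomputable def toT : (FSch.complMod 𝓘 R).realMod hX ⟶ T :=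
  @inv _ _ _ _ (((uMor X 𝓘 hX).adj.homEquiv _ _).symm (gamma hX R)) (isIso_gamma_adjunct hX hR) ≫
    ((uMor X 𝓘 hX).adj.homEquiv _ _).symm γ

theorem toT_fac : gamma hX R ≫ (uMor X 𝓘 hX).push.map (toT hR γ) = γ := by
  apply ((uMor X 𝓘 hX).adj.homEquiv _ _).symm.injective
  rw [Adjunction.homEquiv_naturality_right_symm]
  exact @IsIso.hom_inv_id_assoc _ _ _ _ _ (isIso_gamma_adjunct hX hR) _ _

theorem app_toT_gammaVal (W : X.Opens) (m : Γ(R, W)) :
    app (toT hR γ) (op0 𝓘 W) (gammaVal hX R W m) = PullRep.img γ m :=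
  congrArg (fun t => PullRep.img (f := uMor X 𝓘 hX) t m) (toT_fac hR γ)

variable {q γ} (hb : Bounded q γ)

include hb in
theorem lvl_toT {W : X.Opens} (hW : IsAffineOpen W) (k : ℕ)
    (x : Sec ((FSch.complMod 𝓘 R).realMod hX) (op0 𝓘 W)) (m : Γ(R, W))
    (hx : lev hX (FSch.complMod 𝓘 R) k _ x = cev hX R k W m) :
    lvl q k W (app (toT hR γ) (op0 𝓘 W) x) = lvl q k W (PullRep.img γ m) := by
  have hN := CompletionFlat.isLocNoethFormal X 𝓘
  obtain ⟨d, rfl⟩ : ∃ d, gammaVal hX R W m + d = x := ⟨_, add_sub_cancel _ x⟩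
  have hd : d ∈ idl hX (op0 𝓘 W) ^ (k + 1) • (⊤ : Submodule (RS hX (op0 𝓘 W)) _) := by
    refine (lev_eq_zero_iff hN (isCoh_complMod hR) (isAffineOpen_op0 hW) k d).1 ?_
    rw [ComplPull.lev_add, lev_gammaVal] at hx
    exact add_eq_left.1 hx
  rw [lvl, lvl, map_add, app_toT_gammaVal, map_add, add_eq_left]
  refine Submodule.smul_induction_on hd (fun a ha y _ => ?_) (fun y y' hy hy' => ?_)
  · rw [map_smul, map_smul]
    exact hb.kill k W hW a ha _
  · rw [map_add, map_add, hy, hy', add_zero]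

include hb in
theorem lvl_step_le {W : X.Opens} (η : Sec T (op0 𝓘 W)) {j k : ℕ} (hjk : j ≤ k) (h : lvl q k W η = 0) :
    lvl q j W η = 0 := by
  induction k, hjk using Nat.le_induction with
  | base => exact h
  | succ k _ ih => exact ih (hb.step k W η h)

include hb in
theorem bijective_toT {W : X.Opens} (hW : IsAffineOpen W) :
    Function.Bijective (app (toT hR γ) (op0 𝓘 W)) := by
  obtain ⟨c, hc₁, hc₂⟩ := hb.bounds W hW
  have := hR.1
  let K := compl hX hW R
  refine ⟨(injective_iff_map_eq_zero _).2 fun x hx => K.ext _ _ fun k => ⟨0, ?_, K.rep_zero k⟩, fun η => ?_⟩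
  · obtain ⟨m, hm⟩ := K.exists_rep x (k + c)
    have hz : lvl q (k + c) W (PullRep.img γ m) = 0 := by
      rw [← lvl_toT hR hb hW (k + c) x m hm, hx]
      exact map_zero _
    refine (K.rep_iff x k m 0 (ComplData.step_le K (Nat.le_add_right k c) hm)).2 ?_
    rw [zero_sub]
    exact neg_mem (hc₁ k m hz)
  · choose s hs using fun n => hc₂ n η
    have key : ∀ i j, i ≤ j → lvl q i W (PullRep.img γ (s j)) = lvl q i W η := fun i j hij => by
      refine sub_eq_zero.1 ((map_sub _ _ _).symm.trans (lvl_step_le hb _ hij ?_))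
      exact (map_sub _ _ _).trans (sub_eq_zero.2 (hs j))
    obtain ⟨x, hx⟩ := K.glue (fun k => s (k + c)) fun k => hc₁ k _ (by
      rw [show PullRep.img γ (s (k + 1 + c) - s (k + c)) = PullRep.img γ (s (k + 1 + c)) - PullRep.img γ (s (k + c)) from
        map_sub _ _ _, lvl, map_sub]
      exact sub_eq_zero.2 ((key _ _ (by omega)).trans (key _ _ le_rfl).symm))
    refine ⟨x, sub_eq_zero.1 (hb.sep W _ fun k => (map_sub _ _ _).trans (sub_eq_zero.2 ?_))⟩
    exact (lvl_toT hR hb hW k x _ (hx k)).trans (key _ _ (Nat.le_add_right k c))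

include hR hb in
/-- The recognition. -/
theorem nonempty_iso : Nonempty ((uMor X 𝓘 hX).pull.obj R ≅ T) := by
  have hb' : ∀ V ∈ {V | ∃ W : X.Opens, IsAffineOpen W ∧ op0 𝓘 W = V}, Function.Bijective (app (toT hR γ) V) := by
    rintro _ ⟨W, hW, rfl⟩
    exact bijective_toT hR hb hW
  have hom_ext : ∀ {M N : FSch.ModF (FSch.completionAlong X 𝓘) hX} (a b : M ⟶ N),
      (∀ V ∈ {V | ∃ W : X.Opens, IsAffineOpen W ∧ op0 𝓘 W = V}, ∀ m, app a V m = app b V m) → a = b :=
    fun {M N} a b hab => SheafOfModules.hom_ext (PresheafOfModules.hom_ext fun U => by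
      ext m
      exact sec_ext_basis N exists_op0 fun V hVU hV =>
        (rs_app a hVU m).symm.trans ((hab V hV _).trans (rs_app b hVU m)))
  haveI : Mono (toT hR γ) :=
    ⟨fun a b e => hom_ext a b fun V hV m => (hb' V hV).1 (by rw [← app_comp, ← app_comp, e])⟩
  haveI : Epi (toT hR γ) := ⟨fun a b e => hom_ext a b fun V hV n => by
    obtain ⟨m, rfl⟩ := (hb' V hV).2 n
    rw [← app_comp, ← app_comp, e]⟩
  haveI := isIso_of_mono_of_epi (toT hR γ)
  haveI := isIso_gamma_adjunct hX hR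
  exact ⟨asIso (((uMor X 𝓘 hX).adj.homEquiv _ _).symm (gamma hX R)) ≪≫ asIso (toT hR γ)⟩

end Groth.AdicLinTop.ComplTarget
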