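import Groth.Agent.AdicLinTop.PushBounds

/-!
# Bounds for sections of the levels over inverse images of affine opens, without a base ring
-/

set_option autoImplicit false

universe u

open CategoryTheory CategoryTheory.Limits AlgebraicGeometry TopologicalSpace Opposite

namespace Groth.AdicLinTop.GenBounds

open Groth.CohC3 Groth.AdicLinTop.FormalLevels Groth.AdicLinTop.FormalReal
open Groth.AdicLinTop.FormalAffine Groth.AdicLinTop.FormalSpan Groth.AdicLinTop.ComplReal Groth.AdicLinTop.ComplPull Groth.AdicLinTop.PushBounds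
open Groth.AdicLinTop.FormalPullback (pre)
open Groth.AdicLinTop.ComplPush
open Groth.QCohMod (res res_res res_self res_app)
open Groth.PicAux (pullSec)

section Restrict

variable {Z : Scheme.{u}} {W : Z.Opens}

/-- A section of a restriction as a section of the module. -/
def toZ (M : Z.Modules) (V : W.toScheme.Opens) (x : Γ(M.restrict W.ι, V)) : Γ(M, W.ι ''ᵁ V) := x

/-- A section of the module as a section of a restriction. -/
def ofZ (M : Z.Modules) (V : W.toScheme.Opens) (x : Γ(M, W.ι ''ᵁ V)) : Γ(M.restrict W.ι, V) := x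

/-- A function on the open as a function on the scheme. -/
def ringZ (V : W.toScheme.Opens) (r : Γ(W.toScheme, V)) : Γ(Z, W.ι ''ᵁ V) := r

theorem toZ_smul (M : Z.Modules) (V : W.toScheme.Opens) (r : Γ(W.toScheme, V)) (x : Γ(M.restrict W.ι, V)) :
    toZ M V (r • x) = ringZ V r • toZ M V x := by
  change (W.ι.appIso V).inv r • toZ M V x = _
  rw [Scheme.Opens.ι_appIso]
  rfl

theorem ofZ_smul (M : Z.Modules) (V : W.toScheme.Opens) (r : Γ(W.toScheme, V)) (x : Γ(M, W.ι ''ᵁ V)) :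
    ofZ M V (ringZ V r • x) = r • ofZ M V x :=
  (toZ_smul M V r (ofZ M V x)).symm

theorem mem_smul_top_restrict (M : Z.Modules) (V : W.toScheme.Opens) (K : Ideal Γ(W.toScheme, V))
    (K' : Ideal Γ(Z, W.ι ''ᵁ V)) (hK : ∀ r, r ∈ K ↔ ringZ V r ∈ K') (x : Γ(M.restrict W.ι, V)) :
    x ∈ K • (⊤ : Submodule Γ(W.toScheme, V) Γ(M.restrict W.ι, V)) ↔
      toZ M V x ∈ K' • (⊤ : Submodule Γ(Z, W.ι ''ᵁ V) Γ(M, W.ι ''ᵁ V)) := by
  refine ⟨fun h => ?_, fun h => ?_⟩
  · refine Submodule.smul_induction_on (p := fun y => toZ M V y ∈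
      K' • (⊤ : Submodule Γ(Z, W.ι ''ᵁ V) Γ(M, W.ι ''ᵁ V))) h
      (fun r hr y _ => ?_) fun a b ha hb => add_mem ha hb
    rw [toZ_smul M V r y]
    exact Submodule.smul_mem_smul ((hK r).1 hr) trivial
  · refine Submodule.smul_induction_on (p := fun y => ofZ M V y ∈
      K • (⊤ : Submodule Γ(W.toScheme, V) Γ(M.restrict W.ι, V))) h
      (fun r hr y _ => ?_) fun a b ha hb => add_mem ha hb
    obtain ⟨r', rfl⟩ : ∃ r', ringZ V r' = r := ⟨r, rfl⟩
    rw [ofZ_smul M V r' y]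
    exact Submodule.smul_mem_smul ((hK r').2 hr) trivial

theorem map_app_restrict {M N : Z.Modules} (φ : M ⟶ N) (V : W.toScheme.Opens) (x : Γ(M.restrict W.ι, V)) :
    toZ N V (((Scheme.Modules.restrictFunctor W.ι).map φ).app V x) = φ.app (W.ι ''ᵁ V) (toZ M V x) := rfl

theorem toZ_res_top (M : Z.Modules) (V : W.toScheme.Opens) (x : Γ(M.restrict W.ι, (⊤ : W.toScheme.Opens))) :
    toZ M V (res (M.restrict W.ι) le_top x) = res M (W.ι_image_le V) (secW M W x) := by
  rw [secW_apply, res_res]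
  rfl

end Restrict

variable {Z X : Scheme.{u}} (g : Z ⟶ X) {W : X.Opens} (hW : IsAffineOpen W)

/-- The inverse image over the ring of the affine open. -/
noncomputable abbrev preOver : (g ⁻¹ᵁ W).toScheme.Over (Spec (CommRingCat.of Γ(X, W))) := ⟨overMap g hW⟩

theorem baseApp_preOver (V : (g ⁻¹ᵁ W).toScheme.Opens) (r : Γ(X, W)) :
    letI := preOver g hW
    baseApp (g ⁻¹ᵁ W).toScheme V r =
      (show Γ((g ⁻¹ᵁ W).toScheme, V) from g.appLE W ((g ⁻¹ᵁ W).ι ''ᵁ V) ((g ⁻¹ᵁ W).ι_image_le V) r) := by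
  let := preOver g hW
  change (g ⁻¹ᵁ W).toScheme.presheaf.map _ (Coh.toGlobal (overMap g hW) r) = _
  rw [toGlobal_overMap, Scheme.Opens.topIso_inv]
  change Z.presheaf.map _ (Z.presheaf.map _ (g.app W r)) = Z.presheaf.map _ (g.app W r)
  rw [← CommRingCat.comp_apply]
  erw [← Functor.map_comp]
  rfl

variable [IsProper g] [IsLocallyNoetherian X]

/-- Formal functions over an affine open, for any model of the quotients by powers of an ideal. -/
theorem exists_bounds_of_isQuot {F : Z.Modules} (hF : Coh.IsCoh F) (I : Ideal Γ(X, W)) {Q : ℕ → Z.Modules}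
    (p : ∀ k, F ⟶ Q k)
    (hp : letI := preOver g hW
      ∀ k, IsQuot (I ^ (k + 1)) ((Scheme.Modules.restrictFunctor (g ⁻¹ᵁ W).ι).map (p k))) :
    ∃ c, (∀ n (s : Γ((Scheme.Modules.pushforward g).obj F, W)), (p (n + c)).app (g ⁻¹ᵁ W) s = 0 →
        s ∈ I ^ (n + 1) • (⊤ : Submodule Γ(X, W) Γ((Scheme.Modules.pushforward g).obj F, W))) ∧
      ∀ n (z : Γ(Q (n + c), g ⁻¹ᵁ W)), ∃ s : Γ(F, g ⁻¹ᵁ W), ∀ (V : Z.Opens) (e : V ≤ g ⁻¹ᵁ W) (t : Γ(F, V)),
        (p (n + c)).app V t = res (Q (n + c)) e z → (p n).app V (res F e s) = (p n).app V t := by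
  let := preOver g hW
  let W₀ : Z.Opens := g ⁻¹ᵁ W
  let R : Type u := Γ(X, W)
  have : IsNoetherianRing Γ(X, W) := IsLocallyNoetherian.component_noetherian ⟨W, hW⟩
  have hpr : IsProper (g ∣_ W) := IsZariskiLocalAtTarget.restrict (P := @IsProper) (inferInstance : IsProper g) W
  have : IsProper ((g ⁻¹ᵁ W).toScheme ↘ Spec (CommRingCat.of Γ(X, W))) :=
    MorphismProperty.comp_mem _ _ _ hpr inferInstance
  have : AlgebraicGeometry.IsNoetherian (g ⁻¹ᵁ W).toScheme := isNoetherian_of_proper Γ(X, W) _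
  let Fn := Scheme.Modules.restrictFunctor W₀.ι
  have hF' : Coh.IsCoh (Fn.obj F) := by
    have := hF.1
    exact ⟨(QCohMod.isQCoh_iff_of_iso ((Scheme.Modules.restrictFunctorIsoPullback W₀.ι).app F)).2
        (QCohMod.isQCoh_pullback_obj W₀.ι F),
      @QCohMod.isFT_of_epi _ _ _ (((Scheme.Modules.restrictFunctorIsoPullback W₀.ι).app F).inv)
        inferInstance (QCohMod.isFT_pullback W₀.ι F hF.2)⟩
  have hP := finClass_isCoh (A := Γ(X, W)) (X := W₀.toScheme) fun G hG q => finite_HH_of_proper Γ(X, W) W₀.toScheme hG q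
  have hPM := fun n => isCoh_powSub (I := I) hF' n
  obtain ⟨c₁, hc₁⟩ := exists_ker_modPowπ_le hP hPM hF' 0
  obtain ⟨c₂, hc₂⟩ := exists_range_qTr_le hP hPM hF' 0
  let e := (secEquiv₀ (Fn.obj F)).trans (secW F W₀)
  refine ⟨max c₁ c₂, fun n s hs => ?_, fun n z => ?_⟩
  · obtain ⟨x, rfl⟩ := e.surjective s
    obtain ⟨δ, hδ⟩ := (hp (n + max c₁ c₂)).desc (Formal.modPowπ I (n + max c₁ c₂ + 1) (Fn.obj F))
      (isQuot_modPowπ _ _ _).le_ann
    have h0 : hmap Γ(X, W) (Formal.modPowπ I (n + max c₁ c₂ + 1) (Fn.obj F)) 0 x = 0 := by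
      refine (secEquiv₀ _).injective ?_
      have h1 : (Fn.map (p (n + max c₁ c₂))).app ⊤ (secEquiv₀ (Fn.obj F) x) = 0 := by
        refine (secW (Q (n + max c₁ c₂)) W₀).injective ?_
        rw [secW_map, map_zero]
        exact hs
      rw [secEquiv₀_hmap, map_zero, ← hδ, Scheme.Modules.Hom.comp_app, ConcreteCategory.comp_apply]
      exact (congrArg _ h1).trans (map_zero _)
    have h1 := hc₁ _ h0
    refine Submodule.smul_mono_left (Ideal.pow_le_pow_right (by omega : n + 1 ≤ n + max c₁ c₂ + 1 - c₁)) ?_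
    refine Submodule.smul_induction_on h1 (fun r hr y _ => ?_) (fun a b ha hb => by rw [map_add]; exact add_mem ha hb)
    have hsc : e (r • y) = g.app W r • e y := by
      change secW F W₀ (secEquiv₀ _ (r • y)) = _
      rw [← hmap_smulMod, secEquiv₀_hmap, smulMod_app]
      refine Eq.trans (congrArg (secW F W₀) ?_) (secW_smul F W₀ _ _)
      congr 1
      refine Eq.trans ?_ (toGlobal_overMap g hW r)
      exact congr($(W₀.toScheme.presheaf.map_id _) _)
    rw [hsc]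
    exact Submodule.smul_mem_smul (N := (⊤ : Submodule Γ(X, W) Γ((Scheme.Modules.pushforward g).obj F, W))) hr
      (n := e y) trivial
  · let m := n + max c₁ c₂
    obtain ⟨γ, hγ⟩ := (hp m).desc (Formal.modPowπ I (m + 1) (Fn.obj F)) (isQuot_modPowπ _ _ _).le_ann
    obtain ⟨δn, hδn⟩ := (isQuot_modPowπ I (n + 1) (Fn.obj F)).desc (Fn.map (p n)) (hp n).le_ann
    let z' : Γ(Fn.obj (Q m), (⊤ : W₀.toScheme.Opens)) := (secW (Q m) W₀).symm z
    obtain ⟨y, hy⟩ := (secEquiv₀ (Formal.modPow I (m + 1) (Fn.obj F))).surjective (γ.app ⊤ z')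
    obtain ⟨x, hx⟩ := hc₂ (n + 1) (m + 1) (by omega) (by omega) y
    refine ⟨e x, fun V eV t ht => ?_⟩
    have eV' : W₀.ι ''ᵁ (W₀.ι ⁻¹ᵁ V) = V := by
      rw [Scheme.Hom.image_preimage_eq_opensRange_inf, Scheme.Opens.opensRange_ι, inf_eq_right.2 eV]
    let t' : Γ(Fn.obj F, W₀.ι ⁻¹ᵁ V) := ofZ F _ (res F eV'.le t)
    have h1 : (Fn.map (p m)).app _ t' = res (Fn.obj (Q m)) le_top z' := by
      change toZ (Q m) _ ((Fn.map (p m)).app _ t') = toZ (Q m) _ (res (Fn.obj (Q m)) le_top z')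
      rw [map_app_restrict, toZ_res_top, AddEquiv.apply_symm_apply]
      change (p m).app _ (res F eV'.le t) = _
      rw [← res_app, ht, res_res]
    have h2 : (Formal.modPowπ I (m + 1) (Fn.obj F)).app _ t' =
        res (Formal.modPow I (m + 1) (Fn.obj F)) le_top (γ.app ⊤ z') := by
      rw [← hγ, Scheme.Modules.Hom.comp_app, ConcreteCategory.comp_apply, h1, res_app]
    have h3 : (Formal.modPowπ I (n + 1) (Fn.obj F)).app _ (res (Fn.obj F) le_top (secEquiv₀ (Fn.obj F) x)) =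
        (Formal.modPowπ I (n + 1) (Fn.obj F)).app (W₀.ι ⁻¹ᵁ V) t' := by
      rw [← res_app, ← secEquiv₀_hmap (A := Γ(X, W)), hx, secEquiv₀_hmap, hy, res_app, ← h2,
        ← ConcreteCategory.comp_apply, ← Scheme.Modules.Hom.comp_app, modPowπ_qTr]
    have h4 : (Fn.map (p n)).app _ (res (Fn.obj F) le_top (secEquiv₀ (Fn.obj F) x)) = (Fn.map (p n)).app _ t' := by
      rw [← hδn, Scheme.Modules.Hom.comp_app, ConcreteCategory.comp_apply, ConcreteCategory.comp_apply, h3]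
    refine (res_bijective (Q n) eV'.le eV'.ge).1 ?_
    rw [res_app, res_app, res_res]
    have h5 := congrArg (toZ (Q n) (W₀.ι ⁻¹ᵁ V)) h4
    rw [map_app_restrict, map_app_restrict, toZ_res_top] at h5
    exact h5

variable {𝓘 : X.IdealSheafData} {𝓚 : Z.IdealSheafData} (h𝓚 : 𝓚 = 𝓘.comap g)
  {hZ : (FSch.completionAlong Z 𝓚).IsFormal}

omit [IsProper g] [IsLocallyNoetherian X] in
include h𝓚 in
/-- The units at the levels are quotients by powers of the ideal of the affine open. -/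
theorem isQuot_restrict_unit {F : Z.Modules} [F.IsQuasicoherent] (k : ℕ) :
    letI := preOver g hW
    IsQuot (𝓘.ideal ⟨W, hW⟩ ^ (k + 1)) ((Scheme.Modules.restrictFunctor (g ⁻¹ᵁ W).ι).map
      ((Scheme.Modules.pullbackPushforwardAdjunction (FSch.completionToX Z 𝓚 k)).unit.app F)) := by
  let := preOver g hW
  let W₀ : Z.Opens := g ⁻¹ᵁ W
  let Fn := Scheme.Modules.restrictFunctor W₀.ι
  let u := (Scheme.Modules.pullbackPushforwardAdjunction (FSch.completionToX Z 𝓚 k)).unit.app F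
  have hker : ∀ {V : W₀.toScheme.Opens} (hV : IsAffineOpen V) (s : Γ(Fn.obj F, V)),
      (Fn.map u).app V s = 0 ↔ s ∈ (𝓘.ideal ⟨W, hW⟩ ^ (k + 1)).map (baseApp W₀.toScheme V) •
        (⊤ : Submodule Γ(W₀.toScheme, V) Γ(Fn.obj F, V)) := fun {V} hV s => by
    have hV' : IsAffineOpen (W₀.ι ''ᵁ V) := hV.image_of_isOpenImmersion _
    have hid : (𝓚 ^ (k + 1)).ideal ⟨W₀.ι ''ᵁ V, hV'⟩ =
        (show Ideal Γ(Z, W₀.ι ''ᵁ V) from (𝓘.ideal ⟨W, hW⟩ ^ (k + 1)).map (baseApp W₀.toScheme V)) := by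
      rw [Scheme.IdealSheafData.ideal_pow, h𝓚]
      refine (congrArg (· ^ (k + 1)) (Groth.Divisors.ideal_comap_affine 𝓘 g ⟨W, hW⟩
        ⟨_, hV'⟩ (W₀.ι_image_le V))).trans ?_
      rw [← Ideal.map_pow]
      exact congrArg (fun f : Γ(X, W) →+* _ => (𝓘.ideal ⟨W, hW⟩ ^ (k + 1)).map f)
        (RingHom.ext fun r => (baseApp_preOver g hW V r).symm)
    refine ((Groth.QCohMod.unit_closedImmersion_app (FSch.completionToX Z 𝓚 k) F hV').2 s).trans ?_
    rw [show (FSch.completionToX Z 𝓚 k).ker = 𝓚 ^ (k + 1) from Scheme.IdealSheafData.ker_subschemeι _]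
    exact (mem_smul_top_restrict F V _ _ (fun r => by rw [hid]; rfl) s).symm
  have hsurj : ∀ V : W₀.toScheme.Opens, IsAffineOpen V → Function.Surjective ((Fn.map u).app V) :=
    fun V hV => (Groth.QCohMod.unit_closedImmersion_app (FSch.completionToX Z 𝓚 k) F
      (hV.image_of_isOpenImmersion W₀.ι)).1
  have : (Fn.obj F).IsQuasicoherent :=
    (QCohMod.isQCoh_iff_of_iso ((Scheme.Modules.restrictFunctorIsoPullback W₀.ι).app F)).2
        (QCohMod.isQCoh_pullback_obj W₀.ι F)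
  refine isQuot_of_affine _ (fun a ha => ?_) hsurj (fun V hV s hs => (hker hV s).1 hs)
  refine (mem_annHom _ _).2 (@hom_eq_zero_of_cover _ (Fn.obj F) _ (by assumption) _ fun x => ?_)
  obtain ⟨V, hV, hx⟩ := QCohMod.exists_affine_mem x
  refine ⟨V, hV, hx, fun s => (hker hV (baseApp W₀.toScheme V a • s)).2 ?_⟩
  exact Submodule.smul_mem_smul (Ideal.mem_map_of_mem _ ha) trivial

include h𝓚 in
/-- The bounds over affine opens for a proper map of locally Noetherian schemes. -/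
theorem bounds [IsLocallyNoetherian Z] (hpc : FSch.PowCompat g 𝓚 𝓘) {F : Z.Modules} (hF : Coh.IsCoh F) :
    Bounds hpc (hZ := hZ) F W (𝓘.ideal ⟨W, hW⟩) := by
  have := hF.1
  obtain ⟨c, hc₁, hc₂⟩ := exists_bounds_of_isQuot g hW hF (𝓘.ideal ⟨W, hW⟩) _
    fun k => isQuot_restrict_unit g hW h𝓚 (F := F) k
  refine ⟨c, fun n m hm => hc₁ n m ?_, fun n y => ?_⟩
  · refine (res_bijective _ (le_preimage hZ (n + c) (g ⁻¹ᵁ W)) (preimage_le hZ (n + c) (g ⁻¹ᵁ W))).1 ?_
    refine (res_bijective _ (lvU_mono hZ (n + c) (pre_op0 hpc W).le) (lvU_mono hZ (n + c) (pre_op0 hpc W).ge)).1 ?_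
    refine hm.trans (Eq.symm ?_)
    exact (congrArg (res _ _) (map_zero (res _ _))).trans (map_zero _)
  · let y' := rs ((FSch.complMod 𝓚 F).realMod hZ) (pre_op0 hpc W).ge y
    obtain ⟨z, hz⟩ := (res_bijective ((FSch.complMod 𝓚 F).F (n + c)) (le_preimage hZ (n + c) (g ⁻¹ᵁ W))
      (preimage_le hZ (n + c) (g ⁻¹ᵁ W))).2 (lev hZ (FSch.complMod 𝓚 F) (n + c) _ y')
    obtain ⟨s, hs⟩ := hc₂ n z
    refine ⟨s, ?_⟩
    have key : lev hZ (FSch.complMod 𝓚 F) n _ y' = cev hZ F n (g ⁻¹ᵁ W) s := by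
      refine CohTwo.eq_of_local ((FSch.complMod 𝓚 F).F n) _ _ fun q hq => ?_
      obtain ⟨_, ⟨V, hV, rfl⟩, hqV, hVW⟩ := Z.isBasis_affineOpens.exists_subset_of_mem_open
        (le_preimage hZ n (g ⁻¹ᵁ W) hq) (g ⁻¹ᵁ W).2
      have hVW : V ≤ g ⁻¹ᵁ W := hVW
      have e0 := (FSch.completionToX Z 𝓚 0).preimage_mono hVW
      refine ⟨(FSch.completionAlong Z 𝓚).lvU hZ n (op0 𝓚 V), lvU_mono hZ n e0, preimage_le hZ n V hqV, ?_⟩
      obtain ⟨t, ht⟩ := (cev_spec (h := hZ) hV F (n + c)).1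
        (lev hZ (FSch.complMod 𝓚 F) (n + c) _ (rs ((FSch.complMod 𝓚 F).realMod hZ) e0 y'))
      have hn : lev hZ (FSch.complMod 𝓚 F) n _ (rs ((FSch.complMod 𝓚 F).realMod hZ) e0 y') = cev hZ F n V t := by
        rw [← lev_gammaVal F V t n]
        refine lev_eq_of_le _ (Nat.le_add_right n c) ?_
        rw [lev_gammaVal]
        exact ht.symm
      refine Eq.trans (lev_rs (FSch.complMod 𝓚 F) n e0 y').symm (hn.trans (Eq.trans ?_ (cev_res F n hVW s)))
      refine congrArg (res _ (le_preimage hZ n V)) (hs V hVW t ?_).symm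
      refine (res_bijective ((FSch.complMod 𝓚 F).F (n + c)) (le_preimage hZ (n + c) V) (preimage_le hZ (n + c) V)).1 ?_
      refine ht.trans ?_
      rw [lev_rs, ← hz]
      exact (res_res _ _ _ _).trans (res_res _ _ _ _).symm
    refine Eq.trans ?_ (congrArg (res _ (lvU_mono hZ n (pre_op0 hpc W).le)) key)
    rw [← lev_rs _ n (pre_op0 hpc W).le, rs_rs, lev_rs]
    exact (res_self _ _).symm

end Groth.AdicLinTop.GenBounds
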