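import Groth.Agent.AdicLinTop.IndQcoh

/-!
# Quasi-coherent modules on a locally Noetherian formal scheme

Quasi-coherent modules are those which have locally finitely generated relations and are locally generated
by sections; kernels, images and cokernels of their morphisms are quasi-coherent.
-/

set_option autoImplicit false

universe u

open CategoryTheory CategoryTheory.Limits AlgebraicGeometry TopologicalSpace Opposite

set_option backward.defeqAttrib.useBackward true
set_option backward.isDefEq.respectTransparency false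
set_option backward.isDefEq.respectTransparency.types false
set_option synthInstance.maxHeartbeats 400000

namespace Groth.AdicLinTop.QcohLocal

open Groth.SitesTopoi.ModH Groth.AdicLinTop.SpacePres Groth.AdicLinTop.CohKer Groth.AdicLinTop.QuotFP
open Groth.AdicLinTop.FormalAffine Groth.SitesTopoi

section Generic

variable {T : Type u} [TopologicalSpace T] {O : Sheaf (Opens.grothendieckTopology T) CommRingCat.{u}}
  {B : Set (Opens T)} {F G : ModSite.Mod O} {U : Opens T}

/-- A family of sections over an open generating all sections locally by finite combinations. -/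
def Gens {κ : Type u} (g : κ → sc F.val U) : Prop :=
  ∀ (W : Opens T) (hW : W ≤ U) (t : sc F.val W), ∀ x ∈ W,
    ∃ (V : Opens T) (hV : V ≤ W), x ∈ V ∧ ∃ (s : Finset κ) (a : κ → rsec O V),
      rm F hV t = ∑ i ∈ s, a i • rm F (hV.trans hW) (g i)

lemma Gens.restrict {κ : Type u} {g : κ → sc F.val U} (hg : Gens g) {U' : Opens T} (h : U' ≤ U) :
    Gens fun i => rm F h (g i) := fun W hW t x hx => by
  obtain ⟨V, hV, hxV, s, a, ha⟩ := hg W (hW.trans h) t x hx
  exact ⟨V, hV, hxV, s, a, ha.trans (Finset.sum_congr rfl fun i _ => by rw [rm_rm])⟩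

/-- Finite combinations indexed by a set, indexed by its cardinality. -/
lemma sum_fin {κ R M : Type*} [Semiring R] [AddCommMonoid M] [Module R M] (s : Finset κ) (a : κ → R) (x : κ → M) :
    ∑ i ∈ s, a i • x i = ∑ k : Fin s.card, a (s.equivFin.symm k).1 • x (s.equivFin.symm k).1 :=
  ((Equiv.sum_comp s.equivFin.symm fun i : s => a i.1 • x i.1).trans (Finset.sum_coe_sort s fun i => a i • x i)).symm

/-- Images of generators generate a quotient. -/
lemma gens_of_epi (π : F ⟶ G) [Epi π] {κ : Type u} {g : κ → sc F.val U} (hg : Gens g) :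
    Gens fun i => apm π.val U (g i) := fun W hW t x hx => by
  obtain ⟨S, hS, hS'⟩ := locSurj_of_epi π W t
  obtain ⟨V, hV, hxV, hSV⟩ := exists_nhd_of_mem hS hx
  obtain ⟨y, hy⟩ := hS' (homOfLE hV) hSV
  obtain ⟨V', hV', hxV', s, a, ha⟩ := hg V (hV.trans hW) y x hxV
  refine ⟨V', hV'.trans hV, hxV', s, a, ?_⟩
  have h1 := congrArg (apm π.val V') ha
  rw [apm_rsm, hy, map_sum] at h1
  refine ((rm_rm G hV hV' t).symm.trans h1).trans (Finset.sum_congr rfl fun i _ => ?_)
  rw [map_smul, apm_rsm]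

/-- Generators of a kernel. -/
theorem exists_gens_kernel (φ : F ⟶ G) {κ : Type u} {g : κ → sc F.val U} (hg : Gens g)
    (hrel : ∀ (n : ℕ) (gs : Fin n → sc G.val U), ∃ l, Nonempty (RelData (F := G) gs l)) :
    ∃ (κ' : Type u) (k : κ' → sc (kernel φ).val U), Gens k := by
  classical
  have hR := fun s : Finset κ => hrel s.card fun k => apm φ.val U (g (s.equivFin.symm k).1)
  choose l hl using hR
  let R := fun s => (hl s).some
  choose k hk using fun (p : Σ s : Finset κ, Fin (l s)) =>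
    exists_kernel_sec φ (∑ i, (R p.1).e p.2 i • g (p.1.equivFin.symm i).1) (by
      rw [map_sum]
      refine Eq.trans (Finset.sum_congr rfl fun i _ => ?_) ((R p.1).zero p.2)
      rw [map_smul])
  refine ⟨_, k, fun W hW t x hx => ?_⟩
  obtain ⟨V₁, hV₁, hx₁, s, a, ha⟩ := hg W hW (apm (kernel.ι φ).val W t) x hx
  rw [sum_fin] at ha
  have hz : ∑ i, a (s.equivFin.symm i).1 • rm G (hV₁.trans hW) (apm φ.val U (g (s.equivFin.symm i).1)) = 0 := by
    have h := congrArg (apm φ.val V₁) ha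
    rw [map_sum, show apm φ.val V₁ (rm F hV₁ (apm (kernel.ι φ).val W t)) = 0 by
      rw [apm_rsm, apm_kernel_ι_comp, map_zero]] at h
    refine Eq.trans (Finset.sum_congr rfl fun i _ => ?_) h.symm
    rw [map_smul, apm_rsm]
  obtain ⟨V₂, hV₂, hx₂, c, hc⟩ := (R s).rel V₁ (hV₁.trans hW) (fun i => a (s.equivFin.symm i).1) hz x hx₁
  refine ⟨V₂, hV₂.trans hV₁, hx₂, Finset.univ.map ⟨Sigma.mk s, sigma_mk_injective⟩,
    Function.extend (Sigma.mk s) c 0, injective_of_mono (kernel.ι φ) V₂ ?_⟩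
  rw [Finset.sum_map]
  simp only [Function.Embedding.coeFn_mk, sigma_mk_injective.extend_apply]
  have h := congrArg (rm F hV₂) ha
  simp only [map_sum, rm_smul, rm_rm, hc] at h
  rw [apm_rsm, h, map_sum]
  simp only [map_smul, apm_rsm, hk, map_sum, rm_smul, Finset.sum_smul, Finset.smul_sum, mul_smul]
  exact Finset.sum_comm

/-- Finitely many sections of a quotient lift near a point. -/
lemma exists_lifts (π : F ⟶ G) [Epi π] {x : T} (hx : x ∈ U) : ∀ {N : ℕ} (c : Fin N → sc G.val U),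
    ∃ (V : Opens T) (hV : V ≤ U), x ∈ V ∧ ∃ g : Fin N → sc F.val V, ∀ i, apm π.val V (g i) = rm G hV (c i)
  | 0, _ => ⟨U, le_rfl, hx, fun i => i.elim0, fun i => i.elim0⟩
  | N + 1, c => by
    obtain ⟨V, hV, hxV, g, hg⟩ := exists_lifts π hx fun i => c i.succ
    obtain ⟨S, hS, hS'⟩ := locSurj_of_epi π V (rm G hV (c 0))
    obtain ⟨V', hV', hxV', hSV⟩ := exists_nhd_of_mem hS hxV
    obtain ⟨y, hy⟩ := hS' (homOfLE hV') hSV
    refine ⟨V', hV'.trans hV, hxV', Fin.cons y fun i => rm F hV' (g i), fun i => ?_⟩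
    induction i using Fin.cases with
    | zero => simpa only [Fin.cons_zero] using hy.trans (rm_rm G hV hV' _)
    | succ i =>
      simp only [Fin.cons_succ]
      exact (apm_rsm _ _ _).trans ((congrArg (rm G hV') (hg i)).trans (rm_rm G hV hV' _))

/-- Relations generated locally by global relations are finitely generated over a Noetherian ring. -/
theorem exists_relData_of_global [IsNoetherianRing (rsec O U)] {N : ℕ} (c : Fin N → sc F.val U)
    (h : ∀ (W : Opens T) (hW : W ≤ U) (a : Fin N → rsec O W), ∑ i, a i • rm F hW (c i) = 0 → ∀ x ∈ W,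
      ∃ (V : Opens T) (hV : V ≤ W), x ∈ V ∧ ∃ (n : ℕ) (v : Fin n → Fin N → rsec O U) (d : Fin n → rsec O V),
        (∀ q, ∑ i, v q i • c i = 0) ∧ ∀ i, rr hV (a i) = ∑ q, d q * rr (hV.trans hW) (v q i)) :
    ∃ l, Nonempty (RelData (F := F) c l) := by
  classical
  let K := LinearMap.ker (Fintype.linearCombination (rsec O U) c)
  obtain ⟨l, E, hE⟩ := Submodule.fg_iff_exists_fin_generating_family.1 (IsNoetherian.noetherian K)
  have hK : ∀ v, v ∈ K ↔ ∑ i, v i • c i = 0 := fun v => by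
    rw [LinearMap.mem_ker, Fintype.linearCombination_apply]
  refine ⟨l, ⟨{ e := E, zero := fun q => (hK _).1 (hE ▸ Submodule.subset_span ⟨q, rfl⟩), rel := fun W hW a ha x hx => ?_ }⟩⟩
  obtain ⟨V, hV, hxV, n, v, d, hv, hd⟩ := h W hW a ha x hx
  choose w hw using fun q => (Submodule.mem_span_range_iff_exists_fun _).1 (hE.symm ▸ (hK _).2 (hv q) :
    v q ∈ Submodule.span (rsec O U) (Set.range E))
  refine ⟨V, hV, hxV, fun p => ∑ q, d q * rr (hV.trans hW) (w q p), fun i => ?_⟩
  rw [hd]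
  have e : ∀ q, rr (hV.trans hW) (v q i) = ∑ p, rr (hV.trans hW) (w q p) * rr (hV.trans hW) (E p i) := fun q => by
    rw [← hw q]
    simp only [Finset.sum_apply, Pi.smul_apply, smul_eq_mul, map_sum, map_mul]
  simp only [e, Finset.mul_sum, Finset.sum_mul, mul_assoc]
  exact Finset.sum_comm

/-- A quasi-coherent module has presentations near every point. -/
lemma exists_presentation [SheafOfModules.IsQuasicoherent.{u} (R := ModSite.ringSh O) F] (x : T) :
    ∃ U : Opens T, x ∈ U ∧ Nonempty ((ModSite.restr O U).obj F).Presentation := by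
  obtain ⟨σ⟩ := SheafOfModules.IsQuasicoherent.nonempty_quasicoherentData (M := F)
  obtain ⟨k, hk⟩ : ∃ k, x ∈ σ.X k := by
    have := σ.coversTop
    rw [Opens.coversTop_iff] at this
    exact Opens.mem_iSup.mp ((this ▸ trivial : x ∈ iSup σ.X))
  exact ⟨σ.X k, hk, ⟨σ.presentation k⟩⟩

/-- A quasi-coherent module is locally generated by sections. -/
theorem exists_gens [SheafOfModules.IsQuasicoherent.{u} (R := ModSite.ringSh O) F] (x : T) :
    ∃ (U : Opens T) (κ : Type u) (g : κ → sc F.val U), x ∈ U ∧ Gens g := by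
  obtain ⟨U, hxU, ⟨p⟩⟩ := exists_presentation (F := F) x
  refine ⟨U, p.generators.I, gv p le_rfl, hxU, fun W hW t y hy => ?_⟩
  obtain ⟨V, hV, hyV, s, a, ha⟩ := exists_gv_comb p hW t hy
  exact ⟨V, hV, hyV, s, a, ha.trans (Finset.sum_congr rfl fun i _ => by rw [rm_gv])⟩

/-- Relations in a quasi-coherent module are locally finitely generated. -/
theorem relFin_of_qcoh (hB : GoodBasis (O := O) B)
    [SheafOfModules.IsQuasicoherent.{u} (R := ModSite.ringSh O) F] : RelFin F := by
  classical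
  intro U N g x hx
  obtain ⟨U₁, hx₁, ⟨p⟩⟩ := exists_presentation (F := F) x
  choose Vk hVk hxVk sk ak hak using fun i : Fin N => exists_gv_comb p (inf_le_right : U ⊓ U₁ ≤ U₁)
    (rm F (inf_le_left : U ⊓ U₁ ≤ U) (g i)) (x := x) ⟨hx, hx₁⟩
  obtain ⟨V, hVB, hxV, hVW⟩ := hB.exists_mem x ((U ⊓ U₁) ⊓ Finset.univ.inf Vk)
    ⟨⟨hx, hx₁⟩, by simpa [Opens.coe_finset_inf] using hxVk⟩
  have hV : V ≤ U ⊓ U₁ := hVW.trans inf_le_left
  have hVU₁ : V ≤ U₁ := hV.trans inf_le_right
  have hVl : ∀ l, V ≤ Vk l := fun l => hVW.trans (inf_le_right.trans (Finset.inf_le (Finset.mem_univ l)))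
  let I0 : Finset p.generators.I := Finset.univ.biUnion sk
  let e : Fin I0.card ≃ I0 := I0.equivFin.symm
  obtain ⟨m, r, hr0, hrel⟩ := exists_rel hB p hVU₁ hVB (fun i => (e i).1) (Subtype.val_injective.comp e.injective)
  let R₀ : RelData (F := F) (fun i => gv p hVU₁ (e i).1) m :=
    { e := r, zero := hr0, rel := fun W hW a ha => hrel W hW a (by simpa only [rm_gv] using ha) }
  obtain ⟨l, hl⟩ := exists_relData_of_comb hB hVB R₀ (fun i => rm F (hV.trans inf_le_left) (g i))
    (fun i k => onSet (sk i) (fun j => rr (hVl i) (ak i j)) (e k).1) (fun i => by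
      rw [← sum_onSet p hVU₁
        (show sk i ⊆ I0 from fun j hj => Finset.mem_biUnion.2 ⟨i, Finset.mem_univ i, hj⟩) _ e]
      have h1 := congrArg (rm F (hVl i)) (hak i)
      rw [rm_rm, map_sum] at h1
      simp only [rm_smul, rm_gv, rm_rm] at h1
      exact h1.trans (Finset.sum_coe_sort (sk i) fun j => rr (hVl i) (ak i j) • gv p hVU₁ j).symm)
  exact ⟨V, hV.trans inf_le_left, l, hxV, hl⟩

end Generic

variable {𝔛 : FSch.Sys.{u}} (h𝔛 : 𝔛.IsLocNoethFormal) {F G : FSch.ModF 𝔛 h𝔛.1}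

include h𝔛 in
theorem relFin [SheafOfModules.IsQuasicoherent.{u} F] : RelFin (O := 𝔛.Osh h𝔛.1) F :=
  relFin_of_qcoh (IndCoh.goodBasis h𝔛)

/-- Finitely generated relations and local generators give quasi-coherence. -/
theorem isQuasicoherent_of_gens (hR : RelFin (O := 𝔛.Osh h𝔛.1) F)
    (hg : ∀ x : 𝔛.X 0, ∃ (U : (𝔛.X 0).Opens) (κ : Type u) (g : κ → sc F.val U),
      x ∈ U ∧ Gens (O := 𝔛.Osh h𝔛.1) g) : SheafOfModules.IsQuasicoherent.{u} F :=
  InfPres.isQuasicoherent_of_presentations (O := 𝔛.Osh h𝔛.1) fun x => by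
    obtain ⟨U, κ, g, hxU, hgen⟩ := hg x
    obtain ⟨V, hV, hxV, hVU⟩ := (IndCoh.goodBasis h𝔛).exists_mem x U hxU
    exact ⟨V, hxV, IndQcoh.nonempty_presentation h𝔛 hV hR _ (hgen.restrict hVU)⟩

include h𝔛 in
theorem exists_gens_affine [SheafOfModules.IsQuasicoherent.{u} F] (x : 𝔛.X 0) (W : (𝔛.X 0).Opens) (hx : x ∈ W) :
    ∃ (V : (𝔛.X 0).Opens), IsAffineOpen V ∧ x ∈ V ∧ V ≤ W ∧
      ∃ (κ : Type u) (g : κ → sc F.val V), Gens (O := 𝔛.Osh h𝔛.1) g := by
  obtain ⟨U, κ, g, hxU, hgen⟩ := exists_gens (O := 𝔛.Osh h𝔛.1) (F := F) x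
  obtain ⟨V, hV, hxV, hVU⟩ := (IndCoh.goodBasis h𝔛).exists_mem x (U ⊓ W) ⟨hxU, hx⟩
  exact ⟨V, hV, hxV, hVU.trans inf_le_right, κ, _, hgen.restrict (hVU.trans inf_le_left)⟩

/-- Kernels of morphisms between quasi-coherent modules are quasi-coherent. -/
theorem isQuasicoherent_kernel (φ : F ⟶ G) [SheafOfModules.IsQuasicoherent.{u} F]
    [SheafOfModules.IsQuasicoherent.{u} G] : SheafOfModules.IsQuasicoherent.{u} (kernel φ) := by
  refine isQuasicoherent_of_gens h𝔛 (relFin_of_mono (kernel.ι φ) (relFin h𝔛)) fun x => ?_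
  obtain ⟨V, hV, hxV, -, κ, g, hg⟩ := exists_gens_affine h𝔛 (F := F) x ⊤ trivial
  obtain ⟨κ', k, hk⟩ := exists_gens_kernel φ hg fun n gs =>
    AffineSections.exists_relData_of_relFin h𝔛 hV (relFin h𝔛) gs
  exact ⟨V, κ', k, hxV, hk⟩

/-- Images of morphisms between quasi-coherent modules are quasi-coherent. -/
theorem isQuasicoherent_image (φ : F ⟶ G) [SheafOfModules.IsQuasicoherent.{u} F]
    [SheafOfModules.IsQuasicoherent.{u} G] : SheafOfModules.IsQuasicoherent.{u} (Abelian.image φ) :=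
  isQuasicoherent_of_gens h𝔛 (relFin_of_mono (Abelian.image.ι φ) (relFin h𝔛)) fun x => by
    obtain ⟨U, κ, g, hxU, hgen⟩ := exists_gens (O := 𝔛.Osh h𝔛.1) (F := F) x
    exact ⟨U, κ, _, hxU, gens_of_epi (Abelian.factorThruImage φ) hgen⟩

/-- Relations in a cokernel. -/
theorem relFin_cokernel (φ : F ⟶ G) [SheafOfModules.IsQuasicoherent.{u} F]
    [SheafOfModules.IsQuasicoherent.{u} G] : RelFin (O := 𝔛.Osh h𝔛.1) (cokernel φ) := by
  classical
  intro U N c x hx
  obtain ⟨V₁, hV₁, hxV₁, g₁, hg₁⟩ := exists_lifts (cokernel.π φ) hx c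
  obtain ⟨V, hV, hxV, hVV₁, κ, f, hf⟩ := exists_gens_affine h𝔛 (F := F) x V₁ hxV₁
  haveI : IsNoetherianRing (rsec (𝔛.Osh h𝔛.1) V) := isNoetherianRing h𝔛 hV
  let g := fun i => rm G hVV₁ (g₁ i)
  have hg : ∀ i, apm (cokernel.π φ).val V (g i) = rm (cokernel φ) (hVV₁.trans hV₁) (c i) := fun i =>
    (apm_rsm _ _ _).trans ((congrArg (rm (cokernel φ) hVV₁) (hg₁ i)).trans (rm_rm _ hV₁ hVV₁ _))
  obtain ⟨l, hl⟩ := exists_relData_of_global (O := 𝔛.Osh h𝔛.1) (fun i => rm (cokernel φ) (hVV₁.trans hV₁) (c i))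
    fun W hW a ha y hy => by
      have hz : apm (cokernel.π φ).val W (∑ i, a i • rm G hW (g i)) = 0 := by
        rw [map_sum]
        refine Eq.trans (Finset.sum_congr rfl fun i _ => ?_) ha
        rw [map_smul, apm_rsm, hg]
      obtain ⟨W₁, hW₁, hy₁, t, ht⟩ := exists_local_lift φ _ hz hy
      obtain ⟨W₂, hW₂, hy₂, s, b, hb⟩ := hf W₁ (hW₁.trans hW) t y hy₁
      rw [sum_fin] at hb
      obtain ⟨m, ⟨R⟩⟩ := AffineSections.exists_relData_of_relFin h𝔛 hV (relFin h𝔛 (F := G))
        (Fin.append g fun k => apm φ.val V (f (s.equivFin.symm k).1))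
      obtain ⟨W₃, hW₃, hy₃, d, hd⟩ := R.rel W₂ ((hW₂.trans hW₁).trans hW)
        (Fin.append (fun i => rr (hW₂.trans hW₁) (a i)) fun k => - b (s.equivFin.symm k).1) (by
          have e1 := congrArg (rm G hW₂) ht
          rw [← apm_rsm, hb] at e1
          simp only [map_sum, map_smul, apm_rsm, rm_smul, rm_rm, rr_rr] at e1
          simp only [Fin.sum_univ_add, Fin.append_left, Fin.append_right, neg_smul, Finset.sum_neg_distrib,
            add_neg_eq_zero]
          exact e1.symm) y hy₂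
      refine ⟨W₃, hW₃.trans (hW₂.trans hW₁), hy₃, m, fun q i => R.e q (Fin.castAdd _ i), d, fun q => ?_, fun i => ?_⟩
      · have h := congrArg (apm (cokernel.π φ).val V) (R.zero q)
        have h0 : ∀ z, apm (cokernel.π φ).val V (apm φ.val V z) = 0 := fun z =>
          congrArg (fun ψ : F ⟶ cokernel φ => apm ψ.val V z) (cokernel.condition φ)
        simp only [Fin.sum_univ_add, Fin.append_left, Fin.append_right, map_add, map_sum, map_smul, map_zero,
          hg, h0, smul_zero, Finset.sum_const_zero, add_zero] at h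
        exact h
      · have h := hd (Fin.castAdd _ i)
        simp only [Fin.append_left, rr_rr] at h
        exact h
  exact ⟨V, hVV₁.trans hV₁, l, hxV, hl⟩

/-- Cokernels of morphisms between quasi-coherent modules are quasi-coherent. -/
theorem isQuasicoherent_cokernel (φ : F ⟶ G) [SheafOfModules.IsQuasicoherent.{u} F]
    [SheafOfModules.IsQuasicoherent.{u} G] : SheafOfModules.IsQuasicoherent.{u} (cokernel φ) :=
  isQuasicoherent_of_gens h𝔛 (relFin_cokernel h𝔛 φ) fun x => by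
    obtain ⟨U, κ, g, hxU, hgen⟩ := exists_gens (O := 𝔛.Osh h𝔛.1) (F := G) x
    exact ⟨U, κ, _, hxU, gens_of_epi (cokernel.π φ) hgen⟩

end Groth.AdicLinTop.QcohLocal
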