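import Groth.Agent.AdicLinTop.CohKer
import Groth.Agent.AdicLinTop.QcohLocal
import Mathlib.Algebra.Homology.QuasiIso

/-!
# Cohomology sheaves of a complex of modules on a space, on sections
-/

set_option autoImplicit false

universe u

open CategoryTheory CategoryTheory.Limits TopologicalSpace Opposite

set_option backward.defeqAttrib.useBackward true
set_option backward.isDefEq.respectTransparency false
set_option backward.isDefEq.respectTransparency.types false
set_option synthInstance.maxHeartbeats 400000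

namespace Groth.AdicLinTop.ModHomology

open Groth.SitesTopoi.ModH Groth.AdicLinTop.SpacePres Groth.AdicLinTop.CohKer Groth.AdicLinTop.QcohLocal

variable {T : Type u} [TopologicalSpace T] {O : Sheaf (Opens.grothendieckTopology T) CommRingCat.{u}}
  (K L : CochainComplex (ModSite.Mod O) ℤ) {U : Opens T}

lemma apm_comp_apply {P Q R : ModSite.Mod O} (f : P ⟶ Q) (g : Q ⟶ R) (s : sc P.val U) :
    apm g.val U (apm f.val U s) = apm (f ≫ g).val U s := rfl

lemma apm_zero_apply {P Q : ModSite.Mod O} (s : sc P.val U) : apm (0 : P ⟶ Q).val U s = 0 := rfl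

lemma d_d_apply (a b c : ℤ) (s : sc (K.X a).val U) : apm (K.d b c).val U (apm (K.d a b).val U s) = 0 := by
  rw [apm_comp_apply, K.d_comp_d]
  rfl

lemma rm_apm {P Q : ModSite.Mod O} (f : P ⟶ Q) {V : Opens T} (h : V ≤ U) (s : sc P.val U) :
    rm Q h (apm f.val U s) = apm f.val V (rm P h s) := (apm_rsm _ _ _).symm

/-- A section killed by the second map of an exact sequence is locally an image. -/
theorem exists_lift_of_exact {S : ShortComplex (ModSite.Mod O)} (hS : S.Exact) (t : sc S.X₂.val U)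
    (ht : apm S.g.val U t = 0) {x : T} (hx : x ∈ U) :
    ∃ (V : Opens T) (hV : V ≤ U), x ∈ V ∧ ∃ s : sc S.X₁.val V, apm S.f.val V s = rm S.X₂ hV t := by
  haveI := S.exact_iff_epi_kernel_lift.1 hS
  obtain ⟨k, hk⟩ := exists_kernel_sec S.g t ht
  obtain ⟨V, hV, hxV, s, hs⟩ := exists_lifts (kernel.lift S.g S.f S.zero) hx (N := 1) fun _ => k
  refine ⟨V, hV, hxV, s 0, ?_⟩
  have h := congrArg (apm (kernel.ι S.g).val V) (hs 0)
  rw [apm_comp_apply, kernel.lift_ι, ← rm_apm, hk] at h
  exact h

/-- A cocycle gives a section of the cycles. -/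
theorem exists_cycle (b c : ℤ) (hbc : b + 1 = c) (z : sc (K.X b).val U) (hz : apm (K.d b c).val U z = 0) :
    ∃ k : sc (K.cycles b).val U, apm (K.iCycles b).val U k = z := by
  obtain ⟨k, hk⟩ := exists_kernel_sec (K.d b c) z hz
  refine ⟨apm (K.liftCycles (kernel.ι (K.d b c)) c ((ComplexShape.up ℤ).next_eq' hbc) (kernel.condition _)).val U k, ?_⟩
  rw [apm_comp_apply, HomologicalComplex.liftCycles_i, hk]

/-- The class of a cocycle vanishes only if it is locally a coboundary. -/
theorem exists_boundary (a b : ℤ) (hab : a + 1 = b) (k : sc (K.cycles b).val U)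
    (hk : apm (K.homologyπ b).val U k = 0) {x : T} (hx : x ∈ U) :
    ∃ (V : Opens T) (hV : V ≤ U), x ∈ V ∧ ∃ w : sc (K.X a).val V,
      apm (K.d a b).val V w = rm (K.X b) hV (apm (K.iCycles b).val U k) := by
  obtain ⟨V, hV, hxV, w, hw⟩ := exists_lift_of_exact
    (S := ShortComplex.mk (K.toCycles a b) (K.homologyπ b) (K.toCycles_comp_homologyπ a b))
    (ShortComplex.exact_of_g_is_cokernel _ (K.homologyIsCokernel a b ((ComplexShape.up ℤ).prev_eq' hab))) k hk hx
  refine ⟨V, hV, hxV, w, ?_⟩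
  rw [rm_apm, ← hw, apm_comp_apply]
  exact (congrArg (fun f : K.X a ⟶ K.X b => apm f.val V w) (K.toCycles_i a b)).symm

/-- A coboundary has zero class. -/
theorem class_eq_zero (a b : ℤ) (k : sc (K.cycles b).val U) (w : sc (K.X a).val U)
    (hw : apm (K.d a b).val U w = apm (K.iCycles b).val U k) : apm (K.homologyπ b).val U k = 0 := by
  have h : apm (K.toCycles a b).val U w = k := injective_of_mono (K.iCycles b) U (by
    rw [apm_comp_apply, K.toCycles_i]
    exact hw)
  rw [← h, apm_comp_apply, K.toCycles_comp_homologyπ]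
  rfl

/-- Every class is locally the class of a cocycle. -/
theorem exists_rep (b c : ℤ) (η : sc (K.homology b).val U) {x : T} (hx : x ∈ U) :
    ∃ (V : Opens T) (hV : V ≤ U), x ∈ V ∧ ∃ k : sc (K.cycles b).val V,
      apm (K.homologyπ b).val V k = rm (K.homology b) hV η ∧
        apm (K.d b c).val V (apm (K.iCycles b).val V k) = 0 := by
  obtain ⟨V, hV, hxV, s, hs⟩ := exists_lifts (K.homologyπ b) hx (N := 1) fun _ => η
  refine ⟨V, hV, hxV, s 0, hs 0, ?_⟩
  rw [apm_comp_apply, K.iCycles_d]
  rfl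

variable {K L}

/-- Criterion for a quasi-isomorphism on sections. -/
theorem quasiIso_of_sections (φ : K ⟶ L)
    (hinj : ∀ (a b c : ℤ), a + 1 = b → b + 1 = c → ∀ (W : Opens T) (z : sc (K.X b).val W),
      apm (K.d b c).val W z = 0 → ∀ (y : sc (L.X a).val W), apm (L.d a b).val W y = apm (φ.f b).val W z →
      ∀ x ∈ W, ∃ (V : Opens T) (hV : V ≤ W), x ∈ V ∧ ∃ w : sc (K.X a).val V,
        apm (K.d a b).val V w = rm (K.X b) hV z)
    (hsurj : ∀ (a b c : ℤ), a + 1 = b → b + 1 = c → ∀ (W : Opens T) (z : sc (L.X b).val W),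
      apm (L.d b c).val W z = 0 → ∀ x ∈ W, ∃ (V : Opens T) (hV : V ≤ W), x ∈ V ∧
        ∃ (z' : sc (K.X b).val V) (w : sc (L.X a).val V),
          apm (K.d b c).val V z' = 0 ∧ rm (L.X b) hV z = apm (φ.f b).val V z' + apm (L.d a b).val V w) :
    QuasiIso φ := by
  refine ⟨fun b => (quasiIsoAt_iff_isIso_homologyMap φ b).2 ?_⟩
  haveI : Mono (HomologicalComplex.homologyMap φ b) := by
    refine Preadditive.mono_of_kernel_zero ?_
    refine mod_hom_ext fun W k => ?_
    let η := apm (kernel.ι (HomologicalComplex.homologyMap φ b)).val W k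
    change η = 0
    refine eq_zero_of_local fun x hx => ?_
    obtain ⟨V, hV, hxV, s, hs, hd⟩ := exists_rep K b (b + 1) η hx
    have h0 : apm (L.homologyπ b).val V (apm (HomologicalComplex.cyclesMap φ b).val V s) = 0 := by
      rw [apm_comp_apply, ← HomologicalComplex.homologyπ_naturality, ← apm_comp_apply, hs, ← rm_apm,
        apm_kernel_ι_comp, map_zero]
    obtain ⟨V₁, hV₁, hx₁, w, hw⟩ := exists_boundary L (b - 1) b (sub_add_cancel b 1) _ h0 hxV
    obtain ⟨V₂, hV₂, hx₂, w', hw'⟩ := hinj (b - 1) b (b + 1) (sub_add_cancel b 1) rfl V₁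
      (rm (K.X b) hV₁ (apm (K.iCycles b).val V s)) (by rw [← rm_apm, hd, map_zero]) w (by
        rw [hw, ← rm_apm, apm_comp_apply, apm_comp_apply, HomologicalComplex.cyclesMap_i]) x hx₁
    refine ⟨V₂, (hV₂.trans hV₁).trans hV, hx₂, ?_⟩
    rw [← rm_rm (K.homology b) hV (hV₂.trans hV₁), ← hs, rm_apm]
    refine class_eq_zero K (b - 1) b _ w' ?_
    rw [hw', rm_rm, rm_apm]
  haveI : Epi (HomologicalComplex.homologyMap φ b) := by
    refine Preadditive.epi_of_cancel_zero _ fun {R} g hg => mod_hom_ext fun W η => ?_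
    refine (eq_zero_of_local (m := apm g.val W η) fun x hx => ?_).trans (apm_zero_apply η).symm
    obtain ⟨V, hV, hxV, s, hs, hd⟩ := exists_rep L b (b + 1) η hx
    obtain ⟨V₁, hV₁, hx₁, z', w, hz', hw⟩ := hsurj (b - 1) b (b + 1) (sub_add_cancel b 1) rfl V _ hd x hxV
    obtain ⟨k, hk⟩ := exists_cycle K b (b + 1) rfl z' hz'
    refine ⟨V₁, hV₁.trans hV, hx₁, ?_⟩
    rw [rm_apm, ← rm_rm (L.homology b) hV hV₁, ← hs, rm_apm]
    have e : rm (L.cycles b) hV₁ s =
        apm (HomologicalComplex.cyclesMap φ b).val V₁ k + apm (L.toCycles (b - 1) b).val V₁ w := by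
      refine injective_of_mono (L.iCycles b) V₁ ?_
      rw [map_add, ← rm_apm, hw, apm_comp_apply, apm_comp_apply, HomologicalComplex.cyclesMap_i,
        HomologicalComplex.toCycles_i, ← apm_comp_apply, hk]
    rw [e, map_add, apm_comp_apply, apm_comp_apply (L.toCycles (b - 1) b), L.toCycles_comp_homologyπ,
      ← HomologicalComplex.homologyπ_naturality, apm_zero_apply, add_zero, ← apm_comp_apply, apm_comp_apply
        (HomologicalComplex.homologyMap φ b), hg]
    rfl
  exact isIso_of_mono_of_epi _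

end Groth.AdicLinTop.ModHomology
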