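import Groth.Agent.AdicLinTop.TorsPushCoh
import Groth.Agent.AdicLinTop.ModHomology

/-!
# Direct images from the levels of a formal scheme

The direct image of a quasi-coherent module on a level is quasi-coherent torsion, and it is coherent if the module
is; a coherent module killed at a level is the direct image of its inverse image there.
-/

set_option autoImplicit false

universe u

open CategoryTheory CategoryTheory.Limits AlgebraicGeometry TopologicalSpace Opposite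

set_option backward.defeqAttrib.useBackward true
set_option backward.isDefEq.respectTransparency false
set_option backward.isDefEq.respectTransparency.types false
set_option synthInstance.maxHeartbeats 400000
set_option maxHeartbeats 1000000

namespace Groth.AdicLinTop.LevelPush

open Groth.SitesTopoi.ModH Groth.AdicLinTop.SpacePres Groth.AdicLinTop.CohKer Groth.AdicLinTop.QcohLocal
open Groth.AdicLinTop.FormalAffine Groth.AdicLinTop.FormalReal Groth.AdicLinTop.AffineGlue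
open Groth.AdicLinTop.TorsAff Groth.AdicLinTop.FinitePush Groth.AdicLinTop.TorsPush
open Groth.AdicLinTop.FormalPull Groth.AdicLinTop.FormalLevels

variable {𝔛 : FSch.Sys.{u}} (h𝔛 : 𝔛.IsLocNoethFormal) {M : FSch.ModF 𝔛 h𝔛.1}

/-- Sections are killed by open ideals and localize over affine opens. -/
structure Localizes (M : FSch.ModF 𝔛 h𝔛.1) : Prop where
  killed : ∀ (U : (𝔛.X 0).Opens) (s : sc M.val U), ∃ n, Killed h𝔛 n s
  ext : ∀ (U : (𝔛.X 0).Opens), IsAffineOpen U → ∀ (p : RS h𝔛.1 U) (z : sc M.val (bas h𝔛 p)),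
    ∃ (q : ℕ) (y : sc M.val U), resR h𝔛.1 (bas_le h𝔛 p) p ^ q • z = rm M (bas_le h𝔛 p) y
  pow : ∀ (U : (𝔛.X 0).Opens), IsAffineOpen U → ∀ (p : RS h𝔛.1 U) (x : sc M.val U),
    rm M (bas_le h𝔛 p) x = 0 → ∃ q : ℕ, p ^ q • x = 0

theorem Localizes.torsion (hL : Localizes h𝔛 M) : FTors.IsTorsF 𝔛 h𝔛.1 M := fun U s => by
  obtain ⟨n, hn⟩ := hL.killed U s
  exact FTors.IsTorsSect.of_killedBy hn

variable (hL : Localizes h𝔛 M) {V : (𝔛.X 0).Opens}

include hL

/-- Sections over an affine open generate the module there. -/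
theorem gens_local (hV : IsAffineOpen V) :
    Gens (O := 𝔛.Osh h𝔛.1) (id : sc M.val V → _) := fun W hW t x hx => by
  classical
  obtain ⟨p, hxp, hpW⟩ := exists_bas_le h𝔛 hV (hW hx) W hx
  obtain ⟨q, y, hy⟩ := hL.ext V hV p (rm _ hpW t)
  obtain ⟨c, hc⟩ := exists_inv h𝔛 hV hL.torsion p q (rm _ hpW t)
  refine ⟨bas h𝔛 p, hpW, hxp, {y}, fun _ => c, ?_⟩
  rw [Finset.sum_singleton]
  exact hc.symm.trans (congrArg (c • ·) hy)

/-- Relations in the module are finitely generated over every affine open. -/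
theorem exists_relData_local (hV : IsAffineOpen V) {N : ℕ}
    (c : Fin N → sc M.val V) : ∃ l, Nonempty (RelData c l) := by
  classical
  haveI : IsNoetherianRing (rsec (𝔛.Osh h𝔛.1) V) := isNoetherianRing h𝔛 hV
  choose n hn using fun i => hL.killed V (c i)
  let k := Finset.univ.sup n
  have hk : ∀ i, ∀ a ∈ idl h𝔛.1 V ^ (k + 1), a • c i = 0 := fun i =>
    (killed_iff h𝔛 hV k _).1 ((hn i).mono (Finset.le_sup (Finset.mem_univ i)))
  let K := LinearMap.ker (Fintype.linearCombination (RS h𝔛.1 V) c)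
  have hK : ∀ v, v ∈ K ↔ ∑ i, v i • c i = 0 := fun v => by rw [LinearMap.mem_ker, Fintype.linearCombination_apply]
  refine exists_relData_of_global c fun W hW a ha x hx => ?_
  obtain ⟨p, hxp, hpW⟩ := exists_bas_le h𝔛 hV (hW hx) W hx
  obtain ⟨q, b, hb⟩ := (locMod h𝔛 hV p k).surj_vec (fun i => rr hpW (a i))
  have hres : ∀ i, ∀ d ∈ idl h𝔛.1 (bas h𝔛 p) ^ (k + 1), d • rm _ (bas_le h𝔛 p) (c i) = 0 := fun i =>
    (killed_iff h𝔛 (isAffineOpen_bas h𝔛 hV p) k _).1
      (((killed_iff h𝔛 hV k _).2 (hk i)).res (homOfLE (bas_le h𝔛 p)))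
  have h0 : rm _ (bas_le h𝔛 p) (∑ i, b i • c i) = 0 := by
    have h1 := congrArg (rm _ hpW) ha
    simp only [map_sum, rm_smul, rm_rm, map_zero] at h1 ⊢
    refine Eq.trans (Finset.sum_congr rfl fun i _ => ?_)
      ((Finset.smul_sum (r := resR h𝔛.1 (bas_le h𝔛 p) p ^ q)).symm.trans ((congrArg _ h1).trans (smul_zero _)))
    rw [smul_smul, eq_comm, ← sub_eq_zero, ← sub_smul]
    exact hres i _ (mem_vI.1 hb i)
  obtain ⟨r, hr⟩ := hL.pow V hV p _ h0
  have hmem : (fun i => rr hpW (a i)) ∈ ext (resR h𝔛.1 (bas_le h𝔛 p)) K := by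
    obtain ⟨d, hd⟩ := (locMod h𝔛 hV p k).unit_pow (q + r)
    have hI : vI (idl h𝔛.1 (bas h𝔛 p) ^ (k + 1)) ≤ ext (resR h𝔛.1 (bas_le h𝔛 p)) K := fun v hv => by
      have he : v = ∑ i, Pi.single i (v i) := (Finset.univ_sum_single v).symm
      rw [he]
      refine Submodule.sum_mem _ fun i _ => ?_
      have h1 := mem_vI.1 hv i
      rw [← map_idl h𝔛 hV (isAffineOpen_bas h𝔛 hV p) (bas_le h𝔛 p), ← Ideal.map_pow, Ideal.map] at h1
      refine Submodule.span_induction (p := fun z _ => Pi.single i z ∈ ext (resR h𝔛.1 (bas_le h𝔛 p)) K) ?_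
        (by rw [Pi.single_zero]; exact zero_mem _) (fun z z' _ _ hz hz' => by rw [Pi.single_add]; exact add_mem hz hz')
        (fun z z' _ hz => by rw [Pi.single_smul']; exact Submodule.smul_mem _ _ hz) h1
      rintro _ ⟨z, hz, rfl⟩
      have hzK : Pi.single i z ∈ K := (hK (Pi.single i z)).2 ((Finset.sum_eq_single i (fun j _ hj => by
          rw [Pi.single_eq_of_ne hj, zero_smul]) (fun h => (h (Finset.mem_univ i)).elim)).trans
            (by rw [Pi.single_eq_same]; exact hk i z hz))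
      have hm := mem_ext (resR h𝔛.1 (bas_le h𝔛 p)) hzK
      rw [show resR h𝔛.1 (bas_le h𝔛 p) ∘ (Pi.single i z : Fin N → RS h𝔛.1 V) =
        Pi.single i (resR h𝔛.1 (bas_le h𝔛 p) z) from funext fun j =>
          Pi.apply_single (fun _ => resR h𝔛.1 (bas_le h𝔛 p)) (fun _ => map_zero _) i z j] at hm
      exact hm
    have hbr : p ^ r • b ∈ K := (hK _).2 (by
      refine Eq.trans ?_ hr
      rw [Finset.smul_sum]
      exact Finset.sum_congr rfl fun i _ => (smul_smul _ _ _).symm)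
    have hrest : (fun i => rr hpW (a i)) - d • (resR h𝔛.1 (bas_le h𝔛 p) ∘ (p ^ r • b)) ∈
        vI (idl h𝔛.1 (bas h𝔛 p) ^ (k + 1)) := mem_vI.2 fun i => by
      have h := Ideal.sub_mem _ (Ideal.mul_mem_left _ (d * resR h𝔛.1 (bas_le h𝔛 p) p ^ r) (mem_vI.1 hb i))
        (Ideal.mul_mem_right (rr hpW (a i)) _ hd)
      simp only [Pi.sub_apply, Pi.smul_apply, Function.comp_apply, smul_eq_mul, map_mul, map_pow] at h ⊢
      convert h using 1
      ring
    have := add_mem (hI hrest) (Submodule.smul_mem _ d (mem_ext (resR h𝔛.1 (bas_le h𝔛 p)) hbr))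
    rwa [sub_add_cancel] at this
  obtain ⟨m, w, v, hwv⟩ := Submodule.mem_span_set'.1 hmem
  choose v' hv' hv'' using fun t => (v t).2
  refine ⟨bas h𝔛 p, hpW, hxp, m, v', w, fun t => (hK _).1 (hv' t), fun i => ?_⟩
  have h := congrFun hwv i
  simp only [Finset.sum_apply, Pi.smul_apply, smul_eq_mul] at h
  refine h.symm.trans (Finset.sum_congr rfl fun t _ => ?_)
  rw [← hv'' t]
  rfl


/-- Such modules are quasi-coherent torsion. -/
theorem Localizes.isQCT : FTors.IsQCT 𝔛 h𝔛.1 M := by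
  refine ⟨hL.torsion, isQuasicoherent_of_gens h𝔛 (fun U N g x hx => ?_) fun x => ?_⟩
  · obtain ⟨V, hV, hxV, hVU⟩ := (IndCoh.goodBasis h𝔛).exists_mem x U hx
    obtain ⟨l, hl⟩ := exists_relData_local h𝔛 hL hV fun i => rm _ hVU (g i)
    exact ⟨V, hVU, l, hxV, hl⟩
  · obtain ⟨V, hV, hxV, -⟩ := (IndCoh.goodBasis h𝔛).exists_mem x ⊤ trivial
    exact ⟨V, _, _, hxV, gens_local h𝔛 hL hV⟩


section Level

omit hL

open Groth.QCohMod (res resFun res_res res_smul res_self)

variable (N : ℕ) (G : (𝔛.X N).Modules)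

/-- Sections of a direct image from a level are killed there. -/
theorem killed_push_level {U : (𝔛.X 0).Opens} (s : sc ((FormalReal.push h𝔛.1 N).obj G).val U) :
    Killed h𝔛 N s := fun W g a ha => by
  rw [FTors.mem_openIdealFam_iff] at ha
  show a • rm _ g.le s = 0
  refine (FormalReal.pushEquiv N G W).injective ?_
  refine (FormalReal.pushEquiv_smul N G W a _).trans ?_
  rw [map_zero]
  exact (congrArg (fun r => (show Γ(𝔛.X N, 𝔛.lvU h𝔛.1 N W) from r) • FormalReal.pushEquiv N G W (rm _ g.le s)) ha).trans (zero_smul _ _)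

/-- Direct images of quasi-coherent modules from a level localize. -/
theorem localizes_push_level [G.IsQuasicoherent] : Localizes h𝔛 ((FormalReal.push h𝔛.1 N).obj G) where
  killed _ s := ⟨N, killed_push_level h𝔛 N G s⟩
  ext U hU p z := by
    have e := lvU_bas h𝔛 N p
    obtain ⟨q, y, hy⟩ := Groth.QCohMod.exists_pow_smul_eq_res_of_qcqs G (isAffineOpen_lvU h𝔛.1 hU N).isCompact
      (isAffineOpen_lvU h𝔛.1 hU N).isQuasiSeparated (projR N U p)
      (res G e.ge (FormalReal.pushEquiv N G _ z))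
    refine ⟨q, (FormalReal.pushEquiv N G U).symm y, (FormalReal.pushEquiv N G _).injective ?_⟩
    have h2 := congrArg (res G e.le) hy
    rw [res_smul, res_res, res_res, res_self] at h2
    refine (FormalReal.pushEquiv_smul N G _ _ _).trans ?_
    refine Eq.trans ?_ h2.symm
    refine congrArg (· • FormalReal.pushEquiv N G _ z) ?_
    refine (map_pow ((𝔛.OshProj h𝔛.1 N).hom.app _).hom _ _).trans ?_
    rw [map_pow, Groth.QCohMod.resFun_resFun]
    exact congrArg (· ^ q) (FormalAffine.projR_resR N (bas_le h𝔛 p) p)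
  pow U hU p x hx := by
    have e := lvU_bas h𝔛 N p
    obtain ⟨q, hq⟩ := Groth.QCohMod.exists_pow_smul_eq_zero_of_isCompact G (isAffineOpen_lvU h𝔛.1 hU N).isCompact
      (projR N U p) (FormalReal.pushEquiv N G U x) (by
        have h2 := congrArg (fun w => res G e.ge (FormalReal.pushEquiv N G (bas h𝔛 p) w)) hx
        simp only [map_zero] at h2
        exact (res_res G _ _ _).symm.trans h2)
    refine ⟨q, (FormalReal.pushEquiv N G U).injective ?_⟩
    refine (FormalReal.pushEquiv_smul N G _ _ _).trans ?_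
    rw [map_zero]
    exact (congrArg (fun r => (show Γ(𝔛.X N, 𝔛.lvU h𝔛.1 N U) from r) • FormalReal.pushEquiv N G U x)
      (map_pow ((𝔛.OshProj h𝔛.1 N).hom.app _).hom _ _)).trans hq

/-- Direct images of quasi-coherent modules from a level are quasi-coherent torsion. -/
theorem isQCT_push_level [G.IsQuasicoherent] : FTors.IsQCT 𝔛 h𝔛.1 ((FormalReal.push h𝔛.1 N).obj G) :=
  (localizes_push_level h𝔛 N G).isQCT

/-- Direct images of coherent modules from a level are coherent. -/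
theorem isCohF_push_level (hG : Coh.IsCoh G) : FSch.IsCohF 𝔛 h𝔛.1 ((FormalReal.push h𝔛.1 N).obj G) := by
  classical
  haveI := hG.1
  have hL := localizes_push_level h𝔛 N G
  haveI := h𝔛.2.2 N
  refine FPSmall.fp_of_presData fun x => ?_
  obtain ⟨V, hV, hxV, -⟩ := (IndCoh.goodBasis h𝔛).exists_mem x ⊤ trivial
  haveI : Module.Finite Γ(𝔛.X N, 𝔛.lvU h𝔛.1 N V) Γ(G, 𝔛.lvU h𝔛.1 N V) :=
    ((Groth.QCohMod.isCoh_iff _).1 hG).2 _ (isAffineOpen_lvU h𝔛.1 hV N)
  obtain ⟨n, y, hy⟩ := Module.Finite.exists_fin (R := Γ(𝔛.X N, 𝔛.lvU h𝔛.1 N V)) (M := Γ(G, 𝔛.lvU h𝔛.1 N V))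
  let σ : Fin n → sc ((FormalReal.push h𝔛.1 N).obj G).val V := fun i => (FormalReal.pushEquiv N G V).symm (y i)
  have hspan : ∀ t : sc ((FormalReal.push h𝔛.1 N).obj G).val V, ∃ d : Fin n → RS h𝔛.1 V, t = ∑ i, d i • σ i :=
    fun t => by
    obtain ⟨c, hc⟩ := (Submodule.mem_span_range_iff_exists_fun _).1 (hy.symm ▸ Submodule.mem_top :
      FormalReal.pushEquiv N G V t ∈ Submodule.span Γ(𝔛.X N, 𝔛.lvU h𝔛.1 N V) (Set.range y))
    choose d hd using fun i => ((FormalLevels.adic h𝔛 hV).2.1 N).1 (c i)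
    refine ⟨d, (FormalReal.pushEquiv N G V).injective (hc.symm.trans ?_)⟩
    refine ((map_sum (FormalReal.pushEquiv N G V) _ _).trans (Finset.sum_congr rfl fun i _ => ?_)).symm
    refine (FormalReal.pushEquiv_smul N G V (d i) _).trans ?_
    rw [← hd i]
    rfl
  let D : GenData ((FormalReal.push h𝔛.1 N).obj G) V n := ⟨σ, fun W hW t z hz => by
    obtain ⟨p, hzp, hpW⟩ := exists_bas_le h𝔛 hV (hW hz) W hz
    obtain ⟨q, w, hw⟩ := hL.ext V hV p (rm _ hpW t)
    obtain ⟨c, hc⟩ := exists_inv h𝔛 hV hL.torsion p q (rm _ hpW t)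
    obtain ⟨d, rfl⟩ := hspan w
    refine ⟨bas h𝔛 p, hpW, hzp, fun i => c * resR h𝔛.1 (bas_le h𝔛 p) (d i), ?_⟩
    refine hc.symm.trans ((congrArg (c • ·) hw).trans ?_)
    simp only [map_sum, rm_smul, Finset.smul_sum, smul_smul]⟩
  obtain ⟨l, ⟨E⟩⟩ := exists_relData_local h𝔛 hL hV σ
  exact ⟨V, n, l, hxV, ⟨{ D with r := E.e, zero := E.zero, rel := E.rel }⟩⟩

/-- The opens of a level come from the common space. -/
theorem lvU_toX_preimage (W : (𝔛.X N).Opens) : 𝔛.lvU h𝔛.1 N (𝔛.toX N ⁻¹ᵁ W) = W :=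
  Opens.ext (Set.ext fun x => by
    have hx := ConcreteCategory.congr_hom (𝔛.gInv_toX_base h𝔛.1 N) x
    show (𝔛.toX N).base ((𝔛.gInv h𝔛.1 N) x) ∈ W ↔ x ∈ W
    rw [show (𝔛.toX N).base ((𝔛.gInv h𝔛.1 N) x) = x from hx])

/-- The direct image from a level preserves epimorphisms. -/
theorem epi_push_level {A B : (𝔛.X N).Modules} (φ : A ⟶ B) [Epi φ] : Epi ((FormalReal.push h𝔛.1 N).map φ) := by
  refine ⟨fun {Z} a b e => mod_hom_ext fun U s => sub_eq_zero.1 (eq_zero_of_local fun x hx => ?_)⟩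
  obtain ⟨S, hS, hS'⟩ := locSurj_of_epi (O_D := (𝔛.X N).sheaf) φ (𝔛.lvU h𝔛.1 N U) s
  obtain ⟨W, g, hg, hxW⟩ := hS (𝔛.toX N x) (show x ∈ 𝔛.toX N ⁻¹ᵁ 𝔛.lvU h𝔛.1 N U by rwa [toX_preimage_lvU])
  let W' : (𝔛.X 0).Opens := 𝔛.toX N ⁻¹ᵁ W
  have hle : W' ≤ U := ((𝔛.toX N).preimage_mono g.le).trans (toX_preimage_lvU _ _ _).le
  obtain ⟨m, hm⟩ := hS' (homOfLE (lvU_mono h𝔛.1 N hle))
    (S.downward_closed hg (homOfLE (lvU_toX_preimage h𝔛 N W).le))
  have hm' : apm ((FormalReal.push h𝔛.1 N).map φ).val W'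
      (show sc ((FormalReal.push h𝔛.1 N).obj A).val W' from m) =
      rm ((FormalReal.push h𝔛.1 N).obj B) hle s := hm
  refine ⟨W', hle, hxW, ?_⟩
  rw [map_sub, sub_eq_zero, Groth.AdicLinTop.ModHomology.rm_apm, Groth.AdicLinTop.ModHomology.rm_apm, ← hm']
  exact congrArg (fun ψ : (FormalReal.push h𝔛.1 N).obj A ⟶ Z =>
    apm (SheafOfModules.Hom.val ψ) W' (show sc ((FormalReal.push h𝔛.1 N).obj A).val W' from m)) e

end Level

end Groth.AdicLinTop.LevelPush
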