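import Groth.Agent.AdicLinTop.GrTower
import Groth.Agent.AdicLinTop.LevelPush
import Groth.Agent.AdicLinTop.FPSmall
import Groth.Prelude.Def_ARSys

/-!
# Modules which are limits of quasi-coherent modules living on the levels

Criteria for the limit map to be an isomorphism, for the Mittag-Leffler condition and for coherence of the limit,
in terms of the sections over affine opens.
-/

set_option autoImplicit false

universe u

open CategoryTheory CategoryTheory.Limits AlgebraicGeometry TopologicalSpace Opposite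

set_option backward.defeqAttrib.useBackward true
set_option backward.isDefEq.respectTransparency false
set_option backward.isDefEq.respectTransparency.types false
set_option synthInstance.maxHeartbeats 400000
set_option maxHeartbeats 1000000

namespace Groth.AdicLinTop.LimMod

open Groth.SitesTopoi.ModH Groth.AdicLinTop.SpacePres Groth.AdicLinTop.FormalAffine Groth.AdicLinTop.AffineGlue
open Groth.AdicLinTop.ModHomology (rm_apm apm_comp_apply)

variable {𝔜 : FSch.Sys.{u}} (h𝔜 : 𝔜.IsLocNoethFormal) {R : FSch.ModF 𝔜 h𝔜.1} {G : ℕ → FSch.ModF 𝔜 h𝔜.1}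
  (τ : ∀ k, G (k + 1) ⟶ G k) (p : ∀ k, R ⟶ G k)

/-- The transitions on sections. -/
noncomputable abbrev dnV (V : (𝔜.X 0).Opens) (k m : ℕ) (h : k ≤ m) : sc (G m).val V →ₗ[RS h𝔜.1 V] sc (G k).val V :=
  GrTower.dn (A := RS h𝔜.1 V) (H := fun j => sc (G j).val V) (fun j => apm (τ j).val V) k m h

theorem apm_map (V : (𝔜.X 0).Opens) {k m : ℕ} (h : k ≤ m) (g : sc (G m).val V) :
    apm ((Functor.ofOpSequence τ).map (homOfLE h).op).val V g = dnV h𝔜 τ V k m h g := by
  induction m, h using Nat.le_induction with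
  | base =>
    rw [show ((Functor.ofOpSequence τ).map (homOfLE (le_refl k)).op) = 𝟙 _ from (Functor.ofOpSequence τ).map_id _]
    exact (GrTower.dn_self (A := RS h𝔜.1 V) (H := fun j => sc (G j).val V) (fun j => apm (τ j).val V) k g).symm
  | succ m hm ih =>
    rw [← homOfLE_comp hm (Nat.le_add_right m 1), op_comp, Functor.map_comp,
      Functor.ofOpSequence_map_homOfLE_succ, ← apm_comp_apply, ih]
    exact (GrTower.dn_succ (A := RS h𝔜.1 V) (H := fun j => sc (G j).val V) (fun j => apm (τ j).val V) hm g).symm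

theorem rm_dnV {V W : (𝔜.X 0).Opens} (e : W ≤ V) {k m : ℕ} (h : k ≤ m) (g : sc (G m).val V) :
    rm (G k) e (dnV h𝔜 τ V k m h g) = dnV h𝔜 τ W k m h (rm (G m) e g) := by
  rw [← apm_map h𝔜, ← apm_map h𝔜]
  exact rm_apm _ e g

variable (hp : ∀ k, p (k + 1) ≫ τ k = p k)

include hp in
theorem dnV_p (V : (𝔜.X 0).Opens) {k m : ℕ} (h : k ≤ m) (η : sc R.val V) :
    dnV h𝔜 τ V k m h (apm (p m).val V η) = apm (p k).val V η :=
  GrTower.dn_lim (A := RS h𝔜.1 V) (H := fun j => sc (G j).val V) (fun j => apm (τ j).val V) (x := fun j => apm (p j).val V η)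
    (fun j => by rw [apm_comp_apply, hp]) h

section Iso

variable (hinj : ∀ (V : (𝔜.X 0).Opens) (η : sc R.val V), (∀ k, apm (p k).val V η = 0) → η = 0)
  (hsurj : ∀ (V : (𝔜.X 0).Opens), IsAffineOpen V → ∀ g : ∀ k, sc (G k).val V,
    (∀ k, apm (τ k).val V (g (k + 1)) = g k) → ∃ η, ∀ k, apm (p k).val V η = g k)

/-- The limit cone. -/
noncomputable def cone (hp' : ∀ k, p (k + 1) ≫ τ k = p k) : Cone (Functor.ofOpSequence τ) where
  pt := R
  π := NatTrans.ofOpSequence (fun n => p n) fun n => by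
    simp only [Functor.const_obj_map, Functor.ofOpSequence_map_homOfLE_succ, hp']
    exact Category.id_comp _

include hp hinj hsurj in
theorem exists_iso : ∃ e : R ≅ limit (Functor.ofOpSequence τ),
    ∀ k, e.hom ≫ limit.π (Functor.ofOpSequence τ) (op k) = p k := by
  let S := Functor.ofOpSequence τ
  let l : R ⟶ limit S := limit.lift S (cone h𝔜 τ p hp)
  have hl : ∀ k, l ≫ limit.π S (op k) = p k := fun k => limit.lift_π _ _
  have hsec : ∀ (V : (𝔜.X 0).Opens) (a b : sc (limit S).val V),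
      (∀ k, apm (limit.π S (op k)).val V a = apm (limit.π S (op k)).val V b) → a = b := fun V a b h => by
    let F : FSch.ModF 𝔜 h𝔜.1 ⥤ Type u := SheafOfModules.evaluation _ (op V) ⋙ forget _
    have hlim : IsLimit (F.mapCone (limit.cone S)) := isLimitOfPreserves F (limit.isLimit _)
    exact (Types.isLimitEquivSections hlim).injective (Subtype.ext (funext fun j => h j.unop))
  have happ : ∀ (V : (𝔜.X 0).Opens) k η, apm (limit.π S (op k)).val V (apm l.val V η) = apm (p k).val V η :=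
    fun V k η => by
      rw [apm_comp_apply, hl]
      rfl
  haveI : Mono l := mono_of_injective _ fun W a b hab => sub_eq_zero.1 (hinj W _ fun k => by
    rw [map_sub, ← happ, ← happ, hab, sub_self])
  haveI : Epi l := Preadditive.epi_of_cancel_zero _ fun {Z} g hg => mod_hom_ext fun W η => by
    refine (eq_zero_of_local (m := apm g.val W η) fun y hy => ?_).trans (ModHomology.apm_zero_apply η).symm
    obtain ⟨_, ⟨V, hV, rfl⟩, hyV, hVW⟩ := (𝔜.X 0).isBasis_affineOpens.exists_subset_of_mem_open hy W.2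
    refine ⟨V, hVW, hyV, ?_⟩
    obtain ⟨η', hη'⟩ := hsurj V hV (fun k => apm (limit.π S (op k)).val V (rm _ hVW η)) fun k => by
      refine (apm_comp_apply (limit.π S (op (k + 1))) (τ k) _).trans ?_
      refine congrArg (fun w : limit S ⟶ G k => apm (SheafOfModules.Hom.val w) V (rm _ hVW η)) ?_
      exact (congrArg (limit.π S (op (k + 1)) ≫ ·) (Functor.ofOpSequence_map_homOfLE_succ τ k).symm).trans
        (limit.w S (homOfLE (Nat.le_add_right k 1)).op)
    rw [rm_apm, hsec V (rm _ hVW η) (apm l.val V η') fun k => ((happ V k η').trans (hη' k)).symm, apm_comp_apply, hg]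
    rfl
  haveI := isIso_of_mono_of_epi l
  exact ⟨asIso l, hl⟩

end Iso

variable (hL : ∀ k, LevelPush.Localizes h𝔜 (G k))
  (hstab : ∀ V : (𝔜.X 0).Opens, IsAffineOpen V → ∃ s, ∀ k (g : sc (G (k + s)).val V), ∃ η : sc R.val V,
    apm (p k).val V η = dnV h𝔜 τ V k (k + s) (Nat.le_add_right k s) g)

include hp hL hstab in
/-- The Mittag-Leffler condition. -/
theorem isML [CompactSpace (𝔜.X 0)] : ARSys.IsML (Functor.ofOpSequence τ) := by
  classical
  have hcov : ∀ y : 𝔜.X 0, ∃ V : (𝔜.X 0).Opens, IsAffineOpen V ∧ y ∈ V := fun y => by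
    obtain ⟨_, ⟨V, hV, rfl⟩, hyV, -⟩ := (𝔜.X 0).isBasis_affineOpens.exists_subset_of_mem_open
      (Set.mem_univ y) isOpen_univ
    exact ⟨V, hV, hyV⟩
  choose V hV hyV using hcov
  obtain ⟨T, hT⟩ := isCompact_univ.elim_finite_subcover (fun y : 𝔜.X 0 => (V y : Set (𝔜.X 0)))
    (fun y => (V y).2) fun y _ => Set.mem_iUnion.2 ⟨y, hyV y⟩
  choose s hs using fun y => hstab (V y) (hV y)
  let S := Functor.ofOpSequence τ
  let s₀ := T.sup s
  intro n
  have key : ∀ a b, s₀ ≤ a → imageSubobject (ARSys.shiftMap S a n) ≤ imageSubobject (ARSys.shiftMap S b n) := by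
    intro a b ha
    refine imageSubobject_le _ (kernel.lift (cokernel.π (ARSys.shiftMap S b n)) (ARSys.shiftMap S a n) ?_ ≫
      (Abelian.imageIsoImage (ARSys.shiftMap S b n)).hom ≫ (imageSubobjectIso _).inv) (by
        rw [Category.assoc, Category.assoc, imageSubobject_arrow', Abelian.imageIsoImage_hom_comp_image_ι]
        exact kernel.lift_ι _ _ _)
    refine mod_hom_ext fun W g => ?_
    refine (eq_zero_of_local fun y hy => ?_).trans (ModHomology.apm_zero_apply g).symm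
    obtain ⟨i, hi, hyi⟩ := Set.mem_iUnion₂.1 (hT (Set.mem_univ y))
    obtain ⟨Q, hyQ, hQ⟩ := exists_bas_le h𝔜 (hV i) hyi W hy
    refine ⟨bas h𝔜 Q, hQ, hyQ, ?_⟩
    rw [rm_apm]
    obtain ⟨r, g', hg'⟩ := (hL (n + a)).ext (V i) (hV i) Q (rm (G (n + a)) hQ g)
    obtain ⟨c, hc⟩ := TorsAff.exists_inv h𝔜 (hV i) (hL (n + a)).torsion Q r (rm (G (n + a)) hQ g)
    obtain ⟨η, hη⟩ := hs i n (dnV h𝔜 τ (V i) (n + s i) (n + a)
      (Nat.add_le_add_left ((Finset.le_sup hi : s i ≤ s₀).trans ha) n) g')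
    rw [GrTower.dn_dn] at hη
    have h0 : apm (cokernel.π (ARSys.shiftMap S b n)).val (V i)
        (apm (ARSys.shiftMap S a n).val (V i) g') = 0 := by
      have e1 : apm (ARSys.shiftMap S a n).val (V i) g' =
          apm (ARSys.shiftMap S b n).val (V i) (apm (p (n + b)).val (V i) η) :=
        ((apm_map h𝔜 τ (V i) (Nat.le_add_right n a) g').trans hη.symm).trans
          ((apm_map h𝔜 τ (V i) (Nat.le_add_right n b) _).trans (dnV_p h𝔜 τ p hp (V i) (Nat.le_add_right n b) η)).symm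
      rw [e1, apm_comp_apply, cokernel.condition]
      rfl
    refine (congrArg (apm (ARSys.shiftMap S a n ≫ cokernel.π (ARSys.shiftMap S b n)).val (bas h𝔜 Q))
      (hc.symm.trans (congrArg (c • ·) hg'))).trans ?_
    refine (map_smul _ c _).trans ?_
    refine (congrArg (c • ·) ((rm_apm (ARSys.shiftMap S a n ≫ cokernel.π (ARSys.shiftMap S b n)) (bas_le h𝔜 Q) g').symm.trans
      ((congrArg (rm _ (bas_le h𝔜 Q)) ((apm_comp_apply _ _ g').symm.trans h0)).trans (map_zero _)))).trans (smul_zero c)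
  exact ⟨s₀, fun s' hs' => le_antisymm (key s' s₀ hs') (key s₀ s' le_rfl)⟩

section Coherent

variable (hinj : ∀ (V : (𝔜.X 0).Opens) (η : sc R.val V), (∀ k, apm (p k).val V η = 0) → η = 0)
  (hkill : ∀ k (W : (𝔜.X 0).Opens), IsAffineOpen W → ∀ a ∈ idl h𝔜.1 W ^ (k + 1), ∀ g : sc (G k).val W, a • g = 0)
  {V : (𝔜.X 0).Opens} (hV : IsAffineOpen V) {b c : ℕ} (y : Fin b → sc R.val V)
  (htop : (⊤ : Submodule (RS h𝔜.1 V) (sc R.val V)) ≤ Submodule.span _ (Set.range y))
  (hfil : ∀ j η, apm (p (c + j)).val V η = 0 → η ∈ idl h𝔜.1 V ^ j • Submodule.span (RS h𝔜.1 V) (Set.range y))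

/-- Relations among the generators at a level. -/
noncomputable def K {W : (𝔜.X 0).Opens} (Y : Fin b → sc R.val W) (j : ℕ) :
    Submodule (RS h𝔜.1 W) (Fin b → RS h𝔜.1 W) :=
  LinearMap.ker (Fintype.linearCombination (RS h𝔜.1 W) fun l => apm (p j).val W (Y l))

theorem mem_K {W : (𝔜.X 0).Opens} (Y : Fin b → sc R.val W) (j : ℕ) (a : Fin b → RS h𝔜.1 W) :
    a ∈ K h𝔜 p Y j ↔ apm (p j).val W (∑ l, a l • Y l) = 0 := by
  rw [K, LinearMap.mem_ker, Fintype.linearCombination_apply, map_sum]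
  simp only [map_smul]

/-- Relations among the generators. -/
noncomputable def Rel {W : (𝔜.X 0).Opens} (Y : Fin b → sc R.val W) : Submodule (RS h𝔜.1 W) (Fin b → RS h𝔜.1 W) :=
  LinearMap.ker (Fintype.linearCombination (RS h𝔜.1 W) Y)

include hkill hV hL in
theorem K_le_ext (P : RS h𝔜.1 V) (j : ℕ) :
    K h𝔜 p (fun l => rm R (bas_le h𝔜 P) (y l)) j ≤ ext (resR h𝔜.1 (bas_le h𝔜 P)) (K h𝔜 p y j) := by
  classical
  intro a ha
  rw [mem_K h𝔜] at ha
  have hW := isAffineOpen_bas h𝔜 hV P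
  let φ := resR h𝔜.1 (bas_le h𝔜 P)
  obtain ⟨q, v, hv⟩ := (locMod h𝔜 hV P j).surj_vec a
  have hI : vI (idl h𝔜.1 (bas h𝔜 P) ^ (j + 1)) ≤ ext φ (K h𝔜 p y j) := fun w hw => by
    rw [show w = ∑ i, Pi.single i (w i) from (Finset.univ_sum_single w).symm]
    refine Submodule.sum_mem _ fun i _ => ?_
    have h1 := mem_vI.1 hw i
    rw [← map_idl h𝔜 hV hW (bas_le h𝔜 P), ← Ideal.map_pow, Ideal.map] at h1
    refine Submodule.span_induction (p := fun z _ => Pi.single i z ∈ ext φ (K h𝔜 p y j)) ?_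
      (by rw [Pi.single_zero]; exact zero_mem _) (fun z z' _ _ hz hz' => by rw [Pi.single_add]; exact add_mem hz hz')
      (fun z z' _ hz => by rw [Pi.single_smul']; exact Submodule.smul_mem _ _ hz) h1
    rintro _ ⟨z, hz, rfl⟩
    have hzK : Pi.single i z ∈ K h𝔜 p y j := (mem_K h𝔜 p y j _).2 (by
      rw [Finset.sum_eq_single i (fun l _ hl => by rw [Pi.single_eq_of_ne hl, zero_smul])
        (fun h => (h (Finset.mem_univ i)).elim), Pi.single_eq_same, map_smul]
      exact hkill j V hV z hz _)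
    have hm := mem_ext φ hzK
    rw [show φ ∘ (Pi.single i z : Fin b → RS h𝔜.1 V) = Pi.single i (φ z) from funext fun l =>
      Pi.apply_single (fun _ => φ) (fun _ => map_zero _) i z l] at hm
    exact hm
  have h0 : rm (G j) (bas_le h𝔜 P) (apm (p j).val V (∑ l, v l • y l)) = 0 := by
    rw [rm_apm, map_sum]
    simp only [rm_smul, map_sum, map_smul] at ha ⊢
    refine Eq.trans (Finset.sum_congr rfl fun l _ => ?_)
      ((Finset.smul_sum (r := φ P ^ q)).symm.trans ((congrArg _ ha).trans (smul_zero _)))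
    rw [smul_smul, eq_comm, ← sub_eq_zero, ← sub_smul]
    exact hkill j _ hW _ (mem_vI.1 hv l) _
  obtain ⟨r, hr⟩ := (hL j).pow V hV P _ h0
  obtain ⟨d, hd⟩ := (locMod h𝔜 hV P j).unit_pow (q + r)
  have hvK : P ^ r • v ∈ K h𝔜 p y j := (mem_K h𝔜 p y j _).2 (by
    refine Eq.trans ?_ hr
    rw [← map_smul, Finset.smul_sum]
    exact congrArg _ (Finset.sum_congr rfl fun l _ => (smul_smul _ _ _).symm))
  have hrest : a - d • (φ ∘ (P ^ r • v)) ∈ vI (idl h𝔜.1 (bas h𝔜 P) ^ (j + 1)) := mem_vI.2 fun l => by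
    have h := Ideal.sub_mem _ (Ideal.mul_mem_left _ (d * φ P ^ r) (mem_vI.1 hv l))
      (Ideal.mul_mem_right (a l) _ hd)
    simp only [Pi.sub_apply, Pi.smul_apply, Function.comp_apply, smul_eq_mul, map_mul, map_pow] at h ⊢
    convert h using 1
    ring
  have := add_mem (hI hrest) (Submodule.smul_mem _ d (mem_ext φ hvK))
  rwa [sub_add_cancel] at this

include hkill hV hL hfil in
theorem K_le (P : RS h𝔜.1 V) (j : ℕ) :
    K h𝔜 p (fun l => rm R (bas_le h𝔜 P) (y l)) (c + j) ≤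
      ext (resR h𝔜.1 (bas_le h𝔜 P)) (Rel h𝔜 y) ⊔ vI (idl h𝔜.1 (bas h𝔜 P) ^ j) := by
  refine (K_le_ext h𝔜 p hL hkill hV y P (c + j)).trans (Submodule.span_le.2 ?_)
  rintro _ ⟨v, hv, rfl⟩
  obtain ⟨w, hw, hwy⟩ : ∃ w : Fin b → RS h𝔜.1 V, (∀ l, w l ∈ idl h𝔜.1 V ^ j) ∧ ∑ l, w l • y l = ∑ l, v l • y l := by
    obtain ⟨w, hw, e⟩ := (Submodule.mem_ideal_smul_span_iff_exists_sum _ _ _).1 (hfil j _ ((mem_K h𝔜 p y _ v).1 hv))
    exact ⟨fun l => w l, hw, by rw [← e]; exact (Finsupp.sum_fintype _ (fun i a => a • y i) fun i => zero_smul _ _).symm⟩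
  refine Submodule.mem_sup.2 ⟨_, mem_ext (resR h𝔜.1 (bas_le h𝔜 P)) (v := v - w) ?_,
    resR h𝔜.1 (bas_le h𝔜 P) ∘ w, mem_vI.2 fun l => ?_, funext fun l => ?_⟩
  · rw [Rel, LinearMap.mem_ker, map_sub, Fintype.linearCombination_apply, Fintype.linearCombination_apply, hwy, sub_self]
  · rw [← map_idl h𝔜 hV (isAffineOpen_bas h𝔜 hV P) (bas_le h𝔜 P), ← Ideal.map_pow]
    exact Ideal.mem_map_of_mem _ (hw l)
  · simp

theorem ext_Rel_le (P : RS h𝔜.1 V) :
    ext (resR h𝔜.1 (bas_le h𝔜 P)) (Rel h𝔜 y) ≤ Rel h𝔜 (fun l => rm R (bas_le h𝔜 P) (y l)) := by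
  refine Submodule.span_le.2 ?_
  rintro _ ⟨v, hv, rfl⟩
  rw [SetLike.mem_coe, Rel, LinearMap.mem_ker, Fintype.linearCombination_apply] at hv ⊢
  have := congrArg (rm R (bas_le h𝔜 P)) hv
  simp only [map_sum, rm_smul, map_zero] at this
  exact this

include hp hinj hkill hV hL hstab htop hfil in
theorem exists_comb (P : RS h𝔜.1 V) (t : sc R.val (bas h𝔜 P)) :
    ∃ a : Fin b → RS h𝔜.1 (bas h𝔜 P), t = ∑ l, a l • rm R (bas_le h𝔜 P) (y l) := by
  classical
  have hW := isAffineOpen_bas h𝔜 hV P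
  let Y : Fin b → sc R.val (bas h𝔜 P) := fun l => rm R (bas_le h𝔜 P) (y l)
  obtain ⟨s, hs⟩ := hstab V hV
  have hlev : ∀ k, ∃ a : Fin b → RS h𝔜.1 (bas h𝔜 P), apm (p k).val _ (∑ l, a l • Y l) = apm (p k).val _ t := by
    intro k
    obtain ⟨r, g, hg⟩ := (hL (k + s)).ext V hV P (apm (p (k + s)).val _ t)
    obtain ⟨d, hd⟩ := TorsAff.exists_inv h𝔜 hV (hL (k + s)).torsion P r (apm (p (k + s)).val _ t)
    obtain ⟨η, hη⟩ := hs k g
    obtain ⟨v, hv⟩ := (Submodule.mem_span_range_iff_exists_fun _).1 (htop (Submodule.mem_top (x := η)))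
    refine ⟨fun l => d * resR h𝔜.1 (bas_le h𝔜 P) (v l), Eq.symm ?_⟩
    rw [← dnV_p h𝔜 τ p hp _ (Nat.le_add_right k s) t, ← hd, hg, map_smul, ← rm_dnV h𝔜, ← hη, rm_apm, ← map_smul, ← hv,
      map_sum, Finset.smul_sum]
    refine congrArg _ (Finset.sum_congr rfl fun l _ => ?_)
    rw [rm_smul, smul_smul]
  choose B hB using hlev
  have step : ∀ j (a : Fin b → RS h𝔜.1 (bas h𝔜 P)), apm (p (c + j)).val _ (∑ l, a l • Y l) = apm (p (c + j)).val _ t →
      ∃ a' : Fin b → RS h𝔜.1 (bas h𝔜 P), (∀ l, a' l - a l ∈ idl h𝔜.1 (bas h𝔜 P) ^ j) ∧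
        apm (p (c + (j + 1))).val _ (∑ l, a' l • Y l) = apm (p (c + (j + 1))).val _ t := by
    intro j a ha
    have hd : B (c + (j + 1)) - a ∈ K h𝔜 p Y (c + j) := (mem_K h𝔜 p Y _ _).2 (by
      simp only [Pi.sub_apply, sub_smul, Finset.sum_sub_distrib]
      rw [map_sub, ha, ← dnV_p h𝔜 τ p hp _ (Nat.le_succ (c + j)) (∑ l, B (c + (j + 1)) l • Y l),
        ← dnV_p h𝔜 τ p hp _ (Nat.le_succ (c + j)) t, sub_eq_zero]
      exact congrArg _ (hB (c + (j + 1))))
    obtain ⟨u, hu, w, hw, e⟩ := Submodule.mem_sup.1 (K_le h𝔜 p hL hkill hV y hfil P j hd)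
    refine ⟨B (c + (j + 1)) - u, fun l => ?_, ?_⟩
    · have el := congrFun e l
      rw [Pi.add_apply, Pi.sub_apply] at el
      rw [show (B (c + (j + 1)) - u) l - a l = w l by rw [Pi.sub_apply]; linear_combination -el]
      exact mem_vI.1 hw l
    · have h1 := ext_Rel_le h𝔜 y P hu
      rw [Rel, LinearMap.mem_ker, Fintype.linearCombination_apply] at h1
      simp only [Pi.sub_apply, sub_smul, Finset.sum_sub_distrib]
      rw [h1, sub_zero, hB]
  choose F hF1 hF2 using step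
  let a : ∀ j, {a : Fin b → RS h𝔜.1 (bas h𝔜 P) //
      apm (p (c + j)).val _ (∑ l, a l • Y l) = apm (p (c + j)).val _ t} :=
    fun j => Nat.rec ⟨B c, hB c⟩ (fun j aj => ⟨F j aj.1 aj.2, hF2 j aj.1 aj.2⟩) j
  have hstep : ∀ j l, (a (j + 1)).1 l - (a j).1 l ∈ idl h𝔜.1 (bas h𝔜 P) ^ j := fun j l => hF1 j _ _ l
  have := (FormalLevels.adic h𝔜 hW).1
  have hC : ∀ {m n}, m ≤ n → ∀ l, (a n).1 l - (a m).1 l ∈ idl h𝔜.1 (bas h𝔜 P) ^ m := by
    intro m n hmn l
    induction n, hmn using Nat.le_induction with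
    | base => simp
    | succ n hmn ih =>
      rw [← sub_add_sub_cancel _ ((a n).1 l)]
      exact add_mem (Ideal.pow_le_pow_right hmn (hstep n l)) ih
  choose L hL' using fun l => IsPrecomplete.prec (I := idl h𝔜.1 (bas h𝔜 P)) (M := RS h𝔜.1 (bas h𝔜 P)) inferInstance
    (f := fun n => (a n).1 l) fun {m n} hmn => by
      rw [SModEq.sub_mem, smul_eq_mul, Ideal.mul_top, ← neg_sub, Submodule.neg_mem_iff]
      exact hC hmn l
  refine ⟨L, sub_eq_zero.1 (hinj _ _ fun j => ?_)⟩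
  rw [map_sub, sub_eq_zero, eq_comm]
  refine Eq.trans ?_ (((dnV_p h𝔜 τ p hp _ (show j ≤ c + (j + 1) by omega) (∑ l, (a (j + 1)).1 l • Y l)).symm.trans
    (congrArg _ (a (j + 1)).2)).trans (dnV_p h𝔜 τ p hp _ (show j ≤ c + (j + 1) by omega) t))
  rw [map_sum, map_sum]
  refine Finset.sum_congr rfl fun l _ => ?_
  rw [map_smul, map_smul, ← sub_eq_zero, ← sub_smul]
  refine hkill j _ hW _ ?_ _
  have h := hL' l (j + 1)
  rw [SModEq.sub_mem, smul_eq_mul, Ideal.mul_top] at h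
  rw [← neg_sub, Submodule.neg_mem_iff]
  exact h

include hp hinj hkill hV hL hstab htop hfil in
theorem exists_presData : ∃ n, Nonempty (PresData R V b n) := by
  classical
  haveI := FormalAffine.isNoetherianRing h𝔜 hV
  obtain ⟨n, r, hr⟩ := Submodule.fg_iff_exists_fin_generating_family.1 (IsNoetherian.noetherian (Rel h𝔜 y))
  have hr0 : ∀ i, ∑ l, r i l • y l = 0 := fun i => by
    have h : r i ∈ Rel h𝔜 y := hr ▸ Submodule.subset_span ⟨i, rfl⟩
    rwa [Rel, LinearMap.mem_ker, Fintype.linearCombination_apply] at h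
  refine ⟨n, ⟨{ s := y, gen := fun W hW t x hx => ?_, r := r, zero := hr0, rel := fun W hW a ha x hx => ?_ }⟩⟩
  · obtain ⟨P, hxP, hPW⟩ := exists_bas_le h𝔜 hV (hW hx) W hx
    obtain ⟨a, ha⟩ := exists_comb h𝔜 τ p hp hL hstab hinj hkill hV y htop hfil P (rm R hPW t)
    exact ⟨bas h𝔜 P, hPW, hxP, a, ha⟩
  · obtain ⟨P, hxP, hPW⟩ := exists_bas_le h𝔜 hV (hW hx) W hx
    have hW' := isAffineOpen_bas h𝔜 hV P
    have h0 : ∑ l, rr hPW (a l) • rm R (bas_le h𝔜 P) (y l) = 0 := by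
      have := congrArg (rm R hPW) ha
      simp only [map_sum, rm_smul, map_zero, rm_rm] at this
      exact this
    have hmem : (fun l => rr hPW (a l)) ∈ ext (resR h𝔜.1 (bas_le h𝔜 P)) (Rel h𝔜 y) :=
      mem_of_forall_mem_sup h𝔜 hW' _ fun k => by
        obtain ⟨u, hu, v, hv, e⟩ := Submodule.mem_sup.1
          (K_le h𝔜 p hL hkill hV y hfil P (k + 1) ((mem_K h𝔜 p _ _ (fun l => rr hPW (a l))).2 (by rw [h0, map_zero])))
        refine e ▸ Submodule.add_mem_sup hu ?_
        rw [show v = ∑ i, v i • Pi.single i (1 : RS h𝔜.1 (bas h𝔜 P)) from pi_eq_sum_univ' v]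
        exact Submodule.sum_mem _ fun i _ => Submodule.smul_mem_smul (mem_vI.1 hv i) Submodule.mem_top
    obtain ⟨m, w, v, hwv⟩ := Submodule.mem_span_set'.1 hmem
    choose v' hv' hv'' using fun i => (v i).2
    have hv1 : ∀ i, ∃ e : Fin n → RS h𝔜.1 V, ∑ t, e t • r t = v' i := fun i =>
      (Submodule.mem_span_range_iff_exists_fun _).1 (hr.symm ▸ hv' i)
    choose e he using hv1
    refine ⟨bas h𝔜 P, hPW, hxP, fun t => ∑ i, w i * resR h𝔜.1 (bas_le h𝔜 P) (e i t), fun l => ?_⟩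
    have h := congrFun hwv l
    simp only [Finset.sum_apply, Pi.smul_apply, smul_eq_mul] at h
    refine h.symm.trans ?_
    simp only [Finset.sum_mul]
    rw [Finset.sum_comm]
    refine Finset.sum_congr rfl fun i _ => ?_
    rw [← hv'' i, ← he i]
    simp only [Function.comp_apply, Finset.sum_apply, Pi.smul_apply, smul_eq_mul, map_sum, map_mul, Finset.mul_sum, mul_assoc]

end Coherent

end Groth.AdicLinTop.LimMod
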