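import Groth.Agent.AdicLinTop.RpushLimit
import Groth.Agent.AdicLinTop.LimMod

/-!
# Higher direct images of coherent modules along proper morphisms of formal schemes
-/

set_option autoImplicit false

universe u

open CategoryTheory CategoryTheory.Limits AlgebraicGeometry TopologicalSpace Opposite

set_option backward.defeqAttrib.useBackward true
set_option backward.isDefEq.respectTransparency false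
set_option backward.isDefEq.respectTransparency.types false
set_option synthInstance.maxHeartbeats 400000
set_option maxHeartbeats 1000000

namespace Groth.AdicLinTop.ProperRpush

open Groth.SitesTopoi.ModH Groth.AdicLinTop.RpushLimit
open Groth.AdicLinTop.FormalAffine (idl)

variable {𝔛 𝔜 : FSch.Sys.{u}} (f : 𝔛 ⟶ 𝔜) (h𝔛 : 𝔛.IsLocNoethFormal) (h𝔜 : 𝔜.IsLocNoethFormal)
  [HasInjectiveResolutions (FSch.ModF 𝔛 h𝔛.1)] (q : ℕ) (hf : FSch.IsProperHom f)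
  {𝔉 : FSch.ModF 𝔛 h𝔛.1} (h𝔉 : FSch.IsCohF 𝔛 h𝔛.1 𝔉)

include hf h𝔉 in
theorem localizes_G0 (k : ℕ) : LevelPush.Localizes h𝔜 (G0 f h𝔛 h𝔜 q 𝔉 k) := by
  haveI := hf.2
  haveI : SheafOfModules.IsQuasicoherent.{u} ((FSch.levelMor 𝔛 h𝔛.1 k).pull.obj 𝔉) :=
    (FormalCoh.isCoh_sys h𝔛 h𝔉 k).1
  exact RpushDerived.localizes_push f h𝔛 h𝔜 q k ((FSch.levelMor 𝔛 h𝔛.1 k).pull.obj 𝔉)

include hf h𝔉 in
theorem kill_G0 (k : ℕ) (W : (𝔜.X 0).Opens) (hW : IsAffineOpen W) (a) (ha : a ∈ idl h𝔜.1 W ^ (k + 1))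
    (g : sc (G0 f h𝔛 h𝔜 q 𝔉 k).val W) : a • g = 0 := by
  haveI := hf.2
  haveI : SheafOfModules.IsQuasicoherent.{u} ((FSch.levelMor 𝔛 h𝔛.1 k).pull.obj 𝔉) :=
    (FormalCoh.isCoh_sys h𝔛 h𝔉 k).1
  exact RpushDerived.smul_push_eq_zero f h𝔛 h𝔜 q k ((FSch.levelMor 𝔛 h𝔛.1 k).pull.obj 𝔉) hW ha g

include hf h𝔉 in
/-- Higher direct images are the limits of those of the levels. -/
theorem exists_iso : ∃ e : R0 f h𝔛 h𝔜 q 𝔉 ≅ limit (Functor.ofOpSequence (τ0 f h𝔛 h𝔜 q 𝔉)),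
    ∀ k, e.hom ≫ limit.π (Functor.ofOpSequence (τ0 f h𝔛 h𝔜 q 𝔉)) (op k) = p0 f h𝔛 h𝔜 q 𝔉 k :=
  LimMod.exists_iso h𝔜 (τ0 f h𝔛 h𝔜 q 𝔉) (p0 f h𝔛 h𝔜 q 𝔉) (p0_τ0 f h𝔛 h𝔜 q)
    (sec_eq_zero f h𝔛 h𝔜 q hf h𝔉) fun _ hV g hg => exists_class_of_compatible f h𝔛 h𝔜 q hf h𝔉 hV g hg

include hf h𝔉 in
/-- The Mittag-Leffler condition for the higher direct images of the levels. -/
theorem isML [CompactSpace (𝔜.X 0)] : ARSys.IsML (Functor.ofOpSequence (τ0 f h𝔛 h𝔜 q 𝔉)) :=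
  LimMod.isML h𝔜 (τ0 f h𝔛 h𝔜 q 𝔉) (p0 f h𝔛 h𝔜 q 𝔉) (p0_τ0 f h𝔛 h𝔜 q)
    (localizes_G0 f h𝔛 h𝔜 q hf h𝔉) fun _ hV => (affine_facts f h𝔛 h𝔜 q hf h𝔉 hV).1

include hf h𝔉 in
/-- Higher direct images are coherent. -/
theorem isCohF : FSch.IsCohF 𝔜 h𝔜.1 (R0 f h𝔛 h𝔜 q 𝔉) := by
  refine FPSmall.fp_of_presData fun x => ?_
  obtain ⟨V, hV, hxV, -⟩ := (IndCoh.goodBasis h𝔜).exists_mem x ⊤ trivial
  obtain ⟨b, y, c, htop, hfil⟩ := (affine_facts f h𝔛 h𝔜 q hf h𝔉 hV).2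
  obtain ⟨n, hn⟩ := LimMod.exists_presData h𝔜 (τ0 f h𝔛 h𝔜 q 𝔉) (p0 f h𝔛 h𝔜 q 𝔉) (p0_τ0 f h𝔛 h𝔜 q)
    (localizes_G0 f h𝔛 h𝔜 q hf h𝔉) (fun _ hW => (affine_facts f h𝔛 h𝔜 q hf h𝔉 hW).1)
    (sec_eq_zero f h𝔛 h𝔜 q hf h𝔉) (kill_G0 f h𝔛 h𝔜 q hf h𝔉) hV y htop hfil
  exact ⟨V, b, n, hxV, hn⟩

end Groth.AdicLinTop.ProperRpush
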