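import Groth.Agent.AdicLinTop.ComplZeta
import Groth.Agent.AdicLinTop.ComplLevels
import Groth.Agent.AdicLinTop.ComplTarget
import Groth.Agent.AdicLinTop.ComplFF
import Groth.Agent.AdicLinTop.GenBounds
import Groth.Agent.AdicLinTop.ProperRpush
import Groth.Agent.AdicLinTop.SysPullback
import Groth.Agent.S13334

/-!
# Completion of higher direct images along proper maps
-/

set_option autoImplicit false

universe u

open CategoryTheory CategoryTheory.Limits AlgebraicGeometry TopologicalSpace Opposite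

set_option backward.defeqAttrib.useBackward true
set_option backward.isDefEq.respectTransparency false
set_option backward.isDefEq.respectTransparency.types false
set_option synthInstance.maxHeartbeats 400000
set_option maxHeartbeats 1000000

namespace Groth.AdicLinTop.ComplRpush

open Groth.SitesTopoi.ModH Groth.AdicLinTop.SpacePres
open Groth.AdicLinTop.ComplPull (uMor)
open Groth.AdicLinTop.ComplReal (op0)
open Groth.AdicLinTop.ComplPush (gHat)
open Groth.AdicLinTop.ComplRes (hN iP)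
open Groth.AdicLinTop.RpushLimit (p0 G0 R0)
open Groth.AdicLinTop.FormalTower (levM)

variable {X Y : Scheme.{u}} [IsLocallyNoetherian X] [IsLocallyNoetherian Y] (f : X ⟶ Y) [IsProper f]
  {𝓘 : Y.IdealSheafData} {𝓚 : X.IdealSheafData} (h𝓚 : 𝓚 = 𝓘.comap f) (hpc : FSch.PowCompat f 𝓚 𝓘)
  (hX : (FSch.completionAlong X 𝓚).IsFormal) (hY : (FSch.completionAlong Y 𝓘).IsFormal)

omit [IsLocallyNoetherian X] [IsLocallyNoetherian Y] in
include h𝓚 in
theorem isProperHom : FSch.IsProperHom (gHat hpc) := by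
  subst h𝓚
  exact ⟨Thickenings.isAdicHom_completionMap f 𝓘 hpc,
    MorphismProperty.of_isPullback (Thickenings.isPullback_completionToX f 𝓘 hpc 0) ‹IsProper f›⟩

omit [IsProper f] [IsLocallyNoetherian Y] in
theorem isCohF_pull {F : X.Modules} (hF : Coh.IsCoh F) :
    FSch.IsCohF (FSch.completionAlong X 𝓚) hX ((uMor X 𝓚 hX).pull.obj F) := by
  obtain ⟨e, -⟩ := ComplPull.exists_iso hX hF
  exact (IndCoh.cohP (hN (X := X) (𝓘 := 𝓚))).prop_of_iso e.symm
    (Groth.Agent.S13334.result _ (hN (X := X) (𝓘 := 𝓚)) _ (ComplPull.isCoh_complMod hF))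

variable [HasInjectiveResolutions X.Modules] [HasInjectiveResolutions (FSch.ModF (FSch.completionAlong X 𝓚) hX)]

omit [IsProper f] [IsLocallyNoetherian Y] [HasInjectiveResolutions X.Modules]
  [HasInjectiveResolutions (FSch.ModF (FSch.completionAlong X 𝓚) hX)] in
theorem exists_transition (𝔉 : FSch.ModF (FSch.completionAlong X 𝓚) hX) (a b : ℕ) (hab : a ≤ b) :
    ∃ t : levM (hN (X := X) (𝓘 := 𝓚)) 𝔉 b ⟶ levM (hN (X := X) (𝓘 := 𝓚)) 𝔉 a,
      (FSch.levelMor (FSch.completionAlong X 𝓚) hX b).adj.unit.app 𝔉 ≫ t =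
        (FSch.levelMor (FSch.completionAlong X 𝓚) hX a).adj.unit.app 𝔉 := by
  induction b, hab using Nat.le_induction with
  | base => exact ⟨𝟙 _, Category.comp_id _⟩
  | succ b _ ih =>
    obtain ⟨t, ht⟩ := ih
    exact ⟨FSch.levelTrans _ hX 𝔉 b ≫ t, by rw [← Category.assoc, FSch.unit_levelTrans, ht]⟩

include h𝓚 in
/-- Completion commutes with higher direct images of coherent modules along proper maps. -/
theorem nonempty_iso {F : X.Modules} (hF : Coh.IsCoh F) (n : ℕ) :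
    Nonempty ((uMor Y 𝓘 hY).pull.obj ((Coh.Rpush f n).obj F) ≅
      (FSch.RpushF (gHat hpc) hX hY n).obj ((uMor X 𝓚 hX).pull.obj F)) := by
  let 𝔉 : FSch.ModF (FSch.completionAlong X 𝓚) hX := (uMor X 𝓚 hX).pull.obj F
  have hXN := hN (X := X) (𝓘 := 𝓚)
  have hYN := hN (X := Y) (𝓘 := 𝓘)
  have h𝔉 : FSch.IsCohF (FSch.completionAlong X 𝓚) hX 𝔉 := isCohF_pull hX hF
  have hf := isProperHom f h𝓚 hpc
  have hA : AffineGens.affGen hXN 𝔉 := AffineGens.of_ind (ObjectProperty.le_ind _ _ h𝔉)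
  have hAk : ∀ k, AffineGens.affGen hXN (levM hXN 𝔉 k) := fun k => AffineGens.of_ind (ObjectProperty.le_ind _ _
    (LevelPush.isCohF_push_level hXN k _ (FormalCoh.isCoh_sys hXN h𝔉 k)))
  have hR : Coh.IsCoh ((Coh.Rpush f n).obj F) := Groth.CohFin.isCoh_rightDerived_of_proper Groth.CohFin.projFinite f n F hF
  let η : F ⟶ (iP hX).obj 𝔉 := (uMor X 𝓚 hX).adj.unit.app F
  let γ : (Coh.Rpush f n).obj F ⟶ (iP hY).obj ((FSch.RpushF (gHat hpc) hX hY n).obj 𝔉) :=
    (Coh.Rpush f n).map η ≫ ComplZeta.ζ f hpc hX hY n hA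
  let u : ∀ k, F ⟶ (iP hX).obj (levM hXN 𝔉 k) := fun k =>
    η ≫ (iP hX).map ((FSch.levelMor (FSch.completionAlong X 𝓚) hX k).adj.unit.app 𝔉)
  -- levels of the image
  have nat : ∀ k, γ ≫ (iP hY).map (p0 (gHat hpc) hXN hYN n 𝔉 k) =
      (Coh.Rpush f n).map (u k) ≫ ComplZeta.ζ f hpc hX hY n (hAk k) := fun k => by
    refine (Category.assoc _ _ _).trans ((congrArg (fun t => (Coh.Rpush f n).map η ≫ t)
      (ComplZeta.ζ_naturality f hpc hX hY n hA (hAk k) _).symm).trans ?_)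
    exact (Category.assoc _ _ _).symm.trans (congrArg (· ≫ _) ((Coh.Rpush f n).map_comp _ _).symm)
  choose θ hθ hθu using fun k => ComplLevels.exists_levels X 𝓚 hX k F
  haveI := hF.1
  haveI hq : ∀ k, ((iP hX).obj (levM hXN 𝔉 k)).IsQuasicoherent := fun k => by
    haveI := hθ k
    haveI := Groth.QCohMod.isQCoh_pullback_obj (FSch.completionToX X 𝓚 k) F
    haveI := Groth.QCohMod.isQCoh_pushforward (M := (Scheme.Modules.pullback (FSch.completionToX X 𝓚 k)).obj F)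
      (FSch.completionToX X 𝓚 k)
    exact (Groth.QCohMod.isQCoh_iff_of_iso (asIso (θ k))).1 inferInstance
  refine ComplTarget.nonempty_iso (G := G0 (gHat hpc) hXN hYN n 𝔉) hR (q := p0 (gHat hpc) hXN hYN n 𝔉) (γ := γ)
    ⟨fun k W hW a ha g => ProperRpush.kill_G0 (gHat hpc) hXN hYN n hf h𝔉 k (op0 𝓘 W)
        (ComplReal.isAffineOpen_op0 hW) a ha g,
      fun W η h => RpushLimit.sec_eq_zero (gHat hpc) hXN hYN n hf h𝔉 (op0 𝓘 W) η h,
      fun k W η h => ?_, fun W hW => ?_⟩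
  · show apm (p0 (gHat hpc) hXN hYN n 𝔉 k).val (op0 𝓘 W) η = 0
    rw [← RpushLimit.p0_τ0, ← ModHomology.apm_comp_apply]
    exact (congrArg (apm (RpushLimit.τ0 (gHat hpc) hXN hYN n 𝔉 k).val (op0 𝓘 W)) h).trans (map_zero _)
  have hbij : ∀ k, Function.Bijective ((ComplZeta.ζ f hpc hX hY n (hAk k)).app W) := fun k =>
    ComplZeta.bijective_ζ f hpc hX hY n (hAk k) hW
      (RpushLimit.bijective_Ψ_level (gHat hpc) hXN hYN n hf h𝔉 (ComplReal.isAffineOpen_op0 hW) k)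
  have hlvl : ∀ k (m : Γ((Coh.Rpush f n).obj F, W)),
      apm (p0 (gHat hpc) hXN hYN n 𝔉 k).val (op0 𝓘 W) (PullRep.img (f := uMor Y 𝓘 hY) γ m) =
        (ComplZeta.ζ f hpc hX hY n (hAk k)).app W (((Coh.Rpush f n).map (u k)).app W m) := fun k m =>
    congrArg (fun t : _ ⟶ (iP hY).obj (G0 (gHat hpc) hXN hYN n 𝔉 k) => Scheme.Modules.Hom.app t W m) (nat k)
  have hu : letI := GenBounds.preOver f hW
      ∀ k, Groth.CohC3.IsQuot (𝓘.ideal ⟨W, hW⟩ ^ (k + 1))
        ((Scheme.Modules.restrictFunctor (f ⁻¹ᵁ W).ι).map (u k)) := by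
    letI := GenBounds.preOver f hW
    intro k
    haveI := hθ k
    have h := (GenBounds.isQuot_restrict_unit f hW h𝓚 (F := F) k).comp_iso
      ((Scheme.Modules.restrictFunctor (f ⁻¹ᵁ W).ι).map (θ k))
    rwa [← Functor.map_comp, hθu k] at h
  obtain ⟨c, hc₁, hc₂⟩ := ComplFF.exists_bounds f hW n hF (𝓘.ideal ⟨W, hW⟩) u hu
  refine ⟨c, fun k m hm => hc₁ k m ((hbij (k + c)).1 ((hlvl (k + c) m).symm.trans (hm.trans (map_zero _).symm))),
    fun k η => ?_⟩
  obtain ⟨y, hy⟩ := (hbij (k + c)).2 (apm (p0 (gHat hpc) hXN hYN n 𝔉 (k + c)).val (op0 𝓘 W) η)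
  obtain ⟨t, ht⟩ := exists_transition hX 𝔉 k (k + c) (Nat.le_add_right k c)
  obtain ⟨s, hs⟩ := hc₂ k ((iP hX).map t) (by
    simp only [u, Category.assoc]
    rw [← (iP hX).map_comp, ht]) y
  refine ⟨s, (hlvl k s).trans ?_⟩
  rw [hs]
  refine (congrArg (fun e : _ ⟶ (iP hY).obj (G0 (gHat hpc) hXN hYN n 𝔉 k) => Scheme.Modules.Hom.app e W y)
    (ComplZeta.ζ_naturality f hpc hX hY n (hAk (k + c)) (hAk k) t)).trans ?_
  refine (congrArg (apm ((FSch.RpushF (gHat hpc) hX hY n).map t).val (op0 𝓘 W)) hy).trans ?_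
  refine (ModHomology.apm_comp_apply _ _ _).trans ?_
  exact congrArg (fun e : R0 (gHat hpc) hXN hYN n 𝔉 ⟶ G0 (gHat hpc) hXN hYN n 𝔉 k => apm e.val (op0 𝓘 W) η)
    (((FSch.RpushF (gHat hpc) hX hY n).map_comp _ _).symm.trans (congrArg (FSch.RpushF (gHat hpc) hX hY n).map ht))

end Groth.AdicLinTop.ComplRpush
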