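import Groth.Agent.AdicLinTop.ComplReal
import Groth.Agent.AdicLinTop.CompletionFlat

/-!
# Sections of completions on arbitrary schemes
-/

set_option autoImplicit false

universe u

open CategoryTheory CategoryTheory.Limits AlgebraicGeometry TopologicalSpace Opposite

namespace Groth.AdicLinTop.ComplSections

open Groth.AdicLinTop.FormalLevels Groth.AdicLinTop.FormalReal Groth.AdicLinTop.FormalAffine
open Groth.AdicLinTop.FormalSpan Groth.AdicLinTop.ComplReal
open Groth.QCohMod (res resFun res_res res_smul res_app)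
open Groth.PicAux (pullSec pullSec_smul res_pullSec)

variable {X : Scheme.{u}} {𝓘 : X.IdealSheafData} {h : (FSch.completionAlong X 𝓘).IsFormal} {F : X.Modules}

/-- Functions on the scheme as functions on the completion. -/
noncomputable abbrev sharp (h : (FSch.completionAlong X 𝓘).IsFormal) (W : X.Opens) :
    Γ(X, W) →+* RS h (op0 𝓘 W) :=
  CompletionFlat.sharp X 𝓘 h W

theorem lev_add {𝔛 : FSch.Sys.{u}} {h : 𝔛.IsFormal} (𝔐 : FSch.ModSys 𝔛) (k : ℕ) (U : (𝔛.X 0).Opens)
    (x y : Sec (𝔐.realMod h) U) : lev h 𝔐 k U (x + y) = lev h 𝔐 k U x + lev h 𝔐 k U y := by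
  rw [lev, map_add, map_add]
  rfl

theorem projR_sharp (k : ℕ) (W : X.Opens) (r : Γ(X, W)) :
    projR k (op0 𝓘 W) (sharp h W r) =
      (FSch.completionToX X 𝓘 k).appLE W ((FSch.completionAlong X 𝓘).lvU h k (op0 𝓘 W))
        (le_preimage h k W) r :=
  congr(($(FSch.schSharp_proj (FSch.completionAlong X 𝓘) h (FSch.completionToX X 𝓘)
    (FSch.completionToX_comm X 𝓘) k)).hom.app (op W) r)

theorem cev_add (k : ℕ) (W : X.Opens) (m m' : Γ(F, W)) :
    cev h F k W (m + m') = cev h F k W m + cev h F k W m' :=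
  (congrArg (res _ (le_preimage h k W))
    (map_add (((Scheme.Modules.pullbackPushforwardAdjunction (FSch.completionToX X 𝓘 k)).unit.app F).app W).hom
      m m')).trans (map_add _ _ _)

theorem appLE_eq (k : ℕ) (W : X.Opens) (r : Γ(X, W)) :
    (FSch.completionToX X 𝓘 k).appLE W ((FSch.completionAlong X 𝓘).lvU h k (op0 𝓘 W))
      (le_preimage h k W) r = resFun _ (le_preimage h k W) ((FSch.completionToX X 𝓘 k).app W r) := rfl

theorem cev_smul (k : ℕ) (W : X.Opens) (r : Γ(X, W)) (m : Γ(F, W)) :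
    cev h F k W (r • m) =
      (FSch.completionToX X 𝓘 k).appLE W ((FSch.completionAlong X 𝓘).lvU h k (op0 𝓘 W))
        (le_preimage h k W) r • cev h F k W m :=
  (congrArg (res _ (le_preimage h k W)) (pullSec_smul (FSch.completionToX X 𝓘 k) F r m)).trans
    ((res_smul _ _ _ _).trans (congrArg (· • cev h F k W m) (appLE_eq k W r).symm))

theorem cev_res (k : ℕ) {W W' : X.Opens} (e : W' ≤ W) (m : Γ(F, W)) :
    cev h F k W' (res F e m) =
      res ((FSch.complMod 𝓘 F).F k) (lvU_mono h k ((FSch.completionToX X 𝓘 0).preimage_mono e))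
        (cev h F k W m) := by
  refine (congrArg (res _ (le_preimage h k W')) (res_pullSec (FSch.completionToX X 𝓘 k) F e m).symm).trans ?_
  exact (res_res ((FSch.complMod 𝓘 F).F k) ((FSch.completionToX X 𝓘 k).preimage_mono e) (le_preimage h k W') _).trans
    (res_res ((FSch.complMod 𝓘 F).F k) (le_preimage h k W) _ _).symm

variable (h F) in
/-- The family of the images of a section at the levels. -/
noncomputable def cevAt (W : X.Opens) (m : Γ(F, W)) : ∀ k : ℕ,
    Γ((FSch.complMod 𝓘 F).F k, (FSch.completionAlong X 𝓘).lvU h k (op0 𝓘 W)) :=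
  fun k => cev h F k W m

theorem cevAt_apply (W : X.Opens) (m : Γ(F, W)) (k : ℕ) : cevAt h F W m k = cev h F k W m := rfl

theorem trans_cevAt (W : X.Opens) (m : Γ(F, W)) (k : ℕ) :
    pushEquiv k _ (op0 𝓘 W) (app (trans h (FSch.complMod 𝓘 F) k) (op0 𝓘 W)
      ((pushEquiv (k + 1) _ (op0 𝓘 W)).symm (cevAt h F W m (k + 1)))) = cevAt h F W m k :=
  trans_cevW_aux F W k m _ _ (cevAt_apply W m (k + 1)) (cevAt_apply W m k)

variable (h F) in
theorem exists_can (W : X.Opens) (m : Γ(F, W)) :
    ∃ x : Sec ((FSch.complMod 𝓘 F).realMod h) (op0 𝓘 W), ∀ k, lev h (FSch.complMod 𝓘 F) k _ x = cevAt h F W m k :=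
  exists_lev (cevAt h F W m) (trans_cevAt W m)

variable (h F) in
/-- A section of a module as a section of its completion. -/
noncomputable def can (W : X.Opens) (m : Γ(F, W)) : Sec ((FSch.complMod 𝓘 F).realMod h) (op0 𝓘 W) :=
  (exists_can h F W m).choose

theorem lev_can (W : X.Opens) (m : Γ(F, W)) (k : ℕ) :
    lev h (FSch.complMod 𝓘 F) k _ (can h F W m) = cev h F k W m :=
  ((exists_can h F W m).choose_spec k).trans (cevAt_apply W m k)

theorem can_add (W : X.Opens) (m m' : Γ(F, W)) : can h F W (m + m') = can h F W m + can h F W m' :=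
  lev_ext_gen fun k => by rw [lev_can, lev_add, lev_can, lev_can, cev_add]

theorem can_smul (W : X.Opens) (r : Γ(X, W)) (m : Γ(F, W)) :
    can h F W (r • m) = sharp h W r • can h F W m := by
  refine lev_ext_gen fun k => ?_
  rw [lev_can, cev_smul, lev_smul, projR_sharp, lev_can]

theorem can_res {W W' : X.Opens} (e : W' ≤ W) (m : Γ(F, W)) :
    can h F W' (res F e m) =
      rs ((FSch.complMod 𝓘 F).realMod h) ((FSch.completionToX X 𝓘 0).preimage_mono e) (can h F W m) := by
  refine lev_ext_gen fun k => ?_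
  rw [lev_can, cev_res, lev_rs, lev_can]

theorem capp_can {G : X.Modules} (φ : F ⟶ G) (W : X.Opens) (m : Γ(F, W)) :
    capp h φ W (can h F W m) = can h G W (φ.app W m) := by
  refine lev_ext_gen fun k => ?_
  rw [lev_capp, lev_can, lev_can, cev_map]

theorem projR_sharp_eq_zero {W : X.Opens} (hW : IsAffineOpen W) (k : ℕ) {r : Γ(X, W)}
    (hr : r ∈ 𝓘.ideal ⟨W, hW⟩ ^ (k + 1)) : projR k (op0 𝓘 W) (sharp h W r) = 0 := by
  have h0 : (FSch.completionToX X 𝓘 k).app W r = 0 := by
    have hk : (FSch.completionToX X 𝓘 k).ker = 𝓘 ^ (k + 1) := Scheme.IdealSheafData.ker_subschemeι _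
    have : r ∈ (FSch.completionToX X 𝓘 k).ker.ideal ⟨W, hW⟩ := by
      rw [hk, Scheme.IdealSheafData.ideal_pow, Pi.pow_apply]
      exact hr
    rwa [Scheme.Hom.ker_apply] at this
  rw [projR_sharp]
  exact (congrArg (resFun _ (le_preimage h k W)) h0).trans (map_zero _)

end Groth.AdicLinTop.ComplSections
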