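import Groth.Agent.AdicLinTop.ComplRing

/-!
# Generators of completions of modules over affine opens, without Noetherian hypotheses
-/

set_option autoImplicit false

universe u

open CategoryTheory CategoryTheory.Limits AlgebraicGeometry TopologicalSpace Opposite

namespace Groth.AdicLinTop.ComplSpan

open Groth.AdicLinTop.FormalLevels Groth.AdicLinTop.FormalReal Groth.AdicLinTop.FormalAffine
open Groth.AdicLinTop.FormalSpan Groth.AdicLinTop.ComplReal Groth.AdicLinTop.ComplSections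
open Groth.AdicLinTop.ComplRing

variable {X : Scheme.{u}} {𝓘 : X.IdealSheafData} {h : (FSch.completionAlong X 𝓘).IsFormal}
  {G : X.Modules} {W : X.Opens}

theorem cev_zero (k : ℕ) : cev h G k W 0 = 0 := by
  rw [← sub_self (0 : Γ(G, W)), cev_sub, sub_self]

theorem cev_sum {ι : Type*} (s : Finset ι) (k : ℕ) (f : ι → Γ(G, W)) :
    cev h G k W (∑ i ∈ s, f i) = ∑ i ∈ s, cev h G k W (f i) :=
  map_sum (AddMonoidHom.mk' (cev h G k W) (cev_add k W)) f s

theorem lev_zero (k : ℕ) : lev h (FSch.complMod 𝓘 G) k (op0 𝓘 W) 0 = 0 := by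
  rw [lev, map_zero, map_zero]

/-- The kernel of the map to a level. -/
noncomputable def kerLev (h : (FSch.completionAlong X 𝓘).IsFormal) (G : X.Modules) (W : X.Opens) (k : ℕ) :
    Submodule (RS h (op0 𝓘 W)) (Sec ((FSch.complMod 𝓘 G).realMod h) (op0 𝓘 W)) where
  carrier := {x | lev h (FSch.complMod 𝓘 G) k _ x = 0}
  add_mem' := fun {x y} (hx : _ = 0) (hy : _ = 0) => by
    show lev h (FSch.complMod 𝓘 G) k _ (x + y) = 0
    rw [lev_add, hx, hy, add_zero]
  zero_mem' := lev_zero k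
  smul_mem' := fun a x (hx : _ = 0) => by
    show lev h (FSch.complMod 𝓘 G) k _ (a • x) = 0
    rw [lev_smul, hx, smul_zero]

theorem mem_kerLev {k : ℕ} {x : Sec ((FSch.complMod 𝓘 G).realMod h) (op0 𝓘 W)} :
    x ∈ kerLev h G W k ↔ lev h (FSch.complMod 𝓘 G) k _ x = 0 := Iff.rfl

variable (hW : IsAffineOpen W) [G.IsQuasicoherent] (hfg : (𝓘.ideal ⟨W, hW⟩).FG)

include hW in
theorem kerLev_antitone : Antitone (kerLev h G W) := antitone_nat_of_succ_le fun k x hx => by
  have h1 : (compl h hW G).rep x (k + 1) 0 := (mem_kerLev.1 hx).trans (cev_zero _).symm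
  exact ((compl h hW G).step x k 0 h1).trans (cev_zero k)

include hW in
theorem defIdeal_pow_smul_le (k : ℕ) :
    defIdeal hW h ^ (k + 1) • (⊤ : Submodule (RS h (op0 𝓘 W)) _) ≤ kerLev h G W k := by
  refine Submodule.smul_le.2 fun a ha x _ => ?_
  rw [mem_kerLev, lev_smul, show projR k (op0 𝓘 W) a = 0 from defIdeal_pow_le hW k ha, zero_smul]

include hW hfg in
/-- Sections whose images generate level zero generate. -/
theorem span_eq_top {n : ℕ} (l : Fin n → Sec ((FSch.complMod 𝓘 G).realMod h) (op0 𝓘 W))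
    (hl : ∀ y, ∃ c : Fin n → Γ((FSch.completionAlong X 𝓘).X 0, (FSch.completionAlong X 𝓘).lvU h 0 (op0 𝓘 W)),
      y = ∑ i, c i • lev h (FSch.complMod 𝓘 G) 0 _ (l i)) :
    Submodule.span (RS h (op0 𝓘 W)) (Set.range l) = ⊤ := by
  have := isAdicComplete_RS (h := h) hW hfg
  have hgen : ∀ {m : Fin n → Γ(G, W)}, (∀ i, (compl h hW G).rep (l i) 0 (m i)) →
      (⊤ : Submodule Γ(X, W) Γ(G, W)) ≤ Submodule.span Γ(X, W) (Set.range m) ⊔ 𝓘.ideal ⟨W, hW⟩ • ⊤ := by
    intro m hm v _
    obtain ⟨c, hc⟩ := hl (cev h G 0 W v)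
    choose r hr using fun i => projR_surjective (h := h) hW 0 (c i)
    refine Submodule.mem_sup.2 ⟨∑ i, r i • m i,
      Submodule.sum_mem _ fun i _ => Submodule.smul_mem _ _ (Submodule.subset_span ⟨i, rfl⟩),
      v - ∑ i, r i • m i, ?_, add_sub_cancel _ _⟩
    rw [← pow_one (𝓘.ideal ⟨W, hW⟩)]
    refine ((cev_spec (h := h) hW G 0).2 _).1 ?_
    rw [cev_sub, cev_sum, hc, sub_eq_zero]
    refine Finset.sum_congr rfl fun i _ => ?_
    rw [cev_smul, ← projR_sharp, ← (show lev h (FSch.complMod 𝓘 G) 0 _ (l i) = cev h G 0 W (m i) from hm i)]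
    exact congrArg (· • _) (hr i).symm
  have hstep : ∀ k, kerLev h G W k ≤
      defIdeal hW h ^ (k + 1) • Submodule.span (RS h (op0 𝓘 W)) (Set.range l) ⊔ kerLev h G W (k + 1) := by
    intro k x hx
    obtain ⟨v, hv⟩ := (compl h hW G).exists_rep x (k + 1)
    choose m hm using fun i => (compl h hW G).exists_rep (l i) (k + 1)
    have hv' : v ∈ 𝓘.ideal ⟨W, hW⟩ ^ (k + 1) • (⊤ : Submodule Γ(X, W) Γ(G, W)) := by
      have h1 := ((compl h hW G).rep_iff x k 0 v ((mem_kerLev.1 hx).trans (cev_zero _).symm)).1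
        ((compl h hW G).step x k v hv)
      rwa [sub_zero] at h1
    have hv'' := Submodule.smul_mono le_rfl (hgen fun i => ComplData.step_le (compl h hW G) (Nat.zero_le _) (hm i)) hv'
    rw [Submodule.smul_sup, ← Submodule.smul_assoc, smul_eq_mul, ← pow_succ] at hv''
    obtain ⟨p, hp, q, hq, rfl⟩ := Submodule.mem_sup.1 hv''
    obtain ⟨a, ha, rfl⟩ := InvLim.exists_coeff _ m hp
    refine Submodule.mem_sup.2 ⟨∑ i, sharp h W (a i) • l i, Submodule.sum_mem _ fun i _ => ?_,
      x - ∑ i, sharp h W (a i) • l i, ?_, add_sub_cancel _ _⟩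
    · refine Submodule.smul_mem_smul ?_ (Submodule.subset_span ⟨i, rfl⟩)
      rw [← Ideal.map_pow]
      exact Ideal.mem_map_of_mem _ (ha i)
    · rw [mem_kerLev, lev, map_sub, map_sub]
      show lev h (FSch.complMod 𝓘 G) (k + 1) _ x - lev h (FSch.complMod 𝓘 G) (k + 1) _ _ = 0
      rw [lev_sum, show lev h (FSch.complMod 𝓘 G) (k + 1) _ x = cev h G (k + 1) W (∑ i, a i • m i + q) from hv,
        cev_add, ((cev_spec (h := h) hW G (k + 1)).2 q).2 hq, add_zero, cev_sum, sub_eq_zero]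
      refine Finset.sum_congr rfl fun i _ => ?_
      rw [lev_smul, projR_sharp, cev_smul,
        show lev h (FSch.complMod 𝓘 G) (k + 1) _ (l i) = cev h G (k + 1) W (m i) from hm i]
  refine eq_top_iff.2 fun x _ => ?_
  obtain ⟨c, hc⟩ := hl (lev h (FSch.complMod 𝓘 G) 0 _ x)
  choose r hr using fun i => projR_surjective (h := h) hW 0 (c i)
  have h0 : x - ∑ i, sharp h W (r i) • l i ∈ kerLev h G W 0 := by
    rw [mem_kerLev, lev, map_sub, map_sub]
    show lev h (FSch.complMod 𝓘 G) 0 _ x - lev h (FSch.complMod 𝓘 G) 0 _ _ = 0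
    rw [lev_sum, sub_eq_zero, hc]
    exact Finset.sum_congr rfl fun i _ => by rw [lev_smul]; exact congrArg (· • _) (hr i).symm
  have h1 := (InvLim.le_of_finite (kerLev_antitone hW)
    (fun y hy => lev_ext_gen fun k => (hy k).trans (lev_zero k).symm)
    (fun k => defIdeal_pow_smul_le hW k) l hstep 0).trans Submodule.smul_le_right h0
  have h2 : ∑ i, sharp h W (r i) • l i ∈ Submodule.span (RS h (op0 𝓘 W)) (Set.range l) :=
    Submodule.sum_mem _ fun i _ => Submodule.smul_mem _ _ (Submodule.subset_span ⟨i, rfl⟩)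
  have := add_mem h1 h2
  rwa [sub_add_cancel] at this

end Groth.AdicLinTop.ComplSpan
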