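import Groth.Agent.AdicLinTop.ComplPull
import Groth.Agent.CohC3.LimitSys
import Groth.Agent.CohTwo.CohInduction
import Groth.Agent.QCohMod.Category
import Mathlib.RingTheory.Finiteness.Nakayama

/-!
# Coherent modules with zero completion, and detection of injectivity and surjectivity by completion
-/

set_option autoImplicit false

universe u

open CategoryTheory CategoryTheory.Limits AlgebraicGeometry TopologicalSpace Opposite

namespace Groth.AdicLinTop.ComplZero

open Groth.AdicLinTop.FormalLevels Groth.AdicLinTop.FormalReal Groth.AdicLinTop.FormalAffine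
open Groth.AdicLinTop.FormalSpan Groth.AdicLinTop.ComplReal Groth.AdicLinTop.ComplPull

variable {X : Scheme.{u}} {𝓘 : X.IdealSheafData} {h : (FSch.completionAlong X 𝓘).IsFormal} {K : X.Modules}

/-- A coherent module with zero completion is supported away from the closed subset. -/
theorem notMem_support_of_sections_zero [IsLocallyNoetherian X] (hK : Coh.IsCoh K)
    (hz : ∀ (U : ((FSch.completionAlong X 𝓘).X 0).Opens) (x : Sec ((FSch.complMod 𝓘 K).realMod h) U), x = 0)
    {x : X} (hx : x ∈ 𝓘.support) : x ∉ CohB1.support K := by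
  have := hK.1
  obtain ⟨W, hW, hxW⟩ := QCohMod.exists_affine_mem x
  have hfin : Module.Finite Γ(X, W) Γ(K, W) := ((Groth.QCohMod.isCoh_iff _).1 hK).2 W hW
  have htop : (⊤ : Submodule Γ(X, W) Γ(K, W)) ≤ 𝓘.ideal ⟨W, hW⟩ • ⊤ := fun m _ => by
    have hl := lev_gammaVal (h := h) K W m 0
    rw [hz _ (gammaVal h K W m), lev, map_zero, map_zero] at hl
    have h2 := ((cev_spec (h := h) hW K 0).2 m).1 hl.symm
    simpa using h2
  obtain ⟨r, hr, hr0⟩ := Submodule.exists_sub_one_mem_and_smul_eq_zero_of_fg_of_le_smul _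
    (⊤ : Submodule Γ(X, W) Γ(K, W)) hfin.fg_top htop
  have hru : IsUnit (X.presheaf.germ W x hxW r) := by
    have hI : x ∈ X.zeroLocus (U := W) (𝓘.ideal ⟨W, hW⟩) :=
      ((𝓘.coe_support_inter ⟨W, hW⟩).le ⟨hx, hxW⟩).1
    have hn : ¬ IsUnit (X.presheaf.germ W x hxW (r - 1)) := fun hu =>
      (Scheme.mem_zeroLocus_iff _ _ _).1 hI _ hr ((Scheme.mem_basicOpen X _ x hxW).2 hu)
    have h1 : IsUnit (1 : X.presheaf.stalk x) := isUnit_one
    rw [show (1 : X.presheaf.stalk x) = X.presheaf.germ W x hxW r + -(X.presheaf.germ W x hxW (r - 1)) by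
      rw [map_sub, map_one]; ring] at h1
    exact (IsLocalRing.isUnit_or_isUnit_of_isUnit_add h1).resolve_right fun hu => hn ((IsUnit.neg_iff _).1 hu)
  rw [CohTwo.notMem_support_iff]
  refine subsingleton_of_forall_eq 0 fun (t : K.presheaf.stalk x) => ?_
  obtain ⟨b, m, hb, hbm⟩ := QCohMod.exists_smul_germ_eq K hW x hxW t
  have hm : X.presheaf.germ W x hxW r • (QCohMod.germ K x hxW m : K.presheaf.stalk x) = 0 := by
    rw [← QCohMod.germ_smul K x hxW r m, hr0 m trivial, map_zero]
  have hm0 : (QCohMod.germ K x hxW m : K.presheaf.stalk x) = 0 :=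
    hru.smul_left_cancel.1 (hm.trans (smul_zero _).symm)
  rw [hm0] at hbm
  change t = (0 : K.presheaf.stalk x)
  exact ((Scheme.mem_basicOpen X b x hxW).1 hb).smul_left_cancel.1 (hbm.trans (smul_zero _).symm)

theorem mem_support_of_mem_zeroLocus {A : Type u} [CommRing A] (J : Ideal A) (f : X ⟶ Spec (CommRingCat.of A))
    {x : X} (hx : J ≤ (f x).asIdeal) : x ∈ ((FSch.idealSpec A J).comap f).support := by
  rw [← SetLike.mem_coe, Scheme.IdealSheafData.support_comap]
  refine Scheme.Hom.range_subset_ker_support _ ?_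
  have hmem : (f x : PrimeSpectrum A) ∈ Set.range (PrimeSpectrum.comap (Ideal.Quotient.mk J)) := by
    rw [range_comap_of_surjective _ _ Ideal.Quotient.mk_surjective, Ideal.mk_ker]
    exact hx
  exact hmem

variable {A : Type u} [CommRing A] {J : Ideal A} [IsAdicComplete J A] (f : X ⟶ Spec (CommRingCat.of A))
  (hf : IsClosedMap f.base)

include hf in
/-- Over a complete base, a coherent module with zero completion vanishes. -/
theorem isZero_of_sections_zero [IsLocallyNoetherian X] (h𝓘 : 𝓘 = (FSch.idealSpec A J).comap f) (hK : Coh.IsCoh K)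
    (hz : ∀ (U : ((FSch.completionAlong X 𝓘).X 0).Opens) (x : Sec ((FSch.complMod 𝓘 K).realMod h) U), x = 0) :
    IsZero K := by
  have := hK.1
  rw [QCohMod.isZero_iff_support_eq_empty]
  by_contra hne
  have hc := hf _ (Groth.CohC3.isClosed_support_of_isCoh K hK)
  obtain ⟨a, ha⟩ := (PrimeSpectrum.isClosed_iff_zeroLocus_ideal _).1 hc
  have hat : a ≠ ⊤ := fun e => by
    refine hne (Set.image_eq_empty.1 (ha.trans ?_))
    rw [e, Submodule.top_coe, PrimeSpectrum.zeroLocus_univ]
    rfl
  obtain ⟨m, hm, ham⟩ := Ideal.exists_le_maximal a hat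
  have hJm : J ≤ m := (IsAdicComplete.le_jacobson_bot J).trans (sInf_le ⟨bot_le, hm⟩)
  have : (⟨m, hm.isPrime⟩ : PrimeSpectrum A) ∈ f.base '' CohB1.support K := ha ▸ ham
  obtain ⟨x, hx, hfx⟩ := this
  refine notMem_support_of_sections_zero hK hz ?_ hx
  rw [h𝓘]
  refine mem_support_of_mem_zeroLocus J f ?_
  rw [show f x = (⟨m, hm.isPrime⟩ : PrimeSpectrum A) from hfx]
  exact hJm

variable [IsLocallyNoetherian X] (h𝓘 : 𝓘 = (FSch.idealSpec A J).comap f) {F G : X.Modules} (u : F ⟶ G)

include hf h𝓘 in
theorem mono_epi_iff (hF : Coh.IsCoh F) (hG : Coh.IsCoh G) :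
    (Mono (FSch.ModSys.realModMap h (FSch.complModMap 𝓘 u)) ↔ Mono u) ∧
    (Epi (FSch.ModSys.realModMap h (FSch.complModMap 𝓘 u)) ↔ Epi u) := by
  have := hF.1
  have := hG.1
  have hK : Coh.IsCoh (kernel u) := QCohMod.isCoh_kernel u hF
  have hC : Coh.IsCoh (cokernel u) := QCohMod.isCoh_cokernel _ hG
  have := hK.1
  have := hC.1
  refine ⟨⟨fun hm => ?_, fun hm => ?_⟩, ⟨fun he => ?_, fun he => ?_⟩⟩
  · let S := ShortComplex.mk (kernel.ι u) (cokernel.π (kernel.ι u)) (cokernel.condition _)
    have hS : S.ShortExact :=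
      ShortComplex.ShortExact.mk' (ShortComplex.exact_cokernel _) inferInstance inferInstance
    have hI : Coh.IsCoh S.X₃ := QCohMod.isCoh_cokernel _ hF
    have hex := shortExact_compl (h := h) S hS hK hF hI (realModMap_comp_eq_zero S.f S.g S.zero)
    have := hex.mono_f
    have h0 : FSch.ModSys.realModMap h (FSch.complModMap 𝓘 (kernel.ι u)) = 0 :=
      (cancel_mono (FSch.ModSys.realModMap h (FSch.complModMap 𝓘 u))).1
        ((realModMap_comp_eq_zero _ _ (kernel.condition u)).trans zero_comp.symm)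
    refine Preadditive.mono_of_kernel_zero (zero_of_source_iso_zero _ (IsZero.isoZero ?_))
    refine isZero_of_sections_zero f hf h𝓘 hK (h := h) fun U x => ?_
    refine Groth.SitesTopoi.ModH.injective_of_mono (FSch.ModSys.realModMap h (FSch.complModMap 𝓘 S.f)) U ?_
    exact (congr(app $h0 U x)).trans (map_zero _).symm
  · let S := ShortComplex.mk u (cokernel.π u) (cokernel.condition u)
    have hS : S.ShortExact :=
      ShortComplex.ShortExact.mk' (ShortComplex.exact_cokernel u) inferInstance inferInstance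
    exact (shortExact_compl (h := h) S hS hF hG hC (realModMap_comp_eq_zero S.f S.g S.zero)).mono_f
  · let S := ShortComplex.mk (Abelian.image.ι u) (cokernel.π u) (kernel.condition _)
    have hS : S.ShortExact :=
      ShortComplex.ShortExact.mk' (ShortComplex.exact_of_f_is_kernel S (kernelIsKernel _)) inferInstance inferInstance
    have hI : Coh.IsCoh S.X₁ := QCohMod.isCoh_kernel (cokernel.π u) hG
    have hex := shortExact_compl (h := h) S hS hI hG hC (realModMap_comp_eq_zero S.f S.g S.zero)
    have := hex.epi_g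
    have h0 : FSch.ModSys.realModMap h (FSch.complModMap 𝓘 (cokernel.π u)) = 0 :=
      (cancel_epi (FSch.ModSys.realModMap h (FSch.complModMap 𝓘 u))).1
        ((realModMap_comp_eq_zero _ _ (cokernel.condition u)).trans comp_zero.symm)
    refine Preadditive.epi_of_cokernel_zero (zero_of_target_iso_zero _ (IsZero.isoZero ?_))
    refine isZero_of_sections_zero f hf h𝓘 hC (h := h) fun U x => ?_
    have hid : 𝟙 ((FSch.complMod 𝓘 (cokernel u)).realMod h) = 0 :=
      (cancel_epi (FSch.ModSys.realModMap h (FSch.complModMap 𝓘 S.g))).1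
        ((Category.comp_id _).trans (h0.trans comp_zero.symm))
    exact congr(app $hid U x)
  · let S := ShortComplex.mk (kernel.ι u) u (kernel.condition u)
    have hS : S.ShortExact :=
      ShortComplex.ShortExact.mk' (ShortComplex.exact_kernel u) inferInstance inferInstance
    exact (shortExact_compl (h := h) S hS hK hF hG (realModMap_comp_eq_zero S.f S.g S.zero)).epi_g

end Groth.AdicLinTop.ComplZero
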