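import Groth.Agent.AdicLinTop.SecHom
import Mathlib.Algebra.Homology.ShortComplex.HomologicalComplex
import Mathlib.CategoryTheory.Limits.Preserves.Shapes.Kernels

/-!
# Homology of the image of a complex under a left exact functor
-/

set_option autoImplicit false

universe v u v' u'

open CategoryTheory CategoryTheory.Limits

set_option backward.defeqAttrib.useBackward true
set_option backward.isDefEq.respectTransparency false
set_option backward.isDefEq.respectTransparency.types false

namespace Groth.AdicLinTop.LeftExHom

variable {C : Type u} [Category.{v} C] [Abelian C] {D : Type u'} [Category.{v'} D] [Abelian D]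
  (G : C ⥤ D) [G.Additive] [PreservesFiniteLimits G] (K : CochainComplex C ℕ) (p : ℕ)

/-- The image of the complex. -/
noncomputable abbrev GK : CochainComplex D ℕ := (G.mapHomologicalComplex (ComplexShape.up ℕ)).obj K

/-- Cycles of the image are in the image of cycles. -/
noncomputable def κ : (GK G K).cycles p ⟶ G.obj (K.cycles p) :=
  (KernelFork.IsLimit.lift' (KernelFork.mapIsLimit _ (K.cyclesIsKernel p (p + 1) (CochainComplex.next ℕ p)) G)
    ((GK G K).iCycles p) ((GK G K).iCycles_d p (p + 1))).1

theorem κ_comp : κ G K p ≫ G.map (K.iCycles p) = (GK G K).iCycles p :=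
  (KernelFork.IsLimit.lift' (KernelFork.mapIsLimit _ (K.cyclesIsKernel p (p + 1) (CochainComplex.next ℕ p)) G)
    ((GK G K).iCycles p) ((GK G K).iCycles_d p (p + 1))).2

theorem toCycles_κ (i : ℕ) : (GK G K).toCycles i p ≫ κ G K p = G.map (K.toCycles i p) := by
  rw [← cancel_mono (G.map (K.iCycles p)), Category.assoc, κ_comp, HomologicalComplex.toCycles_i,
    ← G.map_comp, HomologicalComplex.toCycles_i]
  rfl

/-- Homology of the image maps to the image of homology. -/
noncomputable def ω : (GK G K).homology p ⟶ G.obj (K.homology p) :=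
  ((GK G K).homologyIsCokernel _ p rfl).desc (CokernelCofork.ofπ (κ G K p ≫ G.map (K.homologyπ p))
    (by rw [← Category.assoc, toCycles_κ, ← G.map_comp, HomologicalComplex.toCycles_comp_homologyπ, G.map_zero]))

theorem π_ω : (GK G K).homologyπ p ≫ ω G K p = κ G K p ≫ G.map (K.homologyπ p) :=
  ((GK G K).homologyIsCokernel _ p rfl).fac _ WalkingParallelPair.one

variable {K} {L : CochainComplex C ℕ} (φ : K ⟶ L)

theorem κ_naturality :
    HomologicalComplex.cyclesMap ((G.mapHomologicalComplex (ComplexShape.up ℕ)).map φ) p ≫ κ G L p =
      κ G K p ≫ G.map (HomologicalComplex.cyclesMap φ p) := by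
  rw [← cancel_mono (G.map (L.iCycles p)), Category.assoc, Category.assoc, κ_comp, HomologicalComplex.cyclesMap_i,
    ← G.map_comp, HomologicalComplex.cyclesMap_i, G.map_comp, ← Category.assoc (κ G K p), κ_comp]
  rfl

@[reassoc]
theorem ω_naturality :
    HomologicalComplex.homologyMap ((G.mapHomologicalComplex (ComplexShape.up ℕ)).map φ) p ≫ ω G L p =
      ω G K p ≫ G.map (HomologicalComplex.homologyMap φ p) := by
  rw [← cancel_epi ((GK G K).homologyπ p), HomologicalComplex.homologyπ_naturality_assoc, π_ω,
    ← Category.assoc, κ_naturality, ← Category.assoc ((GK G K).homologyπ p), π_ω, Category.assoc, Category.assoc,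
    ← G.map_comp, ← G.map_comp, HomologicalComplex.homologyπ_naturality]

end Groth.AdicLinTop.LeftExHom
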