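import Groth.Agent.AdicLinTop.ComplRes
import Groth.Agent.AdicLinTop.LeftExHom
import Groth.Agent.AdicLinTop.BcTranspose
import Groth.Agent.CohBase.RpushAffineLin

/-!
# Higher direct images on a scheme and on a completion

The comparison morphism from higher direct images of modules pushed from a completion, its naturality and its
values on classes.
-/

set_option autoImplicit false

universe u

open CategoryTheory CategoryTheory.Limits AlgebraicGeometry TopologicalSpace Opposite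

set_option backward.defeqAttrib.useBackward true
set_option backward.isDefEq.respectTransparency false
set_option backward.isDefEq.respectTransparency.types false
set_option synthInstance.maxHeartbeats 400000
set_option maxHeartbeats 1000000

namespace Groth.AdicLinTop.ComplZeta

open Groth.SitesTopoi.ModH Groth.AdicLinTop.SpacePres Groth.AdicLinTop.ResSec
open Groth.AdicLinTop.RpushClass Groth.AdicLinTop.RpushDerived Groth.AdicLinTop.ComplRes
open Groth.AdicLinTop.ComplPull (uMor)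
open Groth.AdicLinTop.ComplReal (op0)
open Groth.AdicLinTop.ComplPush (gHat pre_op0)
open Groth.AdicLinTop.FinitePush (pre)
open Groth.AdicLinTop.ModHomology (rm_apm apm_comp_apply)

section Generic

variable {A : Type u} [SmallCategory A] {JA : GrothendieckTopology A}
  {C : Type u} [SmallCategory C] {JC : GrothendieckTopology C}
  {OA : Sheaf JA CommRingCat.{u}} {OC : Sheaf JC CommRingCat.{u}}
  {X Y : Scheme.{u}} (f : X ⟶ Y) {a : ModSite.RMor OA X.sheaf} {c : ModSite.RMor OA OC} {d : ModSite.RMor OC Y.sheaf}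
  {e : (ModSite.RMor.ofScheme f).fn ⋙ a.fn ≅ d.fn ⋙ c.fn} (h : ModSite.RMor.SharpSq a (ModSite.RMor.ofScheme f) c d e)

theorem ofSchemePush_inv_app (M : ModSite.Mod X.sheaf) (U : Y.Opens) (x) :
    ((ModSite.RMor.ofSchemePush f).inv.app M).val.app (op U) x = x :=
  SheafOfModules.pushforwardCongr_inv_app_val_app _ _ _ _

noncomputable def sqG : (show ModSite.Mod OA ⥤ X.Modules from a.push) ⋙ Scheme.Modules.pushforward f ⟶
    c.push ⋙ (show ModSite.Mod OC ⥤ Y.Modules from d.push) :=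
  Functor.whiskerLeft a.push (ModSite.RMor.ofSchemePush f).inv ≫ (ModSite.RMor.pushSq h).hom

theorem sqG_app (G : ModSite.Mod OA) (U : Y.Opens) (x : G.val.obj (op (a.fn.obj ((ModSite.RMor.ofScheme f).fn.obj U)))) :
    (SheafOfModules.Hom.val ((sqG f h).app G)).app (op U) x = G.val.map (e.inv.app U).op x := by
  show ((ModSite.RMor.pushSq h).hom.app G).val.app (op U) (((ModSite.RMor.ofSchemePush f).inv.app (a.push.obj G)).val.app (op U) x) = _
  rw [ofSchemePush_inv_app f (a.push.obj G) U x]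
  exact BcTranspose.pushSq_app h G U x

end Generic

variable {X Y : Scheme.{u}} [IsLocallyNoetherian X] [IsLocallyNoetherian Y] (f : X ⟶ Y)
  {𝓘 : Y.IdealSheafData} {𝓚 : X.IdealSheafData} (hpc : FSch.PowCompat f 𝓚 𝓘)
  (hX : (FSch.completionAlong X 𝓚).IsFormal) (hY : (FSch.completionAlong Y 𝓘).IsFormal)

/-- The square of direct images. -/
noncomputable def sq : iP hX ⋙ Coh.push f ⟶ FSch.pushF (gHat hpc) hX hY ⋙ iP hY :=
  sqG f (FSch.schSharp_sq (FSch.completionMap f 𝓚 𝓘 hpc) hX hY f (FSch.completionToX X 𝓚)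
    (FSch.completionToX_comm X 𝓚) (FSch.completionToX Y 𝓘) (FSch.completionToX_comm Y 𝓘)
    (FSch.completionMap_sq f 𝓚 𝓘 hpc))

theorem sq_app (G : FSch.ModF (FSch.completionAlong X 𝓚) hX) (W : Y.Opens)
    (x : sc G.val (op0 𝓚 (f ⁻¹ᵁ W))) :
    apm (O := Y.sheaf) (SheafOfModules.Hom.val ((sq f hpc hX hY).app G)) W x =
      rm G (pre_op0 hpc W).le x := by
  have h := sqG_app f (FSch.schSharp_sq (FSch.completionMap f 𝓚 𝓘 hpc) hX hY f (FSch.completionToX X 𝓚)
    (FSch.completionToX_comm X 𝓚) (FSch.completionToX Y 𝓘) (FSch.completionToX_comm Y 𝓘)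
    (FSch.completionMap_sq f 𝓚 𝓘 hpc)) G W x
  rw [sq]
  refine Eq.trans ?_ (h.trans ?_)
  · rfl
  · refine Eq.trans ?_ (rsm_eq G.val (homOfLE (pre_op0 hpc W).le) x).symm
    have key : ∀ (i : pre (gHat hpc) (op0 𝓘 W) ⟶ op0 𝓚 (f ⁻¹ᵁ W)),
        (G.val.map i.op) x = (G.val.map (homOfLE (pre_op0 hpc W).le).op) x := fun i => by
      rw [Subsingleton.elim i (homOfLE (pre_op0 hpc W).le)]
    exact key _

variable [HasInjectiveResolutions X.Modules] [HasInjectiveResolutions (FSch.ModF (FSch.completionAlong X 𝓚) hX)]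
  (n : ℕ) {M N : FSch.ModF (FSch.completionAlong X 𝓚) hX}

/-- The comparison on complexes. -/
noncomputable abbrev χ (J : InjectiveResolution M) :
    ((Coh.push f).mapHomologicalComplex (ComplexShape.up ℕ)).obj
        (((iP hX).mapHomologicalComplex (ComplexShape.up ℕ)).obj J.cocomplex) ⟶
      ((iP hY).mapHomologicalComplex (ComplexShape.up ℕ)).obj
        (((FSch.pushF (gHat hpc) hX hY).mapHomologicalComplex (ComplexShape.up ℕ)).obj J.cocomplex) :=
  (NatTrans.mapHomologicalComplex (sq f hpc hX hY) (ComplexShape.up ℕ)).app J.cocomplex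

/-- The comparison of higher direct images. -/
noncomputable def ζ (hM : AffineGens.affGen (hN (X := X) (𝓘 := 𝓚)) M) :
    (Coh.Rpush f n).obj ((iP hX).obj M) ⟶ (iP hY).obj ((FSch.RpushF (gHat hpc) hX hY n).obj M) :=
  ((pushRes hX hM (injectiveResolution M)).isoRightDerivedObj (Coh.push f) n).hom ≫
    HomologicalComplex.homologyMap (χ f hpc hX hY (injectiveResolution M)) n ≫
    LeftExHom.ω (iP hY) _ n ≫
    (iP hY).map ((injectiveResolution M).isoRightDerivedObj (FSch.pushF (gHat hpc) hX hY) n).inv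

theorem pushRes_ι (hM : AffineGens.affGen (hN (X := X) (𝓘 := 𝓚)) M) (J : InjectiveResolution M) :
    (pushRes hX hM J).ι.f 0 = (iP hX).map (J.ι.f 0) :=
  CochainComplex.fromSingle₀Equiv_symm_apply_f_zero _ _

@[reassoc]
theorem ζ_naturality (hM : AffineGens.affGen (hN (X := X) (𝓘 := 𝓚)) M)
    (hN' : AffineGens.affGen (hN (X := X) (𝓘 := 𝓚)) N) (g : M ⟶ N) :
    (Coh.Rpush f n).map ((iP hX).map g) ≫ ζ f hpc hX hY n hN' =
      ζ f hpc hX hY n hM ≫ (iP hY).map ((FSch.RpushF (gHat hpc) hX hY n).map g) := by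
  let I := injectiveResolution M
  let J := injectiveResolution N
  let φ : I.cocomplex ⟶ J.cocomplex := InjectiveResolution.desc g J I
  have hφ : I.ι.f 0 ≫ φ.f 0 = g ≫ J.ι.f 0 := InjectiveResolution.desc_commutes_zero g J I
  let ψ := ((iP hX).mapHomologicalComplex (ComplexShape.up ℕ)).map φ
  have hψ : (pushRes hX hM I).ι.f 0 ≫ ψ.f 0 = (iP hX).map g ≫ (pushRes hX hN' J).ι.f 0 := by
    refine (congrArg (fun t => t ≫ ψ.f 0) (pushRes_ι hX hM I)).trans ?_
    refine Eq.trans ?_ (congrArg (fun t => (iP hX).map g ≫ t) (pushRes_ι hX hN' J)).symm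
    exact (((iP hX).map_comp _ _).symm.trans (congrArg (iP hX).map hφ)).trans ((iP hX).map_comp _ _)
  have e1 := InjectiveResolution.isoRightDerivedObj_hom_naturality ((iP hX).map g) (pushRes hX hM I)
    (pushRes hX hN' J) ψ hψ (Coh.push f) n
  have e2 := InjectiveResolution.isoRightDerivedObj_inv_naturality g I J φ hφ (FSch.pushF (gHat hpc) hX hY) n
  have e3 := (NatTrans.mapHomologicalComplex (sq f hpc hX hY) (ComplexShape.up ℕ)).naturality φ
  have e4 := LeftExHom.ω_naturality (iP hY) n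
    (((FSch.pushF (gHat hpc) hX hY).mapHomologicalComplex (ComplexShape.up ℕ)).map φ)
  rw [ζ, ζ]
  refine (Category.assoc _ _ _).symm.trans ((congrArg (· ≫ _) e1).trans ((Category.assoc _ _ _).trans ?_))
  refine Eq.trans (congrArg (_ ≫ ·) ?_) (by simp only [Category.assoc]; rfl)
  refine (Category.assoc _ _ _).symm.trans ?_
  refine (congrArg (· ≫ _) ((HomologicalComplex.homologyMap_comp _ _ n).symm.trans
    ((congrArg (HomologicalComplex.homologyMap · n) e3).trans (HomologicalComplex.homologyMap_comp _ _ n)))).trans ?_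
  refine (Category.assoc _ _ _).trans ?_
  refine congrArg (_ ≫ ·) ?_
  refine (Category.assoc _ _ _).symm.trans ((congrArg (· ≫ _) e4).trans ((Category.assoc _ _ _).trans ?_))
  refine congrArg (_ ≫ ·) ?_
  refine ((iP hY).map_comp _ _).symm.trans ((congrArg (iP hY).map e2.symm).trans ((iP hY).map_comp _ _))

/-- The two classes of cocycles of sections agree. -/
theorem θ_eq_θ {S : Scheme.{u}} (K : CochainComplex S.Modules ℕ) (p : ℕ) (V : S.Opens)
    (z : LinearMap.ker (Groth.QCohMod.appₗ (K.d p (p + 1)) V))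
    (z' : SecHom.Z (O := S.sheaf) (show CochainComplex (ModSite.Mod S.sheaf) ℕ from K) p V) (h : z'.1 = z.1) :
    Groth.CohBase.θ K p V z = SecHom.θ (O := S.sheaf) (show CochainComplex (ModSite.Mod S.sheaf) ℕ from K) p V z' := by
  refine (SecHom.θ_eq z' (k := (Groth.CohBase.cycSecEquiv K p V).symm z) ?_).symm
  exact (congrArg Subtype.val ((Groth.CohBase.cycSecEquiv K p V).apply_symm_apply z)).trans h.symm

theorem ω_θ {T : Scheme.{u}} [IsLocallyNoetherian T] {𝓙 : T.IdealSheafData} (hT : (FSch.completionAlong T 𝓙).IsFormal)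
    (K : CochainComplex (FSch.ModF (FSch.completionAlong T 𝓙) hT) ℕ) (p : ℕ) (W : T.Opens)
    (z : SecHom.Z (O := T.sheaf) (show CochainComplex (ModSite.Mod T.sheaf) ℕ from LeftExHom.GK (iP hT) K) p W)
    (z' : SecHom.Z K p (op0 𝓙 W)) (h : z'.1 = z.1) :
    apm (O := T.sheaf) (SheafOfModules.Hom.val (LeftExHom.ω (iP hT) K p)) W
        (SecHom.θ (O := T.sheaf) (show CochainComplex (ModSite.Mod T.sheaf) ℕ from LeftExHom.GK (iP hT) K) p W z) =
      SecHom.θ K p (op0 𝓙 W) z' := by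
  let c := SecHom.cyc (O := T.sheaf) (show CochainComplex (ModSite.Mod T.sheaf) ℕ from LeftExHom.GK (iP hT) K) p W z
  have h1 := congrArg (fun t : (LeftExHom.GK (iP hT) K).cycles p ⟶ _ =>
    apm (O := T.sheaf) (SheafOfModules.Hom.val t) W c) (LeftExHom.π_ω (iP hT) K p)
  refine Eq.trans h1 ?_
  refine (SecHom.θ_eq z' (k := apm (O := T.sheaf) (SheafOfModules.Hom.val (LeftExHom.κ (iP hT) K p)) W c) ?_).symm
  have h2 := congrArg (fun t : (LeftExHom.GK (iP hT) K).cycles p ⟶ _ =>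
    apm (O := T.sheaf) (SheafOfModules.Hom.val t) W c) (LeftExHom.κ_comp (iP hT) K p)
  exact (h2.trans (SecHom.iCycles_cyc (O := T.sheaf) _ p W z)).trans h.symm

/-- The comparison on classes of cocycles. -/
theorem ζ_cls (hM : AffineGens.affGen (hN (X := X) (𝓘 := 𝓚)) M) (W : Y.Opens)
    (z : (Groth.CohBase.Res.ofInjective (pushRes hX hM (injectiveResolution M))).Cyc (f ⁻¹ᵁ W) n)
    (z' : Cyc (res₀ (hN (X := X) (𝓘 := 𝓚)) M).res (pre (gHat hpc) (op0 𝓘 W)) n)
    (h : z'.1 = rm ((injectiveResolution M).cocomplex.X n) (pre_op0 hpc W).le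
      (show sc ((injectiveResolution M).cocomplex.X n).val (op0 𝓚 (f ⁻¹ᵁ W)) from z.1)) :
    (ζ f hpc hX hY n hM).app W
        (((pushRes hX hM (injectiveResolution M)).isoRightDerivedObj (Coh.push f) n).inv.app W
          (Groth.CohBase.θH f (pushRes hX hM (injectiveResolution M)) n W z)) =
      Ψ (gHat hpc) (hN (X := X) (𝓘 := 𝓚)) (hN (X := Y) (𝓘 := 𝓘)) n M (op0 𝓘 W)
        (clsU (res₀ (hN (X := X) (𝓘 := 𝓚)) M).res (pre (gHat hpc) (op0 𝓘 W)) n z') := by
  let I := pushRes hX hM (injectiveResolution M)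
  let e := I.isoRightDerivedObj (Coh.push f) n
  let t := Groth.CohBase.θH f I n W z
  have h0 : e.hom.app W (e.inv.app W t) = t := congr($(e.inv_hom_id).app W t)
  rw [ζ]
  show ((iP hY).map (eR (gHat hpc) (hN (X := X) (𝓘 := 𝓚)) (hN (X := Y) (𝓘 := 𝓘)) n M).inv).app W
    ((LeftExHom.ω (iP hY) _ n).app W
      ((HomologicalComplex.homologyMap (χ f hpc hX hY (injectiveResolution M)) n).app W (e.hom.app W (e.inv.app W t)))) = _
  rw [h0]
  refine congrArg (((iP hY).map (eR (gHat hpc) (hN (X := X) (𝓘 := 𝓚)) (hN (X := Y) (𝓘 := 𝓘)) n M).inv).app W) ?_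
  let C1 := ((Coh.push f).mapHomologicalComplex (ComplexShape.up ℕ)).obj
    (((iP hX).mapHomologicalComplex (ComplexShape.up ℕ)).obj (injectiveResolution M).cocomplex)
  let z₁ : SecHom.Z (O := Y.sheaf) (show CochainComplex (ModSite.Mod Y.sheaf) ℕ from C1) n W :=
    ⟨(Groth.CohBase.pushCyc f I n W z).1, (Groth.CohBase.pushCyc f I n W z).2⟩
  have ht : t = SecHom.θ (O := Y.sheaf) (show CochainComplex (ModSite.Mod Y.sheaf) ℕ from C1) n W z₁ :=
    θ_eq_θ C1 n W (Groth.CohBase.pushCyc f I n W z) z₁ rfl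
  rw [ht]
  let z₂ : SecHom.Z (K (gHat hpc) (hN (X := Y) (𝓘 := 𝓘)) (res₀ (hN (X := X) (𝓘 := 𝓚)) M)) n (op0 𝓘 W) :=
    toZ (gHat hpc) (hN (X := Y) (𝓘 := 𝓘)) (res₀ (hN (X := X) (𝓘 := 𝓚)) M) n (op0 𝓘 W) z'
  refine Eq.trans ?_ (Φ_cls (gHat hpc) (hN (X := Y) (𝓘 := 𝓘)) (res₀ (hN (X := X) (𝓘 := 𝓚)) M) n (op0 𝓘 W) z').symm
  let C2 := LeftExHom.GK (iP hY) (K (gHat hpc) (hN (X := Y) (𝓘 := 𝓘)) (res₀ (hN (X := X) (𝓘 := 𝓚)) M))
  let z₃ : SecHom.Z (O := Y.sheaf) (show CochainComplex (ModSite.Mod Y.sheaf) ℕ from C2) n W := ⟨z₂.1, z₂.2⟩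
  refine (congrArg ((LeftExHom.ω (iP hY) _ n).app W) (SecHom.θ_map (O := Y.sheaf)
    (show (show CochainComplex (ModSite.Mod Y.sheaf) ℕ from C1) ⟶ (show CochainComplex (ModSite.Mod Y.sheaf) ℕ from C2)
      from χ f hpc hX hY (injectiveResolution M)) z₁ z₃ (h.trans (sq_app f hpc hX hY ((injectiveResolution M).cocomplex.X n) W z.1).symm))).trans ?_
  exact ω_θ hY _ n W z₃ z₂ rfl

/-- Where sections of higher direct images are classes, the comparison is bijective. -/
theorem bijective_ζ [QuasiCompact f] [QuasiSeparated f] (hM : AffineGens.affGen (hN (X := X) (𝓘 := 𝓚)) M)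
    [((iP hX).obj M).IsQuasicoherent] {W : Y.Opens} (hW : IsAffineOpen W)
    (hΨ : Function.Bijective (Ψ (gHat hpc) (hN (X := X) (𝓘 := 𝓚)) (hN (X := Y) (𝓘 := 𝓘)) n M (op0 𝓘 W))) :
    Function.Bijective ((ζ f hpc hX hY n hM).app W) := by
  let I := pushRes hX hM (injectiveResolution M)
  let e := I.isoRightDerivedObj (Coh.push f) n
  let ρ := res₀ (hN (X := X) (𝓘 := 𝓚)) M
  have hU := pre_op0 hpc W
  have hs : ∀ s, ∃ z, e.inv.app W (Groth.CohBase.θH f I n W z) = s := fun s => by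
    obtain ⟨z, hz⟩ := Groth.CohBase.θH_surjective f I n hW (e.hom.app W s)
    exact ⟨z, (congrArg (e.inv.app W) hz).trans congr($(e.hom_inv_id).app W s)⟩
  refine ⟨(injective_iff_map_eq_zero _).2 fun s h0 => ?_, fun η => ?_⟩
  · obtain ⟨z, rfl⟩ := hs s
    let z' : Cyc ρ.res (pre (gHat hpc) (op0 𝓘 W)) n := ⟨_, rm_mem_cyc hU.le
      (show (show sc ((injectiveResolution M).cocomplex.X n).val (op0 𝓚 (f ⁻¹ᵁ W)) from z.1) ∈
        Cyc ρ.res (op0 𝓚 (f ⁻¹ᵁ W)) n from z.2)⟩
    rw [ζ_cls f hpc hX hY n hM W z z' rfl] at h0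
    have hb := (clsU_eq_zero_iff _ ρ.flasque_res n z').1 (hΨ.1 (h0.trans (map_zero _).symm))
    have hb' := rm_mem_bd (R := ρ.res) hU.ge hb
    rw [rm_rm] at hb'
    refine (congrArg (e.inv.app W) (Groth.CohBase.θH_eq_zero_of_bd f I n z ?_)).trans (map_zero _)
    rw [rm_self] at hb'
    cases n with
    | zero =>
      have h00 : (show sc ((injectiveResolution M).cocomplex.X 0).val (op0 𝓚 (f ⁻¹ᵁ W)) from z.1) = 0 :=
        (Submodule.mem_bot _).1 hb'
      exact Groth.CohBase.Res.mem_bd_zero.2 h00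
    | succ n => exact hb'
  · obtain ⟨x, rfl⟩ := hΨ.2 η
    obtain ⟨w, rfl⟩ := clsU_surjective _ ρ.flasque_res n x
    let z : (Groth.CohBase.Res.ofInjective I).Cyc (f ⁻¹ᵁ W) n := ⟨(rm ((injectiveResolution M).cocomplex.X n) hU.ge w.1 :),
      (show rm ((injectiveResolution M).cocomplex.X n) hU.ge w.1 ∈ Cyc ρ.res (op0 𝓚 (f ⁻¹ᵁ W)) n from
        rm_mem_cyc hU.ge w.2)⟩
    refine ⟨_, ζ_cls f hpc hX hY n hM W z w ?_⟩
    show w.1 = rm _ hU.le (rm _ hU.ge w.1)
    rw [rm_rm, rm_self]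

end Groth.AdicLinTop.ComplZeta
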