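import Groth.Prelude.Def_FSch3
import Groth.Agent.AdicLinTop.CompletionQuot

/-!
Units of adic completions and functoriality of completions; the subring `FSch.stalkSubring`.
-/

universe u

namespace Groth.AdicLinTop.CompletionMap

section units

variable {R : Type u} [CommRing R] (I : Ideal R)

theorem evalOneₐ_algebraMap (r : R) :
    AdicCompletion.evalOneₐ I (algebraMap R (AdicCompletion I R) r) = Ideal.Quotient.mk I r :=
  (AdicCompletion.evalOneₐ I).commutes r

theorem exists_mul_sub_one_mem {a b : R} (h : a * b - 1 ∈ I) (n : ℕ) : ∃ b', a * b' - 1 ∈ I ^ n := by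
  have hu : IsUnit (Ideal.Quotient.mk (I ^ n) (a * b)) := by
    have hnil : IsNilpotent (Ideal.Quotient.mk (I ^ n) (a * b - 1)) :=
      ⟨n, by rw [← map_pow, Ideal.Quotient.eq_zero_iff_mem]; exact Ideal.pow_mem_pow h n⟩
    have := hnil.isUnit_add_one
    rwa [map_sub, map_one, sub_add_cancel] at this
  rw [map_mul] at hu
  obtain ⟨q, hq⟩ := isUnit_iff_exists_inv.mp (isUnit_of_mul_isUnit_left hu)
  obtain ⟨b', rfl⟩ := Ideal.Quotient.mk_surjective q
  exact ⟨b', by rw [← Ideal.Quotient.eq, map_mul, map_one, hq]⟩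

/-- An element of a completion is a unit as soon as it is one modulo the ideal. -/
theorem isUnit_iff (x : AdicCompletion I R) : IsUnit x ↔ IsUnit (AdicCompletion.evalOneₐ I x) := by
  refine ⟨fun h => h.map _, fun h => ?_⟩
  obtain ⟨a, rfl⟩ := AdicCompletion.mk_surjective I R x
  have hev : AdicCompletion.evalOneₐ I (AdicCompletion.mk I R a) = Ideal.Quotient.mk I (a.val 1) := by
    rw [← AdicCompletion.factorₐ_evalₐ_one, AdicCompletion.evalₐ_mk, Ideal.Quotient.factor_mk]
  rw [hev] at h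
  obtain ⟨q, hq⟩ := isUnit_iff_exists_inv.mp h
  obtain ⟨b, rfl⟩ := Ideal.Quotient.mk_surjective q
  rw [← map_mul, ← map_one (Ideal.Quotient.mk I), Ideal.Quotient.eq] at hq
  have hmod : ∀ {m n : ℕ}, m ≤ n → a.val n - a.val m ∈ I ^ m := fun {m n} hmn => by
    have hy := a.2 hmn
    rw [SModEq.sub_mem, smul_eq_mul, Ideal.mul_top] at hy
    rw [← neg_sub]
    exact neg_mem hy
  have hinv : ∀ n, ∃ b', a.val n * b' - 1 ∈ I ^ n := fun n => by
    rcases Nat.eq_zero_or_pos n with rfl | hn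
    · exact ⟨0, by simp⟩
    refine exists_mul_sub_one_mem I (b := b) ?_ n
    have : a.val n * b - 1 = (a.val n - a.val 1) * b + (a.val 1 * b - 1) := by ring
    rw [this]
    exact I.add_mem (I.mul_mem_right _ (by simpa using hmod hn)) hq
  choose c hc using hinv
  let cs : AdicCompletion.AdicCauchySequence I R := ⟨c, fun {m n} hmn => by
    rw [SModEq.sub_mem, smul_eq_mul, Ideal.mul_top]
    have : c m - c n = c m * -(a.val n * c n - 1) + c n * (a.val m * c m - 1)
        + c m * c n * (a.val n - a.val m) := by ring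
    rw [this]
    exact add_mem (add_mem (Ideal.mul_mem_left _ _ (neg_mem (Ideal.pow_le_pow_right hmn (hc n))))
      (Ideal.mul_mem_left _ _ (hc m))) (Ideal.mul_mem_left _ _ (hmod hmn))⟩
  refine IsUnit.of_mul_eq_one (AdicCompletion.mk I R cs) (AdicCompletion.ext_evalₐ fun n => ?_)
  rw [map_mul, map_one, AdicCompletion.evalₐ_mk, AdicCompletion.evalₐ_mk, ← map_mul,
    ← map_one (Ideal.Quotient.mk (I ^ n)), Ideal.Quotient.eq]
  exact hc n

theorem exists_algebraMap_sub (x : AdicCompletion I R) :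
    ∃ r, AdicCompletion.evalOneₐ I x = AdicCompletion.evalOneₐ I (algebraMap R _ r) := by
  obtain ⟨r, hr⟩ := Ideal.Quotient.mk_surjective (AdicCompletion.evalOneₐ I x)
  exact ⟨r, by rw [evalOneₐ_algebraMap, hr]⟩

theorem isUnit_iff_of_evalOneₐ_eq {x : AdicCompletion I R} {r : R}
    (h : AdicCompletion.evalOneₐ I x = Ideal.Quotient.mk I r) :
    IsUnit x ↔ IsUnit (Ideal.Quotient.mk I r) := by rw [isUnit_iff, h]

theorem isLocalRing [IsLocalRing R] (hI : I ≠ ⊤) : IsLocalRing (AdicCompletion I R) := by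
  haveI : Nontrivial (R ⧸ I) := Ideal.Quotient.nontrivial_iff.mpr hI
  haveI : IsLocalRing (R ⧸ I) := IsLocalRing.of_surjective' (Ideal.Quotient.mk I) Ideal.Quotient.mk_surjective
  haveI : Nontrivial (AdicCompletion I R) := (AdicCompletion.evalOneₐ I).toRingHom.domain_nontrivial
  refine IsLocalRing.of_isUnit_or_isUnit_one_sub_self fun x => ?_
  rw [isUnit_iff, isUnit_iff, map_sub, map_one]
  exact IsLocalRing.isUnit_or_isUnit_one_sub_self _

end units

section map

variable {S T U : Type u} [CommRing S] [CommRing T] [CommRing U] (I : Ideal S) (K : Ideal T)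
  (L : Ideal U) (g : S →+* T) (h : I.map g ≤ K)

theorem evalₐ_complMap (n : ℕ) (x : AdicCompletion I S) :
    AdicCompletion.evalₐ K n (FSch.complMap I K g h x) =
      Ideal.quotientMap (K ^ n) g (FSch.pow_le_comap_pow_of_map_le I K g h n)
        (AdicCompletion.evalₐ I n x) := by
  unfold FSch.complMap
  refine (AdicCompletion.factor_eval_eq_evalₐ _ _ (le_of_eq (Ideal.mul_top _))).symm.trans ?_
  simp [AdicCompletion.liftRingHom, AdicCompletion.eval]

theorem complMap_algebraMap (s : S) :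
    FSch.complMap I K g h (algebraMap S (AdicCompletion I S) s) =
      algebraMap T (AdicCompletion K T) (g s) := by
  refine AdicCompletion.ext_evalₐ fun n => ?_
  rw [evalₐ_complMap, CompletionQuot.evalₐ_algebraMap, CompletionQuot.evalₐ_algebraMap,
    Ideal.quotientMap_mk]

theorem evalOneₐ_complMap {x : AdicCompletion I S} {s : S}
    (hx : AdicCompletion.evalOneₐ I x = Ideal.Quotient.mk I s) :
    AdicCompletion.evalOneₐ K (FSch.complMap I K g h x) = Ideal.Quotient.mk K (g s) := by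
  obtain ⟨r, hr⟩ := Ideal.Quotient.mk_surjective (AdicCompletion.evalₐ I 1 x)
  rw [← AdicCompletion.factorₐ_evalₐ_one, ← hr, Ideal.Quotient.factor_mk, Ideal.Quotient.eq] at hx
  rw [← AdicCompletion.factorₐ_evalₐ_one, evalₐ_complMap, ← hr, Ideal.quotientMap_mk,
    Ideal.Quotient.factor_mk, Ideal.Quotient.eq, ← map_sub]
  exact h (Ideal.mem_map_of_mem g hx)

theorem complMap_complMap (g' : T →+* U) (h' : K.map g' ≤ L) (g'' : S →+* U)
    (h'' : I.map g'' ≤ L) (hg : g'.comp g = g'') (x : AdicCompletion I S) :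
    FSch.complMap K L g' h' (FSch.complMap I K g h x) = FSch.complMap I L g'' h'' x := by
  subst hg
  refine AdicCompletion.ext_evalₐ fun n => ?_
  obtain ⟨r, hr⟩ := Ideal.Quotient.mk_surjective (AdicCompletion.evalₐ I n x)
  rw [evalₐ_complMap, evalₐ_complMap, evalₐ_complMap, ← hr, Ideal.quotientMap_mk,
    Ideal.quotientMap_mk, Ideal.quotientMap_mk]
  rfl

end map

section stalk

variable (A : Type u) [CommRing A] (J 𝔭 : Ideal A) [𝔭.IsPrime]

theorem awayToAtPrime_comp (f : A) (hf : f ∉ 𝔭) :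
    (FSch.awayToAtPrime A 𝔭 f hf).comp (algebraMap A (Localization.Away f)) =
      algebraMap A (Localization.AtPrime 𝔭) :=
  RingHom.ext fun a => by simp [FSch.awayToAtPrime]

/-- `A_f → A_g` when `f` becomes a unit in `A_g`. -/
theorem exists_transition (f g : A) (hf : f ∉ 𝔭) (hg : g ∉ 𝔭) (hfg : f ∣ g) :
    ∃ τ : FSch.cAway A J f →+* FSch.cAway A J g,
      (FSch.cAwayToAtPrime A J 𝔭 g hg).comp τ = FSch.cAwayToAtPrime A J 𝔭 f hf ∧
      (∀ a : A, τ (algebraMap (Localization.Away f) _ (algebraMap A _ a)) =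
        algebraMap (Localization.Away g) _ (algebraMap A _ a)) ∧
      ∀ z, AdicCompletion.evalOneₐ _ z = 0 → AdicCompletion.evalOneₐ _ (τ z) = 0 := by
  have hu : IsUnit (algebraMap A (Localization.Away g) f) :=
    isUnit_of_dvd_unit (map_dvd _ hfg) (IsLocalization.Away.algebraMap_isUnit g)
  let t : Localization.Away f →+* Localization.Away g := IsLocalization.Away.lift f hu
  have ht : t.comp (algebraMap A (Localization.Away f)) = algebraMap A (Localization.Away g) :=
    RingHom.ext fun a => by simp [t]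
  have hle : (J.map (algebraMap A (Localization.Away f))).map t ≤
      J.map (algebraMap A (Localization.Away g)) := by rw [Ideal.map_map, ht]
  refine ⟨FSch.complMap _ _ t hle, RingHom.ext fun x => ?_, fun a => ?_, fun z hz => ?_⟩
  · refine complMap_complMap _ _ _ t hle _ (FSch.map_awayToAtPrime_le A J 𝔭 g hg) _ (FSch.map_awayToAtPrime_le A J 𝔭 f hf) ?_ x
    refine IsLocalization.ringHom_ext (Submonoid.powers f) ?_
    rw [RingHom.comp_assoc, ht, awayToAtPrime_comp, awayToAtPrime_comp]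
  · rw [complMap_algebraMap]
    exact congrArg _ (RingHom.congr_fun ht a)
  · rw [evalOneₐ_complMap _ _ t hle (s := 0) (by rw [hz, map_zero]), map_zero, map_zero]

theorem mem_stalkSubring_iff {x : FSch.cAtPrime A J 𝔭} :
    x ∈ FSch.stalkSubring A J 𝔭 ↔
      ∃ (f : A) (hf : f ∉ 𝔭) (y : FSch.cAway A J f), FSch.cAwayToAtPrime A J 𝔭 f hf y = x := by
  haveI : Nonempty {f : A // f ∉ 𝔭} := ⟨⟨1, fun h => Ideal.IsPrime.ne_top' ((Ideal.eq_top_iff_one _).mpr h)⟩⟩
  rw [FSch.stalkSubring, Subring.mem_iSup_of_directed]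
  · exact ⟨fun ⟨f, y, hy⟩ => ⟨f.1, f.2, y, hy⟩, fun ⟨f, hf, y, hy⟩ => ⟨⟨f, hf⟩, y, hy⟩⟩
  · intro f g
    have hfg : f.1 * g.1 ∉ 𝔭 := fun h => ((Ideal.IsPrime.mem_or_mem inferInstance h).elim f.2 g.2)
    refine ⟨⟨f.1 * g.1, hfg⟩, ?_, ?_⟩
    · rintro _ ⟨y, rfl⟩
      obtain ⟨τ, hτ, -, -⟩ := exists_transition A J 𝔭 f.1 _ f.2 hfg (dvd_mul_right _ _)
      exact ⟨τ y, RingHom.congr_fun hτ y⟩
    · rintro _ ⟨y, rfl⟩
      obtain ⟨τ, hτ, -, -⟩ := exists_transition A J 𝔭 g.1 _ g.2 hfg (dvd_mul_left _ _)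
      exact ⟨τ y, RingHom.congr_fun hτ y⟩

theorem algebraMap_mem_stalkSubring (a : A) :
    algebraMap (Localization.AtPrime 𝔭) (FSch.cAtPrime A J 𝔭) (algebraMap A _ a) ∈
      FSch.stalkSubring A J 𝔭 := by
  have h1 : (1 : A) ∉ 𝔭 := fun h => Ideal.IsPrime.ne_top' ((Ideal.eq_top_iff_one _).mpr h)
  refine (mem_stalkSubring_iff A J 𝔭).mpr
    ⟨1, h1, algebraMap (Localization.Away (1 : A)) _ (algebraMap A _ a), ?_⟩
  show FSch.complMap _ _ _ _ _ = _
  rw [complMap_algebraMap]
  exact congrArg _ (RingHom.congr_fun (awayToAtPrime_comp A 𝔭 1 h1) a)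

theorem map_ne_top (hJ : J ≤ 𝔭) : J.map (algebraMap A (Localization.AtPrime 𝔭)) ≠ ⊤ := by
  intro h
  have h2 : J.map (algebraMap A (Localization.AtPrime 𝔭)) ≤
      IsLocalRing.maximalIdeal (Localization.AtPrime 𝔭) := by
    rw [← Localization.AtPrime.map_eq_maximalIdeal]
    exact Ideal.map_mono hJ
  rw [h] at h2
  exact (IsLocalRing.maximalIdeal.isMaximal _).ne_top (top_le_iff.mp h2)

/-- An element of the stalk which is a unit in the completed local ring is a unit in the stalk. -/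
theorem isUnit_of_isUnit (hJ : J ≤ 𝔭) (x : FSch.stalkSubring A J 𝔭)
    (hx : IsUnit (x : FSch.cAtPrime A J 𝔭)) : IsUnit x := by
  obtain ⟨f, hf, y, hy⟩ := (mem_stalkSubring_iff A J 𝔭).mp x.2
  obtain ⟨r, hr⟩ := Ideal.Quotient.mk_surjective (AdicCompletion.evalOneₐ _ y)
  obtain ⟨k, a, hka⟩ := IsLocalization.Away.surj f r
  have hx1 := evalOneₐ_complMap _ _ (FSch.awayToAtPrime A 𝔭 f hf) (FSch.map_awayToAtPrime_le A J 𝔭 f hf) hr.symm
  rw [show FSch.complMap _ _ (FSch.awayToAtPrime A 𝔭 f hf) (FSch.map_awayToAtPrime_le A J 𝔭 f hf) y = x.1 from hy] at hx1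
  have hu := (isUnit_iff_of_evalOneₐ_eq _ hx1).mp hx
  have ha : a ∉ 𝔭 := by
    intro ha
    have h3 : FSch.awayToAtPrime A 𝔭 f hf r ∈ IsLocalRing.maximalIdeal (Localization.AtPrime 𝔭) := by
      have h4 : algebraMap A (Localization.AtPrime 𝔭) a ∈ IsLocalRing.maximalIdeal _ :=
        (IsLocalization.AtPrime.to_map_mem_maximal_iff _ 𝔭 a).mpr ha
      rw [← awayToAtPrime_comp A 𝔭 f hf, RingHom.comp_apply, ← hka, map_mul] at h4
      refine (Ideal.mul_unit_mem_iff_mem _ ?_).mp h4
      exact (((IsLocalization.Away.algebraMap_isUnit (S := Localization.Away f) f).pow k)).map _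
    obtain ⟨q, hq⟩ := isUnit_iff_exists_inv.mp hu
    obtain ⟨c, rfl⟩ := Ideal.Quotient.mk_surjective q
    have hq' : FSch.awayToAtPrime A 𝔭 f hf r * c - 1 ∈ J.map (algebraMap A (Localization.AtPrime 𝔭)) :=
      Ideal.Quotient.eq.mp (by rw [map_mul, map_one]; exact hq)
    have h5 : J.map (algebraMap A (Localization.AtPrime 𝔭)) ≤ IsLocalRing.maximalIdeal _ :=
      IsLocalRing.le_maximalIdeal (map_ne_top A J 𝔭 hJ)
    refine (IsLocalRing.maximalIdeal.isMaximal (Localization.AtPrime 𝔭)).ne_top ((Ideal.eq_top_iff_one (IsLocalRing.maximalIdeal (Localization.AtPrime 𝔭))).mpr ?_)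
    have := sub_mem (Ideal.mul_mem_right c _ h3) (h5 hq')
    rwa [sub_sub_cancel] at this
  have hfa : f * a ∉ 𝔭 := fun h => ((Ideal.IsPrime.mem_or_mem inferInstance h).elim hf ha)
  obtain ⟨τ, hτ, hτa, hτz⟩ := exists_transition A J 𝔭 f _ hf hfa (dvd_mul_right _ _)
  have huy : IsUnit (τ y) := by
    have h6 : IsUnit (τ (y * algebraMap (Localization.Away f) _ (algebraMap A _ f ^ k))) := by
      rw [isUnit_iff]
      have h7 : AdicCompletion.evalOneₐ _ (y * algebraMap (Localization.Away f) _ (algebraMap A _ f ^ k))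
          = AdicCompletion.evalOneₐ (J.map (algebraMap A (Localization.Away f)))
            (algebraMap (Localization.Away f) _ (algebraMap A _ a)) := by
        rw [map_mul, ← hr, evalOneₐ_algebraMap, evalOneₐ_algebraMap, ← map_mul, hka]
      have h8 : IsUnit (AdicCompletion.evalOneₐ _ (τ (algebraMap (Localization.Away f) _ (algebraMap A _ a)))) := by
        rw [hτa, evalOneₐ_algebraMap]
        exact (isUnit_of_dvd_unit (map_dvd _ (dvd_mul_left a f))
          (IsLocalization.Away.algebraMap_isUnit (f * a))).map _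
      have h9 : AdicCompletion.evalOneₐ (J.map (algebraMap A (Localization.Away (f * a))))
          (τ (y * algebraMap (Localization.Away f) _ (algebraMap A _ f ^ k) -
            algebraMap (Localization.Away f) _ (algebraMap A _ a))) = 0 := by
        apply hτz
        rw [map_sub, h7, sub_self]
      rw [map_sub, map_sub, sub_eq_zero] at h9
      rw [h9]
      exact h8
    rw [map_mul] at h6
    exact isUnit_of_mul_isUnit_left h6
  obtain ⟨w, hw⟩ := huy
  refine IsUnit.of_mul_eq_one ⟨FSch.cAwayToAtPrime A J 𝔭 _ hfa ↑w⁻¹,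
    (mem_stalkSubring_iff A J 𝔭).mpr ⟨_, hfa, _, rfl⟩⟩ (Subtype.ext ?_)
  show (x : FSch.cAtPrime A J 𝔭) * FSch.cAwayToAtPrime A J 𝔭 _ hfa ↑w⁻¹ = 1
  rw [← hy, ← RingHom.congr_fun hτ y, RingHom.comp_apply, ← map_mul, ← hw, Units.mul_inv, map_one]

end stalk

end Groth.AdicLinTop.CompletionMap
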