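import Mathlib.RingTheory.AdicCompletion.Algebra
import Mathlib.RingTheory.Ideal.Operations
import Mathlib.RingTheory.LocalRing.MaximalIdeal.Basic
import Mathlib.RingTheory.KrullDimension.Basic
import Mathlib.RingTheory.Valuation.ValuationRing

/-!
Torsion in adic completions with respect to a principal ideal; height one valuation rings.
-/

open Pointwise

universe u v

namespace Groth.AdicLinTop.CompletionTorsion

variable {P : Type u} [CommRing P] {M : Type v} [AddCommGroup M] [Module P M] {t : P}

theorem eq_zero_of_smul_eq_zero (ht : ∀ m : M, t • m = 0 → m = 0)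
    (x : AdicCompletion (Ideal.span {t}) M) (hx : t • x = 0) : x = 0 := by
  refine AdicCompletion.ext fun n => ?_
  obtain ⟨p, hp⟩ := Submodule.mkQ_surjective _ (x.val (n + 1))
  have h1 : t • p ∈ (Ideal.span {t}) ^ (n + 1) • (⊤ : Submodule P M) := by
    rw [← Submodule.Quotient.mk_eq_zero]
    have h := congrArg (fun y : AdicCompletion (Ideal.span {t}) M => y.val (n + 1)) hx
    simp only [AdicCompletion.val_smul_apply, ← hp] at h
    exact h
  rw [Ideal.span_singleton_pow, Submodule.ideal_span_singleton_smul,
    Submodule.mem_smul_pointwise_iff_exists] at h1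
  obtain ⟨q, -, hq⟩ := h1
  have h2 : p = t ^ n • q := by
    refine sub_eq_zero.mp (ht _ ?_)
    rw [smul_sub, smul_smul, ← pow_succ', hq, sub_self]
  rw [← AdicCompletion.transitionMap_comp_eval_apply _ _ (Nat.le_succ n) x, ← hp]
  show Submodule.Quotient.mk p = _
  rw [AdicCompletion.val_zero_apply, Submodule.Quotient.mk_eq_zero, h2, Ideal.span_singleton_pow]
  exact Submodule.smul_mem_smul (Ideal.mem_span_singleton_self _) Submodule.mem_top

/-- In a local domain of dimension at most one, powers of a nonunit lie in every nonzero ideal. -/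
theorem exists_dvd_pow {R : Type u} [CommRing R] [IsDomain R] [IsLocalRing R]
    [Ring.KrullDimLE 1 R] {t : R} (ht : t ∈ IsLocalRing.maximalIdeal R) {r : R} (hr : r ≠ 0) :
    ∃ m, r ∣ t ^ m := by
  have h : t ∈ (Ideal.span {r}).radical := by
    rw [Ideal.radical_eq_sInf, Ideal.mem_sInf]
    intro P hP
    obtain ⟨hle, hprime⟩ := hP
    haveI := hprime
    have hne : P ≠ ⊥ := fun h0 => hr (by simpa [h0] using hle (Ideal.mem_span_singleton_self r))
    haveI hmax : P.IsMaximal := hprime.isMaximal_of_ne_bot hne
    rwa [IsLocalRing.eq_maximalIdeal hmax]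
  obtain ⟨m, hm⟩ := h
  exact ⟨m, Ideal.mem_span_singleton.mp hm⟩

end Groth.AdicLinTop.CompletionTorsion
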