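import Mathlib.CategoryTheory.Limits.Constructions.Filtered
import Mathlib.CategoryTheory.Limits.Preserves.Shapes.Products
import Mathlib.CategoryTheory.Limits.Preserves.Filtered
import Mathlib.CategoryTheory.Limits.Shapes.FiniteProducts

/-!
# Coproducts from finite coproducts and filtered colimits

A functor preserving finite coproducts and small filtered colimits preserves small coproducts.
-/

set_option autoImplicit false

universe v v' u u'

open CategoryTheory CategoryTheory.Limits CategoryTheory.Limits.CoproductsFromFiniteFiltered

set_option backward.defeqAttrib.useBackward true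
set_option backward.isDefEq.respectTransparency false
set_option backward.isDefEq.respectTransparency.types false

namespace Groth.AdicLinTop.CoprodFiltered

variable {C : Type u} [Category.{v} C] [HasFiniteCoproducts C] {D : Type u'} [Category.{v'} D]
  [HasFiniteCoproducts D] (G : C ⥤ D) [PreservesFiniteCoproducts G] {T : Type v}
  [HasCoproducts.{v} C] [HasColimitsOfShape (Finset (Discrete T)) C]
  [PreservesColimitsOfShape (Finset (Discrete T)) G]

/-- A functor preserving finite coproducts and filtered colimits preserves coproducts. -/
theorem preservesColimitsOfShape : PreservesColimitsOfShape (Discrete T) G where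
  preservesColimit {F} := by
    classical
    let f : T → C := F.obj ∘ Discrete.mk
    haveI : PreservesColimit (Discrete.functor f) G := by
      refine preservesColimit_of_preserves_colimit_cocone (coproductIsCoproduct f)
        ((Cofan.isColimitMapCoconeEquiv _ _ _).symm ?_)
      let L := liftToFinsetObj (Discrete.functor f)
      let hc := isColimitOfPreserves G (isColimitFiniteSubproductsCocone f)
      let e : ∀ S : Finset (Discrete T),
          (∐ fun x : S => G.obj ((Discrete.functor f).obj x.1)) ⟶ G.obj (L.obj S) :=
        fun S => sigmaComparison G fun x : S => (Discrete.functor f).obj x.1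
      haveI : ∀ S : Finset (Discrete T), IsIso (e S) := fun S => by dsimp only [e, L]; infer_instance
      have he : ∀ (S : Finset (Discrete T)) (x : S),
          Sigma.ι (fun x : S => G.obj ((Discrete.functor f).obj x.1)) x ≫ e S =
            G.map (Sigma.ι (fun x : S => (Discrete.functor f).obj x.1) x) :=
        fun S x => ι_comp_sigmaComparison G _ x
      let d : ∀ (s : Cofan fun t => G.obj (f t)) (S : Finset (Discrete T)), G.obj (L.obj S) ⟶ s.pt :=
        fun s S => inv (e S) ≫ Sigma.desc fun x : S => s.inj x.1.as
      have hd : ∀ (s : Cofan fun t => G.obj (f t)) (S : Finset (Discrete T)) (x : S),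
          G.map (Sigma.ι (fun x : S => (Discrete.functor f).obj x.1) x) ≫ d s S = s.inj x.1.as :=
        fun s S x => by
          rw [← he]
          simp [d]
      let K : ∀ s : Cofan fun t => G.obj (f t), Cocone (L ⋙ G) := fun s =>
        { pt := s.pt
          ι :=
            { app := d s
              naturality := fun S S' h => by
                rw [← cancel_epi (e S)]
                refine Sigma.hom_ext _ _ fun x => ?_
                simp only [Functor.comp_map, Functor.const_obj_map, Category.comp_id]
                rw [reassoc_of% (he S x), reassoc_of% (he S x), ← G.map_comp_assoc]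
                refine Eq.trans ?_ (Eq.trans (hd s S x).symm (congrArg _ (Category.comp_id _).symm))
                refine Eq.trans (congrArg (fun k => G.map k ≫ d s S') ?_) (hd s S' ⟨x.1, h.down.down x.2⟩)
                exact Sigma.ι_desc _ _ } }
      refine Cofan.IsColimit.mk _ (fun s => hc.desc (K s)) (fun s t => ?_) (fun s m hm => ?_)
      · let x : ({⟨t⟩} : Finset (Discrete T)) := ⟨⟨t⟩, by simp⟩
        have h := hc.fac (K s) {⟨t⟩}
        show G.map (Sigma.ι f t) ≫ hc.desc (K s) = s.inj t
        have hι : Sigma.ι (fun x : ({⟨t⟩} : Finset (Discrete T)) => (Discrete.functor f).obj x.1) x ≫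
            (finiteSubcoproductsCocone f).ι.app {⟨t⟩} = Sigma.ι f t :=
          Sigma.ι_desc (fun x : ({⟨t⟩} : Finset (Discrete T)) => Sigma.ι f x.1.as) x
        rw [← hι, G.map_comp, Category.assoc]
        erw [h]
        exact hd s _ x
      · refine hc.uniq (K s) m fun S => ?_
        rw [← cancel_epi (e S)]
        refine Sigma.hom_ext _ _ fun x => ?_
        show Sigma.ι _ x ≫ e S ≫ G.map _ ≫ m = Sigma.ι _ x ≫ e S ≫ d s S
        rw [reassoc_of% (he S x), reassoc_of% (he S x), ← G.map_comp_assoc, hd s S x]
        refine Eq.trans ?_ (hm x.1.as)
        exact congrArg (fun k => G.map k ≫ m) (Sigma.ι_desc _ _)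
    exact preservesColimit_of_iso_diagram G (Discrete.natIsoFunctor (F := F)).symm

end Groth.AdicLinTop.CoprodFiltered
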