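import Groth.Agent.AdicLinTop.CoprodFiltered
import Groth.Agent.AdicLinTop.RpushVanish
import Groth.Agent.SiteCohomology.RpushColimit
import Groth.Agent.FlatMor2.ColimCoh.Space
import Groth.Agent.QCohMod.Stalk

/-!
# Direct images of direct sums from Noetherian spaces

On a Noetherian space cohomology commutes with direct sums; direct images of sheaves of modules commute with
direct sums and direct sums of injective modules have no higher direct images.
-/

set_option autoImplicit false

universe u

open CategoryTheory CategoryTheory.Limits TopologicalSpace Opposite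

set_option backward.defeqAttrib.useBackward true
set_option backward.isDefEq.respectTransparency false
set_option backward.isDefEq.respectTransparency.types false
set_option synthInstance.maxHeartbeats 400000

namespace Groth.AdicLinTop.CoprodPush

open Groth.SitesTopoi.ModH

variable {X Y : TopCat.{u}} [PrespectralSpace X] [NoetherianSpace X]

instance additive_HFun (U : Opens X) (p : ℕ) :
    ((Sheaf.cohomologyPresheafFunctor (Opens.grothendieckTopology X) p).flip.obj (op U) :
      CohTop.Ab X ⥤ AddCommGrpCat.{u}).Additive where
  map_add {F G φ ψ} := by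
    ext x
    refine (congrArg (fun e => Abelian.Ext.comp x e (add_zero p)) (Abelian.Ext.mk₀_add φ ψ)).trans ?_
    exact Abelian.Ext.comp_add _ _ _ _

/-- Cohomology commutes with direct sums on a Noetherian space. -/
theorem preservesCoproducts_HFun (U : Opens X) (p : ℕ) (T : Type u) :
    PreservesColimitsOfShape (Discrete T)
      ((Sheaf.cohomologyPresheafFunctor (Opens.grothendieckTopology X) p).flip.obj (op U) :
        CohTop.Ab X ⥤ AddCommGrpCat.{u}) := by
  haveI : PreservesColimitsOfShape (Finset (Discrete T))
      ((Sheaf.cohomologyPresheafFunctor (Opens.grothendieckTopology X) p).flip.obj (op U) :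
        CohTop.Ab X ⥤ AddCommGrpCat.{u}) :=
    ⟨fun {F} => Groth.FlatMor2.ColimCoh.preservesColimit_HU_space X U (NoetherianSpace.isCompact _)
      (fun _ _ _ _ _ _ _ _ => NoetherianSpace.isCompact _) p F⟩
  exact CoprodFiltered.preservesColimitsOfShape _

/-- Direct sums of sheaves without cohomology have no cohomology. -/
theorem subsingleton_HU_coproduct {T : Type u} (F : T → CohTop.Ab X) (U : Opens X) (p : ℕ)
    (h : ∀ t, Subsingleton (CohTop.HU (F t) p U)) {c : Cofan F} (hc : IsColimit c) :
    Subsingleton (CohTop.HU c.pt p U) := by
  haveI := preservesCoproducts_HFun U p T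
  let H : CohTop.Ab X ⥤ AddCommGrpCat.{u} :=
    (Sheaf.cohomologyPresheafFunctor (Opens.grothendieckTopology X) p).flip.obj (op U)
  have hz : IsZero (H.obj c.pt) := by
    rw [IsZero.iff_id_eq_zero]
    refine (isColimitOfPreserves H hc).hom_ext fun t => ?_
    haveI : Subsingleton ↑((Discrete.functor F ⋙ H).obj t) := h t.as
    exact (AddCommGrpCat.isZero_of_subsingleton _).eq_of_src _ _
  exact AddCommGrpCat.subsingleton_of_isZero hz

variable (b : X ⟶ Y)

/-- Direct image commutes with filtered colimits from a Noetherian space. -/
theorem preservesFiltered_push {I : Type u} [SmallCategory I] [IsFiltered I] :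
    PreservesColimitsOfShape I (CohTop.push b) := by
  haveI := RpushVanish.preservesFiniteLimits_pushTop b
  haveI : PreservesColimitsOfShape I ((CohTop.push b).rightDerived 0) := ⟨fun {F} =>
    Groth.SiteCohomology.preservesColimit_Rpush (Opens.grothendieckTopology Y) (Opens.grothendieckTopology X)
      (Opens.map b) F 0 fun V =>
      ⟨PUnit.{u + 1}, fun _ => V, fun _ => 𝟙 V,
        by
          rw [show Sieve.ofArrows (fun _ : PUnit.{u + 1} => V) (fun _ => 𝟙 V) = ⊤ from
            Sieve.id_mem_iff_eq_top.1 (Sieve.ofArrows_mk _ _ PUnit.unit)]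
          exact GrothendieckTopology.top_mem _ _,
        fun _ => Groth.FlatMor2.ColimCoh.preservesColimit_HU_space X _ (NoetherianSpace.isCompact _)
          (fun _ _ _ _ _ _ _ _ => NoetherianSpace.isCompact _) 0 F⟩⟩
  exact preservesColimitsOfShape_of_natIso (CohTop.push b).rightDerivedZeroIsoSelf

/-- Direct image of abelian sheaves commutes with direct sums from a Noetherian space. -/
theorem preservesCoproducts_push (T : Type u) : PreservesColimitsOfShape (Discrete T) (CohTop.push b) := by
  haveI := preservesFiltered_push b (I := Finset (Discrete T))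
  exact CoprodFiltered.preservesColimitsOfShape _

section Mod

variable {O' : Sheaf (Opens.grothendieckTopology X) CommRingCat.{u}}
  {O : Sheaf (Opens.grothendieckTopology Y) CommRingCat.{u}}
  (P : ModSite.Mod O' ⥤ ModSite.Mod O) [P.Additive]
  (e : P ⋙ SheafOfModules.toSheaf.{u} (ModSite.ringSh O) ≅
    SheafOfModules.toSheaf.{u} (ModSite.ringSh O') ⋙ CohTop.push b)

include e in
/-- Direct image of modules commutes with direct sums from a Noetherian space. -/
theorem preservesCoproducts (T : Type u) : PreservesColimitsOfShape (Discrete T) P := by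
  haveI := preservesCoproducts_push b T
  haveI := Groth.QCohMod.preservesColimitsOfShape_toSheaf (ModSite.ringSh O) (Discrete T)
  haveI := Groth.QCohMod.preservesColimitsOfShape_toSheaf (ModSite.ringSh O') (Discrete T)
  haveI : PreservesColimitsOfShape (Discrete T) (P ⋙ SheafOfModules.toSheaf.{u} (ModSite.ringSh O)) :=
    preservesColimitsOfShape_of_natIso e.symm
  haveI : ReflectsColimitsOfShape (Discrete T) (SheafOfModules.toSheaf.{u} (ModSite.ringSh O)) :=
    reflectsColimitsOfShape_of_reflectsIsomorphisms
  exact preservesColimitsOfShape_of_reflects_of_preserves P (SheafOfModules.toSheaf.{u} (ModSite.ringSh O))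

include e in
/-- Direct sums of injective modules have no higher direct images. -/
theorem isZero_rightDerived_coproduct [HasInjectiveResolutions (ModSite.Mod O')] {T : Type u}
    (I : T → ModSite.Mod O') (hI : ∀ t, Injective (I t)) {c : Cofan I} (hc : IsColimit c) (q : ℕ) :
    IsZero ((P.rightDerived (q + 1)).obj c.pt) := by
  refine RpushVanish.isZero_rightDerived_push b P e c.pt q fun V y hy => ⟨V, le_rfl, hy, ?_⟩
  haveI := Groth.QCohMod.preservesColimitsOfShape_toSheaf (ModSite.ringSh O') (Discrete T)
  refine subsingleton_HU_coproduct (fun t => ModSite.toAb (I t)) _ _ (fun t => ?_)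
    (Cofan.isColimitMapCoconeEquiv _ _ _ (isColimitOfPreserves (SheafOfModules.toSheaf.{u} (ModSite.ringSh O')) hc))
  have := hI t
  exact Groth.SiteCohomology.subsingleton_HU_of_totallyAcyclic _ _
    (Groth.Misc7.SitePush.isTotallyAcyclic_toSheaf (ModSite.ringSh O') (I t)) _ q

end Mod

end Groth.AdicLinTop.CoprodPush
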