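import Groth.Agent.Misc4.QCoprod
import Mathlib.CategoryTheory.Abelian.GrothendieckAxioms.Basic
import Mathlib.Algebra.Homology.DerivedCategory.HomologySequence

/-!
# Cohomology objects of direct sums in derived categories

In a Grothendieck abelian category the cohomology functors of the derived category preserve small coproducts.
-/

set_option autoImplicit false

universe w v u

open CategoryTheory CategoryTheory.Limits

set_option backward.defeqAttrib.useBackward true
set_option backward.isDefEq.respectTransparency false
set_option backward.isDefEq.respectTransparency.types false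

namespace Groth.AdicLinTop.HomologyCoprod

variable {A : Type u} [Category.{v} A] [Abelian A] [IsGrothendieckAbelian.{v} A]

local notation "up" => ComplexShape.up ℤ

/-- A family of complexes as a complex of families. -/
noncomputable def famCx {ι : Type v} (C : ι → CochainComplex A ℤ) :
    CochainComplex (Discrete ι ⥤ A) ℤ where
  X n := Discrete.functor fun i => (C i).X n
  d n m := Discrete.natTrans fun i => (C i.as).d n m
  shape n m h := by ext i; exact (C i.as).shape n m h
  d_comp_d' n m k _ _ := by ext i; exact (C i.as).d_comp_d n m k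

/-- The homology of a coproduct of complexes is the coproduct of their homologies. -/
theorem nonempty_isColimit_homology {ι : Type v} (C : ι → CochainComplex A ℤ) (n : ℤ) :
    Nonempty (IsColimit (Cofan.mk ((∐ C).homology n)
      fun i => HomologicalComplex.homologyMap (Sigma.ι C i) n)) := by
  haveI : HasExactColimitsOfShape (Discrete ι) A := inferInstance
  let K := famCx C
  let c : ∀ m, (∐ C).X m ≅ colimit (K.X m) := fun m =>
    (isColimitOfPreserves (HomologicalComplex.eval A up m)
      (colimit.isColimit (Discrete.functor C))).coconePointsIsoOfNatIso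
      (colimit.isColimit _) (Discrete.natIso fun i => Iso.refl _)
  have hc : ∀ m i, (Sigma.ι C i).f m ≫ (c m).hom = colimit.ι (K.X m) ⟨i⟩ := fun m i =>
    (IsColimit.comp_coconePointsIsoOfNatIso_hom
      (isColimitOfPreserves (HomologicalComplex.eval A up m) (colimit.isColimit (Discrete.functor C)))
      (colimit.isColimit (K.X m)) (Discrete.natIso fun i => Iso.refl _) ⟨i⟩).trans (Category.id_comp _)
  have hd : ∀ p q, (c p).hom ≫ colimMap (K.d p q) = (∐ C).d p q ≫ (c q).hom := fun p q => by
    refine (isColimitOfPreserves (HomologicalComplex.eval A up p)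
      (colimit.isColimit (Discrete.functor C))).hom_ext fun ⟨i⟩ => ?_
    change (Sigma.ι C i).f p ≫ _ = (Sigma.ι C i).f p ≫ _
    rw [reassoc_of% (hc p i), ← Category.assoc ((Sigma.ι C i).f p), (Sigma.ι C i).comm, Category.assoc, hc]
    exact ι_colimMap (K.d p q) ⟨i⟩
  let χ : (∐ C).sc n ≅ (K.sc n).map colim := ShortComplex.isoMk (c _) (c _) (c _) (hd _ _) (hd _ _)
  let σ : (∐ C).homology n ≅ colimit (K.homology n) :=
    ShortComplex.homologyMapIso χ ≪≫ (K.sc n).mapHomologyIso colim
  let θ : ∀ i, (C i).sc n ≅ (K.sc n).map ((evaluation (Discrete ι) A).obj ⟨i⟩) := fun i =>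
    ShortComplex.isoMk (Iso.refl _) (Iso.refl _) (Iso.refl _)
      ((Category.id_comp _).trans (Category.comp_id _).symm)
      ((Category.id_comp _).trans (Category.comp_id _).symm)
  let e : ∀ i, (C i).homology n ≅ (K.homology n).obj ⟨i⟩ := fun i =>
    ShortComplex.homologyMapIso (θ i) ≪≫ (K.sc n).mapHomologyIso ((evaluation (Discrete ι) A).obj ⟨i⟩)
  have hσ : ∀ i, HomologicalComplex.homologyMap (Sigma.ι C i) n ≫ σ.hom =
      (e i).hom ≫ colimit.ι (K.homology n) ⟨i⟩ := fun i => by
    have h : (HomologicalComplex.shortComplexFunctor A up n).map (Sigma.ι C i) ≫ χ.hom =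
        (θ i).hom ≫ (K.sc n).mapNatTrans (colim.ι (C := A) (⟨i⟩ : Discrete ι)) := by
      ext
      · exact (hc _ i).trans (Category.id_comp _).symm
      · exact (hc _ i).trans (Category.id_comp _).symm
      · exact (hc _ i).trans (Category.id_comp _).symm
    show ShortComplex.homologyMap ((HomologicalComplex.shortComplexFunctor A up n).map (Sigma.ι C i)) ≫
      ShortComplex.homologyMap χ.hom ≫ _ = (ShortComplex.homologyMap (θ i).hom ≫ _) ≫ _
    rw [← Category.assoc, ← ShortComplex.homologyMap_comp, h, ShortComplex.homologyMap_comp,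
      ShortComplex.homologyMap_mapNatTrans]
    simp only [Category.assoc]
    erw [Iso.inv_hom_id, Category.comp_id]
    rfl
  let d : ∀ (X : A) (f : ∀ i, (C i).homology n ⟶ X), (∐ C).homology n ⟶ X := fun X f =>
    σ.hom ≫ colimit.desc _ (Cocone.mk X (Discrete.natTrans fun ⟨i⟩ => (e i).inv ≫ f i))
  refine ⟨Cofan.IsColimit.mk _ (fun s => d s.pt s.inj) (fun s i => ?_) (fun s m hm => ?_)⟩
  · show HomologicalComplex.homologyMap (Sigma.ι C i) n ≫ d s.pt s.inj = s.inj i
    simp only [d]
    rw [reassoc_of% (hσ i), colimit.ι_desc]
    simp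
  · rw [← cancel_epi σ.inv]
    refine colimit.hom_ext fun ⟨i⟩ => ?_
    simp only [d, Iso.inv_hom_id_assoc, colimit.ι_desc, Discrete.natTrans_app]
    rw [← cancel_epi (e i).hom, ← reassoc_of% (hσ i), Iso.hom_inv_id_assoc, Iso.hom_inv_id_assoc]
    exact hm i

variable [HasDerivedCategory.{w} A]

/-- The cohomology functors of the derived category preserve small coproducts. -/
theorem preservesColimitsOfShape_homologyFunctor (T : Type v) (n : ℤ) :
    PreservesColimitsOfShape (Discrete T) (DerivedCategory.homologyFunctor A n) where
  preservesColimit {F} := by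
    let C : T → CochainComplex A ℤ := fun t => DerivedCategory.Q.objPreimage (F.obj ⟨t⟩)
    haveI : PreservesColimit (Discrete.functor (fun t => DerivedCategory.Q.obj (C t)))
        (DerivedCategory.homologyFunctor A n) := by
      obtain ⟨hQ⟩ := Groth.Misc4.QCoprod.nonempty_isColimit C
      obtain ⟨hH⟩ := nonempty_isColimit_homology C n
      refine preservesColimit_of_preserves_colimit_cocone hQ
        ((Cofan.isColimitMapCoconeEquiv _ _ _).symm ?_)
      let f := DerivedCategory.homologyFunctorFactors A n
      refine Cofan.IsColimit.mk _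
        (fun s => f.hom.app _ ≫ Cofan.IsColimit.desc hH fun t => f.inv.app (C t) ≫ s.inj t)
        (fun s t => ?_) (fun s m hm => ?_)
      · show (DerivedCategory.homologyFunctor A n).map (DerivedCategory.Q.map (Sigma.ι C t)) ≫ f.hom.app _ ≫ _ = _
        have e := f.hom.naturality (Sigma.ι C t)
        simp only [Functor.comp_map] at e
        rw [reassoc_of% e]
        erw [Cofan.IsColimit.fac hH]
        simp
      · rw [← cancel_epi (f.inv.app _), Iso.inv_hom_id_app_assoc]
        refine Cofan.IsColimit.hom_ext hH _ _ fun t => ?_
        erw [Cofan.IsColimit.fac hH]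
        have e := f.inv.naturality (Sigma.ι C t)
        simp only [Functor.comp_map] at e
        show HomologicalComplex.homologyMap (Sigma.ι C t) n ≫ _ = _
        erw [reassoc_of% e]
        exact congrArg _ (hm t)
    exact preservesColimit_of_iso_diagram _
      (Discrete.natIso fun ⟨t⟩ => DerivedCategory.Q.objObjPreimageIso (F.obj ⟨t⟩) :
        Discrete.functor (fun t => DerivedCategory.Q.obj (C t)) ≅ F)

end Groth.AdicLinTop.HomologyCoprod
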