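import Groth.Agent.AdicLinTop.CoprodRF
import Groth.Agent.AdicLinTop.CoprodPush
import Groth.Agent.AdicLinTop.CompactPushD
import Groth.Agent.AdicLinTop.HomologyCoprod
import Groth.Agent.Misc4.CdEquiv

/-!
# Unbounded direct images from Noetherian formal schemes commute with direct sums
-/

set_option autoImplicit false

universe u

open CategoryTheory CategoryTheory.Limits AlgebraicGeometry TopologicalSpace Opposite DerivedCategory

attribute [local instance] HasDerivedCategory.standard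

set_option backward.defeqAttrib.useBackward true
set_option backward.isDefEq.respectTransparency false
set_option backward.isDefEq.respectTransparency.types false
set_option synthInstance.maxHeartbeats 400000
set_option maxHeartbeats 1000000

namespace Groth.AdicLinTop.CoprodPushD

open Groth.AdicLinTop.AffineGens Groth.AdicLinTop.CompactPushD

/-- A functor preserving direct sums turns componentwise isomorphisms into isomorphisms. -/
theorem isIso_map_sigmaMap {D : Type*} [Category D] {D' : Type*} [Category D'] {ι : Type u}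
    (H : D ⥤ D') [PreservesColimitsOfShape (Discrete ι) H] {X Y : ι → D} [HasCoproduct X] [HasCoproduct Y]
    (φ : ∀ i, X i ⟶ Y i) [∀ i, IsIso (H.map (φ i))] : IsIso (H.map (Limits.Sigma.map φ)) := by
  have hX := isColimitMapCoconeCofanMkEquiv H _ _ (isColimitOfPreserves H (coproductIsCoproduct X))
  have hY := isColimitMapCoconeCofanMkEquiv H _ _ (isColimitOfPreserves H (coproductIsCoproduct Y))
  refine ⟨Cofan.IsColimit.desc hY fun i => inv (H.map (φ i)) ≫ H.map (Sigma.ι X i),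
    Cofan.IsColimit.hom_ext hX _ _ fun i => ?_, Cofan.IsColimit.hom_ext hY _ _ fun i => ?_⟩
  · show H.map (Sigma.ι X i) ≫ _ ≫ _ = H.map (Sigma.ι X i) ≫ _
    rw [← H.map_comp_assoc, Sigma.ι_map, H.map_comp_assoc, Category.comp_id]
    erw [Cofan.IsColimit.fac hY]
    rw [IsIso.hom_inv_id_assoc]
  · rw [← Category.assoc, Cofan.IsColimit.fac hY, Category.assoc, ← H.map_comp, Sigma.ι_map, H.map_comp,
      IsIso.inv_hom_id_assoc]
    exact (Category.comp_id _).symm

variable {𝔛 𝔜 : FSch.Sys.{u}} (h𝔛 : 𝔛.IsLocNoethFormal) [CompactSpace (𝔛.X 0)]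
  (h𝔜 : 𝔜.IsFormal) [CompactSpace (𝔜.X 0)] (f : 𝔛 ⟶ 𝔜)
  [SiteCmp.HasRpushD (FSch.homMor f h𝔛.1 h𝔜)]

/-- In each degree the direct image only sees a truncation. -/
theorem exists_trunc_bound :
    ∃ N : ℕ, ∀ (G : DerivedCategory (FSch.ModF 𝔛 h𝔛.1)), WSerre.cohIn (affGen h𝔛) G →
      ∀ (n : ℕ) (j : ℤ), (N : ℤ) - n ≤ j → IsIso ((homologyFunctor (FSch.ModF 𝔜 h𝔜) j).map
        ((SiteCmp.RpushD (FSch.homMor f h𝔛.1 h𝔜)).map (CohCx.toTruncTower G n))) := by
  haveI := h𝔛.2.2 0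
  obtain ⟨N, B', hB', hN⟩ := QcqsBound.exists_bound_preimage ((f : FSch.Hom 𝔛 𝔜).app 0)
  refine ⟨N, fun G hG n j hj => ?_⟩
  refine Misc4.RpushTrunc.isIso_homology_upstairs G (affGen h𝔛) (FSch.homMor f h𝔛.1 h𝔜)
    {V | IsAffineOpen V} B' (fun U => ?_) (fun V _ => ⟨0, fun T hT => ?_⟩)
    (fun U => ?_) (fun V _ => ⟨N, fun T hT => ?_⟩) N (fun F hF p hp => ?_) hG n j hj
  · obtain ⟨ι, Y, g, -, hY, hB⟩ := exists_affine_cover U ⊤ (GrothendieckTopology.top_mem _ _)
    exact ⟨ι, Y, g, hY, hB⟩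
  · obtain ⟨ι, Y, g, hg, hY, hB⟩ := exists_affine_cover V T hT
    refine ⟨ι, Y, g, hg, hY, fun i F hF k hk => ?_⟩
    obtain ⟨m, rfl⟩ := Nat.exists_eq_succ_of_ne_zero (by lia : k ≠ 0)
    exact affGen.hVanish hF m (hB i)
  · obtain ⟨ι, Y, g, -, hY, hB⟩ := exists_basis_cover hB' U ⊤ (GrothendieckTopology.top_mem _ _)
    exact ⟨ι, Y, g, hY, hB⟩
  · obtain ⟨ι, Y, j, hg, hY, hB⟩ := exists_basis_cover hB' V T hT
    exact ⟨ι, Y, j, hg, hY, fun i F hF k hk => hN _ (hB i) _ (affAcyclic hF) k hk⟩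
  · obtain ⟨m, rfl⟩ := Nat.exists_eq_succ_of_ne_zero (by lia : p ≠ 0)
    exact RpushVanish.isZero_rightDerived_push ((f : FSch.Hom 𝔛 𝔜).app 0).base (O' := 𝔛.Osh h𝔛.1)
      (O := 𝔜.Osh h𝔜) (FSch.pushF f h𝔛.1 h𝔜) (Iso.refl _) F m fun V y hy => by
        obtain ⟨W, hW, hWV, hyW⟩ := hB' V y hy
        exact ⟨W, hWV, hyW, hN W hW _ (affAcyclic hF) (m + 1) (by lia)⟩

omit [CompactSpace (𝔜.X 0)] in
/-- Direct images commute with direct sums of uniformly bounded below families. -/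
theorem preservesColimit_of_isGE {ι : Type u} (E : ι → DerivedCategory (FSch.ModF 𝔛 h𝔛.1)) (a : ℤ)
    (hE : ∀ i, (E i).IsGE a) :
    PreservesColimit (Discrete.functor E) (SiteCmp.RpushD (FSch.homMor f h𝔛.1 h𝔜)) := by
  haveI := h𝔛.2.2 0
  haveI : AlgebraicGeometry.IsNoetherian (𝔛.X 0) := AlgebraicGeometry.IsNoetherian.mk
  haveI : NoetherianSpace ↥(𝔛.X 0).carrier := inferInstance
  let φ := FSch.homMor f h𝔛.1 h𝔜
  haveI := RpushVanish.preservesFiniteLimits_pushTop ((f : FSch.Hom 𝔛 𝔜).app 0).base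
  haveI : PreservesColimitsOfShape (Discrete ι) φ.push :=
    CoprodPush.preservesCoproducts ((f : FSch.Hom 𝔛 𝔜).app 0).base (O' := 𝔛.Osh h𝔛.1) (O := 𝔜.Osh h𝔜)
      (FSch.pushF f h𝔛.1 h𝔜) (Iso.refl _) ι
  exact CoprodRF.preservesColimit_of_isGE φ.push (SiteCmp.RpushD φ)
    ((SiteCmp.pushKh φ).totalRightDerivedUnit DerivedCategory.Qh
      (HomotopyCategory.quasiIso (FSch.ModF 𝔛 h𝔛.1) (ComplexShape.up ℤ)))
    (fun I hI q => CoprodPush.isZero_rightDerived_coproduct ((f : FSch.Hom 𝔛 𝔜).app 0).base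
      (O' := 𝔛.Osh h𝔛.1) (O := 𝔜.Osh h𝔜) (FSch.pushF f h𝔛.1 h𝔜) (Iso.refl _) I hI
      (coproductIsCoproduct I) q) E a hE

/-- Direct images commute with direct sums of objects with lim-coherent cohomology. -/
theorem preservesColimit {ι : Type u} (E : ι → DerivedCategory (FSch.ModF 𝔛 h𝔛.1))
    (hE : ∀ (a : ι) (i : ℤ), (ObjectProperty.ind.{u} (IndCoh.cohP h𝔛)) ((homologyFunctor _ i).obj (E a))) :
    PreservesColimit (Discrete.functor E) (SiteCmp.RpushD (FSch.homMor f h𝔛.1 h𝔜)) := by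
  obtain ⟨N, hN⟩ := exists_trunc_bound h𝔛 h𝔜 f
  haveI : HasCoproducts.{u} (DerivedCategory (FSch.ModF 𝔛 h𝔛.1)) := Groth.DerivedCoh.KInjRes.hasCoproducts
  haveI : HasCoproducts.{u} (DerivedCategory (FSch.ModF 𝔜 h𝔜)) := Groth.DerivedCoh.KInjRes.hasCoproducts
  let R := SiteCmp.RpushD (FSch.homMor f h𝔛.1 h𝔜)
  haveI := IndCoh.isClosedUnderColimitsOfShape_ind h𝔛 (Discrete ι)
  have hsum : WSerre.cohIn (affGen h𝔛) (∐ E) := fun q => by
    haveI := HomologyCoprod.preservesColimitsOfShape_homologyFunctor (A := FSch.ModF 𝔛 h𝔛.1) ι q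
    exact of_ind (ObjectProperty.prop_of_isColimit _
      (isColimitOfPreserves (homologyFunctor (FSch.ModF 𝔛 h𝔛.1) q) (colimit.isColimit (Discrete.functor E)))
      fun t => hE t.as q)
  haveI : IsIso (sigmaComparison R E) := by
    refine (DerivedCategory.isIso_iff (f := _)).2 fun j => ?_
    let n := ((N : ℤ) - j).toNat
    have hn : (N : ℤ) - n ≤ j := by lia
    let ψ : ∀ i, E i ⟶ CohCx.truncTower (E i) n := fun i => CohCx.toTruncTower (E i) n
    let τ := fun i => CohCx.truncTower (E i) n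
    have hτ : ∀ i, (τ i).IsGE (-(n : ℤ)) := fun i => inferInstanceAs (TStructure.t.IsGE _ _)
    haveI : (∐ τ).IsGE (-(n : ℤ)) := (isGE_iff _ _).2 fun q hq => by
      haveI := HomologyCoprod.preservesColimitsOfShape_homologyFunctor (A := FSch.ModF 𝔛 h𝔛.1) ι q
      exact (IsZero.iff_id_eq_zero _).2
        ((isColimitOfPreserves (homologyFunctor (FSch.ModF 𝔛 h𝔛.1) q)
          (colimit.isColimit (Discrete.functor τ))).hom_ext fun t =>
          haveI := hτ t.as
          (isZero_of_isGE (τ t.as) (-(n : ℤ)) q hq).eq_of_src _ _)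
    haveI := preservesColimit_of_isGE h𝔛 h𝔜 f τ (-(n : ℤ)) hτ
    have h1 : IsIso ((homologyFunctor (FSch.ModF 𝔜 h𝔜) j).map (Limits.Sigma.map fun i => R.map (ψ i))) := by
      haveI := HomologyCoprod.preservesColimitsOfShape_homologyFunctor (A := FSch.ModF 𝔜 h𝔜) ι j
      haveI : ∀ i, IsIso ((homologyFunctor (FSch.ModF 𝔜 h𝔜) j).map (R.map (ψ i))) := fun i =>
        hN (E i) (fun q => of_ind (hE i q)) n j hn
      exact isIso_map_sigmaMap _ fun i => R.map (ψ i)
    have h2 : IsIso ((homologyFunctor (FSch.ModF 𝔜 h𝔜) j).map (R.map (Limits.Sigma.map ψ))) := by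
      refine Misc4.CdEquiv.isIso_homology_RpushD (FSch.homMor f h𝔛.1 h𝔜) (Limits.Sigma.map ψ) n
        (fun q hq => ?_) j (hN (∐ E) hsum n j hn)
      haveI := HomologyCoprod.preservesColimitsOfShape_homologyFunctor (A := FSch.ModF 𝔛 h𝔛.1) ι q
      haveI : ∀ i, IsIso ((homologyFunctor (FSch.ModF 𝔛 h𝔛.1) q).map (ψ i)) := fun i =>
        Misc4.RlimTrunc.isIso_homology_toTrunc (E i) n q hq
      exact isIso_map_sigmaMap _ ψ
    have sq : sigmaComparison R E ≫ R.map (Limits.Sigma.map ψ) =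
        (Limits.Sigma.map fun i => R.map (ψ i)) ≫ sigmaComparison R τ :=
      Sigma.hom_ext _ _ fun i => by
        rw [ι_comp_sigmaComparison_assoc, ← R.map_comp, Sigma.ι_map, Sigma.ι_map_assoc]
        erw [ι_comp_sigmaComparison]
        exact R.map_comp _ _
    have e := congrArg (homologyFunctor (FSch.ModF 𝔜 h𝔜) j).map sq
    rw [Functor.map_comp, Functor.map_comp] at e
    exact IsIso.of_isIso_fac_right e
  exact PreservesCoproduct.of_iso_comparison R E

end Groth.AdicLinTop.CoprodPushD
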