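import Groth.Agent.Misc4.RFSingle
import Groth.Agent.Misc4.QCoprod
import Groth.Agent.Misc7.GSS.Acyclic
import Mathlib.Algebra.Homology.DerivedCategory.RightDerivedFunctorPlus
import Mathlib.Algebra.Homology.HomologicalComplexLimits
import Mathlib.CategoryTheory.Limits.Preserves.Shapes.Products

/-!
# Total right derived functors and direct sums of objects bounded below

A left exact functor which commutes with direct sums and for which direct sums of injectives are acyclic has a
total right derived functor commuting with direct sums of uniformly bounded below families.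
-/

set_option autoImplicit false

universe w₁ w₂ v u₁ u₂

set_option backward.defeqAttrib.useBackward true
set_option backward.isDefEq.respectTransparency false
set_option maxHeartbeats 1000000

open CategoryTheory CategoryTheory.Limits HomologicalComplex Groth.CohFin

namespace Groth.AdicLinTop.CoprodRF

variable {A : Type u₁} [Category.{v} A] [Abelian A] [IsGrothendieckAbelian.{v} A]
  {B : Type u₂} [Category.{v} B] [Abelian B] [IsGrothendieckAbelian.{v} B]
  (G : A ⥤ B) [G.Additive] [PreservesFiniteLimits G]
  [HasDerivedCategory.{w₁} A] [HasDerivedCategory.{w₂} B]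

local notation "up" => ComplexShape.up ℤ

variable (RF : DerivedCategory A ⥤ DerivedCategory B)
  (β : G.mapHomotopyCategory (ComplexShape.up ℤ) ⋙ DerivedCategory.Qh ⟶ DerivedCategory.Qh ⋙ RF)
  [RF.IsRightDerivedFunctor β (HomotopyCategory.quasiIso A up)]

include β in
/-- Bounded below complexes of acyclic objects compute the derived functor. -/
theorem isIso_comp_of_acyclic (K : CochainComplex A ℤ) (a : ℤ) [K.IsStrictlyGE a]
    (hK : ∀ n, RightAcyclic G (K.X n)) : IsIso ((Misc4.RFSingle.comp G RF β).app K) := by
  obtain ⟨J, r, hr, hJ, hge⟩ := CochainComplex.Plus.modelCategoryQuillen.exists_quasiIso_injective K a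
  haveI := hr
  haveI := hge
  haveI := hJ
  haveI := CochainComplex.isKInjective_of_injective J a
  haveI := Misc7.GSS.quasiIso_mapHomologicalComplex G a hK
    (fun n => haveI := hJ n; rightAcyclic_of_injective G (J.X n)) r
  haveI := Misc4.RFSingle.isIso_comp G RF β J
  haveI : IsIso (DerivedCategory.Q.map ((G.mapHomologicalComplex up).map r)) := inferInstance
  haveI : IsIso (DerivedCategory.Q.map r) := inferInstance
  have hn := (Misc4.RFSingle.comp G RF β).naturality r
  simp only [Functor.comp_map] at hn
  have e : (Misc4.RFSingle.comp G RF β).app K =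
      (DerivedCategory.Q.map ((G.mapHomologicalComplex up).map r) ≫ (Misc4.RFSingle.comp G RF β).app J) ≫
        inv (RF.map (DerivedCategory.Q.map r)) := by
    rw [hn, Category.assoc, IsIso.hom_inv_id, Category.comp_id]
  rw [e]
  infer_instance

include β in
/-- Derived functors commute with direct sums of uniformly bounded below families. -/
theorem preservesColimit_of_isGE {T : Type v} [PreservesColimitsOfShape (Discrete T) G]
    (hacyc : ∀ (I : T → A), (∀ t, Injective (I t)) → RightAcyclic G (∐ I))
    (M : T → DerivedCategory A) (a : ℤ) (hM : ∀ t, (M t).IsGE a) :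
    PreservesColimit (Discrete.functor M) RF := by
  have hrep : ∀ t, ∃ (K : CochainComplex A ℤ), K.IsStrictlyGE a ∧ (∀ n, Injective (K.X n)) ∧
      Nonempty (DerivedCategory.Q.obj K ≅ M t) := fun t => by
    haveI := hM t
    obtain ⟨L, hL, ⟨e⟩⟩ := DerivedCategory.exists_iso_Q_obj_of_isGE (M t) a
    haveI := hL
    obtain ⟨I, i, hi, hI, hge⟩ := CochainComplex.Plus.modelCategoryQuillen.exists_quasiIso_injective L a
    haveI := hi
    exact ⟨I, hge, hI, ⟨(asIso (DerivedCategory.Q.map i)).symm ≪≫ e.symm⟩⟩
  choose C hge hI hC using hrep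
  haveI : (∐ C).IsStrictlyGE a := by
    rw [CochainComplex.isStrictlyGE_iff]
    intro i hi
    exact (IsZero.iff_id_eq_zero _).2 ((isColimitOfPreserves (eval A up i)
      (colimit.isColimit (Discrete.functor C))).hom_ext fun t =>
        ((C t.as).isZero_of_isStrictlyGE a i hi).eq_of_src _ _)
  have hsum : ∀ n, RightAcyclic G ((∐ C).X n) := fun n j =>
    (hacyc _ (fun t => hI t n) j).of_iso ((G.rightDerived (j + 1)).mapIso
      ((isColimitOfPreserves (eval A up n) (colimit.isColimit (Discrete.functor C))).coconePointsIsoOfNatIso
        (colimit.isColimit (Discrete.functor fun t => (C t).X n)) (Discrete.natIso fun _ => Iso.refl _)))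
  haveI : PreservesColimitsOfShape (Discrete T) (G.mapHomologicalComplex up) :=
    ⟨fun {F} => ⟨fun {c} hc => ⟨isColimitOfEval _ _ fun n =>
      isColimitOfPreserves G (isColimitOfPreserves (eval A up n) hc)⟩⟩⟩
  let comp := Misc4.RFSingle.comp G RF β
  haveI := isIso_comp_of_acyclic G RF β (∐ C) a hsum
  haveI : ∀ t, IsIso (comp.app (C t)) := fun t =>
    haveI := hge t
    isIso_comp_of_acyclic G RF β (C t) a fun n => haveI := hI t n; rightAcyclic_of_injective G _
  let F : CochainComplex A ℤ ⥤ DerivedCategory B := G.mapHomologicalComplex up ⋙ DerivedCategory.Q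
  obtain ⟨hA⟩ := Misc4.QCoprod.nonempty_isColimit C
  haveI := Misc4.QCoprod.preservesColimitsOfShape (A := B) T
  have hF : IsColimit (Cofan.mk (F.obj (∐ C)) fun t => F.map (Sigma.ι C t)) :=
    isColimitMapCoconeCofanMkEquiv _ _ _ (isColimitOfPreserves F (coproductIsCoproduct C))
  have hB : IsColimit (Cofan.mk (RF.obj (DerivedCategory.Q.obj (∐ C)))
      fun t => RF.map (DerivedCategory.Q.map (Sigma.ι C t))) :=
    Cofan.IsColimit.mk _
      (fun s => inv (comp.app (∐ C)) ≫ Cofan.IsColimit.desc hF fun t => comp.app (C t) ≫ s.inj t)
      (fun s t => by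
        show RF.map (DerivedCategory.Q.map (Sigma.ι C t)) ≫ inv (comp.app (∐ C)) ≫ _ = _
        rw [← cancel_epi (comp.app (C t))]
        have hn := comp.naturality (Sigma.ι C t)
        simp only [Functor.comp_map] at hn
        rw [← reassoc_of% hn, IsIso.hom_inv_id_assoc]
        exact Cofan.IsColimit.fac hF _ t)
      (fun s m hm => by
        rw [IsIso.eq_inv_comp]
        refine Cofan.IsColimit.hom_ext hF _ _ fun t => ?_
        rw [Cofan.IsColimit.fac]
        have hn := comp.naturality (Sigma.ι C t)
        simp only [Functor.comp_map] at hn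
        show F.map (Sigma.ι C t) ≫ comp.app (∐ C) ≫ m = _
        rw [← Category.assoc]
        erw [hn]
        rw [Category.assoc]
        exact congrArg (comp.app (C t) ≫ ·) (hm t))
  haveI : PreservesColimit (Discrete.functor fun t => DerivedCategory.Q.obj (C t)) RF :=
    preservesColimit_of_preserves_colimit_cocone hA ((Cofan.isColimitMapCoconeEquiv _ _ _).symm hB)
  exact preservesColimit_of_iso_diagram RF
    (Discrete.natIso fun ⟨t⟩ => (hC t).some :
      Discrete.functor (fun t => DerivedCategory.Q.obj (C t)) ≅ Discrete.functor M)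

end Groth.AdicLinTop.CoprodRF
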