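import Mathlib.Algebra.Homology.DerivedCategory.Ext.Map
import Mathlib.Algebra.Homology.DerivedCategory.Ext.ExactSequences
import Mathlib.Algebra.Homology.DerivedCategory.Ext.EnoughInjectives

/-!
# Natural comparison of extension groups along an exact functor
-/

set_option autoImplicit false

universe w v v' u u'

open CategoryTheory CategoryTheory.Limits
open CategoryTheory.Abelian (Ext)

namespace Groth.AdicLinTop.ExtCompare

variable {C : Type u} [Category.{v} C] [Abelian C] [HasExt.{w} C] {D : Type u'} [Category.{v'} D] [Abelian D]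
  [HasExt.{w} D] (R : C ⥤ D) [R.Additive] [PreservesFiniteLimits R] [PreservesFiniteColimits R]
  {Z : C} {Z' : D} (c : Z' ⟶ R.obj Z)

/-- The comparison map. -/
noncomputable def cmp (F : C) (i : ℕ) (x : Ext Z F i) : Ext Z' (R.obj F) i :=
  (Ext.mk₀ c).comp (x.mapExactFunctor R) (zero_add i)

theorem cmp_mk₀ (F : C) (φ : Z ⟶ F) : cmp R c F 0 (Ext.mk₀ φ) = Ext.mk₀ (c ≫ R.map φ) := by
  rw [cmp, Ext.mapExactFunctor_mk₀, Ext.mk₀_comp_mk₀]

theorem cmp_comp {F G : C} {i n m : ℕ} (x : Ext Z F i) (y : Ext F G n) (hm : i + n = m) :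
    cmp R c G m (x.comp y hm) = (cmp R c F i x).comp (y.mapExactFunctor R) hm := by
  rw [cmp, cmp, Ext.mapExactFunctor_comp, Ext.comp_assoc _ _ _ (zero_add i) hm (by omega)]

theorem cmp_map {F G : C} (φ : F ⟶ G) {i : ℕ} (x : Ext Z F i) :
    cmp R c G i (x.comp (Ext.mk₀ φ) (add_zero i)) = (cmp R c F i x).comp (Ext.mk₀ (R.map φ)) (add_zero i) := by
  rw [cmp_comp, Ext.mapExactFunctor_mk₀]

theorem cmp_add (F : C) (i : ℕ) (x y : Ext Z F i) : cmp R c F i (x + y) = cmp R c F i x + cmp R c F i y := by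
  show ((Ext.mk₀ c).precomp _ (zero_add i)) (R.mapExtAddHom Z F i (x + y)) = _
  rw [map_add, map_add]
  rfl

/-- The comparison map as a homomorphism. -/
noncomputable def cmpHom (F : C) (i : ℕ) : Ext Z F i →+ Ext Z' (R.obj F) i := AddMonoidHom.mk' (cmp R c F i) (cmp_add R c F i)

variable [EnoughInjectives C]

/-- The comparison is bijective if it is so on homomorphisms and images of injective objects are acyclic. -/
theorem bijective_cmp (h0 : ∀ F, Function.Bijective fun φ : Z ⟶ F => c ≫ R.map φ)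
    (hI : ∀ (I : C) [Injective I] (i : ℕ), Subsingleton (Ext Z' (R.obj I) (i + 1))) (i : ℕ) :
    ∀ F : C, Function.Bijective (cmp R c F i) := by
  induction i with
  | zero =>
    intro F
    refine ⟨fun x y e => ?_, fun y => ?_⟩
    · obtain ⟨φ, rfl⟩ := (Ext.mk₀_bijective _ _).2 x
      obtain ⟨ψ, rfl⟩ := (Ext.mk₀_bijective _ _).2 y
      rw [cmp_mk₀, cmp_mk₀] at e
      exact congrArg Ext.mk₀ ((h0 F).1 ((Ext.mk₀_bijective _ _).1 e))
    · obtain ⟨ψ, rfl⟩ := (Ext.mk₀_bijective _ _).2 y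
      obtain ⟨φ, hφ⟩ := (h0 F).2 ψ
      exact ⟨Ext.mk₀ φ, (cmp_mk₀ R c F φ).trans (congrArg Ext.mk₀ hφ)⟩
  | succ i ih =>
    intro F
    let S : ShortComplex C := ShortComplex.mk (Injective.ι F) (cokernel.π _) (cokernel.condition _)
    have hS : S.ShortExact :=
      { exact := ShortComplex.exact_cokernel _
        mono_f := by dsimp [S]; infer_instance
        epi_g := by dsimp [S]; infer_instance }
    haveI : Injective S.X₂ := by dsimp [S]; infer_instance
    have hS' := hS.map_of_exact R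
    have hδ : ∀ x : Ext Z S.X₃ i, cmp R c F (i + 1) (x.comp hS.extClass rfl) =
        (cmp R c S.X₃ i x).comp hS'.extClass rfl := fun x =>
      (cmp_comp R c x hS.extClass rfl).trans
        (congrArg (fun z => (cmp R c S.X₃ i x).comp z rfl) (Ext.mapExactFunctor_extClass R hS))
    refine ⟨fun x x' e => ?_, fun y => ?_⟩
    · rw [← sub_eq_zero]
      have e' : cmpHom R c F (i + 1) (x - x') = 0 := by rw [map_sub]; exact sub_eq_zero.2 e
      revert e'
      generalize x - x' = d
      intro e'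
      obtain ⟨a, rfl⟩ := Ext.covariant_sequence_exact₁ _ hS d
        (Ext.eq_zero_of_injective _) (n₀ := i) rfl
      have h1 : (cmp R c S.X₃ i a).comp hS'.extClass rfl = 0 := (hδ a).symm.trans e'
      obtain ⟨b, hb⟩ := Ext.covariant_sequence_exact₃ _ hS' _ rfl h1
      obtain ⟨b', rfl⟩ := (ih S.X₂).2 b
      have ha : a = b'.comp (Ext.mk₀ S.g) (add_zero i) := (ih S.X₃).1 (by
        rw [cmp_map]
        exact hb.symm)
      rw [ha, Ext.comp_assoc _ _ _ (add_zero i) (zero_add 1) (by omega), hS.comp_extClass, Ext.comp_zero]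
    · obtain ⟨b, rfl⟩ := Ext.covariant_sequence_exact₁ _ hS' y
        (@Subsingleton.elim _ (hI S.X₂ i) _ _) (n₀ := i) rfl
      obtain ⟨a, rfl⟩ := (ih S.X₃).2 b
      exact ⟨_, hδ a⟩

end Groth.AdicLinTop.ExtCompare
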