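import Groth.Agent.AdicLinTop.GrTower
import Mathlib.Algebra.Homology.DerivedCategory.Ext.ExactSequences
import Mathlib.RingTheory.Noetherian.Basic

/-!
# Cohomology of a tower of objects with operators raising the level

Given a tower of epimorphisms `F (m+1) ⟶ F m` in an abelian category, with actions of a ring and elements killing
`F 0` and all the kernels, the groups `Ext Z (F m) q` form a tower of modules to which the results on towers with
finitely generated associated graded apply.
-/

set_option autoImplicit false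

universe u v v' w

open CategoryTheory CategoryTheory.Limits CategoryTheory.Abelian

namespace Groth.AdicLinTop.ExtTower

variable {C : Type v} [Category.{v'} C] [Abelian C] [HasExt.{u} C] {A : Type u} [CommRing A]

/-- The groups `Ext Z M q` as modules under an action of a ring on `M`. -/
def EM (Z : C) {M : C} (_s : A →+* End M) (q : ℕ) : Type u := Ext Z M q

variable (Z : C) {M N : C} (s : A →+* End M) (s' : A →+* End N) (q : ℕ)

noncomputable instance : AddCommGroup (EM Z s q) := inferInstanceAs (AddCommGroup (Ext Z M q))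

/-- An element as an extension class. -/
def toExt (x : EM Z s q) : Ext Z M q := x

/-- An extension class as an element. -/
def ofExt (x : Ext Z M q) : EM Z s q := x

@[simp] theorem toExt_ofExt (x : Ext Z M q) : toExt Z s q (ofExt Z s q x) = x := rfl
@[simp] theorem ofExt_toExt (x : EM Z s q) : ofExt Z s q (toExt Z s q x) = x := rfl
@[simp] theorem toExt_add (x y : EM Z s q) : toExt Z s q (x + y) = toExt Z s q x + toExt Z s q y := rfl
@[simp] theorem toExt_zero : toExt Z s q 0 = 0 := rfl

theorem toExt_injective : Function.Injective (toExt Z s q) := fun _ _ h => h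

noncomputable instance : SMul A (EM Z s q) :=
  ⟨fun a x => ofExt Z s q ((toExt Z s q x).comp (Ext.mk₀ (show M ⟶ M from s a)) (add_zero q))⟩

theorem toExt_smul (a : A) (x : EM Z s q) :
    toExt Z s q (a • x) = (toExt Z s q x).comp (Ext.mk₀ (show M ⟶ M from s a)) (add_zero q) := rfl

noncomputable instance : Module A (EM Z s q) where
  one_smul x := toExt_injective Z s q (by
    rw [toExt_smul, show (show M ⟶ M from s 1) = 𝟙 M from map_one s, Ext.comp_mk₀_id])
  mul_smul a b x := toExt_injective Z s q (by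
    rw [toExt_smul, toExt_smul, toExt_smul, Ext.comp_assoc_of_third_deg_zero, Ext.mk₀_comp_mk₀,
      show (show M ⟶ M from s (a * b)) = (show M ⟶ M from s b) ≫ (show M ⟶ M from s a) from map_mul s a b])
  smul_zero a := toExt_injective Z s q (by rw [toExt_smul, toExt_zero, Ext.zero_comp])
  smul_add a x y := toExt_injective Z s q (by simp only [toExt_smul, toExt_add, Ext.add_comp])
  add_smul a b x := toExt_injective Z s q (by
    rw [toExt_smul, toExt_add, toExt_smul, toExt_smul,
      show (show M ⟶ M from s (a + b)) = (show M ⟶ M from s a) + (show M ⟶ M from s b) from map_add s a b,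
      Ext.mk₀_add, Ext.comp_add])
  zero_smul x := toExt_injective Z s q (by
    rw [toExt_smul, show (show M ⟶ M from s 0) = 0 from map_zero s, Ext.mk₀_zero, Ext.comp_zero, toExt_zero])

variable {s s'}

/-- The map of an equivariant morphism. -/
noncomputable def emap (f : M ⟶ N)
    (h : ∀ a, (show M ⟶ M from s a) ≫ f = f ≫ (show N ⟶ N from s' a)) : EM Z s q →ₗ[A] EM Z s' q where
  toFun x := ofExt Z s' q ((toExt Z s q x).comp (Ext.mk₀ f) (add_zero q))
  map_add' x y := toExt_injective Z s' q (by simp only [toExt_ofExt, toExt_add, Ext.add_comp])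
  map_smul' a x := toExt_injective Z s' q (by
    simp only [toExt_ofExt, toExt_smul, RingHom.id_apply, Ext.comp_assoc_of_third_deg_zero, Ext.mk₀_comp_mk₀, h])

theorem toExt_emap (f : M ⟶ N) (h : ∀ a, (show M ⟶ M from s a) ≫ f = f ≫ (show N ⟶ N from s' a))
    (x : EM Z s q) : toExt Z s' q (emap Z q f h x) = (toExt Z s q x).comp (Ext.mk₀ f) (add_zero q) := rfl

section Tower

variable {F : ℕ → C} (p : ∀ m, F (m + 1) ⟶ F m) {r : ℕ} (t : Fin r → A) (σ : ∀ m, A →+* End (F m))

/-- The action of an element at a level. -/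
abbrev act (m : ℕ) (a : A) : F m ⟶ F m := σ m a

theorem act_comm (m : ℕ) (a b : A) : act σ m a ≫ act σ m b = act σ m b ≫ act σ m a := by
  show σ m b * σ m a = σ m a * σ m b
  rw [← map_mul, ← map_mul, mul_comm]

/-- The hypotheses on a tower. -/
structure Data : Prop where
  epi : ∀ m, Epi (p m)
  nat : ∀ m a, act σ (m + 1) a ≫ p m = p m ≫ act σ m a
  kill0 : ∀ i, act σ 0 (t i) = 0
  killK : ∀ i m, kernel.ι (p m) ≫ act σ (m + 1) (t i) = 0

variable {p t σ} (D : Data p t σ)
include D

/-- Multiplication raising the level. -/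
noncomputable def raise (i : Fin r) (m : ℕ) : F m ⟶ F (m + 1) :=
  haveI := D.epi m
  Abelian.epiDesc (p m) (act σ (m + 1) (t i)) (D.killK i m)

@[reassoc]
theorem p_raise (i : Fin r) (m : ℕ) : p m ≫ raise D i m = act σ (m + 1) (t i) :=
  haveI := D.epi m
  Abelian.comp_epiDesc _ _ _

@[reassoc]
theorem raise_p (i : Fin r) (m : ℕ) : raise D i m ≫ p m = act σ m (t i) := by
  haveI := D.epi m
  rw [← cancel_epi (p m), p_raise_assoc, D.nat]

@[reassoc]
theorem raise_p_succ (i : Fin r) (m : ℕ) : raise D i (m + 1) ≫ p (m + 1) = p m ≫ raise D i m := by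
  rw [raise_p, p_raise]

theorem raise_p_zero (i : Fin r) : raise D i 0 ≫ p 0 = 0 := by rw [raise_p, D.kill0]

theorem act_raise (i : Fin r) (m : ℕ) (a : A) :
    act σ m a ≫ raise D i m = raise D i m ≫ act σ (m + 1) a := by
  haveI := D.epi m
  rw [← cancel_epi (p m), ← Category.assoc, ← D.nat, Category.assoc, p_raise, p_raise_assoc, act_comm]

theorem raise_comm (i j : Fin r) (m : ℕ) :
    raise D j m ≫ raise D i (m + 1) = raise D i m ≫ raise D j (m + 1) := by
  haveI := D.epi m
  rw [← cancel_epi (p m), p_raise_assoc, p_raise_assoc, act_raise, act_raise]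
  haveI := D.epi (m + 1)
  rw [← cancel_epi (p (m + 1)), p_raise_assoc, p_raise_assoc, act_comm]

omit D in
/-- The kernels. -/
noncomputable abbrev K (p : ∀ m, F (m + 1) ⟶ F m) (m : ℕ) : C := kernel (p m)

theorem act_kernel (m : ℕ) (a : A) : (kernel.ι (p m) ≫ act σ (m + 1) a) ≫ p m = 0 := by
  rw [Category.assoc, D.nat, ← Category.assoc, kernel.condition, zero_comp]

/-- The action on the kernels. -/
noncomputable def actK (m : ℕ) : A →+* End (K p m) where
  toFun a := kernel.lift _ (kernel.ι (p m) ≫ act σ (m + 1) a) (act_kernel D m a)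
  map_one' := by
    refine (cancel_mono (kernel.ι (p m))).1 ((kernel.lift_ι _ _ _).trans ?_)
    rw [show act σ (m + 1) 1 = 𝟙 _ from map_one (σ (m + 1)), Category.comp_id]
    exact (Category.id_comp _).symm
  map_mul' a b := by
    refine (cancel_mono (kernel.ι (p m))).1 ((kernel.lift_ι _ _ _).trans ?_)
    rw [show act σ (m + 1) (a * b) = act σ (m + 1) b ≫ act σ (m + 1) a from map_mul (σ (m + 1)) a b, End.mul_def,
      Category.assoc, kernel.lift_ι, kernel.lift_ι_assoc, Category.assoc]
  map_zero' := by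
    refine (cancel_mono (kernel.ι (p m))).1 ((kernel.lift_ι _ _ _).trans ?_)
    rw [show act σ (m + 1) 0 = 0 from map_zero (σ (m + 1)), comp_zero, zero_comp]
  map_add' a b := by
    refine (cancel_mono (kernel.ι (p m))).1 ((kernel.lift_ι _ _ _).trans ?_)
    rw [show act σ (m + 1) (a + b) = act σ (m + 1) a + act σ (m + 1) b from map_add (σ (m + 1)) a b, Preadditive.comp_add,
      Preadditive.add_comp, kernel.lift_ι, kernel.lift_ι]

@[reassoc]
theorem actK_ι (m : ℕ) (a : A) :
    (show K p m ⟶ K p m from actK D m a) ≫ kernel.ι (p m) = kernel.ι (p m) ≫ act σ (m + 1) a :=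
  kernel.lift_ι _ _ _

/-- The operators on the kernels. -/
noncomputable def op (i : Fin r) (m : ℕ) : K p m ⟶ K p (m + 1) :=
  kernel.lift _ (kernel.ι (p m) ≫ raise D i (m + 1)) (by
    rw [Category.assoc, raise_p_succ, kernel.condition_assoc, zero_comp])

@[reassoc]
theorem op_ι (i : Fin r) (m : ℕ) : op D i m ≫ kernel.ι (p (m + 1)) = kernel.ι (p m) ≫ raise D i (m + 1) :=
  kernel.lift_ι _ _ _

theorem op_comm (i j : Fin r) (m : ℕ) : op D j m ≫ op D i (m + 1) = op D i m ≫ op D j (m + 1) := by
  rw [← cancel_mono (kernel.ι (p (m + 1 + 1)))]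
  simp only [Category.assoc, op_ι, op_ι_assoc]
  rw [raise_comm]

theorem act_op (i : Fin r) (m : ℕ) (a : A) :
    (show K p m ⟶ K p m from actK D m a) ≫ op D i m =
      op D i m ≫ (show K p (m + 1) ⟶ K p (m + 1) from actK D (m + 1) a) := by
  rw [← cancel_mono (kernel.ι (p (m + 1)))]
  simp only [Category.assoc, op_ι, actK_ι, actK_ι_assoc, op_ι_assoc]
  rw [act_raise]

omit D in
/-- The short exact sequences of the tower. -/
noncomputable abbrev seq (p : ∀ m, F (m + 1) ⟶ F m) (m : ℕ) : ShortComplex C :=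
  ShortComplex.mk (kernel.ι (p m)) (p m) (kernel.condition _)

theorem shortExact_seq (m : ℕ) : (seq p m).ShortExact where
  exact := ShortComplex.exact_of_f_is_kernel _ (kernelIsKernel (p m))
  epi_g := D.epi m

variable (n : ℕ)

omit D in
/-- The cohomology tower. -/
abbrev EH (σ : ∀ m, A →+* End (F m)) (m : ℕ) : Type u := EM Z (σ m) n

/-- The cohomology of the kernels. -/
abbrev EK (m : ℕ) : Type u := EM Z (actK D m) n

/-- Transition on cohomology. -/
noncomputable def Hπ (m : ℕ) : EH Z n σ (m + 1) →ₗ[A] EH Z n σ m := emap Z n (p m) (D.nat m)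

/-- Operators on cohomology. -/
noncomputable def Hρ (i : Fin r) (m : ℕ) : EH Z n σ m →ₗ[A] EH Z n σ (m + 1) :=
  emap Z n (raise D i m) (act_raise D i m)

/-- Inclusion of kernels on cohomology. -/
noncomputable def Hι (m : ℕ) : EK Z D n m →ₗ[A] EH Z n σ (m + 1) := emap Z n (kernel.ι (p m)) (actK_ι D m)

/-- Operators on the cohomology of kernels. -/
noncomputable def Hop (i : Fin r) (m : ℕ) : EK Z D n m →ₗ[A] EK Z D n (m + 1) := emap Z n (op D i m) (act_op D i m)

/-- The connecting map. -/
noncomputable def Hδ (m : ℕ) : EH Z n σ m →ₗ[A] EK Z D (n + 1) m where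
  toFun x := ofExt Z _ _ ((toExt Z _ _ x).comp (shortExact_seq D m).extClass rfl)
  map_add' x y := toExt_injective Z _ _ (by simp only [toExt_ofExt, toExt_add, Ext.add_comp])
  map_smul' a x := toExt_injective Z _ _ (by
    let φ : seq p m ⟶ seq p m :=
      { τ₁ := actK D m a
        τ₂ := act σ (m + 1) a
        τ₃ := act σ m a
        comm₁₂ := actK_ι D m a
        comm₂₃ := D.nat m a }
    simp only [toExt_ofExt, toExt_smul, RingHom.id_apply, Ext.comp_assoc_of_second_deg_zero,
      Ext.comp_assoc_of_third_deg_zero]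
    exact congrArg (fun e => (toExt Z _ n x).comp e rfl)
      ((shortExact_seq D m).extClass_naturality (shortExact_seq D m) φ).symm)

theorem hyp : GrTower.Hyp t (Hπ Z D n) (Hρ Z D n) where
  ρπ i m x := toExt_injective Z _ _ (by
    simp only [Hπ, Hρ, toExt_emap, Ext.comp_assoc_of_third_deg_zero, Ext.mk₀_comp_mk₀, raise_p_succ])
  ρ0 i x := toExt_injective Z _ _ (by
    simp only [Hπ, Hρ, toExt_emap, Ext.comp_assoc_of_third_deg_zero, Ext.mk₀_comp_mk₀, raise_p_zero, Ext.mk₀_zero,
      Ext.comp_zero, toExt_zero])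
  smul i m y := toExt_injective Z _ _ (by
    simp only [Hπ, Hρ, toExt_emap, toExt_smul, Ext.comp_assoc_of_third_deg_zero, Ext.mk₀_comp_mk₀, p_raise, act])

theorem Hδ_eq_zero (m : ℕ) (x : EH Z n σ m) (hx : Hδ Z D n m x = 0) : x ∈ LinearMap.range (Hπ Z D n m) := by
  obtain ⟨y, hy⟩ := Ext.covariant_sequence_exact₃ Z (shortExact_seq D m) (toExt Z _ _ x) rfl hx
  exact ⟨ofExt Z _ _ y, toExt_injective Z _ _ hy⟩

theorem Hδ_Hρ (i : Fin r) (m : ℕ) (x : EH Z n σ m) :
    Hδ Z D n (m + 1) (Hρ Z D n i m x) = Hop Z D (n + 1) i m (Hδ Z D n m x) := by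
  refine toExt_injective Z _ _ ?_
  let φ : seq p m ⟶ seq p (m + 1) :=
    { τ₁ := op D i m
      τ₂ := raise D i (m + 1)
      τ₃ := raise D i m
      comm₁₂ := op_ι D i m
      comm₂₃ := raise_p_succ D i m }
  show (((toExt Z _ n x).comp (Ext.mk₀ (raise D i m)) (add_zero n)).comp (shortExact_seq D (m + 1)).extClass rfl) =
    ((toExt Z _ n x).comp (shortExact_seq D m).extClass rfl).comp (Ext.mk₀ (op D i m)) (add_zero (n + 1))
  rw [Ext.comp_assoc_of_second_deg_zero, Ext.comp_assoc_of_third_deg_zero]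
  exact congrArg (fun e => (toExt Z _ n x).comp e rfl)
    ((shortExact_seq D m).extClass_naturality (shortExact_seq D (m + 1)) φ).symm

theorem exists_of_Hπ_eq_zero (m : ℕ) (y : EH Z n σ (m + 1)) (hy : Hπ Z D n m y = 0) :
    y ∈ LinearMap.range (Hι Z D n m) := by
  obtain ⟨z, hz⟩ := Ext.covariant_sequence_exact₂ Z (shortExact_seq D m) (toExt Z _ _ y) hy
  exact ⟨ofExt Z _ _ z, toExt_injective Z _ _ hz⟩

theorem Hπ_Hι (m : ℕ) (z : EK Z D n m) : Hπ Z D n m (Hι Z D n m z) = 0 := toExt_injective Z _ _ (by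
  simp only [Hπ, Hι, toExt_emap, Ext.comp_assoc_of_third_deg_zero, Ext.mk₀_comp_mk₀, kernel.condition, Ext.mk₀_zero,
    Ext.comp_zero, toExt_zero])

theorem Hι_Hop (i : Fin r) (m : ℕ) (z : EK Z D n m) :
    Hι Z D n (m + 1) (Hop Z D n i m z) = Hρ Z D n i (m + 1) (Hι Z D n m z) := toExt_injective Z _ _ (by
  simp only [Hι, Hρ, Hop, toExt_emap, Ext.comp_assoc_of_third_deg_zero, Ext.mk₀_comp_mk₀, op_ι])

theorem Hop_comm (i j : Fin r) (m : ℕ) (x : EK Z D n m) :
    Hop Z D n i (m + 1) (Hop Z D n j m x) = Hop Z D n j (m + 1) (Hop Z D n i m x) := toExt_injective Z _ _ (by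
  simp only [Hop, toExt_emap, Ext.comp_assoc_of_third_deg_zero, Ext.mk₀_comp_mk₀, op_comm])

/-- Cohomology of the graded pieces is finite and generated from some degree on. -/
structure FinGen : Prop where
  fin0 : ∀ q, Module.Finite A (EM Z (σ 0) q)
  fin : ∀ m q, Module.Finite A (EM Z (actK D m) q)
  gen : ∀ q, ∃ d, ∀ m, d ≤ m → (⊤ : Submodule A (EK Z D q (m + 1))) ≤ ⨆ i, LinearMap.range (Hop Z D q i m)

variable [IsNoetherianRing A] (hF : FinGen Z D)
include hF

theorem finite_EH (m : ℕ) : Module.Finite A (EH Z n σ m) := by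
  induction m with
  | zero => exact hF.fin0 n
  | succ m ih =>
    haveI := hF.fin m n
    haveI : IsNoetherian A (EH Z n σ (m + 1)) :=
      isNoetherian_of_range_eq_ker (Hι Z D n m) (Hπ Z D n m) (le_antisymm
        (by rintro _ ⟨z, rfl⟩; exact Hπ_Hι Z D n m z) fun y hy => exists_of_Hπ_eq_zero Z D n m y hy)
    infer_instance

/-- Classes lift after a bounded delay. -/
theorem exists_delay : ∃ s, ∀ k m (h : k ≤ m), k + s ≤ m → ∀ x : EH Z n σ m,
    ∃ x' : EH Z n σ (m + 1),
      GrTower.dn (Hπ Z D n) k (m + 1) (h.trans (Nat.le_succ m)) x' = GrTower.dn (Hπ Z D n) k m h x := by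
  haveI := fun m => hF.fin m (n + 1)
  exact GrTower.exists_delay t (Hπ Z D n) (Hρ Z D n) (Hδ Z D n) (Hop Z D (n + 1)) (hyp Z D n)
    (Hδ_eq_zero Z D n) (Hδ_Hρ Z D n) (Hop_comm Z D (n + 1)) (hF.gen (n + 1))

/-- Over an adically complete base the compatible families form a finite module with good filtration. -/
theorem exists_span [IsPrecomplete (Ideal.span (Set.range t)) A] :
    ∃ (c b : ℕ) (y : Fin b → ∀ k, EH Z n σ k), (∀ l, y l ∈ GrTower.lim (Hπ Z D n)) ∧
      GrTower.lim (Hπ Z D n) ≤ Submodule.span A (Set.range y) ∧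
      ∀ j, GrTower.fil (Hπ Z D n) (c + j) ≤
        Ideal.span (Set.range t) ^ j • Submodule.span A (Set.range y) := by
  haveI := fun m => hF.fin m n
  haveI := finite_EH Z D n hF
  obtain ⟨c, hc⟩ := GrTower.exists_fil_le t (Hπ Z D n) (Hρ Z D n) (Hι Z D n) (Hop Z D n) (hyp Z D n)
    (exists_of_Hπ_eq_zero Z D n) (Hπ_Hι Z D n) (Hι_Hop Z D n) (Hop_comm Z D n) (hF.gen n)
  exact ⟨c, GrTower.exists_span t (Hπ Z D n) (Hρ Z D n) (hyp Z D n) hc⟩

end Tower

end Groth.AdicLinTop.ExtTower
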