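import Groth.Agent.AdicLinTop.AffineGlue

/-!
# Finite algebras over adic rings and localisation modulo powers of the ideal

A complete algebra whose reduction is generated by finitely many elements is generated by them; generators and
relations are compatible with localisations modulo powers of the ideal of definition.
-/

set_option autoImplicit false

universe u

namespace Groth.AdicLinTop.FiniteAdicAlg

open Groth.AdicLinTop.AffineGlue

variable {A A' B B' : Type u} [CommRing A] [CommRing A'] [CommRing B] [CommRing B']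

/-- Elements generating modulo the ideal of definition generate. -/
theorem gen_of_gen_mod (φ : A →+* B) (I : Ideal A) [IsAdicComplete I A] [IsHausdorff (I.map φ) B] {N : ℕ}
    (b : Fin N → B) (hb : ∀ v : B, ∃ a : Fin N → A, v - ∑ i, φ (a i) * b i ∈ I.map φ) (v : B) :
    ∃ a : Fin N → A, v = ∑ i, φ (a i) * b i := by
  letI := φ.toAlgebra
  have hH : IsHausdorff I B := IsHausdorff.map_algebraMap_iff.mp ‹_›
  have := Groth.Calg1.isPrecomplete_pi I N
  let ψ : (Fin N → A) →ₗ[A] B := Fintype.linearCombination A b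
  have hψ : ∀ a, ψ a = ∑ i, φ (a i) * b i := fun a => rfl
  obtain ⟨a, ha⟩ := surjective_of_mkQ_comp_surjective (I := I) (f := ψ) (fun y => by
    obtain ⟨y, rfl⟩ := Submodule.mkQ_surjective _ y
    obtain ⟨a, ha⟩ := hb y
    refine ⟨a, ?_⟩
    rw [LinearMap.comp_apply, Submodule.mkQ_apply, Submodule.mkQ_apply, Submodule.Quotient.eq,
      Ideal.smul_top_eq_map, ← neg_sub, hψ]
    exact neg_mem (Submodule.restrictScalars_mem A (I.map φ) _ |>.2 ha)) v
  exact ⟨a, ha.symm.trans (hψ a)⟩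

/-- Coefficients in an ideal. -/
theorem exists_coeff (φ : A →+* B) (J : Ideal A) {N : ℕ} (b : Fin N → B)
    (hb : ∀ v : B, ∃ a : Fin N → A, v = ∑ i, φ (a i) * b i) {x : B} (hx : x ∈ J.map φ) :
    ∃ a : Fin N → A, (∀ i, a i ∈ J) ∧ x = ∑ i, φ (a i) * b i := by
  refine Submodule.span_induction (fun y hy => ?_) ⟨0, fun i => J.zero_mem, by simp⟩
    (fun y z _ _ hy hz => ?_) (fun r y _ hy => ?_) hx
  · obtain ⟨r, hr, rfl⟩ := hy
    obtain ⟨a, ha⟩ := hb 1
    refine ⟨fun i => r * a i, fun i => J.mul_mem_right _ hr, ?_⟩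
    conv_lhs => rw [← mul_one (φ r), ha, Finset.mul_sum]
    exact Finset.sum_congr rfl fun i _ => by rw [map_mul, mul_assoc]
  · obtain ⟨a, ha, rfl⟩ := hy
    obtain ⟨c, hc, rfl⟩ := hz
    exact ⟨a + c, fun i => J.add_mem (ha i) (hc i), by
      simp only [Pi.add_apply, map_add, add_mul, Finset.sum_add_distrib]⟩
  · obtain ⟨a, ha, rfl⟩ := hy
    choose c hc using fun i => hb (r * b i)
    refine ⟨fun j => ∑ i, a i * c i j, fun j => Ideal.sum_mem _ fun i _ => J.mul_mem_right _ (ha i), ?_⟩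
    rw [smul_eq_mul, Finset.mul_sum]
    simp only [map_sum, map_mul, Finset.sum_mul]
    rw [Finset.sum_comm]
    refine Finset.sum_congr rfl fun i _ => ?_
    rw [mul_left_comm, hc i, Finset.mul_sum]
    exact Finset.sum_congr rfl fun j _ => (mul_assoc _ _ _).symm

variable (φ : A →+* B) (φ' : A' →+* B') (ρ : A →+* A') (σ : B →+* B') {p : A} {I : Ideal A} {I' : Ideal A'}
  {N : ℕ} (b : Fin N → B)

/-- Generators restrict to generators. -/
theorem gen_loc (hcomm : ∀ a, σ (φ a) = φ' (ρ a)) [IsAdicComplete I' A'] [IsHausdorff (I'.map φ') B']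
    (hb : ∀ v : B, ∃ a : Fin N → A, v = ∑ i, φ (a i) * b i) (hA : LocMod ρ p I I')
    (hB : LocMod σ (φ p) (I.map φ) (I'.map φ')) (v : B') :
    ∃ a : Fin N → A', v = ∑ i, φ' (a i) * σ (b i) := by
  refine gen_of_gen_mod φ' I' (fun i => σ (b i)) (fun w => ?_) v
  obtain ⟨q, c, hc⟩ := hB.surj w
  obtain ⟨a, rfl⟩ := hb c
  obtain ⟨g, hg⟩ := hA.unit_pow q
  refine ⟨fun i => g * ρ (a i), ?_⟩
  have h1 := (I'.map φ').mul_mem_left (φ' g) hc
  have h2 := (I'.map φ').mul_mem_right w (Ideal.mem_map_of_mem φ' hg)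
  rw [map_sub, map_mul, map_pow, map_one] at h2
  convert (I'.map φ').sub_mem h1 h2 using 1
  simp only [map_sum, map_mul, hcomm, mul_assoc, ← Finset.mul_sum]
  ring

/-- Relations come from relations up to powers of the ideal. -/
theorem rel_loc_mod (hcomm : ∀ a, σ (φ a) = φ' (ρ a))
    (hb : ∀ v : B, ∃ a : Fin N → A, v = ∑ i, φ (a i) * b i) (k : ℕ)
    (hA : LocMod ρ p (I ^ (k + 1)) (I' ^ (k + 1)))
    (hB : LocMod σ (φ p) ((I.map φ) ^ (k + 1)) ((I'.map φ') ^ (k + 1))) (K : Submodule A (Fin N → A))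
    (hK : ∀ a, a ∈ K ↔ ∑ i, φ (a i) * b i = 0) {a : Fin N → A'} (ha : ∑ i, φ' (a i) * σ (b i) = 0) :
    a ∈ ext ρ K ⊔ vI (I' ^ (k + 1)) := by
  obtain ⟨r, c, hc⟩ := hA.surj_vec a
  have h1 : σ (∑ i, φ (c i) * b i) ∈ (I'.map φ') ^ (k + 1) := by
    rw [← Ideal.map_pow]
    have e : σ (∑ i, φ (c i) * b i) = -∑ i, φ' ((ρ p ^ r • a - ρ ∘ c) i) * σ (b i) := by
      simp only [map_sum, map_mul, hcomm, Pi.sub_apply, Pi.smul_apply, smul_eq_mul, Function.comp_apply, map_sub,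
        map_pow, sub_mul, mul_assoc, Finset.sum_sub_distrib, ← Finset.mul_sum, ha, mul_zero, zero_sub, neg_neg]
    rw [e]
    exact neg_mem (Ideal.sum_mem _ fun i _ => Ideal.mul_mem_right _ _ (Ideal.mem_map_of_mem φ' (mem_vI.1 hc i)))
  obtain ⟨s, hs⟩ := hB.inj _ h1
  rw [← Ideal.map_pow] at hs
  obtain ⟨d, hd, hde⟩ := exists_coeff φ _ b hb hs
  have hk : p ^ s • c - d ∈ K := (hK _).2 <| by
    simp only [Pi.sub_apply, Pi.smul_apply, smul_eq_mul, map_sub, sub_mul, Finset.sum_sub_distrib, ← hde,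
      map_mul, map_pow, mul_assoc, ← Finset.mul_sum, sub_self]
  obtain ⟨g, hg⟩ := hA.unit_pow (s + r)
  have h2 : g • (ρ ∘ (p ^ s • c - d)) ∈ ext ρ K := Submodule.smul_mem _ _ (mem_ext ρ hk)
  rw [← add_sub_cancel (g • (ρ ∘ (p ^ s • c - d))) a]
  refine add_mem (Submodule.mem_sup_left h2) (Submodule.mem_sup_right (mem_vI.2 fun i => ?_))
  have h3 : ρ p ^ r * a i - ρ (c i) ∈ I' ^ (k + 1) := mem_vI.1 hc i
  have h4 : ρ (d i) ∈ I' ^ (k + 1) := hA.map_mem _ (hd i)
  have h5 := (I' ^ (k + 1)).add_mem ((I' ^ (k + 1)).mul_mem_left (g * ρ p ^ s) h3)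
    ((I' ^ (k + 1)).mul_mem_left g h4)
  convert (I' ^ (k + 1)).sub_mem h5 ((I' ^ (k + 1)).mul_mem_right (a i) hg) using 1
  simp only [Pi.sub_apply, Pi.smul_apply, Function.comp_apply, smul_eq_mul, map_sub, map_mul, map_pow]
  ring

end Groth.AdicLinTop.FiniteAdicAlg
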