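import Groth.Agent.AdicLinTop.FPSmall

/-!
# Presentations of the direct image of the structure sheaf
-/

set_option autoImplicit false

universe u

open CategoryTheory CategoryTheory.Limits Opposite TopologicalSpace

set_option backward.defeqAttrib.useBackward true
set_option backward.isDefEq.respectTransparency false
set_option backward.isDefEq.respectTransparency.types false
set_option synthInstance.maxHeartbeats 400000

namespace Groth.AdicLinTop.PushUnit

open Groth.SitesTopoi.ModH Groth.AdicLinTop.SpacePres

variable {T T' : Type u} [TopologicalSpace T] [TopologicalSpace T']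
  {O : Sheaf (Opens.grothendieckTopology T) CommRingCat.{u}}
  {O' : Sheaf (Opens.grothendieckTopology T') CommRingCat.{u}}
  (fn : Opens T' ⥤ Opens T) [fn.IsContinuous (Opens.grothendieckTopology T') (Opens.grothendieckTopology T)]
  [RepresentablyFlat fn]
  (ψ : O' ⟶ (fn.sheafPushforwardContinuous CommRingCat.{u} (Opens.grothendieckTopology T')
    (Opens.grothendieckTopology T)).obj O)

/-- The map on sections of a map of sheaves of rings. -/
noncomputable abbrev pr (W : Opens T') : rsec O' W →+* rsec O (fn.obj W) := (ψ.hom.app (op W)).hom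

/-- Restriction of functions on the preimages. -/
noncomputable abbrev res {U W : Opens T'} (e : W ≤ U) : rsec O (fn.obj U) →+* rsec O (fn.obj W) :=
  rsR (fn.map (homOfLE e))

lemma push_smul (W : Opens T') (a : rsec O' W) (t : rsec O (fn.obj W)) :
    (show rsec O (fn.obj W) from
      (a • (show sc ((ModSite.RMor.ofFlat fn ψ).push.obj (ModSite.unit O)).val W from t) :
        sc ((ModSite.RMor.ofFlat fn ψ).push.obj (ModSite.unit O)).val W)) = pr fn ψ W a * t := rfl

lemma push_rm {U W : Opens T'} (e : W ≤ U) (t : rsec O (fn.obj U)) :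
    (show rsec O (fn.obj W) from rm ((ModSite.RMor.ofFlat fn ψ).push.obj (ModSite.unit O)) e
      (show sc ((ModSite.RMor.ofFlat fn ψ).push.obj (ModSite.unit O)).val U from t)) = res fn e t := rfl

/-- Generators and relations of the direct image of the structure sheaf. -/
theorem nonempty_presData {V : Opens T'} {N l : ℕ} (b : Fin N → rsec O (fn.obj V))
    (e : Fin l → Fin N → rsec O' V) (hz : ∀ q, ∑ i, pr fn ψ V (e q i) * b i = 0)
    (hgen : ∀ (W : Opens T') (_ : W ≤ V) (t : rsec O (fn.obj W)), ∀ x ∈ W, ∃ (W' : Opens T') (hW' : W' ≤ W)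
      (hV : W' ≤ V), x ∈ W' ∧ ∃ a : Fin N → rsec O' W', res fn hW' t = ∑ i, pr fn ψ W' (a i) * res fn hV (b i))
    (hrel : ∀ (W : Opens T') (hW : W ≤ V) (a : Fin N → rsec O' W),
      ∑ i, pr fn ψ W (a i) * res fn hW (b i) = 0 → ∀ x ∈ W, ∃ (W' : Opens T') (hW' : W' ≤ W), x ∈ W' ∧
        ∃ c : Fin l → rsec O' W', ∀ i, rr hW' (a i) = ∑ q, c q * rr (hW'.trans hW) (e q i)) :
    Nonempty (PresData ((ModSite.RMor.ofFlat fn ψ).push.obj (ModSite.unit O)) V N l) :=
  ⟨{ s := b
     gen := fun W hW t x hx => by
      obtain ⟨W', hW', hV', hxW, a, ha⟩ := hgen W hW t x hx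
      exact ⟨W', hW', hxW, a, ha⟩
     r := e
     zero := hz
     rel := hrel }⟩

end Groth.AdicLinTop.PushUnit
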