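import Groth.Agent.AdicLinTop.FiniteAdicAlg
import Groth.Agent.AdicLinTop.PushUnit
import Groth.Agent.AdicLinTop.Thickenings
import Groth.Agent.BlowUpBasics.IdealComap

/-!
# The direct image of the structure sheaf along a finite morphism of formal schemes
-/

set_option autoImplicit false

universe u

open CategoryTheory CategoryTheory.Limits AlgebraicGeometry TopologicalSpace Opposite

set_option backward.defeqAttrib.useBackward true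
set_option backward.isDefEq.respectTransparency false
set_option backward.isDefEq.respectTransparency.types false
set_option synthInstance.maxHeartbeats 400000

namespace Groth.AdicLinTop.FinitePush

open Groth.AdicLinTop.FormalLevels Groth.AdicLinTop.FormalReal Groth.AdicLinTop.FormalAffine
open Groth.AdicLinTop.AffineGlue Groth.AdicLinTop.SpacePres Groth.AdicLinTop.FiniteAdicAlg

variable {𝔛 𝔜 : FSch.Sys.{u}} (f : 𝔛 ⟶ 𝔜) (h𝔛 : 𝔛.IsLocNoethFormal) (h𝔜 : 𝔜.IsLocNoethFormal)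

/-- The preimage in the source. -/
abbrev pre (V : (𝔜.X 0).Opens) : (𝔛.X 0).Opens := (f : FSch.Hom 𝔛 𝔜).app 0 ⁻¹ᵁ V

/-- The map on sections of the structure sheaves. -/
noncomputable abbrev shp (V : (𝔜.X 0).Opens) : RS h𝔜.1 V →+* RS h𝔛.1 (pre f V) :=
  ((FSch.Hom.sharp f h𝔛.1 h𝔜.1).hom.app (op V)).hom

/-- The map on sections at a level. -/
noncomputable abbrev lp (k : ℕ) (V : (𝔜.X 0).Opens) :
    Γ(𝔜.X k, 𝔜.lvU h𝔜.1 k V) →+* Γ(𝔛.X k, 𝔛.lvU h𝔛.1 k (pre f V)) :=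
  (((f : FSch.Hom 𝔛 𝔜).app k).appLE (𝔜.lvU h𝔜.1 k V) (𝔛.lvU h𝔛.1 k (pre f V))
    (FSch.Hom.lvU_preimage f h𝔛.1 h𝔜.1 k V).ge).hom

theorem projR_shp (k : ℕ) (V : (𝔜.X 0).Opens) (a : RS h𝔜.1 V) :
    projR k (pre f V) (shp f h𝔛 h𝔜 V a) = lp f h𝔛 h𝔜 k V (projR k V a) :=
  congr(($(FSch.Hom.sharp_proj f h𝔛.1 h𝔜.1 k)).hom.app (op V) a)

theorem res_shp {U V : (𝔜.X 0).Opens} (e : V ≤ U) (e' : pre f V ≤ pre f U) (a : RS h𝔜.1 U) :
    resR h𝔛.1 e' (shp f h𝔛 h𝔜 U a) = shp f h𝔛 h𝔜 V (resR h𝔜.1 e a) :=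
  (NatTrans.naturality_apply (FSch.Hom.sharp f h𝔛.1 h𝔜.1).hom (homOfLE e).op a).symm

include h𝔛 in
theorem pre_bas {V : (𝔜.X 0).Opens} (p : RS h𝔜.1 V) :
    bas h𝔛 (shp f h𝔛 h𝔜 V p) = pre f (bas h𝔜 p) := by
  unfold bas
  rw [projR_shp]
  refine (Scheme.basicOpen_appLE _ _ _ _ _).trans (inf_eq_right.2 ?_)
  exact ((Opens.map _).map (homOfLE ((𝔜.X 0).basicOpen_le _))).le.trans
    (FSch.Hom.lvU_preimage f h𝔛.1 h𝔜.1 0 V).le

variable (hf : FSch.IsFiniteHom f) {V : (𝔜.X 0).Opens}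

include hf in
theorem isAffineOpen_pre (hV : IsAffineOpen V) : IsAffineOpen (pre f V) :=
  haveI := hf.2
  hV.preimage _

include hf in
/-- The ideal of definition of the source is generated by that of the target. -/
theorem map_idl (hV : IsAffineOpen V) :
    (idl h𝔜.1 V).map (shp f h𝔛 h𝔜 V) = idl h𝔛.1 (pre f V) := by
  have hW := isAffineOpen_pre f hf hV
  obtain ⟨hcW, hpW, hfgW⟩ := FormalLevels.adic h𝔛 hW
  obtain ⟨-, hpV, -⟩ := FormalLevels.adic h𝔜 hV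
  have hle : (idl h𝔜.1 V).map (shp f h𝔛 h𝔜 V) ≤ idl h𝔛.1 (pre f V) := by
    rw [Ideal.map_le_iff_le_comap]
    intro a ha
    rw [Ideal.mem_comap, RingHom.mem_ker]
    refine (projR_shp f h𝔛 h𝔜 0 V a).trans ?_
    rw [show projR 0 V a = 0 from ha, map_zero]
  refine le_antisymm hle (Submodule.le_of_le_smul_of_le_jacobson_bot hfgW
    (IsAdicComplete.le_jacobson_bot (idl h𝔛.1 (pre f V))) fun b hb => ?_)
  have := (h𝔛.1 0).1
  have := (h𝔜.1 0).1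
  let VV : (𝔜.X (0 + 1)).affineOpens := ⟨_, isAffineOpen_lvU h𝔜.1 hV (0 + 1)⟩
  let WW : (𝔛.X (0 + 1)).affineOpens := ⟨_, isAffineOpen_lvU h𝔛.1 hW (0 + 1)⟩
  have hb1 : projR (0 + 1) (pre f V) b ∈ (𝔛.ι 0).ker.ideal WW := by
    rw [← ker_appLE_eq (𝔛.ι 0) WW _ (𝔛.lvU_le h𝔛.1 0 _) (𝔛.lvU_succ h𝔛.1 0 _).le, RingHom.mem_ker]
    exact (OshProj_levelMap_apply h𝔛.1 _ 0 b).trans hb
  rw [Thickenings.ker_eq_comap_of_isPullback (hf.1 0),
    Groth.BlowUpBasics.ideal_comap _ _ VV WW (FSch.Hom.lvU_preimage f h𝔛.1 h𝔜.1 (0 + 1) V).ge] at hb1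
  have hid : (𝔜.ι 0).ker.ideal VV = (idl h𝔜.1 V).map ((𝔜.OshProj h𝔜.1 (0 + 1)).hom.app (op V)).hom := by
    rw [← ker_appLE_eq (𝔜.ι 0) VV _ (𝔜.lvU_le h𝔜.1 0 V) (𝔜.lvU_succ h𝔜.1 0 V).le]
    refine le_antisymm (fun x hx => ?_) ?_
    · obtain ⟨a, rfl⟩ := (hpV (0 + 1)).1 x
      exact Ideal.mem_map_of_mem _ ((OshProj_levelMap_apply h𝔜.1 V 0 a).symm.trans hx)
    · exact Ideal.map_le_iff_le_comap.2 fun a ha => (OshProj_levelMap_apply h𝔜.1 V 0 a).trans ha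
  rw [hid] at hb1
  have hcomp : (lp f h𝔛 h𝔜 (0 + 1) V).comp ((𝔜.OshProj h𝔜.1 (0 + 1)).hom.app (op V)).hom =
      ((𝔛.OshProj h𝔛.1 (0 + 1)).hom.app (op (pre f V))).hom.comp (shp f h𝔛 h𝔜 V) :=
    RingHom.ext fun a => (projR_shp f h𝔛 h𝔜 (0 + 1) V a).symm
  obtain ⟨c, hc, hcb⟩ := (Ideal.mem_map_iff_of_surjective _ (hpW (0 + 1)).1).1
    ((map_map_comm hcomp (idl h𝔜.1 V)).le hb1)
  refine Submodule.mem_sup.2 ⟨c, hc, b - c, ?_, add_sub_cancel _ _⟩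
  rw [smul_eq_mul, ← pow_two, mem_pow_iff h𝔛 hW 1]
  show projR (0 + 1) (pre f V) (b - c) = 0
  exact (map_sub _ _ _).trans (sub_eq_zero.2 hcb.symm)

include hf in
/-- Sections over the preimage of an affine open form a finite algebra. -/
theorem exists_gens (hV : IsAffineOpen V) : ∃ (N : ℕ) (b : Fin N → RS h𝔛.1 (pre f V)),
    ∀ v, ∃ a : Fin N → RS h𝔜.1 V, v = ∑ i, shp f h𝔛 h𝔜 V (a i) * b i := by
  have hW := isAffineOpen_pre f hf hV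
  have := hf.2
  haveI := (FormalLevels.adic h𝔜 hV).1
  haveI : IsHausdorff ((idl h𝔜.1 V).map (shp f h𝔛 h𝔜 V)) (RS h𝔛.1 (pre f V)) := by
    rw [map_idl f h𝔛 h𝔜 hf hV]
    exact (FormalLevels.adic h𝔛 hW).1.toIsHausdorff
  have hfin : (lp f h𝔛 h𝔜 0 V).Finite := by
    rw [lp, Scheme.Hom.appLE, CommRingCat.hom_comp]
    refine RingHom.Finite.comp (RingHom.Finite.of_surjective _
      (bijective_res _ (FSch.Hom.lvU_preimage f h𝔛.1 h𝔜.1 0 V).le).2) ?_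
    exact ((f : FSch.Hom 𝔛 𝔜).app 0).finite_app _ (isAffineOpen_lvU h𝔜.1 hV 0)
  algebraize [lp f h𝔛 h𝔜 0 V]
  have : Module.Finite Γ(𝔜.X 0, 𝔜.lvU h𝔜.1 0 V) Γ(𝔛.X 0, 𝔛.lvU h𝔛.1 0 (pre f V)) := hfin
  obtain ⟨N, y, hy⟩ := Module.Finite.exists_fin (R := Γ(𝔜.X 0, 𝔜.lvU h𝔜.1 0 V))
    (M := Γ(𝔛.X 0, 𝔛.lvU h𝔛.1 0 (pre f V)))
  choose b hb using fun i => ((FormalLevels.adic h𝔛 hW).2.1 0).1 (y i)
  refine ⟨N, b, fun v => gen_of_gen_mod _ (idl h𝔜.1 V) b (fun w => ?_) v⟩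
  obtain ⟨c, hc⟩ := (Submodule.mem_span_range_iff_exists_fun _).1
    (hy.symm ▸ Submodule.mem_top : projR 0 (pre f V) w ∈ Submodule.span Γ(𝔜.X 0, 𝔜.lvU h𝔜.1 0 V) (Set.range y))
  choose a ha using fun i => ((FormalLevels.adic h𝔜 hV).2.1 0).1 (c i)
  refine ⟨a, ?_⟩
  rw [map_idl f h𝔛 h𝔜 hf hV]
  show ((𝔛.OshProj h𝔛.1 0).hom.app (op (pre f V))).hom (w - _) = 0
  rw [map_sub, map_sum, sub_eq_zero]
  refine hc.symm.trans (Finset.sum_congr rfl fun i _ => ?_)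
  rw [map_mul, ← hb i, ← ha i, Algebra.smul_def]
  exact congrArg (fun z : Γ(𝔛.X 0, 𝔛.lvU h𝔛.1 0 (pre f V)) =>
    z * (show Γ(𝔛.X 0, 𝔛.lvU h𝔛.1 0 (pre f V)) from projR 0 (pre f V) (b i))) (projR_shp f h𝔛 h𝔜 0 V (a i)).symm

include hf in
/-- The direct image of the structure sheaf is presented over every affine open. -/
theorem exists_presData (hV : IsAffineOpen V) : ∃ (N l : ℕ),
    Nonempty (PresData ((FSch.pushF f h𝔛.1 h𝔜.1).obj (FSch.unitF 𝔛 h𝔛.1)) V N l) := by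
  obtain ⟨N, b, hb⟩ := exists_gens f h𝔛 h𝔜 hf hV
  have hW := isAffineOpen_pre f hf hV
  haveI := isNoetherianRing h𝔜 hV
  let K : Submodule (RS h𝔜.1 V) (Fin N → RS h𝔜.1 V) :=
    { carrier := {a | ∑ i, shp f h𝔛 h𝔜 V (a i) * b i = 0}
      add_mem' := fun {a c} ha hc => by
        simp only [Set.mem_setOf_eq, Pi.add_apply, map_add, add_mul, Finset.sum_add_distrib] at *
        rw [ha, hc, add_zero]
      zero_mem' := by simp
      smul_mem' := fun r a ha => by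
        simp only [Set.mem_setOf_eq, Pi.smul_apply, smul_eq_mul, map_mul, mul_assoc, ← Finset.mul_sum] at *
        rw [ha, mul_zero] }
  obtain ⟨l, e, he⟩ := Submodule.fg_iff_exists_fin_generating_family.1 (IsNoetherian.noetherian K)
  have hcomm : ∀ (p : RS h𝔜.1 V) (a : RS h𝔜.1 V),
      resR h𝔛.1 (Scheme.Hom.preimage_mono _ (bas_le h𝔜 p)) (shp f h𝔛 h𝔜 V a) =
        shp f h𝔛 h𝔜 (bas h𝔜 p) (resR h𝔜.1 (bas_le h𝔜 p) a) := fun p a => res_shp f h𝔛 h𝔜 _ _ a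
  have hloc : ∀ (p : RS h𝔜.1 V) (k : ℕ),
      LocMod (resR h𝔛.1 (Scheme.Hom.preimage_mono _ (bas_le h𝔜 p))) (shp f h𝔛 h𝔜 V p)
        (((idl h𝔜.1 V).map (shp f h𝔛 h𝔜 V)) ^ (k + 1))
        (((idl h𝔜.1 (bas h𝔜 p)).map (shp f h𝔛 h𝔜 (bas h𝔜 p))) ^ (k + 1)) := fun p k => by
    rw [map_idl f h𝔛 h𝔜 hf hV, map_idl f h𝔛 h𝔜 hf (isAffineOpen_bas h𝔜 hV p)]
    have hh := locMod h𝔛 hW (shp f h𝔛 h𝔜 V p) k
    have key : ∀ (U : (𝔛.X 0).Opens) (hU : U ≤ pre f V), U = bas h𝔛 (shp f h𝔛 h𝔜 V p) →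
        LocMod (resR h𝔛.1 hU) (shp f h𝔛 h𝔜 V p) (idl h𝔛.1 (pre f V) ^ (k + 1))
          (idl h𝔛.1 U ^ (k + 1)) := by
      rintro U hU rfl
      exact hh
    exact key _ _ (pre_bas f h𝔛 h𝔜 p).symm
  refine ⟨N, l, PushUnit.nonempty_presData _ _ b e (fun q => ?_) (fun W hW' t x hx => ?_)
    (fun W hW' a ha x hx => ?_)⟩
  · exact (he ▸ Submodule.subset_span ⟨q, rfl⟩ : e q ∈ K)
  · obtain ⟨p, hxp, hpW⟩ := exists_bas_le h𝔜 hV (hW' hx) W hx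
    haveI := (FormalLevels.adic h𝔜 (isAffineOpen_bas h𝔜 hV p)).1
    haveI : IsHausdorff ((idl h𝔜.1 (bas h𝔜 p)).map (shp f h𝔛 h𝔜 (bas h𝔜 p))) (RS h𝔛.1 (pre f (bas h𝔜 p))) := by
      rw [map_idl f h𝔛 h𝔜 hf (isAffineOpen_bas h𝔜 hV p)]
      exact (FormalLevels.adic h𝔛 (isAffineOpen_pre f hf (isAffineOpen_bas h𝔜 hV p))).1.toIsHausdorff
    have hA := locMod h𝔜 hV p 0
    have hB := hloc p 0
    simp only [zero_add, pow_one] at hA hB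
    obtain ⟨a, ha⟩ := gen_loc _ _ _ _ b (hcomm p) hb hA hB
      (resR h𝔛.1 (Scheme.Hom.preimage_mono _ hpW) t)
    exact ⟨bas h𝔜 p, hpW, bas_le h𝔜 p, hxp, a, ha⟩
  · obtain ⟨p, hxp, hpW⟩ := exists_bas_le h𝔜 hV (hW' hx) W hx
    have hp := isAffineOpen_bas h𝔜 hV p
    have ha' : ∑ i, shp f h𝔛 h𝔜 (bas h𝔜 p) (resR h𝔜.1 hpW (a i)) *
        resR h𝔛.1 (Scheme.Hom.preimage_mono _ (bas_le h𝔜 p)) (b i) = 0 := by
      refine Eq.trans ?_ (map_zero (resR h𝔛.1 (Scheme.Hom.preimage_mono _ hpW)))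
      rw [← ha, map_sum]
      refine Finset.sum_congr rfl fun i _ => ?_
      rw [map_mul]
      exact congrArg₂ (· * ·) (res_shp f h𝔛 h𝔜 hpW _ (a i)).symm (rr_rr _ _ _).symm
    have hmem : (fun i => resR h𝔜.1 hpW (a i)) ∈ ext (resR h𝔜.1 (bas_le h𝔜 p)) K :=
      mem_of_forall_mem_sup h𝔜 hp _ fun k => by
        obtain ⟨w, hw, w', hw', hww⟩ := Submodule.mem_sup.1
          (rel_loc_mod _ _ _ _ b (hcomm p) hb k (locMod h𝔜 hV p k) (hloc p k) K (fun _ => Iff.rfl) ha')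
        rw [← hww]
        exact add_mem (Submodule.mem_sup_left hw)
          (Submodule.mem_sup_right (FormalSpan.mem_smul_top_of_apply_mem _ (mem_vI.1 hw')))
    have hmem' : (fun i => resR h𝔜.1 hpW (a i)) ∈ Submodule.span (RS h𝔜.1 (bas h𝔜 p))
        (Set.range fun q => resR h𝔜.1 (bas_le h𝔜 p) ∘ e q) := by
      refine Submodule.span_le.2 ?_ hmem
      rintro _ ⟨v, hv, rfl⟩
      obtain ⟨c, rfl⟩ := (Submodule.mem_span_range_iff_exists_fun _).1 (he.symm ▸ hv :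
        v ∈ Submodule.span (RS h𝔜.1 V) (Set.range e))
      refine (Submodule.mem_span_range_iff_exists_fun _).2 ⟨fun q => resR h𝔜.1 (bas_le h𝔜 p) (c q), ?_⟩
      funext i
      simp only [Finset.sum_apply, Pi.smul_apply, smul_eq_mul, Function.comp_apply, map_sum, map_mul]
    obtain ⟨c, hc⟩ := (Submodule.mem_span_range_iff_exists_fun _).1 hmem'
    refine ⟨bas h𝔜 p, hpW, hxp, c, fun i => ?_⟩
    have h := congrFun hc i
    simp only [Finset.sum_apply, Pi.smul_apply, smul_eq_mul, Function.comp_apply] at h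
    exact h.symm

end Groth.AdicLinTop.FinitePush
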