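import Mathlib.RingTheory.Flat.Tensor
import Mathlib.RingTheory.Flat.Stability
import Mathlib.RingTheory.Flat.Localization
import Mathlib.RingTheory.Localization.BaseChange
import Mathlib.LinearAlgebra.TensorProduct.RightExactness
import Mathlib.LinearAlgebra.TensorProduct.Tower
import Mathlib.RingTheory.Localization.Away.Basic
import Mathlib.Algebra.Module.Torsion.Basic

/-!
Flatness criterion by torsion, reduction and localization at one element.
-/

open TensorProduct Pointwise

universe u v w

namespace Groth.AdicLinTop.FlatTorsion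

variable {A : Type u} [CommRing A] {π : A} {M : Type v} [AddCommGroup M] [Module A M]

theorem exists_eq_smul_of_rTensor_mkQ {Q : Type w} [AddCommGroup Q] [Module A Q] (z : Q ⊗[A] M)
    (hz : (Ideal.span {π} • (⊤ : Submodule A Q)).mkQ.rTensor M z = 0) : ∃ z', z = π • z' := by
  have hex : Function.Exact (π • LinearMap.id : Q →ₗ[A] Q)
      (Ideal.span {π} • (⊤ : Submodule A Q)).mkQ := by
    rw [LinearMap.exact_iff, Submodule.ker_mkQ]
    ext x
    rw [Submodule.ideal_span_singleton_smul, Submodule.mem_smul_pointwise_iff_exists]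
    simp [eq_comm]
  obtain ⟨z', rfl⟩ := (rTensor_exact M hex (Submodule.mkQ_surjective _) z).mp hz
  exact ⟨z', by simp [LinearMap.rTensor_smul]⟩

theorem rTensor_injective_of_annihilated
    (hflat : Module.Flat (A ⧸ Ideal.span {π}) ((A ⧸ Ideal.span {π}) ⊗[A] M))
    {Q F : Type w} [AddCommGroup Q] [Module A Q] [AddCommGroup F] [Module A F]
    [Module (A ⧸ Ideal.span {π}) Q] [IsScalarTower A (A ⧸ Ideal.span {π}) Q]
    [Module (A ⧸ Ideal.span {π}) F] [IsScalarTower A (A ⧸ Ideal.span {π}) F]
    (f : Q →ₗ[A ⧸ Ideal.span {π}] F) (hf : Function.Injective f) :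
    Function.Injective ((f.restrictScalars A).rTensor M) := by
  let eQ := AlgebraTensorModule.cancelBaseChange A (A ⧸ Ideal.span {π}) (A ⧸ Ideal.span {π}) Q M
  let eF := AlgebraTensorModule.cancelBaseChange A (A ⧸ Ideal.span {π}) (A ⧸ Ideal.span {π}) F M
  have key : ∀ w, (f.restrictScalars A).rTensor M w =
      eF (f.rTensor ((A ⧸ Ideal.span {π}) ⊗[A] M) (eQ.symm w)) := fun w => by
    induction w using TensorProduct.induction_on with
    | zero => simp
    | tmul q m => simp [eQ, eF]
    | add a b ha hb => simp only [map_add, ha, hb]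
  intro x y hxy
  rw [key, key] at hxy
  exact eQ.symm.injective
    (Module.Flat.rTensor_preserves_injective_linearMap f hf (eF.injective hxy))

theorem smul_eq_zero_imp_of_cover
    (hflat : Module.Flat (A ⧸ Ideal.span {π}) ((A ⧸ Ideal.span {π}) ⊗[A] M))
    {P : Type u} [AddCommGroup P] [Module A P] (hP : ∀ p : P, π • p = 0 → p = 0)
    {F : Type u} [AddCommGroup F] [Module A F] (g : F →ₗ[A] P) (hg : Function.Surjective g)
    (hF : ∀ w : F ⊗[A] M, π • w = 0 → w = 0)
    (x : P ⊗[A] M) (hx : π • x = 0) : x = 0 := by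
  let K : Submodule A F := LinearMap.ker g
  let i : K →ₗ[A] F := K.subtype
  have hex : Function.Exact i g := LinearMap.exact_subtype_ker_map g
  have hexM := rTensor_exact (R := A) (M := K) (N := F) (P := P) M hex hg
  obtain ⟨y, rfl⟩ := LinearMap.rTensor_surjective M hg x
  rw [← map_smul] at hx
  obtain ⟨z, hz⟩ := (hexM _).mp hx
  let SQ : Submodule A K := Ideal.span {π} • ⊤
  let SF : Submodule A F := Ideal.span {π} • ⊤
  have hle : SQ ≤ SF.comap i := Submodule.smul_top_le_comap_smul_top _ i
  let fbar : (K ⧸ SQ) →ₗ[A ⧸ Ideal.span {π}] (F ⧸ SF) :=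
    (SQ.mapQ SF i hle).extendScalarsOfSurjective Ideal.Quotient.mk_surjective
  have hinj : Function.Injective fbar := by
    refine (injective_iff_map_eq_zero _).mpr fun q hq => ?_
    obtain ⟨q, rfl⟩ := SQ.mkQ_surjective q
    have h1 : i q ∈ SF := (Submodule.Quotient.mk_eq_zero _).mp hq
    rw [show SF = π • ⊤ from Submodule.ideal_span_singleton_smul _ _,
      Submodule.mem_smul_pointwise_iff_exists] at h1
    obtain ⟨w, -, hw⟩ := h1
    have hgw : g w = 0 := hP _ (by rw [← map_smul, hw]; exact q.2)
    refine (Submodule.Quotient.mk_eq_zero _).mpr ?_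
    rw [show SQ = π • ⊤ from Submodule.ideal_span_singleton_smul _ _,
      Submodule.mem_smul_pointwise_iff_exists]
    exact ⟨⟨w, hgw⟩, Submodule.mem_top, Subtype.ext hw⟩
  have h2 : SF.mkQ.rTensor M (i.rTensor M z) = 0 := by
    rw [hz, map_smul]
    have h : π • SF.mkQ.rTensor M y = (π • SF.mkQ).rTensor M y := by
      rw [LinearMap.rTensor_smul]; rfl
    rw [h, show π • SF.mkQ = 0 from LinearMap.ext fun w => by
      rw [LinearMap.smul_apply, ← map_smul]
      exact (Submodule.Quotient.mk_eq_zero _).mpr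
        (Submodule.smul_mem_smul (Ideal.mem_span_singleton_self π) Submodule.mem_top)]
    simp
  have h3 : SQ.mkQ.rTensor M z = 0 := by
    apply rTensor_injective_of_annihilated hflat fbar hinj
    rw [map_zero, ← h2, ← LinearMap.rTensor_comp_apply, ← LinearMap.rTensor_comp_apply]
    rfl
  obtain ⟨z', rfl⟩ := exists_eq_smul_of_rTensor_mkQ z h3
  have h5 : y - i.rTensor M z' = 0 := hF _ (by rw [smul_sub, ← map_smul, hz, sub_self])
  rw [sub_eq_zero.mp h5]
  exact hexM.apply_apply_eq_zero z'

theorem smul_eq_zero_imp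
    (htor : ∀ (x : M) (n : ℕ), π ^ n • x = 0 → x = 0)
    (hflat : Module.Flat (A ⧸ Ideal.span {π}) ((A ⧸ Ideal.span {π}) ⊗[A] M))
    {P : Type u} [AddCommGroup P] [Module A P] (hP : ∀ p : P, π • p = 0 → p = 0)
    (x : P ⊗[A] M) (hx : π • x = 0) : x = 0 := by
  classical
  refine smul_eq_zero_imp_of_cover hflat hP (Finsupp.linearCombination A (id : P → P))
    (fun p => ⟨Finsupp.single p 1, by simp⟩) (fun w hw => ?_) x hx
  let e := TensorProduct.finsuppScalarLeft A M P
  apply e.injective
  rw [map_zero]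
  ext p
  refine htor _ 1 ?_
  have := DFunLike.congr_fun (congrArg e hw) p
  rw [map_smul, map_zero] at this
  simpa using this

theorem flat_of_torsion_mod_away (hπ : π ∈ nonZeroDivisors A)
    (htor : ∀ (x : M) (n : ℕ), π ^ n • x = 0 → x = 0)
    (hflat : Module.Flat (A ⧸ Ideal.span {π}) ((A ⧸ Ideal.span {π}) ⊗[A] M))
    (hloc : Module.Flat (Localization.Away π) ((Localization.Away π) ⊗[A] M)) :
    Module.Flat A M := by
  refine Module.Flat.iff_rTensor_injective'.mpr fun J => (injective_iff_map_eq_zero _).mpr fun x hx => ?_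
  have hnt : ∀ (n : ℕ) (x : J ⊗[A] M), π ^ n • x = 0 → x = 0 := by
    intro n
    induction n with
    | zero => simp
    | succ n ih =>
      intro x hx
      refine ih x ?_
      refine smul_eq_zero_imp htor hflat (fun p hp => Subtype.ext ?_) _ (by rw [smul_smul, ← pow_succ', hx])
      exact hπ.1 _ (by simpa [mul_comm] using congrArg Subtype.val hp)
  haveI := hloc
  haveI : Module.Flat A (Localization.Away π ⊗[A] M) := Module.Flat.trans A (Localization.Away π) _
  let T := Localization.Away π
  let φ : M →ₗ[A] T ⊗[A] M := TensorProduct.mk A T M 1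
  have h1 : φ.lTensor J x = 0 := by
    apply Module.Flat.rTensor_preserves_injective_linearMap (M := T ⊗[A] M) J.subtype J.subtype_injective
    rw [map_zero, ← LinearMap.comp_apply, LinearMap.rTensor_comp_lTensor,
      ← LinearMap.lTensor_comp_rTensor, LinearMap.comp_apply, hx, map_zero]
  have key : ∀ w, TensorProduct.mk A T (J ⊗[A] M) 1 w =
      TensorProduct.leftComm A J T M (φ.lTensor J w) := fun w => by
    induction w using TensorProduct.induction_on with
    | zero => simp
    | tmul q m => simp [φ]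
    | add a b ha hb => simp only [map_add, ha, hb]
  have h2 : TensorProduct.mk A T (J ⊗[A] M) 1 x = 0 := by rw [key, h1, map_zero]
  obtain ⟨⟨_, n, rfl⟩, hn⟩ :=
    (IsLocalizedModule.eq_zero_iff (Submonoid.powers π) (TensorProduct.mk A T (J ⊗[A] M) 1)).mp h2
  exact hnt n x hn

end Groth.AdicLinTop.FlatTorsion
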