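import Groth.Agent.AdicLinTop.FormalCoh

/-!
# Epimorphisms of coherent modules on a formal scheme
-/

set_option autoImplicit false

universe u

open CategoryTheory CategoryTheory.Limits AlgebraicGeometry TopologicalSpace Opposite

namespace Groth.AdicLinTop.FormalEpi

open Groth.AdicLinTop.FormalLevels Groth.AdicLinTop.FormalReal Groth.AdicLinTop.FormalAffine
open Groth.AdicLinTop.FormalSpan Groth.AdicLinTop.FormalPull Groth.AdicLinTop.FormalCoh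

variable {𝔛 : FSch.Sys.{u}} (h𝔛 : 𝔛.IsLocNoethFormal) {𝔉 𝔊 : FSch.ModF 𝔛 h𝔛.1}

/-- The map induced on the inverse images to a level. -/
noncomputable abbrev pullMap (θ : 𝔉 ⟶ 𝔊) (k : ℕ) : pullk h𝔛.1 𝔉 k ⟶ pullk h𝔛.1 𝔊 k :=
  (FSch.levelMor 𝔛 h𝔛.1 k).pull.map θ

theorem ηk_app (θ : 𝔉 ⟶ 𝔊) (k : ℕ) (U : (𝔛.X 0).Opens) (x : Sec 𝔉 U) :
    ηk h𝔛.1 𝔊 k U (app θ U x) =
      (pullMap h𝔛 θ k).app (𝔛.lvU h𝔛.1 k U) (ηk h𝔛.1 𝔉 k U x) :=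
  congrArg (pushEquiv k (pullk h𝔛.1 𝔊 k) U) (congr(app $((FSch.levelMor 𝔛 h𝔛.1 k).adj.unit.naturality θ) U x))

/-- A morphism of coherent modules that is an epimorphism on the smallest level is an epimorphism. -/
theorem epi_of_epi_pull_zero (h𝔉 : FSch.IsCohF 𝔛 h𝔛.1 𝔉) (h𝔊 : FSch.IsCohF 𝔛 h𝔛.1 𝔊) (θ : 𝔉 ⟶ 𝔊)
    (hθ : Epi ((FSch.levelMor 𝔛 h𝔛.1 0).pull.map θ)) : Epi θ := by
  refine ⟨fun a b e => SheafOfModules.hom_ext (PresheafOfModules.hom_ext fun U => ?_)⟩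
  ext x
  refine SpaceGlue.eq_of_local fun p hp => ?_
  obtain ⟨V₁, hV₁, hpV₁, hV₁U⟩ := exists_good h𝔛 h𝔊 U.unop p hp
  obtain ⟨V₂, ⟨hV₂, n, m, ⟨P⟩⟩, hpV₂, hV₂V₁⟩ := exists_good h𝔛 h𝔉 V₁ p hpV₁
  refine ⟨V₂, hV₂V₁.trans hV₁U, hpV₂, (rs_app a (hV₂V₁.trans hV₁U) x).symm.trans
    (Eq.trans ?_ (rs_app b (hV₂V₁.trans hV₁U) x))⟩
  suffices hs : Function.Surjective (app θ V₂) by
    obtain ⟨z, hz⟩ := hs (rs 𝔊 (hV₂V₁.trans hV₁U) x)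
    rw [← hz, ← app_comp, ← app_comp, e]
  have h𝔐 := isCoh_sys h𝔛 h𝔊
  have := (isCoh_sys h𝔛 h𝔉 0).1
  have := (h𝔐 0).1
  have hspan := span_of_lev_zero h𝔛 h𝔐 hV₂ (fun i => app (ηmap h𝔛.1 𝔊) V₂ (app θ V₂ (P.s i)))
    (eq_top_iff.2 fun y _ => by
      obtain ⟨z, rfl⟩ := @Groth.QCohMod.app_surjective_of_epi _ (pullk h𝔛.1 𝔉 0) (pullk h𝔛.1 𝔊 0) ‹_› ‹_›
        (pullMap h𝔛 θ 0) hθ _ (isAffineOpen_lvU h𝔛.1 hV₂ 0) y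
      obtain ⟨c, rfl⟩ := (spec_lev P hV₂ 0).1 z
      rw [map_sum]
      refine Submodule.sum_mem _ fun i _ => ?_
      rw [Scheme.Modules.Hom.app_smul]
      exact Submodule.smul_mem _ _ (Submodule.subset_span ⟨i, (lev_ηmap h𝔛.1 𝔊 0 V₂ _).trans (ηk_app h𝔛 θ 0 V₂ _)⟩))
  intro w
  obtain ⟨c, hc⟩ := (Submodule.mem_span_range_iff_exists_fun _).1
    (hspan ▸ Submodule.mem_top : app (ηmap h𝔛.1 𝔊) V₂ w ∈ _)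
  refine ⟨∑ i, c i • P.s i, ηmap_injective h𝔛 h𝔊 V₂ (Eq.trans ?_ hc)⟩
  refine (congrArg (app (ηmap h𝔛.1 𝔊) V₂) (map_sum _ _ _)).trans ((map_sum _ _ _).trans (Finset.sum_congr rfl fun i _ => ?_))
  exact (congrArg _ ((app θ V₂).map_smul (c i) _)).trans ((app (ηmap h𝔛.1 𝔊) V₂).map_smul (c i) _)

theorem epi_iff (h𝔉 : FSch.IsCohF 𝔛 h𝔛.1 𝔉) (h𝔊 : FSch.IsCohF 𝔛 h𝔛.1 𝔊) (θ : 𝔉 ⟶ 𝔊) :
    Epi θ ↔ Epi ((FSch.levelMor 𝔛 h𝔛.1 0).pull.map θ) :=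
  ⟨fun hθ => by
    have : (FSch.levelMor 𝔛 h𝔛.1 0).pull.IsLeftAdjoint := (FSch.levelMor 𝔛 h𝔛.1 0).adj.isLeftAdjoint
    infer_instance,
   epi_of_epi_pull_zero h𝔛 h𝔉 h𝔊 θ⟩

end Groth.AdicLinTop.FormalEpi
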