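import Groth.Agent.AdicLinTop.FormalIdeal

/-!
# Kernels of maps from free modules to the structure sheaf of a formal scheme
-/

set_option autoImplicit false

universe u

open CategoryTheory CategoryTheory.Limits AlgebraicGeometry TopologicalSpace Opposite

namespace Groth.AdicLinTop.FormalFree

open Groth.AdicLinTop.FormalLevels Groth.AdicLinTop.FormalReal Groth.AdicLinTop.FormalAffine
open Groth.AdicLinTop.FormalSpan Groth.AdicLinTop.FormalIdeal

variable {𝔛 : FSch.Sys.{u}} {h : 𝔛.IsFormal}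

theorem rs_unit_one {U V : (𝔛.X 0).Opens} (e : V ≤ U) :
    rs (FSch.unitF 𝔛 h) e (1 : RS h U) = (1 : RS h V) :=
  map_one (resR h e)

theorem app_sum_hom {M N : FSch.ModF 𝔛 h} {ι : Type*} (s : Finset ι) (f : ι → (M ⟶ N)) (U : (𝔛.X 0).Opens)
    (m : Sec M U) : app (∑ i ∈ s, f i) U m = ∑ i ∈ s, app (f i) U m := by
  classical
  induction s using Finset.induction with
  | empty => simp only [Finset.sum_empty, app_zero]
  | insert a s ha ih =>
    rw [Finset.sum_insert ha, Finset.sum_insert ha, ← ih]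
    rfl

/-- Generators of the kernel from generators over the affine opens. -/
theorem nonempty_genData_kernel' {M N : FSch.ModF 𝔛 h} (φ : M ⟶ N) {U : (𝔛.X 0).Opens} {l : ℕ}
    (g : Fin l → Sec M U) (hg : ∀ j, app φ U (g j) = 0)
    (hgen : ∀ (V : (𝔛.X 0).Opens) (hVU : V ≤ U), IsAffineOpen V → ∀ a : Sec M V, app φ V a = 0 →
      a ∈ Submodule.span (RS h V) (Set.range fun j => rs M hVU (g j))) :
    Nonempty (SpacePres.GenData (O := 𝔛.Osh h) (kernel φ) U l) := by
  choose s hs using fun j => (ker_spec φ U).2 (g j) (hg j)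
  refine ⟨{ s := s, gen := fun W hW t x hx => ?_ }⟩
  obtain ⟨_, ⟨V, hV, rfl⟩, hxV, hVW⟩ := (𝔛.X 0).isBasis_affineOpens.exists_subset_of_mem_open hx W.2
  have hVW : V ≤ W := hVW
  have hVU : V ≤ U := hVW.trans hW
  obtain ⟨c, hc⟩ := (Submodule.mem_span_range_iff_exists_fun _).1
    (hgen V hVU hV (app (kernel.ι φ) V (rs (kernel φ) hVW t)) (app_app_kernel_ι φ V (rs (kernel φ) hVW t)))
  refine ⟨V, hVW, hxV, c, (ker_spec φ V).1 ?_⟩
  refine hc.symm.trans (Eq.symm ((map_sum _ _ _).trans (Finset.sum_congr rfl fun j _ => ?_)))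
  refine ((app (kernel.ι φ) V).map_smul (c j) (rs (kernel φ) hVU (s j))).trans (congrArg (c j • ·) ?_)
  exact (rs_app (kernel.ι φ) hVU (s j)).trans (congrArg (rs M hVU) (hs j))

variable {I : Type u} [Fintype I] [DecidableEq I]

variable (h) in
/-- A coordinate of the free module. -/
noncomputable def coordF (i : I) :
    (SheafOfModules.free I : FSch.ModF 𝔛 h) ⟶ FSch.unitF 𝔛 h :=
  Cofan.IsColimit.desc (SheafOfModules.isColimitFreeCofan I) fun j => if j = i then 𝟙 _ else 0

variable (h) in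
/-- An inclusion into the free module. -/
noncomputable abbrev inclF (i : I) : FSch.unitF 𝔛 h ⟶ (SheafOfModules.free I : FSch.ModF 𝔛 h) :=
  SheafOfModules.ιFree i

theorem incl_coordF (i j : I) : inclF h j ≫ coordF h i = if j = i then 𝟙 _ else 0 :=
  Cofan.IsColimit.fac (SheafOfModules.isColimitFreeCofan I) _ j

variable (h) in
theorem sum_coordF : ∑ i : I, coordF h i ≫ inclF h i = 𝟙 _ := by
  refine Cofan.IsColimit.hom_ext (SheafOfModules.isColimitFreeCofan I) _ _ fun j => ?_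
  show inclF h j ≫ ∑ i, coordF h i ≫ inclF h i = inclF h j ≫ 𝟙 _
  rw [Preadditive.comp_sum, Category.comp_id]
  refine (Finset.sum_eq_single j (fun i _ hij => ?_) (fun hj => absurd (Finset.mem_univ j) hj)).trans ?_
  · rw [← Category.assoc, incl_coordF, if_neg (Ne.symm hij), zero_comp]
  · rw [← Category.assoc, incl_coordF, if_pos rfl, Category.id_comp]

theorem sec_free_eq (U : (𝔛.X 0).Opens) (m : Sec (SheafOfModules.free I : FSch.ModF 𝔛 h) U) :
    m = ∑ i : I, (app (coordF h i) U m : RS h U) • app (inclF h i) U (1 : RS h U) := by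
  conv_lhs => rw [show m = app (𝟙 _) U m from rfl, ← sum_coordF h (I := I), app_sum_hom]
  exact Finset.sum_congr rfl fun i _ => app_unit_eq_smul (inclF h i) U _

variable (h𝔛 : 𝔛.IsLocNoethFormal)

include h𝔛 in
/-- The kernel of a map from a free module to the structure sheaf is generated over affine opens. -/
theorem nonempty_genData_kernel_free (φ : (SheafOfModules.free I : FSch.ModF 𝔛 h𝔛.1) ⟶ FSch.unitF 𝔛 h𝔛.1)
    {U : (𝔛.X 0).Opens} (hU : IsAffineOpen U) :
    ∃ l : ℕ, Nonempty (SpacePres.GenData (O := 𝔛.Osh h𝔛.1) (kernel φ) U l) := by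
  have := isNoetherianRing h𝔛 hU
  obtain ⟨e⟩ : Nonempty (Fin (Fintype.card I) ≃ I) := ⟨(Fintype.equivFin I).symm⟩
  have hbasis : ∀ (V : (𝔛.X 0).Opens) (m : Sec (SheafOfModules.free I : FSch.ModF 𝔛 h𝔛.1) V),
      m = ∑ i, (app (coordF h𝔛.1 (e i)) V m : RS h𝔛.1 V) • app (inclF h𝔛.1 (e i)) V (1 : RS h𝔛.1 V) :=
    fun V m => (sec_free_eq V m).trans (e.sum_comp fun i => _).symm
  have hφ : ∀ (V : (𝔛.X 0).Opens) (a : Fin (Fintype.card I) → RS h𝔛.1 V),
      app φ V (∑ i, a i • app (inclF h𝔛.1 (e i)) V (1 : RS h𝔛.1 V)) =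
        ∑ i, a i * (show RS h𝔛.1 V from app (inclF h𝔛.1 (e i) ≫ φ) V (1 : RS h𝔛.1 V)) := fun V a => by
    rw [map_sum]
    exact Finset.sum_congr rfl fun i _ => (app φ V).map_smul (a i) _
  have hone : ∀ (V : (𝔛.X 0).Opens) (hVU : V ≤ U) (i), rs _ hVU (app (inclF h𝔛.1 (e i)) U (1 : RS h𝔛.1 U)) =
      app (inclF h𝔛.1 (e i)) V (1 : RS h𝔛.1 V) := fun V hVU i =>
    (rs_app _ hVU _).symm.trans (congrArg _ (rs_unit_one hVU))
  let r : Fin (Fintype.card I) → RS h𝔛.1 U := fun i => app (inclF h𝔛.1 (e i) ≫ φ) U (1 : RS h𝔛.1 U)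
  obtain ⟨l, a, ha⟩ := Submodule.fg_iff_exists_fin_generating_family.1
    (IsNoetherian.noetherian (LinearMap.ker (Fintype.linearCombination (RS h𝔛.1 U) r)))
  refine ⟨l, nonempty_genData_kernel' φ (fun j => ∑ i, a j i • app (inclF h𝔛.1 (e i)) U (1 : RS h𝔛.1 U))
    (fun j => ?_) fun V hVU hV m hm => ?_⟩
  · have h1 : a j ∈ LinearMap.ker (Fintype.linearCombination (RS h𝔛.1 U) r) :=
      ha ▸ Submodule.subset_span ⟨j, rfl⟩
    exact (hφ U (a j)).trans ((Fintype.linearCombination_apply (RS h𝔛.1 U) r (a j)).symm.trans h1)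
  · let b : Fin (Fintype.card I) → RS h𝔛.1 V := fun i => app (coordF h𝔛.1 (e i)) V m
    have hb : ∑ i, resR h𝔛.1 hVU (r i) * b i = 0 := by
      refine Eq.trans (Finset.sum_congr rfl fun i _ => ?_) ((hφ V b).symm.trans ((congrArg (app φ V) (hbasis V m)).symm.trans hm))
      rw [mul_comm]
      exact congrArg (b i * ·) ((rs_app (inclF h𝔛.1 (e i) ≫ φ) hVU (1 : RS h𝔛.1 U)).symm.trans
        (congrArg _ (rs_unit_one hVU)))
    have hmem := rel_resR h𝔛 hU hV hVU r b hb
    let L := Fintype.linearCombination (RS h𝔛.1 V) fun i => app (inclF h𝔛.1 (e i)) V (1 : RS h𝔛.1 V)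
    have hm' : m = L b := (hbasis V m).trans (Fintype.linearCombination_apply (RS h𝔛.1 V) _ b).symm
    rw [hm']
    refine SetLike.le_def.1 ((Submodule.map_span_le L _ _).2 fun _ hx => ?_) (Submodule.mem_map_of_mem hmem)
    obtain ⟨d, hd, rfl⟩ := hx
    have hdm : d ∈ Submodule.span (RS h𝔛.1 U) (Set.range a) := by
      rw [ha, LinearMap.mem_ker, Fintype.linearCombination_apply]
      exact (Finset.sum_congr rfl fun i _ => mul_comm _ _).trans hd
    obtain ⟨c, rfl⟩ := (Submodule.mem_span_range_iff_exists_fun _).1 hdm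
    refine (Submodule.mem_span_range_iff_exists_fun _).2 ⟨fun j => resR h𝔛.1 hVU (c j), ?_⟩
    show ∑ j, _ = L _
    rw [Fintype.linearCombination_apply]
    simp only [Finset.sum_apply, Pi.smul_apply, smul_eq_mul, map_sum, map_mul, Finset.sum_smul, mul_smul,
      rs_smul, hone, Finset.smul_sum]
    exact Finset.sum_comm

end Groth.AdicLinTop.FormalFree
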