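import Groth.Agent.AdicLinTop.InverseLimit
import Mathlib.RingTheory.Ideal.Quotient.Operations

/-!
Limits of adic inverse systems of rings.
-/

set_option autoImplicit false

namespace Groth.AdicLinTop.InvLim

universe u

theorem ringLimit (B : ℕ → Type u) [∀ n, CommRing (B n)]
    (u : ∀ n, B (n + 1) →+* B n) (hu : ∀ n, Function.Surjective (u n))
    (v : ∀ n, B n →+* B 0) (hv0 : v 0 = RingHom.id (B 0)) (hv : ∀ n, (v n).comp (u n) = v (n + 1))
    (hker : ∀ n, RingHom.ker (u n) = RingHom.ker (v (n + 1)) ^ (n + 1))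
    (hfg : (RingHom.ker (v 1)).FG)
    (A : Type u) [CommRing A] (p : ∀ n, A →+* B n)
    (hp : ∀ n, (u n).comp (p (n + 1)) = p n)
    (hinj : ∀ x : A, (∀ n, p n x = 0) → x = 0)
    (hlift : ∀ y : (∀ n, B n), (∀ n, u n (y (n + 1)) = y n) → ∃ x : A, ∀ n, p n x = y n) :
    IsAdicComplete (RingHom.ker (p 0)) A ∧
      (∀ n, Function.Surjective (p n) ∧ RingHom.ker (p n) = RingHom.ker (p 0) ^ (n + 1)) ∧
      (RingHom.ker (p 0)).FG := by
  have hps : ∀ n, Function.Surjective (p n) := fun n x => by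
    obtain ⟨y, hy, hyn⟩ := exists_compat n B (fun k => u k) hu x
    obtain ⟨l, hl⟩ := hlift y hy
    exact ⟨l, by rw [hl, hyn]⟩
  set I := RingHom.ker (p 0) with hI
  have hvp : ∀ k, (v k).comp (p k) = p 0 := by
    intro k
    induction k with
    | zero => rw [hv0, RingHom.id_comp]
    | succ k ih => rw [← hv, RingHom.comp_assoc, hp, ih]
  have hIk : ∀ k, I.map (p k) = RingHom.ker (v k) := fun k => by
    rw [hI, ← hvp k, ← RingHom.comap_ker, Ideal.map_comap_of_surjective _ (hps k)]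
  let K : ℕ → Submodule A A := fun n => RingHom.ker (p n)
  have hanti : Antitone K := antitone_nat_of_succ_le fun n x (hx : p (n + 1) x = 0) => by
    show p n x = 0
    rw [← hp n, RingHom.comp_apply, hx, map_zero]
  have hsep : ∀ x, (∀ k, x ∈ K k) → x = 0 := fun x h => hinj x h
  have hcomp : ∀ s : ℕ → A, (∀ k, s (k + 1) - s k ∈ K k) → ∃ x, ∀ k, x - s k ∈ K k := by
    intro s hs
    obtain ⟨x, hx⟩ := hlift (fun k => p k (s k)) fun k => by
      rw [← RingHom.comp_apply, hp]
      exact (RingHom.sub_mem_ker_iff (p k)).mp (hs k)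
    exact ⟨x, fun k => (RingHom.sub_mem_ker_iff (p k)).mpr (hx k)⟩
  have hle : ∀ n, I ^ (n + 1) ≤ K n := fun n => by
    intro x hx
    have h1 : p (n + 1) x ∈ RingHom.ker (u n) := by
      rw [hker, ← hIk, ← Ideal.map_pow]
      exact Ideal.mem_map_of_mem _ hx
    show p n x = 0
    rw [← hp n]
    exact h1
  have hstep : ∀ n, K n ≤ I ^ (n + 1) ⊔ K (n + 1) := fun n x hx => by
    have h1 : p (n + 1) x ∈ RingHom.ker (u n) := by
      rw [RingHom.mem_ker, ← RingHom.comp_apply, hp]
      exact hx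
    rw [hker, ← hIk, ← Ideal.map_pow] at h1
    obtain ⟨y, hy, hyx⟩ := (Ideal.mem_map_iff_of_surjective _ (hps _)).mp h1
    exact Submodule.mem_sup.mpr ⟨y, hy, x - y, (RingHom.sub_mem_ker_iff (p (n + 1))).mpr hyx.symm,
      add_sub_cancel _ _⟩
  have hstep' : ∀ a m, a ≤ m → K a ≤ I ^ (a + 1) ⊔ K m := by
    intro a m h
    induction h with
    | refl => exact le_sup_right
    | @step m hm ih =>
      refine ih.trans (sup_le le_sup_left ((hstep m).trans (sup_le ?_ le_sup_right)))
      exact le_sup_of_le_left (Ideal.pow_le_pow_right (Nat.succ_le_succ hm))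
  have hmul : ∀ a b, (K a : Ideal A) * I ^ b ≤ K (a + b) := fun a b => by
    refine (Ideal.mul_mono_left (hstep' a (a + b) (Nat.le_add_right a b))).trans ?_
    rw [Ideal.sup_mul, ← pow_add]
    exact sup_le (by rw [show a + 1 + b = a + b + 1 by omega]; exact hle _) Ideal.mul_le_left
  classical
  obtain ⟨S, hS⟩ := hfg
  choose g hg using hps 1
  obtain ⟨J, hJfg, hJI, hIJ⟩ : ∃ J : Ideal A, J.FG ∧ J ≤ I ∧ I ≤ J ⊔ K 1 := by
    refine ⟨Ideal.span (S.image g : Finset A), ⟨_, rfl⟩, ?_, fun x hx => ?_⟩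
    · rw [Ideal.span_le, Finset.coe_image]
      rintro _ ⟨y, hy, rfl⟩
      have h1 : v 1 y = 0 := (hS ▸ Submodule.subset_span hy : y ∈ RingHom.ker (v 1))
      show p 0 (g y) = 0
      rw [← hvp 1, RingHom.comp_apply, hg, h1]
    · have h1 : p 1 x ∈ (Ideal.span ((S.image g : Finset A) : Set A)).map (p 1) := by
        rw [Ideal.map_span, Finset.coe_image, ← Set.image_comp]
        have h2 : p 1 x ∈ RingHom.ker (v 1) := by
          rw [← hIk]
          exact Ideal.mem_map_of_mem _ hx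
        rw [← hS] at h2
        convert h2 using 3
        simp [Function.comp_def, hg]
      obtain ⟨y, hy, hyx⟩ := (Ideal.mem_map_iff_of_surjective _ (hps _)).mp h1
      exact Submodule.mem_sup.mpr ⟨y, hy, x - y, (RingHom.sub_mem_ker_iff (p 1)).mpr hyx.symm,
        add_sub_cancel _ _⟩
  have hJstep : ∀ k, I ^ (k + 1) ≤ J ^ (k + 1) ⊔ K (k + 1) := by
    intro k
    induction k with
    | zero => simpa using hIJ
    | succ k ih =>
      calc I ^ (k + 1 + 1) = I ^ (k + 1) * I := pow_succ I (k + 1)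
        _ ≤ (J ^ (k + 1) ⊔ K (k + 1)) * I := Ideal.mul_mono_left ih
        _ = J ^ (k + 1) * I ⊔ (K (k + 1) : Ideal A) * I := Ideal.sup_mul _ _ _
        _ ≤ J ^ (k + 1 + 1) ⊔ K (k + 1 + 1) := sup_le (by
            refine (Ideal.mul_mono_right hIJ).trans ?_
            rw [Ideal.mul_sup]
            refine sup_le_sup (pow_succ J (k + 1)).ge ?_
            refine (Ideal.mul_mono_left (Ideal.pow_right_mono hJI _)).trans ?_
            rw [mul_comm]
            exact (hmul 1 (k + 1)).trans (hanti (by omega)))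
          (le_sup_of_le_right (by simpa using hmul (k + 1) 1))
  have hJK : ∀ n, (K n : Ideal A) ≤ J ^ (n + 1) ⊔ K (n + 1) := fun n =>
    (hstep n).trans (sup_le (hJstep n) le_sup_right)
  have hJle : ∀ n, J ^ (n + 1) • (⊤ : Submodule A A) ≤ K n := fun n => by
    rw [smul_eq_mul, Ideal.mul_top]
    exact (Ideal.pow_right_mono hJI _).trans (hle n)
  have hKeq : ∀ n, (K n : Ideal A) = J ^ (n + 1) := fun n =>
    le_antisymm (by
      simpa using le_of_fg hanti hsep hcomp hJle hJfg
        (fun n => by simpa using hJK n) n) (by simpa using hJle n)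
  have hIJeq : I = J := by simpa using hKeq 0
  refine ⟨hIJeq ▸ isAdicComplete hsep hcomp fun n => by simpa using hKeq n,
    fun n => ⟨hps n, ?_⟩, hIJeq ▸ hJfg⟩
  rw [hIJeq]
  exact hKeq n

end Groth.AdicLinTop.InvLim
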