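import Groth.Agent.FlatMor2.AffineThickening
import Groth.Agent.AdicLinTop.RingLimit
import Groth.Prelude.Def_FSch5

/-!
# The structure sheaf of a formal system over affine opens
-/

set_option autoImplicit false

universe u

open CategoryTheory CategoryTheory.Limits AlgebraicGeometry TopologicalSpace Opposite

namespace Groth.AdicLinTop.FormalLevels

variable {𝔛 : FSch.Sys.{u}} (h : 𝔛.IsFormal)

/-- The levels over an affine open of the common space are affine. -/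
theorem isAffineOpen_lvU {U : (𝔛.X 0).Opens} (hU : IsAffineOpen U) (n : ℕ) :
    IsAffineOpen (𝔛.lvU h n U) := by
  have hpre : 𝔛.toX n ⁻¹ᵁ 𝔛.lvU h n U = U := by
    change (Opens.map ((𝔛.toX n).base ≫ 𝔛.gInv h n)).obj U = U
    rw [𝔛.toX_base_gInv]
    rfl
  have : IsAffine ↑(𝔛.toX n ⁻¹ᵁ 𝔛.lvU h n U) := by rw [hpre]; exact hU
  have : IsClosedImmersion (𝔛.toX n) := 𝔛.toX_isClosedImmersion h n
  have : IsClosedImmersion (𝔛.toX n ∣_ 𝔛.lvU h n U) := IsZariskiLocalAtTarget.restrict ‹_› _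
  have : AlgebraicGeometry.Surjective (𝔛.toX n) := ⟨𝔛.toX_surjective h n⟩
  have : AlgebraicGeometry.Surjective (𝔛.toX n ∣_ 𝔛.lvU h n U) :=
    IsZariskiLocalAtTarget.restrict ‹_› _
  exact Groth.FlatMor2.isAffine_of_surjective_closedImmersion (𝔛.toX n ∣_ 𝔛.lvU h n U)

/-- The open of level `n` pulled back to level `0`. -/
theorem toX_preimage_lvU (n : ℕ) (U : (𝔛.X 0).Opens) : 𝔛.toX n ⁻¹ᵁ 𝔛.lvU h n U = U := by
  change (Opens.map ((𝔛.toX n).base ≫ 𝔛.gInv h n)).obj U = U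
  rw [𝔛.toX_base_gInv]
  rfl

/-- Restriction along an equality of opens is bijective. -/
theorem bijective_res {X : Scheme.{u}} {U V : X.Opens} (e : U ≤ V) (e' : V ≤ U) :
    Function.Bijective (X.presheaf.map (homOfLE e).op) := by
  obtain rfl := le_antisymm e e'
  rw [Subsingleton.elim (homOfLE e).op (𝟙 _), CategoryTheory.Functor.map_id]
  exact Function.bijective_id

/-- The transition map on sections over an affine open is surjective. -/
theorem levelMap_surjective {U : (𝔛.X 0).Opens} (hU : IsAffineOpen U) (n : ℕ) :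
    Function.Surjective ((𝔛.levelMap h n).hom.app (op U)) := by
  intro x
  have := (h n).1
  obtain ⟨y, hy⟩ := (bijective_res (𝔛.lvU_le h n U) (𝔛.lvU_succ h n U).le).2 x
  obtain ⟨z, hz⟩ := (𝔛.ι n).app_surjective _ (isAffineOpen_lvU h hU (n + 1)) y
  exact ⟨z, (congrArg _ hz).trans hy⟩

variable (𝔛) in
/-- Sections of the limit sheaf of rings are compatible families. -/
theorem exists_unique_sec (U : (𝔛.X 0).Opens) (y : ∀ n, (𝔛.levelObj h n).obj.obj (op U))
    (hy : ∀ n, (𝔛.levelMap h n).hom.app (op U) (y (n + 1)) = y n) :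
    ∃! a : (𝔛.Osh h).obj.obj (op U), ∀ n, (𝔛.OshProj h n).hom.app (op U) a = y n := by
  let G : Sheaf (Opens.grothendieckTopology (𝔛.X 0)) CommRingCat.{u} ⥤ Type u :=
    sheafToPresheaf _ _ ⋙ (evaluation _ _).obj (op U) ⋙ forget CommRingCat
  let F := 𝔛.levelRing h ⋙ G
  let σ : ∀ j, F.obj j := fun j => y j.unop
  have hlim : IsLimit (G.mapCone (limit.cone (𝔛.levelRing h))) :=
    isLimitOfPreserves G (limit.isLimit _)
  let τ : (Functor.const ℕᵒᵖ).obj PUnit.{u + 1} ⟶ F :=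
    NatTrans.ofOpSequence (fun n => ↾(fun _ => σ (op n))) fun n => by
      ext a
      show σ (op n) = F.map (homOfLE (Nat.le_add_right n 1)).op (σ (op (n + 1)))
      simp only [F, Functor.comp_map, FSch.Sys.levelRing_map_succ]
      exact (hy n).symm
  have hσ : σ ∈ F.sections := fun {a b} f => by
    exact (ConcreteCategory.congr_hom (τ.naturality f) PUnit.unit).symm
  refine ⟨(Types.isLimitEquivSections hlim).symm ⟨σ, hσ⟩,
    fun n => Types.isLimitEquivSections_symm_apply hlim ⟨σ, hσ⟩ (op n), fun b hb => ?_⟩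
  refine (Equiv.eq_symm_apply _).2 (Subtype.ext (funext fun j => ?_))
  exact hb j.unop

theorem OshProj_levelMap_apply (U : (𝔛.X 0).Opens) (n : ℕ) (a : (𝔛.Osh h).obj.obj (op U)) :
    (𝔛.levelMap h n).hom.app (op U) ((𝔛.OshProj h (n + 1)).hom.app (op U) a) =
      (𝔛.OshProj h n).hom.app (op U) a :=
  congr(($(𝔛.OshProj_levelMap h n)).hom.app (op U) a)

theorem sec_eq_zero {U : (𝔛.X 0).Opens} {a : (𝔛.Osh h).obj.obj (op U)}
    (ha : ∀ n, (𝔛.OshProj h n).hom.app (op U) a = 0) : a = 0 :=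
  (exists_unique_sec 𝔛 h U (fun _ => 0) fun _ => map_zero _).unique ha fun _ => map_zero _

/-- The map from the sections at level `n` to those at level `0`. -/
noncomputable abbrev toZero (n : ℕ) (U : (𝔛.X 0).Opens) :
    Γ(𝔛.X n, 𝔛.lvU h n U) ⟶ Γ(𝔛.X 0, 𝔛.lvU h 0 U) :=
  (𝔛.toX n).appLE (𝔛.lvU h n U) (𝔛.lvU h 0 U)
    (le_of_eq ((show 𝔛.lvU h 0 U = U from toX_preimage_lvU h 0 U).trans (toX_preimage_lvU h n U).symm))

theorem ker_appLE_eq {X Y : Scheme.{u}} (f : X ⟶ Y) [QuasiCompact f] (U : Y.affineOpens)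
    (V : X.Opens) (e : V ≤ f ⁻¹ᵁ U) (e' : f ⁻¹ᵁ U ≤ V) :
    RingHom.ker (f.appLE U V e).hom = f.ker.ideal U := by
  rw [Scheme.Hom.ker_apply]
  ext a
  rw [RingHom.mem_ker, RingHom.mem_ker]
  exact map_eq_zero_iff (X.presheaf.map (homOfLE e).op).hom (bijective_res e e').1

/-- Over an affine open, the structure sheaf of a locally Noetherian formal scheme is an adic ring
with levels the quotients by powers of the ideal of definition. -/
theorem adic (h𝔛 : 𝔛.IsLocNoethFormal) {U : (𝔛.X 0).Opens} (hU : IsAffineOpen U) :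
    IsAdicComplete (RingHom.ker ((𝔛.OshProj h𝔛.1 0).hom.app (op U)).hom)
        ((𝔛.Osh h𝔛.1).obj.obj (op U)) ∧
      (∀ n, Function.Surjective ((𝔛.OshProj h𝔛.1 n).hom.app (op U)) ∧
        RingHom.ker ((𝔛.OshProj h𝔛.1 n).hom.app (op U)).hom =
          RingHom.ker ((𝔛.OshProj h𝔛.1 0).hom.app (op U)).hom ^ (n + 1)) ∧
      (RingHom.ker ((𝔛.OshProj h𝔛.1 0).hom.app (op U)).hom).FG := by
  have hF := h𝔛.1
  have hlm := fun n => 𝔛.levelMap_app hF n (op U)
  refine InvLim.ringLimit (fun n => Γ(𝔛.X n, 𝔛.lvU hF n U))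
    (fun n => ((𝔛.levelMap hF n).hom.app (op U)).hom) (levelMap_surjective hF hU)
    (fun n => (toZero hF n U).hom) ?_ ?_ ?_ ?_ _ (fun n => ((𝔛.OshProj hF n).hom.app (op U)).hom)
    (fun n => ?_) (fun a ha => sec_eq_zero hF ha) (fun y hy => (exists_unique_sec 𝔛 hF U y hy).exists)
  · refine congrArg CommRingCat.Hom.hom (?_ : _ = 𝟙 Γ(𝔛.X 0, 𝔛.lvU hF 0 U))
    show (𝟙 (𝔛.X 0) : 𝔛.X 0 ⟶ 𝔛.X 0).appLE (𝔛.lvU hF 0 U) (𝔛.lvU hF 0 U) le_rfl = _
    have key : ∀ (e : 𝔛.lvU hF 0 U ≤ 𝔛.lvU hF 0 U),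
        (𝔛.X 0).presheaf.map (homOfLE e).op = 𝟙 _ := fun e => by
      rw [Subsingleton.elim (homOfLE e).op (𝟙 _), CategoryTheory.Functor.map_id]
    exact (congrArg _ (key le_rfl)).trans (Category.comp_id _)
  · intro n
    refine congrArg CommRingCat.Hom.hom (?_ : (𝔛.levelMap hF n).hom.app (op U) ≫ toZero hF n U = _)
    rw [hlm]
    exact Scheme.Hom.appLE_comp_appLE (𝔛.toX n) (𝔛.ι n) _ _ _ _ _
  · intro n
    have := (hF n).1
    have := 𝔛.toX_isClosedImmersion hF (n + 1)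
    show RingHom.ker ((𝔛.ι n).appLE _ _ _).hom = RingHom.ker ((𝔛.toX (n + 1)).appLE _ _ _).hom ^ _
    rw [ker_appLE_eq (𝔛.ι n) ⟨_, isAffineOpen_lvU hF hU (n + 1)⟩ _ _ (𝔛.lvU_succ hF n U).le,
      ker_appLE_eq (𝔛.toX (n + 1)) ⟨_, isAffineOpen_lvU hF hU (n + 1)⟩ (𝔛.lvU hF 0 U) _
        ((toX_preimage_lvU hF (n + 1) U).trans
          (show 𝔛.lvU hF 0 U = U from toX_preimage_lvU hF 0 U).symm).le,
      h𝔛.2.1 n]
    rfl
  · have := h𝔛.2.2 1
    have : IsNoetherianRing Γ(𝔛.X 1, 𝔛.lvU hF 1 U) :=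
      IsLocallyNoetherian.component_noetherian ⟨_, isAffineOpen_lvU hF hU 1⟩
    exact IsNoetherian.noetherian _
  · exact congrArg CommRingCat.Hom.hom
      congr(($(𝔛.OshProj_levelMap hF n)).hom.app (op U))

end Groth.AdicLinTop.FormalLevels
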