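import Groth.Agent.CohBase.Acyclic
import Groth.Agent.LocCohZBase.SectSupp
import Groth.Agent.CohC3.Tower
import Mathlib.CategoryTheory.Preadditive.Injective.Basic
import Mathlib.Algebra.Category.Grp.Limits
import Mathlib.CategoryTheory.Limits.Preserves.Shapes.Products

/-!
# Cohomology of limits of towers of abelian sheaves

If a tower of abelian sheaves has surjective transition maps and no higher cohomology on a basis, then the
cohomology of the limit surjects onto the limit of the cohomologies, bijectively under a Mittag-Leffler hypothesis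
one degree below.
-/

set_option autoImplicit false

universe u

open CategoryTheory CategoryTheory.Limits TopologicalSpace Opposite
open CategoryTheory.Abelian (Ext)
open Groth.CohBase

namespace Groth.AdicLinTop.LimCoh

variable {X : TopCat.{u}}

section Prod

variable (F : ℕ → AbSheaf X)

/-- Sections over an open, as a functor to types. -/
noncomputable abbrev sects (W : Opens X) : AbSheaf X ⥤ Type u :=
  sheafToPresheaf _ _ ⋙ (evaluation _ _).obj (op W) ⋙ forget AddCommGrpCat.{u}

theorem exists_unique_pi (W : Opens X) (y : ∀ m, (F m).obj.obj (op W)) :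
    ∃! a : (∏ᶜ F).obj.obj (op W), ∀ m, (Pi.π F m).hom.app (op W) a = y m := by
  have hl : IsLimit ((sects W).mapCone (limit.cone (Discrete.functor F))) :=
    isLimitOfPreserves (sects W) (limit.isLimit _)
  let σ : (Discrete.functor F ⋙ sects W).sections := ⟨fun j => y j.as, fun {a b} f => by
    obtain ⟨a⟩ := a
    obtain ⟨b⟩ := b
    obtain rfl : a = b := Discrete.eq_of_hom f
    rw [Subsingleton.elim f (𝟙 _), CategoryTheory.Functor.map_id]
    rfl⟩
  refine ⟨(Types.isLimitEquivSections hl).symm σ,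
    fun m => Types.isLimitEquivSections_symm_apply hl σ ⟨m⟩, fun b hb => ?_⟩
  refine (Equiv.eq_symm_apply _).2 (Subtype.ext (funext fun j => ?_))
  exact hb j.as

theorem pi_sec_ext (W : Opens X) {a b : (∏ᶜ F).obj.obj (op W)}
    (h : ∀ m, (Pi.π F m).hom.app (op W) a = (Pi.π F m).hom.app (op W) b) : a = b :=
  (exists_unique_pi F W fun m => (Pi.π F m).hom.app (op W) b).unique h fun _ => rfl

variable {F}

theorem app_lift {P : AbSheaf X} (f : ∀ m, P ⟶ F m) (W : Opens X) (a : P.obj.obj (op W)) (m : ℕ) :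
    (Pi.π F m).hom.app (op W) ((Pi.lift f).hom.app (op W) a) = (f m).hom.app (op W) a :=
  ConcreteCategory.congr_hom (congrArg (fun φ => φ.hom.app (op W)) (Pi.lift_π f m)) a

theorem app_piMap {G : ℕ → AbSheaf X} (f : ∀ m, F m ⟶ G m) (W : Opens X) (a : (∏ᶜ F).obj.obj (op W)) (m : ℕ) :
    (Pi.π G m).hom.app (op W) ((Limits.Pi.map f).hom.app (op W) a) =
      (f m).hom.app (op W) ((Pi.π F m).hom.app (op W) a) :=
  ConcreteCategory.congr_hom (congrArg (fun φ => φ.hom.app (op W)) (Limits.Pi.map_π f m)) a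

end Prod

variable {B : Opens X → Prop}
  (hB : ∀ (V : Opens X), ∀ x ∈ V, ∃ W, B W ∧ x ∈ W ∧ W ≤ V)

theorem mono_of_sections {F G : AbSheaf X} (φ : F ⟶ G)
    (h : ∀ W, Function.Injective (φ.hom.app (op W))) : Mono φ :=
  ⟨fun {Z} a b e => Sheaf.hom_ext (NatTrans.ext (funext fun W => ConcreteCategory.hom_ext _ _ fun z => h W.unop
    (ConcreteCategory.congr_hom (congrArg (fun ψ => ψ.hom.app W) e) z)))⟩

include hB in
theorem epi_of_sections {F G : AbSheaf X} (φ : F ⟶ G)
    (h : ∀ W, B W → Function.Surjective (φ.hom.app (op W))) : Epi φ := by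
  refine (CategoryTheory.Sheaf.isLocallySurjective_iff_epi' AddCommGrpCat.{u} φ).mp
    ((TopCat.Presheaf.isLocallySurjective_iff φ.hom).mpr fun U t x hx => ?_)
  obtain ⟨W, hW, hxW, hWU⟩ := hB U x hx
  obtain ⟨s, hs⟩ := h W hW (G.obj.map (homOfLE hWU).op t)
  exact ⟨W, hWU, ⟨s, hs⟩, hxW⟩

/-- The product of a family of short complexes. -/
noncomputable abbrev prodS (S : ℕ → ShortComplex (AbSheaf X)) : ShortComplex (AbSheaf X) :=
  ShortComplex.mk (Limits.Pi.map fun m => (S m).f) (Limits.Pi.map fun m => (S m).g) (Limits.Pi.hom_ext _ _ fun m => by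
    rw [Category.assoc, Limits.Pi.map_π, Limits.Pi.map_π_assoc, (S m).zero, comp_zero, zero_comp])

include hB in
theorem shortExact_prodS (S : ℕ → ShortComplex (AbSheaf X)) (hS : ∀ m, (S m).ShortExact)
    (hsurj : ∀ m W, B W → Function.Surjective ((S m).g.hom.app (op W))) : (prodS S).ShortExact where
  mono_f := mono_of_sections _ fun W a b e => pi_sec_ext _ W fun m => sections_injective (hS m) W (by
    rw [← app_piMap (fun m => (S m).f), ← app_piMap (fun m => (S m).f)]
    exact congrArg _ e)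
  epi_g := epi_of_sections hB _ fun W hW q => by
    choose s hs using fun m => hsurj m W hW ((Pi.π (fun m => (S m).X₃) m).hom.app (op W) q)
    obtain ⟨a, ha, -⟩ := exists_unique_pi (fun m => (S m).X₂) W s
    exact ⟨a, pi_sec_ext _ W fun m => (app_piMap _ W a m).trans (by rw [ha]; exact hs m)⟩
  exact := (Groth.LocCohZBase.exact_iff_imageSieve_mem _).2 fun V s hs x hx => by
    have h : ∀ m, ∃ z, (S m).f.hom.app (op V) z = (Pi.π (fun m => (S m).X₂) m).hom.app (op V) s := fun m =>
      (sections_exact (hS m) V _).1 (by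
        rw [← app_piMap (fun m => (S m).g)]
        exact (congrArg _ hs).trans (map_zero _))
    choose z hz using h
    obtain ⟨a, ha, -⟩ := exists_unique_pi (fun m => (S m).X₁) V z
    refine ⟨V, 𝟙 V, ⟨a, ?_⟩, hx⟩
    rw [op_id, CategoryTheory.Functor.map_id]
    exact pi_sec_ext _ V fun m => (app_piMap _ V a m).trans (by rw [ha]; exact hz m)

/-- The components of a class in the product. -/
noncomputable def comps (Z : AbSheaf X) (F : ℕ → AbSheaf X) (n : ℕ) (x : Ext Z (∏ᶜ F) n) (m : ℕ) : Ext Z (F m) n :=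
  x.comp (Ext.mk₀ (Pi.π F m)) (add_zero n)

theorem comps_comp {Z : AbSheaf X} {F G : ℕ → AbSheaf X} (f : ∀ m, F m ⟶ G m) {n : ℕ} (x : Ext Z (∏ᶜ F) n)
    (m : ℕ) : comps Z G n (x.comp (Ext.mk₀ (Limits.Pi.map f)) (add_zero n)) m =
      (comps Z F n x m).comp (Ext.mk₀ (f m)) (add_zero n) := by
  simp only [comps, Ext.comp_assoc_of_third_deg_zero, Ext.mk₀_comp_mk₀, Limits.Pi.map_π]

theorem comps_sub {Z : AbSheaf X} {F : ℕ → AbSheaf X} {n : ℕ} (x y : Ext Z (∏ᶜ F) n) (m : ℕ) :
    comps Z F n (x - y) m = comps Z F n x m - comps Z F n y m := by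
  simp only [comps, sub_eq_add_neg, Ext.add_comp, Ext.neg_comp]

include hB in
theorem bijective_comps (Z : AbSheaf X) (n : ℕ) (F : ℕ → AbSheaf X)
    (hF : ∀ m W, B W → ∀ p, HVanish (F m) (p + 1) W) : Function.Bijective (comps Z F n) := by
  induction n generalizing F with
  | zero =>
    refine ⟨fun x y e => ?_, fun y => ?_⟩
    · obtain ⟨a, rfl⟩ := (Ext.mk₀_bijective _ _).2 x
      obtain ⟨b, rfl⟩ := (Ext.mk₀_bijective _ _).2 y
      refine congrArg Ext.mk₀ (Limits.Pi.hom_ext _ _ fun m => (Ext.mk₀_bijective _ _).1 ?_)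
      simpa only [comps, Ext.mk₀_comp_mk₀] using congrFun e m
    · choose a ha using fun m => (Ext.mk₀_bijective _ _).2 (y m)
      exact ⟨Ext.mk₀ (Pi.lift a), funext fun m => by simp only [comps, Ext.mk₀_comp_mk₀, Pi.lift_π, ha]⟩
  | succ n ih =>
    let S : ℕ → ShortComplex (AbSheaf X) := fun m => injPres (F m)
    have hS : ∀ m, (S m).ShortExact := fun m => injPres_shortExact (F m)
    haveI : ∀ m, Injective (S m).X₂ := fun m => injPres_injective (F m)
    have hP := shortExact_prodS hB S hS fun m W hW => sections_surjective (hS m) (hF m W hW 0)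
    haveI : Injective (prodS S).X₂ := inferInstanceAs (Injective (∏ᶜ fun m => (S m).X₂))
    have hI : ∀ m W, B W → ∀ p, HVanish (S m).X₂ (p + 1) W := fun m W _ p =>
      subsingleton_of_forall_eq 0 fun x => Ext.eq_zero_of_injective x
    have hQ : ∀ m W, B W → ∀ p, HVanish (S m).X₃ (p + 1) W := fun m W hW p =>
      subsingleton_of_forall_eq 0 fun x => by
        obtain ⟨w, rfl⟩ := Ext.covariant_sequence_exact₃ (freeOpen W) (hS m) x rfl
          (@Subsingleton.elim _ (hF m W hW (p + 1)) _ _)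
        rw [Ext.eq_zero_of_injective w, Ext.zero_comp]
        all_goals rfl
    have hδ : ∀ (y : Ext Z (prodS S).X₃ n) m, comps Z F (n + 1) (y.comp hP.extClass rfl) m =
        (comps Z (fun m => (S m).X₃) n y m).comp (hS m).extClass rfl := fun y m => by
      let φ : prodS S ⟶ S m :=
        { τ₁ := Pi.π _ m
          τ₂ := Pi.π _ m
          τ₃ := Pi.π _ m
          comm₁₂ := (Limits.Pi.map_π (fun m => (S m).f) m).symm
          comm₂₃ := (Limits.Pi.map_π (fun m => (S m).g) m).symm }
      simp only [comps, Ext.comp_assoc_of_second_deg_zero, Ext.comp_assoc_of_third_deg_zero]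
      exact ((Ext.comp_assoc_of_third_deg_zero y hP.extClass (Ext.mk₀ φ.τ₁) rfl).trans
        (congrArg (fun e => y.comp e rfl) (hP.extClass_naturality (hS m) φ)))
    refine ⟨fun x x' e => ?_, fun x => ?_⟩
    · rw [← sub_eq_zero]
      have e' : ∀ m, comps Z F (n + 1) (x - x') m = 0 := fun m => by rw [comps_sub, congrFun e m, sub_self]
      revert e'
      generalize x - x' = d
      intro e'
      obtain ⟨y, rfl⟩ := Ext.covariant_sequence_exact₁ Z hP d (Ext.eq_zero_of_injective _) (n₀ := n) rfl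
      have hy : ∀ m, ∃ w : Ext Z (S m).X₂ n, w.comp (Ext.mk₀ (S m).g) (add_zero n) = comps Z (fun m => (S m).X₃) n y m := fun m =>
        Ext.covariant_sequence_exact₃ Z (hS m) _ rfl ((hδ y m).symm.trans (e' m))
      choose w hw using hy
      obtain ⟨w', hw'⟩ := (ih _ hI).2 w
      have hyw : y = w'.comp (Ext.mk₀ (prodS S).g) (add_zero n) := (ih _ hQ).1 (funext fun m => by
        rw [comps_comp (fun m => (S m).g), hw', hw])
      rw [hyw, Ext.comp_assoc_of_second_deg_zero, hP.comp_extClass, Ext.comp_zero]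
      all_goals rfl
    · choose y hy using fun m => Ext.covariant_sequence_exact₁ Z (hS m) (x m) (Ext.eq_zero_of_injective _)
        (n₀ := n) rfl
      obtain ⟨y', hy'⟩ := (ih _ hQ).2 y
      exact ⟨y'.comp hP.extClass rfl, funext fun m => by rw [hδ, hy', hy]⟩

section Milnor

variable {F : ℕ → AbSheaf X} (tr : ∀ m, F (m + 1) ⟶ F m) {L : AbSheaf X} (p : ∀ m, L ⟶ F m)
  (hp : ∀ m, p (m + 1) ≫ tr m = p m)

/-- The difference map of a tower. -/
noncomputable abbrev diff : (∏ᶜ F) ⟶ ∏ᶜ F :=
  Pi.lift fun m => Pi.π F m - Pi.π F (m + 1) ≫ tr m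

/-- The sequence computing the limit. -/
noncomputable abbrev seq : ShortComplex (AbSheaf X) :=
  ShortComplex.mk (Pi.lift p) (diff tr) (Limits.Pi.hom_ext _ _ fun m => by
    rw [Category.assoc, Pi.lift_π, Preadditive.comp_sub, Pi.lift_π, Pi.lift_π_assoc, hp, sub_self, zero_comp])

theorem app_diff (W : Opens X) (a : (∏ᶜ F).obj.obj (op W)) (m : ℕ) :
    (Pi.π F m).hom.app (op W) ((diff tr).hom.app (op W) a) =
      (Pi.π F m).hom.app (op W) a - (tr m).hom.app (op W) ((Pi.π F (m + 1)).hom.app (op W) a) :=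
  app_lift _ W a m

include hB in
theorem shortExact_seq
    (hinj : ∀ W, B W → ∀ a, (∀ m, (p m).hom.app (op W) a = 0) → a = 0)
    (hex : ∀ W, B W → ∀ y : ∀ m, (F m).obj.obj (op W), (∀ m, (tr m).hom.app (op W) (y (m + 1)) = y m) →
      ∃ a, ∀ m, (p m).hom.app (op W) a = y m)
    (hsurj : ∀ m W, B W → Function.Surjective ((tr m).hom.app (op W))) : (seq tr p hp).ShortExact where
  mono_f := mono_of_sections _ fun W a b e => by
    rw [← sub_eq_zero]
    have e' : ∀ m, (p m).hom.app (op W) (a - b) = 0 := fun m => by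
      rw [map_sub, ← app_lift p, ← app_lift p]
      exact sub_eq_zero.2 (congrArg _ e)
    revert e'
    generalize a - b = d
    intro e'
    choose V hV hxV hVW using fun x : W => hB W x.1 x.2
    refine TopCat.Sheaf.eq_of_locally_eq' L V W (fun x => homOfLE (hVW x))
      (fun x hx => Opens.mem_iSup.2 ⟨⟨x, hx⟩, hxV _⟩) d 0 fun x => ?_
    rw [map_zero]
    refine hinj (V x) (hV x) _ fun m => ?_
    exact (NatTrans.naturality_apply (p m).hom (homOfLE (hVW x)).op d).trans (by rw [e' m, map_zero])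
  epi_g := epi_of_sections hB _ fun W hW q => by
    choose l hl using fun m => hsurj m W hW
    let y : ∀ m, (F m).obj.obj (op W) := fun m => (Pi.π F m).hom.app (op W) q
    let s : ∀ m, (F m).obj.obj (op W) :=
      fun m => Nat.rec (motive := fun m => (F m).obj.obj (op W)) 0 (fun m sm => l m (sm - y m)) m
    obtain ⟨a, ha, -⟩ := exists_unique_pi F W s
    refine ⟨a, pi_sec_ext _ W fun m => (app_diff tr W a m).trans ?_⟩
    rw [ha, ha, show (tr m).hom.app (op W) (s (m + 1)) = s m - y m from hl m _, sub_sub_cancel]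
  exact := (Groth.LocCohZBase.exact_iff_imageSieve_mem _).2 fun V s hs x hx => by
    obtain ⟨W, hW, hxW, hWV⟩ := hB V x hx
    let s' := (∏ᶜ F).obj.map (homOfLE hWV).op s
    have h0 : (diff tr).hom.app (op W) s' = 0 :=
      (NatTrans.naturality_apply (diff tr).hom (homOfLE hWV).op s).trans ((congrArg _ hs).trans (map_zero _))
    obtain ⟨a, ha⟩ := hex W hW (fun m => (Pi.π F m).hom.app (op W) s') fun m => by
      have h1 := (app_diff tr W s' m).symm.trans ((congrArg _ h0).trans (map_zero _))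
      exact (sub_eq_zero.1 h1).symm
    refine ⟨W, homOfLE hWV, ⟨a, ?_⟩, hxW⟩
    exact pi_sec_ext _ W fun m => (app_lift p W a m).trans (ha m)

variable (Z : AbSheaf X) (hF : ∀ m W, B W → ∀ q, HVanish (F m) (q + 1) W)

theorem comps_diff {n : ℕ} (x : Ext Z (∏ᶜ F) n) (m : ℕ) :
    comps Z F n (x.comp (Ext.mk₀ (diff tr)) (add_zero n)) m =
      comps Z F n x m - (comps Z F n x (m + 1)).comp (Ext.mk₀ (tr m)) (add_zero n) := by
  simp only [comps, Ext.comp_assoc_of_third_deg_zero, Ext.mk₀_comp_mk₀, Pi.lift_π, sub_eq_add_neg, Ext.mk₀_add,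
    Ext.mk₀_neg, Ext.comp_add, Ext.comp_neg]

variable (hseq : (seq tr p hp).ShortExact)

include hB hF hseq in
/-- Compatible families of classes come from the limit. -/
theorem exists_class (n : ℕ) (y : ∀ m, Ext Z (F m) n)
    (hy : ∀ m, (y (m + 1)).comp (Ext.mk₀ (tr m)) (add_zero n) = y m) :
    ∃ x : Ext Z L n, ∀ m, x.comp (Ext.mk₀ (p m)) (add_zero n) = y m := by
  obtain ⟨y', hy'⟩ := (bijective_comps hB Z n F hF).2 y
  obtain ⟨x, hx⟩ := Ext.covariant_sequence_exact₂ Z hseq y' ((bijective_comps hB Z n F hF).1 (funext fun m => by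
    show comps Z F n (y'.comp (Ext.mk₀ (diff tr)) (add_zero n)) m = comps Z F n 0 m
    rw [comps_diff, hy', hy, sub_self]
    simp only [comps, Ext.zero_comp]))
  refine ⟨x, fun m => ?_⟩
  rw [← congrFun hy' m, comps, ← hx]
  simp only [Ext.comp_assoc_of_third_deg_zero, Ext.mk₀_comp_mk₀, Pi.lift_π]

include hseq in
/-- In degree zero classes are detected at the levels. -/
theorem eq_zero_of_levels_zero (x : Ext Z L 0) (h : ∀ m, x.comp (Ext.mk₀ (p m)) (add_zero 0) = 0) : x = 0 := by
  obtain ⟨a, rfl⟩ := (Ext.mk₀_bijective _ _).2 x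
  haveI : Mono (Pi.lift p) := hseq.mono_f
  rw [show a = 0 from (cancel_mono (Pi.lift p)).1 (Limits.Pi.hom_ext _ _ fun m => (Ext.mk₀_bijective _ _).1 ?_), Ext.mk₀_zero]
  rw [Category.assoc, Pi.lift_π, zero_comp, zero_comp, Ext.mk₀_zero, ← h m, Ext.mk₀_comp_mk₀]

include hB hF hseq in
/-- Classes are detected at the levels, given surjectivity of the difference map one degree below. -/
theorem eq_zero_of_levels_succ (n : ℕ)
    (hML : ∀ z : ∀ m, Ext Z (F m) n, ∃ w : ∀ m, Ext Z (F m) n,
      ∀ m, w m - (w (m + 1)).comp (Ext.mk₀ (tr m)) (add_zero n) = z m)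
    (x : Ext Z L (n + 1)) (h : ∀ m, x.comp (Ext.mk₀ (p m)) (add_zero (n + 1)) = 0) : x = 0 := by
  have hx : x.comp (Ext.mk₀ (seq tr p hp).f) (add_zero (n + 1)) = 0 :=
    (bijective_comps hB Z (n + 1) F hF).1 (funext fun m => by
      simp only [comps, Ext.comp_assoc_of_third_deg_zero, Ext.mk₀_comp_mk₀, Pi.lift_π, Ext.zero_comp, h])
  obtain ⟨y, rfl⟩ := Ext.covariant_sequence_exact₁ Z hseq x hx (n₀ := n) rfl
  obtain ⟨w, hw⟩ := hML (comps Z F n y)
  obtain ⟨w', hw'⟩ := (bijective_comps hB Z n F hF).2 w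
  have : y = w'.comp (Ext.mk₀ (seq tr p hp).g) (add_zero n) := (bijective_comps hB Z n F hF).1 (funext fun m => by
    rw [comps_diff, hw', hw])
  rw [this, Ext.comp_assoc_of_second_deg_zero, hseq.comp_extClass, Ext.comp_zero]

end Milnor

end Groth.AdicLinTop.LimCoh
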