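import Groth.Agent.AdicLinTop.FormalTower
import Groth.Agent.AdicLinTop.LimCoh
import Groth.Agent.AdicLinTop.CechHigher
import Groth.Agent.CohBase.Restrict
import Groth.Agent.AdicLinTop.LevelPush
import Groth.Prelude.Def_ARSys

/-!
# Cohomology of a coherent formal module as the limit of the cohomology of its levels
-/

set_option autoImplicit false

universe u

open CategoryTheory CategoryTheory.Limits AlgebraicGeometry TopologicalSpace Opposite
open CategoryTheory.Abelian (Ext)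

set_option backward.defeqAttrib.useBackward true
set_option backward.isDefEq.respectTransparency false
set_option backward.isDefEq.respectTransparency.types false
set_option synthInstance.maxHeartbeats 400000

namespace Groth.AdicLinTop.FormalLim

open Groth.SitesTopoi.ModH Groth.AdicLinTop.SpacePres Groth.AdicLinTop.FormalAffine Groth.AdicLinTop.FormalReal
open Groth.AdicLinTop.FormalCoh (sys isCoh_sys ηmap ηmap_proj isIso_ηmap)
open Groth.AdicLinTop.RestrAct Groth.AdicLinTop.FormalTower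

section Gen

variable {C : Type*} [Category C] [Abelian C]

/-- An image is contained in another if the composite with the cokernel vanishes. -/
theorem imageSubobject_le_of_comp_cokernel {X Y Z : C} (f : X ⟶ Z) (g : Y ⟶ Z) (h : f ≫ cokernel.π g = 0) :
    imageSubobject f ≤ imageSubobject g := by
  refine imageSubobject_le _ (kernel.lift _ f h ≫ (Abelian.imageIsoImage g).hom ≫ (imageSubobjectIso g).inv) ?_
  rw [Category.assoc, Category.assoc, imageSubobject_arrow', Abelian.imageIsoImage_hom_comp_image_ι]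
  exact kernel.lift_ι _ _ _

end Gen

/-- Images of abelian groups are compared on elements. -/
theorem imageSubobject_le_of_range {X Y Z : AddCommGrpCat.{u}} (f : X ⟶ Z) (g : Y ⟶ Z)
    (h : ∀ x, ∃ y, g y = f x) : imageSubobject f ≤ imageSubobject g :=
  imageSubobject_le_of_comp_cokernel f g (AddCommGrpCat.hom_ext (AddMonoidHom.ext fun x => by
    obtain ⟨y, hy⟩ := h x
    show cokernel.π g (f x) = 0
    rw [← hy]
    exact ConcreteCategory.congr_hom (cokernel.condition g) y))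

/-- A tower of modules with stable images has surjective difference map. -/
theorem exists_diff {A : Type u} [CommRing A] {H : ℕ → Type u} [∀ n, AddCommGroup (H n)] [∀ n, Module A (H n)]
    (π : ∀ m, H (m + 1) →ₗ[A] H m) (s : ℕ)
    (hs : ∀ k m (h : k ≤ m), k + s ≤ m → ∀ x : H m,
      ∃ x' : H (m + 1), GrTower.dn π k (m + 1) (h.trans (Nat.le_succ m)) x' = GrTower.dn π k m h x)
    (z : ∀ m, H m) : ∃ w : ∀ m, H m, ∀ m, w m - π m (w (m + 1)) = z m := by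
  obtain ⟨w, hw⟩ := Groth.CohC3.Tower.towerDiff_surjective_of_subgroups H (fun k => (π k).toAddMonoidHom)
    (fun k => (GrTower.dn π k (k + s) (Nat.le_add_right k s)).toAddMonoidHom.range)
    (by
      rintro k _ ⟨w, rfl⟩
      obtain ⟨w', hw'⟩ := hs k (k + s) (Nat.le_add_right k s) le_rfl w
      have e : k + s + 1 = k + 1 + s := by omega
      refine ⟨_, ⟨e ▸ w', rfl⟩, ?_⟩
      show π k (GrTower.dn π (k + 1) (k + 1 + s) _ (e ▸ w')) = GrTower.dn π k (k + s) _ w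
      rw [GrTower.π_dn, ← hw']
      have key : ∀ a (e : k + s + 1 = a) (h : k ≤ a), GrTower.dn π k a h (e ▸ w') =
          GrTower.dn π k (k + s + 1) (by omega) w' := by
        rintro a rfl h
        rfl
      exact key _ e _)
    (by
      rintro k _ ⟨w, rfl⟩
      have e : k + 1 + s = (k + s) + 1 := by omega
      refine ⟨π (k + s) (e ▸ w), ?_⟩
      show GrTower.dn π k (k + s) _ (π (k + s) (e ▸ w)) = π k (GrTower.dn π (k + 1) (k + 1 + s) _ w)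
      rw [GrTower.π_dn, ← GrTower.dn_succ π (Nat.le_add_right k s)]
      have key : ∀ a (e : k + 1 + s = a) (h : k ≤ a), GrTower.dn π k a h (e ▸ w) =
          GrTower.dn π k (k + 1 + s) (by omega) w := by
        rintro a rfl h
        rfl
      exact key _ e _)
    (fun k => ⟨k + s, Nat.le_add_right k s, fun w => ⟨w, rfl⟩⟩) z
  exact ⟨w, fun k => congrFun hw k⟩

/-- With finitely generated graded cohomology the difference maps on cohomology are surjective. -/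
theorem exists_diff_ext {C : Type*} [Category C] [Abelian C] [HasExt.{u} C] {A : Type u} [CommRing A]
    [IsNoetherianRing A] {Z : C} {F : ℕ → C} {p : ∀ m, F (m + 1) ⟶ F m} {r : ℕ} {t : Fin r → A}
    {σ : ∀ m, A →+* End (F m)} (D : ExtTower.Data p t σ) (hF : ExtTower.FinGen Z D) (n : ℕ)
    (z : ∀ m, Ext Z (F m) n) :
    ∃ w : ∀ m, Ext Z (F m) n, ∀ m, w m - (w (m + 1)).comp (Ext.mk₀ (p m)) (add_zero n) = z m := by
  obtain ⟨s, hs⟩ := ExtTower.exists_delay Z D n hF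
  obtain ⟨w, hw⟩ := exists_diff (A := A) (H := fun j => ExtTower.EH Z n σ j) (ExtTower.Hπ Z D n) s hs
    (fun m => ExtTower.ofExt Z (σ m) n (z m))
  exact ⟨w, hw⟩

variable {𝔛 : FSch.Sys.{u}} (h𝔛 : 𝔛.IsLocNoethFormal) {𝔉 : FSch.ModF 𝔛 h𝔛.1} (h𝔉 : FSch.IsCohF 𝔛 h𝔛.1 𝔉)
  (U : (𝔛.X 0).Opens)

/-- The module restricted to the open. -/
noncomputable abbrev LU (𝔉 : FSch.ModF 𝔛 h𝔛.1) : Groth.CohBase.AbSheaf (TopCat.of U) :=
  restrAb (T := (𝔛.X 0).toTopCat) U 𝔉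

/-- The projections to the levels. -/
noncomputable abbrev pp (k : ℕ) : LU h𝔛 U 𝔉 ⟶ FU h𝔛 𝔉 U k :=
  restrMap U ((FSch.levelMor 𝔛 h𝔛.1 k).adj.unit.app 𝔉)

theorem pp_pk (k : ℕ) : pp h𝔛 U (𝔉 := 𝔉) (k + 1) ≫ pk h𝔛 𝔉 U k = pp h𝔛 U k := by
  rw [pp, pp, pk, restrMap, restrMap, restrMap, ← Functor.map_comp, ← Functor.map_comp, FSch.unit_levelTrans]

/-- The opens of the subspace that are affine. -/
def Aff (W : Opens (TopCat.of U)) : Prop := IsAffineOpen (img (T := (𝔛.X 0).toTopCat) U W)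

theorem exists_aff (V : Opens (TopCat.of U)) (x : TopCat.of U) (hx : x ∈ V) :
    ∃ W, Aff U W ∧ x ∈ W ∧ W ≤ V := by
  obtain ⟨_, ⟨W₀, hW₀, rfl⟩, hxW, hWV⟩ := (𝔛.X 0).isBasis_affineOpens.exists_subset_of_mem_open
    (show x.1 ∈ img (T := (𝔛.X 0).toTopCat) U V from ⟨x, hx, rfl⟩) (img (T := (𝔛.X 0).toTopCat) U V).2
  refine ⟨(Opens.map (CohCx.incl (X := (𝔛.X 0).toTopCat) U)).obj W₀, ?_, hxW, fun y hy => ?_⟩
  · show IsAffineOpen (img (T := (𝔛.X 0).toTopCat) U _)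
    have he : img (T := (𝔛.X 0).toTopCat) U ((Opens.map (CohCx.incl (X := (𝔛.X 0).toTopCat) U)).obj W₀) = W₀ :=
      le_antisymm (by rintro _ ⟨y, hy, rfl⟩; exact hy)
        (Groth.LocCohZBase.le_functor_map U fun y hy => img_le (T := (𝔛.X 0).toTopCat) U V (hWV hy))
    rw [he]
    exact hW₀
  · obtain ⟨z, hz, e⟩ := hWV hy
    exact (Subtype.ext e : z = y) ▸ hz

include h𝔉 in
theorem exists_sec {V : (𝔛.X 0).Opens} (y : ∀ k, sc (levM h𝔛 𝔉 k).val V)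
    (hy : ∀ k, apm (FSch.levelTrans 𝔛 h𝔛.1 𝔉 k).val V (y (k + 1)) = y k) :
    ∃ a : sc 𝔉.val V, ∀ k, apm ((FSch.levelMor 𝔛 h𝔛.1 k).adj.unit.app 𝔉).val V a = y k := by
  haveI := isIso_ηmap h𝔛 h𝔉
  let 𝔐 := sys h𝔛.1 𝔉
  obtain ⟨m, hm, -⟩ := FormalReal.exists_unique_sec h𝔛.1 𝔐 V y (fun k => by
    rw [← levelTrans_eq h𝔛]
    exact hy k)
  refine ⟨app (inv (ηmap h𝔛.1 𝔉)) V m, fun k => ?_⟩
  refine Eq.trans ?_ (hm k)
  show app ((FSch.levelMor 𝔛 h𝔛.1 k).adj.unit.app 𝔉) V (app (inv (ηmap h𝔛.1 𝔉)) V m) = app (proj h𝔛.1 𝔐 k) V m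
  refine (app_comp (inv (ηmap h𝔛.1 𝔉)) _ V m).symm.trans (congrArg (fun ψ => app ψ V m) ?_)
  rw [← ηmap_proj h𝔛.1 𝔉 k, IsIso.inv_hom_id_assoc]

include h𝔉 in
theorem sec_eq_zero {V : (𝔛.X 0).Opens} (a : sc 𝔉.val V)
    (ha : ∀ k, apm ((FSch.levelMor 𝔛 h𝔛.1 k).adj.unit.app 𝔉).val V a = 0) : a = 0 :=
  FormalCoh.eq_zero_of_ηk h𝔛 h𝔉 a fun k => (congrArg (pushEquiv k _ V) (ha k)).trans (map_zero _)

theorem pp_app (W : Opens (TopCat.of U)) (k : ℕ) (a : sc 𝔉.val (img (T := (𝔛.X 0).toTopCat) U W)) :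
    (pp h𝔛 U (𝔉 := 𝔉) k).hom.app (op W) a =
      apm ((FSch.levelMor 𝔛 h𝔛.1 k).adj.unit.app 𝔉).val (img (T := (𝔛.X 0).toTopCat) U W) a := rfl

theorem pk_app (W : Opens (TopCat.of U)) (k : ℕ) (a : sc (levM h𝔛 𝔉 (k + 1)).val (img (T := (𝔛.X 0).toTopCat) U W)) :
    (pk h𝔛 𝔉 U k).hom.app (op W) a = apm (FSch.levelTrans 𝔛 h𝔛.1 𝔉 k).val (img (T := (𝔛.X 0).toTopCat) U W) a := rfl

set_option maxHeartbeats 1000000 in
include h𝔉 in
theorem shortExact_seq : (LimCoh.seq (pk h𝔛 𝔉 U) (pp h𝔛 U) (pp_pk h𝔛 U)).ShortExact :=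
  LimCoh.shortExact_seq (X := TopCat.of U) (B := Aff U) (exists_aff U) (pk h𝔛 𝔉 U) (pp h𝔛 U) (pp_pk h𝔛 U)
    (fun W _ a ha => sec_eq_zero h𝔛 h𝔉 (V := img (T := (𝔛.X 0).toTopCat) U W) a
      fun k => (pp_app h𝔛 U W k a).symm.trans (ha k))
    (fun W _ y hy => by
      obtain ⟨a, ha⟩ := exists_sec h𝔛 h𝔉 (V := img (T := (𝔛.X 0).toTopCat) U W) y
        fun k => (pk_app h𝔛 U W k (y (k + 1))).symm.trans (hy k)
      exact ⟨a, fun k => (pp_app h𝔛 U W k a).trans (ha k)⟩)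
    (fun k W hW z => by
      obtain ⟨y, hy⟩ := surjective_trans h𝔛 𝔉 h𝔉 hW k z
      exact ⟨y, (pk_app h𝔛 U W k y).trans hy⟩)

set_option maxHeartbeats 1000000 in
include h𝔉 in
theorem hVanish_FU (k : ℕ) (W : Opens (TopCat.of U)) (hW : Aff U W) (q : ℕ) :
    Groth.CohBase.HVanish (FU h𝔛 𝔉 U k) (q + 1) W := by
  have hg : Topology.IsOpenEmbedding (CohCx.incl (X := (𝔛.X 0).toTopCat) U) := U.isOpenEmbedding
  obtain ⟨e⟩ := Groth.CohBase.nonempty_equiv_restrictAb hg (ModSite.toAb (levM h𝔛 𝔉 k)) (q + 1) W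
  have key : Groth.CohBase.HVanish (X := (𝔛.X 0).toTopCat) (ModSite.toAb (levM h𝔛 𝔉 k)) (q + 1)
      (img (T := (𝔛.X 0).toTopCat) U W) := CechHigher.hVanish_of_ind h𝔛
    (ObjectProperty.le_ind _ _ (LevelPush.isCohF_push_level h𝔛 k _ (isCoh_sys h𝔛 h𝔉 k))) q hW
  exact @Equiv.subsingleton _ _ e.toEquiv key

variable (Z : Groth.CohBase.AbSheaf (TopCat.of U))

include h𝔉 in
/-- Compatible families of classes at the levels come from the limit. -/
theorem exists_class (n : ℕ) (y : ∀ k, Ext Z (FU h𝔛 𝔉 U k) n)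
    (hy : ∀ k, (y (k + 1)).comp (Ext.mk₀ (pk h𝔛 𝔉 U k)) (add_zero n) = y k) :
    ∃ x : Ext Z (LU h𝔛 U 𝔉) n, ∀ k, x.comp (Ext.mk₀ (pp h𝔛 U k)) (add_zero n) = y k :=
  LimCoh.exists_class (exists_aff U) (pk h𝔛 𝔉 U) (pp h𝔛 U) (pp_pk h𝔛 U) Z (hVanish_FU h𝔛 h𝔉 U)
    (shortExact_seq h𝔛 h𝔉 U) n y hy

variable {A : Type u} [CommRing A] {φ : A →+* RS h𝔛.1 U} {r : ℕ} {t : Fin r → A}
  (ht : ∀ i, φ (t i) ∈ idl h𝔛.1 U) [IsNoetherianRing A]
  (hF : ExtTower.FinGen Z (data h𝔛 𝔉 h𝔉 U φ t ht))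

include hF in
/-- The images stabilise. -/
theorem exists_stable (n : ℕ) : ∃ s, ∀ k m (h : k ≤ m), k + s ≤ m → ∀ x : ExtTower.EH Z n (σU h𝔛 𝔉 U φ) m,
    ∃ x' : ExtTower.EH Z n (σU h𝔛 𝔉 U φ) (m + 1),
      GrTower.dn (A := A) (H := fun j => ExtTower.EH Z n (σU h𝔛 𝔉 U φ) j)
          (ExtTower.Hπ Z (data h𝔛 𝔉 h𝔉 U φ t ht) n) k (m + 1) (h.trans (Nat.le_succ m)) x' =
        GrTower.dn (A := A) (H := fun j => ExtTower.EH Z n (σU h𝔛 𝔉 U φ) j)
          (ExtTower.Hπ Z (data h𝔛 𝔉 h𝔉 U φ t ht) n) k m h x :=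
  ExtTower.exists_delay Z _ n hF

set_option maxHeartbeats 1000000 in
include hF in
/-- Classes are detected at the levels. -/
theorem eq_zero_of_levels (n : ℕ) (x : Ext Z (LU h𝔛 U 𝔉) n)
    (h : ∀ k, x.comp (Ext.mk₀ (pp h𝔛 U k)) (add_zero n) = 0) : x = 0 := by
  cases n with
  | zero => exact LimCoh.eq_zero_of_levels_zero (pk h𝔛 𝔉 U) (pp h𝔛 U) (pp_pk h𝔛 U) Z (shortExact_seq h𝔛 h𝔉 U) x h
  | succ n =>
    refine LimCoh.eq_zero_of_levels_succ (exists_aff U) (pk h𝔛 𝔉 U) (pp h𝔛 U) (pp_pk h𝔛 U) Z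
      (hVanish_FU h𝔛 h𝔉 U) (shortExact_seq h𝔛 h𝔉 U) n (fun z => ?_) x h
    exact exists_diff_ext (data h𝔛 𝔉 h𝔉 U φ t ht) hF n z

end Groth.AdicLinTop.FormalLim
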