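import Groth.Agent.SitesTopoi.Mod.GlobalFree
import Groth.Agent.SitesTopoi.Mod.Split
import Mathlib.Algebra.Category.ModuleCat.Presheaf.Colimits

/-!
Sections of free sheaves of modules are locally finite combinations of the generators.
-/

universe u

open CategoryTheory CategoryTheory.Limits Opposite

set_option backward.defeqAttrib.useBackward true
set_option backward.isDefEq.respectTransparency false
set_option backward.isDefEq.respectTransparency.types false
set_option synthInstance.maxHeartbeats 400000

namespace Groth.AdicLinTop.FreeSections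

open Groth.SitesTopoi.ModH Groth.SitesTopoi.GlobalFree

variable {C : Type u} [SmallCategory C] {J : GrothendieckTopology C} {O : Sheaf J CommRingCat.{u}}
  {I : Type u}

lemma rsm_gen {U V : C} (g : V ⟶ U) (i : I) : rsm (fr O I).val g (gen O U i) = gen O V i :=
  (apm_rsm (SheafOfModules.ιFree (R := ModSite.ringSh O) i).val g (1 : rsec O U)).symm.trans
    (congrArg (apm (SheafOfModules.ιFree (R := ModSite.ringSh O) i).val V)
      (map_one (rsR (O := O) g)))

variable (O I) in
/-- The presheaf coproduct of copies of the structure presheaf. -/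
noncomputable abbrev preFree : PM O := ∐ fun _ : I => (SheafOfModules.unit (ModSite.ringSh O)).val

variable (O I) in
/-- The comparison map to the free sheaf. -/
noncomputable def preFreeMap : preFree O I ⟶ (fr O I).val :=
  Sigma.desc fun i => (SheafOfModules.ιFree (R := ModSite.ringSh O) i).val

lemma exists_sum_preFree {U : C} (z : sc (preFree O I) U) :
    ∃ (s : Finset I) (a : I → rsec O U), z = ∑ i ∈ s,
      apm (Sigma.ι (fun _ : I => (SheafOfModules.unit (ModSite.ringSh O)).val) i) U (a i) := by
  classical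
  let f : I → PM O := fun _ => (SheafOfModules.unit (ModSite.ringSh O)).val
  let G := PresheafOfModules.evaluation (O.obj ⋙ forget₂ CommRingCat.{u} RingCat.{u}) (op U)
  let N : Submodule (rsec O U) (sc (preFree O I) U) :=
    ⨆ i, LinearMap.range (apm (Sigma.ι f i) U)
  have hN : N = ⊤ := by
    have hc := isColimitOfPreserves G (coproductIsCoproduct f)
    let q : G.obj (preFree O I) ⟶ ModuleCat.of (rsec O U) (sc (preFree O I) U ⧸ N) :=
      ModuleCat.ofHom N.mkQ
    have hq : q = 0 := by
      refine hc.hom_ext fun ⟨i⟩ => ?_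
      refine ModuleCat.hom_ext (LinearMap.ext fun a => ?_)
      refine ((Submodule.Quotient.mk_eq_zero N).2 ?_).trans rfl
      exact le_iSup (fun i => LinearMap.range (apm (Sigma.ι f i) U)) i ⟨a, rfl⟩
    rw [← N.ker_mkQ, LinearMap.ker_eq_top]
    exact congrArg ModuleCat.Hom.hom hq
  obtain ⟨c, hc, hcz⟩ := (Submodule.mem_iSup_iff_exists_finsupp _ z).1 (hN ▸ Submodule.mem_top : z ∈ N)
  choose a ha using hc
  exact ⟨c.support, a, hcz.symm.trans (Finset.sum_congr rfl fun i _ => (ha i).symm)⟩

lemma apm_preFreeMap {U : C} (i : I) (a : rsec O U) :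
    apm (preFreeMap O I) U (apm (Sigma.ι (fun _ : I => (SheafOfModules.unit (ModSite.ringSh O)).val) i) U a) =
      a • gen O U i := by
  rw [← apm_comp, preFreeMap, Sigma.ι_desc]
  exact apm_eq_smul (SheafOfModules.ιFree (R := ModSite.ringSh O) i) a

lemma locSurj_preFreeMap : LocSurj (preFreeMap O I) := by
  classical
  let ψ : (aP O).obj (preFree O I) ⟶ fr O I := ((adjP O).homEquiv _ _).symm (preFreeMap O I)
  have hφ : etaP (preFree O I) ≫ ψ.val = preFreeMap O I :=
    ((adjP O).homEquiv_unit _ _ _).symm.trans (((adjP O).homEquiv _ _).apply_symm_apply _)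
  have : Epi ψ := by
    refine ⟨fun {N} a b e => Cofan.IsColimit.hom_ext (SheafOfModules.isColimitFreeCofan I) _ _ fun i => ?_⟩
    have h1 : (SheafOfModules.ιFree (R := ModSite.ringSh O) i).val =
        Sigma.ι (fun _ : I => (SheafOfModules.unit (ModSite.ringSh O)).val) i ≫ preFreeMap O I :=
      (Sigma.ι_desc (fun j : I => (SheafOfModules.ιFree (R := ModSite.ringSh O) j).val) i).symm
    refine SheafOfModules.hom_ext ?_
    change (SheafOfModules.ιFree (R := ModSite.ringSh O) i).val ≫ a.val =
      (SheafOfModules.ιFree (R := ModSite.ringSh O) i).val ≫ b.val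
    rw [h1, ← hφ]
    simp only [Category.assoc]
    rw [show ψ.val ≫ a.val = ψ.val ≫ b.val from congrArg SheafOfModules.Hom.val e]
  intro U y
  obtain ⟨S, hS, hS'⟩ := Groth.SitesTopoi.ModH.locSurj_of_epi ψ U y
  choose w hw using hS'
  choose T hT hT' using fun (V : C) (g : V ⟶ U) (hg : S g) => locSurj_etaP (preFree O I) V (w g hg)
  refine ⟨Sieve.bind S.arrows fun {V} g hg => T V g hg, J.bind_covering hS fun V g hg => hT V g hg, ?_⟩
  rintro W _ ⟨V, k, g, hg, hk, rfl⟩
  obtain ⟨m, hm⟩ := hT' V g hg k hk
  refine ⟨m, ?_⟩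
  rw [← hφ, apm_comp, hm, apm_rsm, hw g hg, rsm_rsm]

/-- A section of a free sheaf is locally a finite combination of the generators. -/
theorem exists_finite_comb {U : C} (y : sc (fr O I).val U) :
    ∃ S ∈ J U, ∀ ⦃V : C⦄ (g : V ⟶ U), S g →
      ∃ (s : Finset I) (a : I → rsec O V), rsm (fr O I).val g y = ∑ i ∈ s, a i • gen O V i := by
  obtain ⟨S, hS, hS'⟩ := locSurj_preFreeMap (O := O) (I := I) U y
  refine ⟨S, hS, fun V g hg => ?_⟩
  obtain ⟨m, hm⟩ := hS' g hg
  obtain ⟨s, a, rfl⟩ := exists_sum_preFree m
  exact ⟨s, a, by rw [← hm, map_sum]; exact Finset.sum_congr rfl fun i _ => apm_preFreeMap i (a i)⟩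

lemma coef_finite_comb [DecidableEq I] {U : C} (s : Finset I) (a : I → rsec O U) (k : I) :
    coef O U (∑ i ∈ s, a i • gen O U i) k = if k ∈ s then a k else 0 := by
  rw [map_sum, Finset.sum_apply]
  rw [Finset.sum_congr rfl fun i _ => congrFun (map_smul (coef O U) (a i) (gen O U i)) k]
  simp only [Pi.smul_apply, smul_eq_mul, coef_gen, mul_ite, mul_one, mul_zero]
  exact Finset.sum_ite_eq' s k a

lemma coef_rsm {U V : C} (g : V ⟶ U) (y : sc (fr O I).val U) (k : I) :
    coef O V (rsm (fr O I).val g y) k = rsR g (coef O U y k) :=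
  apm_rsm (proj O k).val g y

/-- A section with coordinates supported on a finite set is the combination of those coordinates. -/
theorem eq_comb_of_coef {U : C} (y : sc (fr O I).val U) (s : Finset I)
    (h : ∀ k, k ∉ s → coef O U y k = 0) : y = ∑ i ∈ s, coef O U y i • gen O U i := by
  classical
  obtain ⟨S, hS, hS'⟩ := exists_finite_comb y
  refine sec_extM (fr O I) hS fun V g hg => ?_
  obtain ⟨t, a, ha⟩ := hS' g hg
  have hc : ∀ k, rsR g (coef O U y k) = if k ∈ t then a k else 0 := fun k => by
    rw [← coef_rsm, ha, coef_finite_comb]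
  rw [ha, map_sum]
  simp only [rsm_smul, rsm_gen, hc]
  simp only [ite_smul, zero_smul]
  rw [← Finset.sum_filter]
  refine (Finset.sum_subset (fun i hi => (Finset.mem_filter.1 hi).2) fun i hit hi => ?_).symm
  have his : i ∉ s := fun h' => hi (Finset.mem_filter.2 ⟨h', hit⟩)
  have h0 : a i = 0 := by
    have := hc i
    rw [h i his, map_zero, if_pos hit] at this
    exact this.symm
  rw [h0, zero_smul]

end Groth.AdicLinTop.FreeSections
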