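import Groth.Agent.AdicLinTop.SpacePres
import Groth.Agent.AdicLinTop.FreeSections
import Mathlib.RingTheory.Flat.EquationalCriterion
import Mathlib.RingTheory.RingHom.Flat

/-!
Quasi-coherent modules of finite type are finitely presented on a ringed space with a basis of opens
whose rings of sections are Noetherian with flat restrictions.
-/

set_option autoImplicit false

universe u

open CategoryTheory CategoryTheory.Limits Opposite TopologicalSpace

set_option backward.defeqAttrib.useBackward true
set_option backward.isDefEq.respectTransparency false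
set_option backward.isDefEq.respectTransparency.types false
set_option synthInstance.maxHeartbeats 400000

namespace Groth.AdicLinTop.QuotFP

open Groth.SitesTopoi.ModH Groth.Misc4.FlatFactor Groth.AdicLinTop.SpacePres
open Groth.SitesTopoi.GlobalFree (fr gen coef)
open scoped Classical in
/-- Indicator. -/
noncomputable def onSet {I M : Type*} [Zero M] (s : Finset I) (a : I → M) (i : I) : M :=
  if i ∈ s then a i else 0

/-- Solutions of finitely many equations over a flat extension come from the base. -/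
theorem mem_span_solutions {R S : Type u} [CommRing R] [CommRing S] (f : R →+* S) (hf : f.Flat)
    (q : ℕ) : ∀ (p : ℕ) (A : Fin q → Fin p → R) (b : Fin p → S), (∀ t, ∑ i, f (A t i) * b i = 0) →
      b ∈ Submodule.span S ((fun a : Fin p → R => fun i => f (a i)) '' {a | ∀ t, ∑ i, A t i * a i = 0}) := by
  classical
  induction q with
  | zero =>
    intro p A b _
    have : b = ∑ k, b k • fun i => f (if i = k then 1 else 0) := by
      funext i
      simp [Finset.sum_apply, apply_ite f]
    rw [this]
    exact Submodule.sum_mem _ fun k _ => Submodule.smul_mem _ _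
      (Submodule.subset_span ⟨fun i => if i = k then 1 else 0, fun t => t.elim0, rfl⟩)
  | succ q ih =>
    intro p A b hb
    algebraize [f]
    obtain ⟨k, a, y, hy, ha⟩ := Module.Flat.isTrivialRelation_of_sum_smul_eq_zero (f := A 0) (x := b)
      (by simp only [smul_eq_mul, Algebra.smul_def]; exact hb 0)
    have hby : ∀ i, b i = ∑ j, f (a i j) * y j := fun i => by
      rw [hy i]; simp [Algebra.smul_def]; rfl
    have hy' : ∀ t : Fin q, ∑ j, f (∑ i, A t.succ i * a i j) * y j = 0 := fun t => by
      refine Eq.trans ?_ (hb t.succ)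
      simp only [hby, Finset.mul_sum, map_sum, map_mul, Finset.sum_mul]
      rw [Finset.sum_comm]
      exact Finset.sum_congr rfl fun i _ => Finset.sum_congr rfl fun j _ => mul_assoc _ _ _
    have h2 := ih k (fun t j => ∑ i, A t.succ i * a i j) y hy'
    let L : (Fin k → S) →ₗ[S] (Fin p → S) :=
      LinearMap.pi fun i => ∑ j, f (a i j) • LinearMap.proj j
    have hL : L y = b := by
      funext i
      simp [L, hby]
    rw [← hL]
    refine (Submodule.map_le_iff_le_comap (f := L)
      (q := Submodule.span S ((fun a : Fin p → R => fun i => f (a i)) '' {a | ∀ t, ∑ i, A t i * a i = 0}))).1 ?_ h2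
    rw [Submodule.map_span, Submodule.span_le]
    rintro _ ⟨_, ⟨c, hc, rfl⟩, rfl⟩
    refine Submodule.subset_span ⟨fun i => ∑ j, a i j * c j, fun t => ?_, ?_⟩
    · induction t using Fin.cases with
      | zero =>
        simp only [Finset.mul_sum]
        rw [Finset.sum_comm]
        refine Finset.sum_eq_zero fun j _ => ?_
        have := ha j
        simp only [← mul_assoc, ← Finset.sum_mul, this, zero_mul]
      | succ t =>
        refine Eq.trans ?_ (hc t)
        simp only [Finset.mul_sum, Finset.sum_mul]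
        rw [Finset.sum_comm]
        exact Finset.sum_congr rfl fun j _ => Finset.sum_congr rfl fun i _ => (mul_assoc _ _ _).symm
    · funext i
      simp [L]

lemma map_onSet {I M N F : Type*} [Zero M] [Zero N] [FunLike F M N] [ZeroHomClass F M N] (f : F)
    (s : Finset I) (a : I → M) (i : I) : f (onSet s a i) = onSet s (fun i => f (a i)) i := by
  unfold onSet
  split_ifs
  · rfl
  · exact map_zero f

variable {T : Type u} [TopologicalSpace T]
  {O : Sheaf (Opens.grothendieckTopology T) CommRingCat.{u}}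

/-- A basis of opens with Noetherian rings of sections and flat restrictions. -/
structure GoodBasis (B : Set (Opens T)) : Prop where
  exists_mem : ∀ (x : T) (U : Opens T), x ∈ U → ∃ V ∈ B, x ∈ V ∧ V ≤ U
  noeth : ∀ V ∈ B, IsNoetherianRing (rsec O V)
  flat : ∀ V ∈ B, ∀ V' ∈ B, ∀ h : V' ≤ V, (rr (O := O) h).Flat

variable {G : ModSite.Mod O} {U : Opens T}

/-- Images of the free generators. -/
noncomputable def gv (p : ((ModSite.restr O U).obj G).Presentation) {W : Opens T} (hW : W ≤ U)
    (i : p.generators.I) : sc G.val W :=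
  apm p.generators.π.val (ov hW) (gen (O.over U) (ov hW) i)

/-- Inclusion over `U`. -/
abbrev om {W W' : Opens T} (hW : W ≤ U) (h : W' ≤ W) : ov (h.trans hW) ⟶ ov hW :=
  Over.homMk (U := ov (h.trans hW)) (V := ov hW) (homOfLE h) (Subsingleton.elim _ _)

lemma rm_apm {P : ModOver O U} (f : P ⟶ (ModSite.restr O U).obj G) {W W' : Opens T} (hW : W ≤ U)
    (h : W' ≤ W) (y : sc P.val (ov hW)) :
    rm G h (apm f.val (ov hW) y) = apm f.val (ov (h.trans hW)) (rsm P.val (om hW h) y) :=
  (apm_rsm f.val (om hW h) y).symm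

lemma rm_gv (p : ((ModSite.restr O U).obj G).Presentation) {W W' : Opens T} (hW : W ≤ U)
    (h : W' ≤ W) (i : p.generators.I) : rm G h (gv p hW i) = gv p (h.trans hW) i :=
  (rm_apm _ hW h _).trans (congrArg (apm p.generators.π.val (ov (h.trans hW)))
    (FreeSections.rsm_gen _ i))

lemma apm_comb (p : ((ModSite.restr O U).obj G).Presentation) {W : Opens T} (hW : W ≤ U)
    (s : Finset p.generators.I) (a : p.generators.I → rsec O W) :
    apm p.generators.π.val (ov hW) (∑ i ∈ s, (show rsec (O.over U) (ov hW) from a i) • gen (O.over U) (ov hW) i) =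
      (∑ i ∈ s, a i • gv p hW i : sc G.val W) := by
  rw [map_sum]
  exact Finset.sum_congr rfl fun i _ => map_smul (apm p.generators.π.val (ov hW)) _ _

/-- The images of the generators generate locally. -/
lemma exists_gv_comb (p : ((ModSite.restr O U).obj G).Presentation) {W : Opens T} (hW : W ≤ U)
    (t : sc G.val W) {x : T} (hx : x ∈ W) :
    ∃ (V : Opens T) (hV : V ≤ W), x ∈ V ∧ ∃ (s : Finset p.generators.I) (a : p.generators.I → rsec O V),
      rm G hV t = ∑ i ∈ s, a i • gv p (hV.trans hW) i := by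
  haveI : Epi p.generators.π := p.generators.epi
  obtain ⟨V, hV, hxV, y, hy⟩ := nhds_of_locSurj p.generators.π (locSurj_of_epi _) (ov hW) t hx
  obtain ⟨S, hS, hS'⟩ := FreeSections.exists_finite_comb (O := O.over U) y
  obtain ⟨V', hV', hxV', hS''⟩ := exists_nhd_of_mem ((GrothendieckTopology.mem_over_iff _ _).1 hS) hxV
  obtain ⟨s, a, ha⟩ := hS' (Over.homMk (U := ov (hV'.trans (hV.trans hW))) (V := ov (hV.trans hW)) (homOfLE hV'))
    ((Sieve.overEquiv_iff S (homOfLE hV')).1 hS'')
  refine ⟨V', hV'.trans hV, hxV', s, a, ?_⟩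
  have e : rm G hV' (apm p.generators.π.val (ov (hV.trans hW)) y) = rm G hV' (rm G hV t) :=
    congrArg (rm G hV') hy
  refine ((e.trans (rm_rm G hV hV' t)).symm.trans ?_)
  rw [rm_apm, ha]
  exact apm_comb p _ s a

/-- The coefficient of a relation. -/
noncomputable def rc (p : ((ModSite.restr O U).obj G).Presentation) {V : Opens T} (hV : V ≤ U)
    (j : p.relations.I) (i : p.generators.I) : rsec O V :=
  coef (O.over U) (ov hV)
    (apm (p.relations.π ≫ kernel.ι p.generators.π).val (ov hV) (gen (O.over U) (ov hV) j)) i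

lemma rc_map (p : ((ModSite.restr O U).obj G).Presentation) {V W : Opens T} (hV : V ≤ U) (h : W ≤ V)
    (j : p.relations.I) (i : p.generators.I) : rr h (rc p hV j i) = rc p (h.trans hV) j i := by
  let g : ov (h.trans hV) ⟶ ov hV := Over.homMk (U := ov (h.trans hV)) (V := ov hV) (homOfLE h)
  refine Eq.trans ?_ ((FreeSections.coef_rsm (O := O.over U) g
    (apm (p.relations.π ≫ kernel.ι p.generators.π).val (ov hV) (gen (O.over U) (ov hV) j)) i).symm.trans ?_)
  · rfl
  refine congrArg (fun y => coef (O.over U) (ov (h.trans hV)) y i) ?_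
  refine (apm_rsm _ g _).symm.trans ?_
  exact congrArg (apm (p.relations.π ≫ kernel.ι p.generators.π).val (ov (h.trans hV)))
    (FreeSections.rsm_gen g j)

/-- A combination of relations supported on finitely many generators gives a relation among them. -/
lemma gv_rel_of_outside (p : ((ModSite.restr O U).obj G).Presentation) {V : Opens T} (hV : V ≤ U)
    {P : ℕ} (j : Fin P → p.relations.I) (α : Fin P → rsec O V) (I0 : Finset p.generators.I)
    (h : ∀ i, i ∉ I0 → ∑ l, α l * rc p hV (j l) i = 0) :
    ∑ i ∈ I0, (∑ l, α l * rc p hV (j l) i) • gv p hV i = 0 := by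
  let z : sc (fr (O.over U) p.generators.I).val (ov hV) :=
    ∑ l, (show rsec (O.over U) (ov hV) from α l) •
      apm (p.relations.π ≫ kernel.ι p.generators.π).val (ov hV) (gen (O.over U) (ov hV) (j l))
  have hc : ∀ i, coef (O.over U) (ov hV) z i = ∑ l, α l * rc p hV (j l) i := fun i => by
    rw [map_sum, Finset.sum_apply]
    refine Finset.sum_congr rfl fun l _ => ?_
    rw [map_smul]
    rfl
  have hz : apm p.generators.π.val (ov hV) z = 0 := by
    rw [map_sum]
    refine Finset.sum_eq_zero fun l _ => ?_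
    rw [map_smul, ← apm_comp]
    refine Eq.trans (congrArg _ ?_) (smul_zero _)
    have hρ : (p.relations.π ≫ kernel.ι p.generators.π) ≫ p.generators.π = 0 := by simp
    exact congrArg (fun k => apm (SheafOfModules.Hom.val k) (ov hV) (gen (O.over U) (ov hV) (j l))) hρ
  refine Eq.trans ?_ hz
  conv_rhs => rw [FreeSections.eq_comb_of_coef z I0 fun i hi => (hc i).trans (h i hi)]
  refine Eq.trans ?_ (apm_comb p hV I0 fun i => coef (O.over U) (ov hV) z i).symm
  exact Finset.sum_congr rfl fun i _ => congrArg (fun b : rsec O V => b • gv p hV i) (hc i).symm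

/-- A relation among finitely many generators is locally a combination of the given relations. -/
lemma exists_local_comb (p : ((ModSite.restr O U).obj G).Presentation) {W : Opens T} (hW : W ≤ U)
    (I0 : Finset p.generators.I) (a : p.generators.I → rsec O W)
    (ha : ∑ i ∈ I0, a i • gv p hW i = 0) {x : T} (hx : x ∈ W) :
    ∃ (W' : Opens T) (hW' : W' ≤ W), x ∈ W' ∧ ∃ (P : ℕ) (j : Fin P → p.relations.I) (c : Fin P → rsec O W'),
      ∀ i, onSet I0 (fun i => rr hW' (a i)) i = ∑ l, c l * rc p (hW'.trans hW) (j l) i := by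
  let z0 : sc (fr (O.over U) p.generators.I).val (ov hW) :=
    ∑ i ∈ I0, (show rsec (O.over U) (ov hW) from a i) • gen (O.over U) (ov hW) i
  obtain ⟨y, hy⟩ := exists_kernel_lift p.generators.π (ov hW) z0 ((apm_comb p _ I0 _).trans ha)
  haveI : Epi p.relations.π := p.relations.epi
  obtain ⟨W1, hW1, hxW1, w, hw⟩ := nhds_of_locSurj p.relations.π (locSurj_of_epi _) (ov hW) y hx
  obtain ⟨S, hS, hS'⟩ := FreeSections.exists_finite_comb (O := O.over U) w
  obtain ⟨W2, hW2, hxW2, hS''⟩ := exists_nhd_of_mem ((GrothendieckTopology.mem_over_iff _ _).1 hS) hxW1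
  let g21 : ov (hW2.trans (hW1.trans hW)) ⟶ ov (hW1.trans hW) :=
    Over.homMk (U := ov (hW2.trans (hW1.trans hW))) (V := ov (hW1.trans hW)) (homOfLE hW2)
  let g20 : ov (hW2.trans (hW1.trans hW)) ⟶ ov hW :=
    Over.homMk (U := ov (hW2.trans (hW1.trans hW))) (V := ov hW) (homOfLE (hW2.trans hW1))
  obtain ⟨s, c, hc⟩ := hS' g21 ((Sieve.overEquiv_iff S (homOfLE hW2)).1 hS'')
  refine ⟨W2, hW2.trans hW1, hxW2, s.card, fun l => (s.equivFin.symm l).1,
    fun l => c (s.equivFin.symm l).1, fun i => ?_⟩
  have h1 : apm (p.relations.π ≫ kernel.ι p.generators.π).val (ov (hW2.trans (hW1.trans hW)))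
      (rsm (fr (O.over U) p.relations.I).val g21 w) = rsm (fr (O.over U) p.generators.I).val g20 z0 := by
    refine (apm_comp _ _ _ _).trans ?_
    rw [apm_rsm p.relations.π.val g21 w, hw, rsm_rsm, apm_rsm, hy]
    rfl
  have h2 := congrArg (fun y => coef (O.over U) (ov (hW2.trans (hW1.trans hW))) y i) h1
  simp only [hc, FreeSections.coef_rsm] at h2
  rw [map_sum, map_sum, Finset.sum_apply] at h2
  refine Eq.trans ?_ (h2.symm.trans ?_)
  · have h3 : coef (O.over U) (ov hW) z0 i =
        onSet I0 (fun i => (show rsec (O.over U) (ov hW) from a i)) i := by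
      classical
      refine (FreeSections.coef_finite_comb I0 _ i).trans ?_
      unfold onSet
      congr
    rw [h3, map_onSet]
    rfl
  · refine Eq.trans ?_ (Equiv.sum_comp s.equivFin.symm fun l : s => (show rsec O W2 from c l.1) * rc p _ l.1 i).symm
    refine Eq.trans ?_ (Finset.sum_coe_sort s fun l => (show rsec O W2 from c l) * rc p _ l i).symm
    refine Finset.sum_congr rfl fun l _ => ?_
    rw [map_smul, map_smul]
    rfl

/-- Combinations over a flat extension satisfying equations from the base come from the base. -/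
theorem mem_span_relations {R S : Type u} [CommRing R] [CommRing S] [IsNoetherianRing R] (f : R →+* S)
    (hf : f.Flat) {I : Type u} (Out : Set I) {P N : ℕ} (row : I → Fin P → R) (col : Fin N → Fin P → R)
    (K : Submodule R (Fin N → R))
    (hK : ∀ α : Fin P → R, (∀ i ∈ Out, ∑ j, α j * row i j = 0) → (fun k => ∑ j, α j * col k j) ∈ K)
    (c : Fin P → S) (hc : ∀ i ∈ Out, ∑ j, c j * f (row i j) = 0) :
    (fun k => ∑ j, c j * f (col k j)) ∈
      Submodule.span S ((fun b : Fin N → R => fun k => f (b k)) '' (K : Set (Fin N → R))) := by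
  classical
  obtain ⟨q, A, hA⟩ := Submodule.fg_iff_exists_fin_generating_family.1
    (IsNoetherian.noetherian (Submodule.span R (row '' Out)))
  have hAc : ∀ t, ∑ j, f (A t j) * c j = 0 := by
    intro t
    have ht : A t ∈ Submodule.span R (row '' Out) := hA ▸ Submodule.subset_span ⟨t, rfl⟩
    refine Submodule.span_induction (p := fun v _ => ∑ j, f (v j) * c j = 0) ?_ ?_ ?_ ?_ ht
    · rintro _ ⟨i, hi, rfl⟩
      exact Eq.trans (Finset.sum_congr rfl fun j _ => mul_comm _ _) (hc i hi)
    · simp
    · intro v v' _ _ h h'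
      simp [add_mul, Finset.sum_add_distrib, h, h']
    · intro r v _ h
      simp [mul_assoc, ← Finset.mul_sum, h]
  let Φ : (Fin P → S) →ₗ[S] (Fin N → S) :=
    LinearMap.pi fun k => ∑ j, f (col k j) • LinearMap.proj j
  have hΦ : ∀ b k, Φ b k = ∑ j, b j * f (col k j) := fun b k => by
    simp [Φ, mul_comm]
  rw [show (fun k => ∑ j, c j * f (col k j)) = Φ c from funext fun k => (hΦ c k).symm]
  refine (Submodule.map_le_iff_le_comap (f := Φ)
    (q := Submodule.span S ((fun b : Fin N → R => fun k => f (b k)) '' (K : Set (Fin N → R))))).1 ?_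
    (mem_span_solutions f hf q P A c hAc)
  rw [Submodule.map_span, Submodule.span_le]
  rintro _ ⟨_, ⟨α, hα, rfl⟩, rfl⟩
  refine Submodule.subset_span ⟨_, hK α fun i hi => ?_, funext fun k => ?_⟩
  · have hi' : row i ∈ Submodule.span R (Set.range A) := hA ▸ Submodule.subset_span ⟨i, hi, rfl⟩
    refine Submodule.span_induction (p := fun v _ => ∑ j, α j * v j = 0) ?_ ?_ ?_ ?_ hi'
    · rintro _ ⟨t, rfl⟩
      exact Eq.trans (Finset.sum_congr rfl fun j _ => mul_comm _ _) (hα t)
    · simp
    · intro v v' _ _ h h'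
      simp [mul_add, Finset.sum_add_distrib, h, h']
    · intro r v _ h
      simp [mul_left_comm, ← Finset.mul_sum, h]
  · rw [hΦ]
    simp [map_sum]

variable {B : Set (Opens T)} (hB : GoodBasis (O := O) B)

include hB in
/-- Relations among finitely many of the generators are generated by finitely many over a small open. -/
theorem exists_rel (p : ((ModSite.restr O U).obj G).Presentation) {V : Opens T} (hV : V ≤ U)
    (hVB : V ∈ B) {N : ℕ} (e : Fin N → p.generators.I) (he : Function.Injective e) :
    ∃ (m : ℕ) (r : Fin m → Fin N → rsec O V), (∀ j, ∑ k, r j k • gv p hV (e k) = 0) ∧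
      ∀ (W : Opens T) (hW : W ≤ V) (a : Fin N → rsec O W), ∑ k, a k • gv p (hW.trans hV) (e k) = 0 →
        ∀ x ∈ W, ∃ (W' : Opens T) (hW' : W' ≤ W), x ∈ W' ∧ ∃ c : Fin m → rsec O W',
          ∀ k, rr hW' (a k) = ∑ j, c j * rr (hW'.trans hW) (r j k) := by
  classical
  haveI := hB.noeth V hVB
  let g : (Fin N → rsec O V) →ₗ[rsec O V] sc G.val V :=
    Fintype.linearCombination (rsec O V) fun k => gv p hV (e k)
  obtain ⟨m, r, hr⟩ := Submodule.fg_iff_exists_fin_generating_family.1
    (IsNoetherian.noetherian (LinearMap.ker g))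
  refine ⟨m, r, fun j => (Fintype.linearCombination_apply (rsec O V) (fun k => gv p hV (e k)) (r j)).symm.trans
    (LinearMap.mem_ker.1 (hr ▸ Submodule.subset_span ⟨j, rfl⟩ : r j ∈ LinearMap.ker g)),
    fun W hW a ha x hx => ?_⟩
  let I0 : Finset p.generators.I := Finset.univ.image e
  obtain ⟨W2, hW2, hxW2, P, j, c, hcc⟩ := exists_local_comb p (hW.trans hV) I0 (Function.extend e a 0) (by
    rw [Finset.sum_image (fun i _ j _ h => he h)]
    refine Eq.trans (Finset.sum_congr rfl fun k _ => ?_) ha
    rw [he.extend_apply]) hx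
  obtain ⟨W', hW'B, hxW', hW'2⟩ := hB.exists_mem x W2 hxW2
  have hW'W : W' ≤ W := hW'2.trans hW2
  have hW'V : W' ≤ V := hW'W.trans hW
  have hc' : ∀ i, onSet I0 (fun i => rr hW'W (Function.extend e a 0 i)) i =
      ∑ l, rr hW'2 (c l) * rr hW'V (rc p hV (j l) i) := fun i => by
    have h1 := congrArg (rr hW'2) (hcc i)
    simp only [map_onSet, map_sum, map_mul, rr_rr, rc_map] at h1
    simp only [rc_map]
    exact h1
  have hspan := mem_span_relations (rr hW'V) (hB.flat V hVB W' hW'B hW'V) {i | i ∉ I0}
    (fun i l => rc p hV (j l) i) (fun k l => rc p hV (j l) (e k)) (LinearMap.ker g)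
    (fun α hα => by
      rw [LinearMap.mem_ker]
      refine (Fintype.linearCombination_apply (rsec O V) (fun k => gv p hV (e k)) _).trans ?_
      refine Eq.trans ?_ (gv_rel_of_outside p hV j α I0 hα)
      rw [Finset.sum_image (fun i _ j _ h => he h)])
    (fun l => rr hW'2 (c l)) (fun i hi => (hc' i).symm.trans (by unfold onSet; exact if_neg hi))
  have hfun : (fun k => ∑ l, rr hW'2 (c l) * rr hW'V (rc p hV (j l) (e k))) = fun k => rr hW'W (a k) :=
    funext fun k => (hc' (e k)).symm.trans
      (Eq.trans (by unfold onSet; exact if_pos (Finset.mem_image_of_mem e (Finset.mem_univ k))) (congrArg (rr hW'W) (he.extend_apply a 0 k)))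
  have hle : Submodule.span (rsec O W') ((fun b : Fin N → rsec O V => fun k => rr hW'V (b k)) ''
      (LinearMap.ker g : Set (Fin N → rsec O V))) ≤
      Submodule.span (rsec O W') (Set.range fun j => fun k => rr hW'V (r j k)) := by
    rw [Submodule.span_le]
    rintro _ ⟨b, hb, rfl⟩
    rw [← hr] at hb
    obtain ⟨d, hd⟩ := (Submodule.mem_span_range_iff_exists_fun _).1 hb
    refine (Submodule.mem_span_range_iff_exists_fun _).2 ⟨fun j => rr hW'V (d j), ?_⟩
    funext k
    have := congrArg (rr hW'V) (congrFun hd k)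
    simpa only [Finset.sum_apply, Pi.smul_apply, smul_eq_mul, map_sum, map_mul] using this
  obtain ⟨d, hd⟩ := (Submodule.mem_span_range_iff_exists_fun _).1 (hfun ▸ hle hspan)
  refine ⟨W', hW'W, hxW', d, fun k => ?_⟩
  rw [← congrFun hd k, Finset.sum_apply]
  rfl

omit hB in
/-- Change of generators. -/
noncomputable def genDataOfComb {G : ModSite.Mod O} {U₁ V : Opens T} {n N : ℕ} (P : GenData G U₁ n)
    (hV : V ≤ U₁) (g : Fin N → sc G.val V) (A : Fin n → Fin N → rsec O V)
    (h : ∀ l, rm G hV (P.s l) = ∑ i, A l i • g i) : GenData G V N where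
  s := g
  gen W hW t x hx := by
    obtain ⟨W', hW', hxW', b, hb⟩ := P.gen W (hW.trans hV) t x hx
    refine ⟨W', hW', hxW', fun i => ∑ l, b l * rr (hW'.trans hW) (A l i), ?_⟩
    rw [hb]
    simp only [Finset.sum_smul, mul_smul]
    rw [Finset.sum_comm]
    refine Finset.sum_congr rfl fun l _ => ?_
    rw [← Finset.smul_sum]
    refine congrArg (b l • ·) ?_
    have h1 := congrArg (rm G (hW'.trans hW)) (h l)
    rw [rm_rm, map_sum] at h1
    simp only [rm_smul] at h1
    exact h1

omit hB in
lemma sum_onSet {G : ModSite.Mod O} {U : Opens T} (p : ((ModSite.restr O U).obj G).Presentation)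
    {V : Opens T} (hV : V ≤ U) {I0 s : Finset p.generators.I} (hs : s ⊆ I0) (a : p.generators.I → rsec O V)
    {N : ℕ} (e : Fin N ≃ I0) :
    ∑ i : s, a i.1 • gv p hV i.1 = ∑ k, onSet s a (e k).1 • gv p hV (e k).1 := by
  rw [Equiv.sum_comp e fun j : I0 => onSet s a j.1 • gv p hV j.1,
    Finset.sum_coe_sort I0 fun j => onSet s a j • gv p hV j, Finset.sum_coe_sort s fun j => a j • gv p hV j]
  refine Eq.trans (Finset.sum_congr rfl fun i hi => ?_)
    (Finset.sum_subset hs fun i _ hi => by unfold onSet; rw [if_neg hi, zero_smul])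
  unfold onSet
  rw [if_pos hi]

include hB in
/-- A quasi-coherent module of finite type is finitely presented. -/
theorem isFinitePresentation [SheafOfModules.IsQuasicoherent.{u} (R := ModSite.ringSh O) G]
    (hG : ∀ x : T, ∃ (U : Opens T) (n : ℕ), x ∈ U ∧ Nonempty (GenData G U n)) :
    SheafOfModules.IsFinitePresentation.{u} (R := ModSite.ringSh O) G := by
  classical
  refine isFinitePresentation_of_presData fun x => ?_
  obtain ⟨σ⟩ := SheafOfModules.IsQuasicoherent.nonempty_quasicoherentData (M := G)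
  obtain ⟨k, hk⟩ : ∃ k, x ∈ σ.X k := by
    have := σ.coversTop
    rw [Opens.coversTop_iff] at this
    exact Opens.mem_iSup.mp ((this ▸ trivial : x ∈ iSup σ.X))
  obtain ⟨U₀, n, hxU₀, ⟨P₀⟩⟩ := hG x
  let p : ((ModSite.restr O (σ.X k)).obj G).Presentation := σ.presentation k
  let U₁ := U₀ ⊓ σ.X k
  let P := P₀.restrict (inf_le_left : U₁ ≤ U₀)
  choose Vk hVk hxVk sk ak hak using fun l : Fin n =>
    exists_gv_comb p (inf_le_right : U₁ ≤ σ.X k) (P.s l) (x := x) ⟨hxU₀, hk⟩
  obtain ⟨V, hVB, hxV, hVW⟩ := hB.exists_mem x (U₁ ⊓ Finset.univ.inf Vk)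
    ⟨⟨hxU₀, hk⟩, by simpa [Opens.coe_finset_inf] using hxVk⟩
  have hV1 : V ≤ U₁ := hVW.trans inf_le_left
  have hVl : ∀ l, V ≤ Vk l := fun l => hVW.trans (inf_le_right.trans (Finset.inf_le (Finset.mem_univ l)))
  let I0 : Finset p.generators.I := Finset.univ.biUnion sk
  let e : Fin I0.card ≃ I0 := I0.equivFin.symm
  have hVU : V ≤ σ.X k := hV1.trans inf_le_right
  obtain ⟨m, r, hr0, hrel⟩ := exists_rel hB p hVU hVB (fun i => (e i).1) (Subtype.val_injective.comp e.injective)
  have hA : ∀ l, rm G hV1 (P.s l) =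
      ∑ i, onSet (sk l) (fun j => rr (hVl l) (ak l j)) (e i).1 • gv p hVU (e i).1 := fun l => by
    rw [← sum_onSet p hVU (show sk l ⊆ I0 from fun i hi => Finset.mem_biUnion.2 ⟨l, Finset.mem_univ l, hi⟩) _ e]
    have h1 := congrArg (rm G (hVl l)) (hak l)
    rw [rm_rm, map_sum] at h1
    simp only [rm_smul, rm_gv] at h1
    exact h1.trans (Finset.sum_coe_sort (sk l) fun j => rr (hVl l) (ak l j) • gv p hVU j).symm
  let D : GenData G V I0.card := genDataOfComb P hV1 (fun i => gv p hVU (e i).1) _ hA
  refine ⟨V, I0.card, m, hxV, ⟨{ D with r := r, zero := hr0, rel := fun W hW a ha y hy => ?_ }⟩⟩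
  exact hrel W hW a (by
    refine Eq.trans (Finset.sum_congr rfl fun i _ => ?_) ha
    exact congrArg (a i • ·) (rm_gv p hVU hW (e i).1).symm) y hy

end Groth.AdicLinTop.QuotFP
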