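import Groth.Agent.AdicLinTop.FormalEpi
import Groth.Agent.AdicLinTop.QuotFP
import Groth.Agent.AdicLinTop.ComplData

/-!
# Small perturbations of morphisms of coherent modules on a formal scheme
-/

set_option autoImplicit false

universe u

open CategoryTheory CategoryTheory.Limits AlgebraicGeometry TopologicalSpace Opposite

namespace Groth.AdicLinTop.FormalPerturb

open Groth.AdicLinTop.FormalLevels Groth.AdicLinTop.FormalReal Groth.AdicLinTop.FormalAffine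
open Groth.AdicLinTop.FormalSpan Groth.AdicLinTop.FormalPull Groth.AdicLinTop.FormalCoh

section Alg

/-- A perturbation of an injective map by a map with values in a high power is injective. -/
theorem injective_add {R : Type*} [CommRing R] [IsNoetherianRing R] {M N : Type*} [AddCommGroup M]
    [Module R M] [Module.Finite R M] [AddCommGroup N] [Module R N] [Module.Finite R N] {J : Ideal R}
    (hJ : J ≤ Ideal.jacobson ⊥) {f : M →ₗ[R] N} (hf : Function.Injective f) :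
    ∃ c : ℕ, ∀ n, c ≤ n → ∀ g : M →ₗ[R] N, (∀ x, g x ∈ J ^ (n + 1) • (⊤ : Submodule R N)) →
      ∀ x, f x + g x = 0 → x = 0 := by
  obtain ⟨c, hc⟩ := ComplData.exists_artinRees J hf
  refine ⟨c, fun n hn g hg x hx => ?_⟩
  have key : ∀ j, x ∈ J ^ j • (⊤ : Submodule R M) := fun j => by
    induction j with
    | zero => simp
    | succ j ih =>
      refine hc (j + 1) x ?_
      rw [eq_neg_of_add_eq_zero_left hx]
      refine neg_mem ?_
      have h1 : g x ∈ Submodule.map g (J ^ j • ⊤) := Submodule.mem_map_of_mem ih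
      rw [Submodule.map_smul''] at h1
      have h2 : Submodule.map g ⊤ ≤ J ^ (n + 1) • (⊤ : Submodule R N) := by
        rintro _ ⟨y, -, rfl⟩
        exact hg y
      have h3 := Submodule.smul_mono le_rfl h2 h1
      rw [← Submodule.mul_smul, ← pow_add] at h3
      exact Submodule.smul_mono (Ideal.pow_le_pow_right (by omega)) le_rfl h3
  have h0 : x ∈ (⨅ j : ℕ, J ^ j • (⊤ : Submodule R M)) := Submodule.mem_iInf _ |>.2 key
  rwa [Ideal.iInf_pow_smul_eq_bot_of_le_jacobson _ hJ, Submodule.mem_bot] at h0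

end Alg

variable {𝔛 : FSch.Sys.{u}} (h𝔛 : 𝔛.IsLocNoethFormal) {𝔐 𝔑 : FSch.ModSys 𝔛}
  (h𝔐 : 𝔐.IsCoh) (h𝔑 : 𝔑.IsCoh)

include h𝔐 h𝔑 in
/-- Injectivity passes to smaller affine opens. -/
theorem injective_of_le (φ : 𝔐.realMod h𝔛.1 ⟶ 𝔑.realMod h𝔛.1) {U V : (𝔛.X 0).Opens} (hU : IsAffineOpen U)
    (hV : IsAffineOpen V) (e : V ≤ U) (hφ : Function.Injective (app φ U)) :
    Function.Injective (app φ V) := by
  classical
  refine (injective_iff_map_eq_zero _).2 fun x hx => ?_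
  obtain ⟨p, s, hs⟩ := exists_span h𝔛 h𝔐 hU
  obtain ⟨q, g, hg⟩ := exists_span h𝔛 h𝔑 hU
  have := isNoetherianRing h𝔛 hU
  obtain ⟨l, r, hr⟩ := Submodule.fg_iff_exists_fin_generating_family.1
    (IsNoetherian.noetherian (LinearMap.ker (Fintype.linearCombination (RS h𝔛.1 U) g)))
  obtain ⟨b, rfl⟩ := (Submodule.mem_span_range_iff_exists_fun _).1
    (span_rs h𝔛 h𝔐 hU hV e s hs ▸ Submodule.mem_top : x ∈ _)
  choose A hA using fun i => (Submodule.mem_span_range_iff_exists_fun _).1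
    (hg ▸ Submodule.mem_top : app φ U (s i) ∈ _)
  let b' : Fin q → RS h𝔛.1 V := fun t => ∑ i, b i * resR h𝔛.1 e (A i t)
  have hb' : ∑ t, b' t • rs (𝔑.realMod h𝔛.1) e (g t) = 0 := by
    refine Eq.trans ?_ hx
    rw [map_sum]
    refine Eq.trans (Finset.sum_congr rfl fun t _ => Finset.sum_smul) ?_
    rw [Finset.sum_comm]
    refine Finset.sum_congr rfl fun i _ => ?_
    rw [map_smul, rs_app φ e, ← hA i, map_sum, Finset.smul_sum]
    exact Finset.sum_congr rfl fun t _ => by rw [rs_smul, mul_smul]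
  have h1 : b' ∈ Submodule.span (RS h𝔛.1 V) (Set.range fun j => fun t => resR h𝔛.1 e (r j t)) := by
    refine SetLike.le_def.1 (Submodule.span_le.2 ?_) (rel_rs h𝔛 h𝔑 hU hV e g hg b' hb')
    rintro _ ⟨a, ha, rfl⟩
    have ha' : a ∈ Submodule.span (RS h𝔛.1 U) (Set.range r) := by
      rw [hr, LinearMap.mem_ker, Fintype.linearCombination_apply]; exact ha
    obtain ⟨d, rfl⟩ := (Submodule.mem_span_range_iff_exists_fun _).1 ha'
    refine (Submodule.mem_span_range_iff_exists_fun _).2 ⟨fun j => resR h𝔛.1 e (d j), funext fun t => ?_⟩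
    simp only [Finset.sum_apply, Pi.smul_apply, smul_eq_mul, map_sum, map_mul]
  obtain ⟨c, hc⟩ := (Submodule.mem_span_range_iff_exists_fun _).1 h1
  let M : Fin q → Fin (p + l) → RS h𝔛.1 U := fun t => Fin.addCases (fun i => A i t) (fun j => - r j t)
  let B : Fin (p + l) → RS h𝔛.1 V := Fin.addCases b c
  have hB : ∀ t, ∑ i, resR h𝔛.1 e (M t i) * B i = 0 := fun t => by
    rw [Fin.sum_univ_add]
    simp only [M, B, Fin.addCases_left, Fin.addCases_right, map_neg, neg_mul, Finset.sum_neg_distrib]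
    rw [add_neg_eq_zero]
    refine Eq.trans (Finset.sum_congr rfl fun i _ => mul_comm _ _) (Eq.trans (congrFun hc t).symm ?_)
    simp only [Finset.sum_apply, Pi.smul_apply, smul_eq_mul]
    exact Finset.sum_congr rfl fun j _ => mul_comm _ _
  have h2 := QuotFP.mem_span_solutions (resR h𝔛.1 e) (flat_resR h𝔛 hU hV e) q (p + l) M B hB
  let L : (Fin (p + l) → RS h𝔛.1 V) →ₗ[RS h𝔛.1 V] Sec (𝔐.realMod h𝔛.1) V :=
    (Fintype.linearCombination (RS h𝔛.1 V) fun i => rs (𝔐.realMod h𝔛.1) e (s i)).comp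
      (LinearMap.funLeft (RS h𝔛.1 V) (RS h𝔛.1 V) (Fin.castAdd l))
  have h3 : Submodule.span (RS h𝔛.1 V) ((fun a : Fin (p + l) → RS h𝔛.1 U => fun i => resR h𝔛.1 e (a i)) ''
      {a | ∀ t, ∑ i, M t i * a i = 0}) ≤ LinearMap.ker L := by
    refine Submodule.span_le.2 ?_
    rintro _ ⟨a, ha, rfl⟩
    have h0 : ∑ i, a (Fin.castAdd l i) • s i = 0 := hφ <| by
      rw [map_zero, map_sum]
      refine Eq.trans (Finset.sum_congr rfl fun i _ => ((app φ U).map_smul _ _).trans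
        (congrArg (a (Fin.castAdd l i) • ·) (hA i).symm)) ?_
      have hj : ∀ j, ∑ t, r j t • g t = 0 := fun j => by
        have : r j ∈ LinearMap.ker (Fintype.linearCombination (RS h𝔛.1 U) g) := hr ▸ Submodule.subset_span ⟨j, rfl⟩
        exact (Fintype.linearCombination_apply (RS h𝔛.1 U) g (r j)).symm.trans this
      have ht : ∀ t, ∑ i, a (Fin.castAdd l i) * A i t = ∑ j, a (Fin.natAdd p j) * r j t := fun t => by
        have := ha t
        rw [Fin.sum_univ_add] at this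
        simp only [M, Fin.addCases_left, Fin.addCases_right, neg_mul, Finset.sum_neg_distrib, add_neg_eq_zero] at this
        simpa only [mul_comm] using this
      calc ∑ i, a (Fin.castAdd l i) • ∑ t, A i t • g t
          = ∑ t, (∑ i, a (Fin.castAdd l i) * A i t) • g t := by
            simp only [Finset.smul_sum, smul_smul, Finset.sum_smul]
            exact Finset.sum_comm
        _ = ∑ t, (∑ j, a (Fin.natAdd p j) * r j t) • g t := by simp only [ht]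
        _ = ∑ j, a (Fin.natAdd p j) • ∑ t, r j t • g t := by
            simp only [Finset.smul_sum, smul_smul, Finset.sum_smul]
            exact Finset.sum_comm
        _ = 0 := by simp [hj]
    show Fintype.linearCombination (RS h𝔛.1 V) (fun i => rs (𝔐.realMod h𝔛.1) e (s i))
      (fun i => resR h𝔛.1 e (a (Fin.castAdd l i))) = 0
    rw [Fintype.linearCombination_apply]
    have := congrArg (rs (𝔐.realMod h𝔛.1) e) h0
    rw [map_sum, map_zero] at this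
    exact (Finset.sum_congr rfl fun i _ => (rs_smul _ e _ (s i)).symm).trans this
  have h4 : Fintype.linearCombination (RS h𝔛.1 V) (fun i => rs (𝔐.realMod h𝔛.1) e (s i))
      (fun i => B (Fin.castAdd l i)) = 0 := h3 h2
  rw [Fintype.linearCombination_apply] at h4
  simpa only [B, Fin.addCases_left] using h4

theorem app_add {M N : FSch.ModF 𝔛 h𝔛.1} (a b : M ⟶ N) (U : (𝔛.X 0).Opens) (x : Sec M U) :
    app (a + b) U x = app a U x + app b U x := rfl

theorem injective_app_of_mono {M N : FSch.ModF 𝔛 h𝔛.1} (φ : M ⟶ N) [Mono φ] (U : (𝔛.X 0).Opens) :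
    Function.Injective (app φ U) :=
  (ModuleCat.mono_iff_injective ((SheafOfModules.evaluation.{u} (ModSite.ringSh (𝔛.Osh h𝔛.1)) (op U)).map φ)).1
    inferInstance

include h𝔐 h𝔑 in
/-- Over a quasi-compact formal scheme, small perturbations of a monomorphism are monomorphisms. -/
theorem exists_level_mono [CompactSpace (𝔛.X 0)] (θ : 𝔐.realMod h𝔛.1 ⟶ 𝔑.realMod h𝔛.1) [Mono θ] :
    ∃ c : ℕ, ∀ n, c ≤ n → ∀ ψ : 𝔐.realMod h𝔛.1 ⟶ 𝔑.realMod h𝔛.1,
      (∀ U, IsAffineOpen U → ∀ x, lev h𝔛.1 𝔑 n U (app ψ U x) = 0) → Mono (θ + ψ) := by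
  have hloc : ∀ U : (𝔛.X 0).affineOpens, ∃ c : ℕ, ∀ n, c ≤ n → ∀ ψ : 𝔐.realMod h𝔛.1 ⟶ 𝔑.realMod h𝔛.1,
      (∀ x, lev h𝔛.1 𝔑 n U.1 (app ψ U.1 x) = 0) → Function.Injective (app (θ + ψ) U.1) := fun U => by
    have := isNoetherianRing h𝔛 U.2
    have := finite_sec h𝔛 h𝔐 U.2
    have := finite_sec h𝔛 h𝔑 U.2
    have := (FormalLevels.adic h𝔛 U.2).1
    obtain ⟨c, hc⟩ := injective_add (IsAdicComplete.le_jacobson_bot (idl h𝔛.1 U.1))
      (injective_app_of_mono h𝔛 θ U.1)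
    exact ⟨c, fun n hn ψ hψ => (injective_iff_map_eq_zero _).2 fun x hx =>
      hc n hn (app ψ U.1) (fun y => (lev_eq_zero_iff h𝔛 h𝔑 U.2 n _).1 (hψ y)) x
        ((app_add h𝔛 θ ψ U.1 x).symm.trans hx)⟩
  choose c hc using hloc
  obtain ⟨s, hs⟩ := isCompact_univ.elim_finite_subcover (fun U : (𝔛.X 0).affineOpens => (U.1 : Set (𝔛.X 0)))
    (fun U => U.1.2) (fun x _ => by
      obtain ⟨_, ⟨V, hV, rfl⟩, hxV, -⟩ := (𝔛.X 0).isBasis_affineOpens.exists_subset_of_mem_open (Set.mem_univ x) isOpen_univ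
      exact Set.mem_iUnion.2 ⟨⟨V, hV⟩, hxV⟩)
  refine ⟨s.sup c, fun n hn ψ hψ => ⟨fun {Z} a b e => SheafOfModules.hom_ext (PresheafOfModules.hom_ext fun W => ?_)⟩⟩
  ext z
  refine SpaceGlue.eq_of_local fun p hp => ?_
  obtain ⟨U, hUs, hpU⟩ := Set.mem_iUnion₂.1 (hs (Set.mem_univ p))
  obtain ⟨_, ⟨V, hV, rfl⟩, hpV, hVW⟩ := (𝔛.X 0).isBasis_affineOpens.exists_subset_of_mem_open
    (show p ∈ W.unop ⊓ U.1 from ⟨hp, hpU⟩) (W.unop ⊓ U.1).2
  have hVW : V ≤ W.unop ⊓ U.1 := hVW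
  refine ⟨V, hVW.trans inf_le_left, hpV, (rs_app a (hVW.trans inf_le_left) z).symm.trans
    (Eq.trans ?_ (rs_app b (hVW.trans inf_le_left) z))⟩
  refine injective_of_le h𝔛 h𝔐 h𝔑 (θ + ψ) U.2 hV (hVW.trans inf_le_right)
    (hc U n ((Finset.le_sup hUs).trans hn) ψ (hψ U.1 U.2)) ?_
  rw [← app_comp, ← app_comp, e]

variable {𝔉 𝔊 : FSch.ModF 𝔛 h𝔛.1}

/-- Small perturbations of monomorphisms and epimorphisms of coherent modules. -/
theorem exists_level [CompactSpace (𝔛.X 0)] (h𝔉 : FSch.IsCohF 𝔛 h𝔛.1 𝔉) (h𝔊 : FSch.IsCohF 𝔛 h𝔛.1 𝔊) (θ : 𝔉 ⟶ 𝔊) :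
    ∃ n : ℕ, ∀ ψ : 𝔉 ⟶ 𝔊, ψ ≫ (FSch.levelMor 𝔛 h𝔛.1 n).adj.unit.app 𝔊 = 0 →
      (Mono θ → Mono (θ + ψ)) ∧ (Epi θ → Epi (θ + ψ)) := by
  have := isIso_ηmap h𝔛 h𝔉
  have := isIso_ηmap h𝔛 h𝔊
  let eF := asIso (ηmap h𝔛.1 𝔉)
  let eG := asIso (ηmap h𝔛.1 𝔊)
  have hlev : ∀ (n : ℕ) (ψ : 𝔉 ⟶ 𝔊), ψ ≫ (FSch.levelMor 𝔛 h𝔛.1 n).adj.unit.app 𝔊 = 0 →
      ∀ U, IsAffineOpen U → ∀ x, lev h𝔛.1 (sys h𝔛.1 𝔊) n U (app (eF.inv ≫ ψ ≫ eG.hom) U x) = 0 := by
    intro n ψ hψ U _ x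
    rw [app_comp, app_comp]
    refine (lev_ηmap h𝔛.1 𝔊 n U _).trans ?_
    exact (congrArg (pushEquiv n (pullk h𝔛.1 𝔊 n) U) (congr(app $hψ U (app eF.inv U x)))).trans (map_zero _)
  have hepi : ∀ (n : ℕ) (ψ : 𝔉 ⟶ 𝔊), ψ ≫ (FSch.levelMor 𝔛 h𝔛.1 n).adj.unit.app 𝔊 = 0 → Epi θ → Epi (θ + ψ) := by
    intro n ψ hψ hθ
    refine FormalEpi.epi_of_epi_pull_zero h𝔛 h𝔉 h𝔊 _ ?_
    have h0 : ψ ≫ (FSch.levelMor 𝔛 h𝔛.1 0).adj.unit.app 𝔊 = 0 := by
      refine hom_ext_affine fun U hU x => (pushEquiv 0 (pullk h𝔛.1 𝔊 0) U).injective ?_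
      have h2 := hlev n ψ hψ U hU (app eF.hom U x)
      rw [app_comp, app_comp, show app eF.inv U (app eF.hom U x) = x from congr(app $(eF.hom_inv_id) U x)] at h2
      have h3 : lev h𝔛.1 (sys h𝔛.1 𝔊) 0 U (app eG.hom U (app ψ U x)) = 0 := by
        rw [lev_eq_zero_iff h𝔛 (isCoh_sys h𝔛 h𝔊) hU]
        exact Submodule.smul_mono (Ideal.pow_le_pow_right (by omega)) le_rfl
          ((lev_eq_zero_iff h𝔛 (isCoh_sys h𝔛 h𝔊) hU n _).1 h2)
      rw [app_comp, app_zero, map_zero]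
      exact (lev_ηmap h𝔛.1 𝔊 0 U _).symm.trans h3
    have hpull : (FSch.levelMor 𝔛 h𝔛.1 0).pull.map ψ = 0 := by
      refine ((FSch.levelMor 𝔛 h𝔛.1 0).adj.homEquiv _ _).injective ?_
      rw [Adjunction.homEquiv_unit, Adjunction.homEquiv_unit, Functor.map_zero, comp_zero]
      exact ((FSch.levelMor 𝔛 h𝔛.1 0).adj.unit.naturality ψ).symm.trans h0
    have : (FSch.levelMor 𝔛 h𝔛.1 0).pull.IsLeftAdjoint := (FSch.levelMor 𝔛 h𝔛.1 0).adj.isLeftAdjoint
    have : (FSch.levelMor 𝔛 h𝔛.1 0).pull.Additive := (FSch.levelMor 𝔛 h𝔛.1 0).adj.left_adjoint_additive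
    rw [Functor.map_add, hpull, add_zero]
    infer_instance
  by_cases hθ : Mono θ
  · have : Mono (eF.inv ≫ θ ≫ eG.hom) := inferInstance
    obtain ⟨c, hc⟩ := exists_level_mono h𝔛 (isCoh_sys h𝔛 h𝔉) (isCoh_sys h𝔛 h𝔊) (eF.inv ≫ θ ≫ eG.hom)
    refine ⟨c, fun ψ hψ => ⟨fun _ => ?_, hepi c ψ hψ⟩⟩
    have h1 := hc c le_rfl _ (hlev c ψ hψ)
    rw [← Preadditive.comp_add, ← Preadditive.add_comp] at h1
    have h2 : Mono (eF.hom ≫ (eF.inv ≫ (θ + ψ) ≫ eG.hom) ≫ eG.inv) := inferInstance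
    simpa using h2
  · exact ⟨0, fun ψ hψ => ⟨fun h' => absurd h' hθ, hepi 0 ψ hψ⟩⟩

end Groth.AdicLinTop.FormalPerturb
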