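import Groth.Agent.OmegaSheaf.IsoLocal
import Groth.Agent.QCohMod.PullbackQCoh
import Groth.Agent.QCohMod.Coherent
import Groth.Agent.AdicLinTop.SysExamples
import Groth.Agent.AdicLinTop.InverseLimit
import Groth.Agent.AdicLinTop.Adic
import Groth.Agent.PropsBasic2.TildePullback
import Groth.Prelude.Def_FSch3

/-!
# Systems of coherent modules on thickenings of a closed subscheme of an affine scheme
-/

set_option autoImplicit false

universe u

open CategoryTheory Limits AlgebraicGeometry Opposite TopologicalSpace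

namespace Groth.AdicLinTop.TildeSys

open Groth.PicAux (pullSec pullSec_map pullSec_smul pullSec_comp)

variable {A : Type u} [CommRing A]

section Single

variable {Z : Scheme.{u}} (i : Z ⟶ Spec (CommRingCat.of A))

/-- Global sections of the push forward to `Spec A`, as `A`-modules. -/
noncomputable abbrev pushΓ : Z.Modules ⥤ ModuleCat.{u} A :=
  Scheme.Modules.pushforward i ⋙ moduleSpecΓFunctor (R := CommRingCat.of A)

/-- `M ↦ i^*M̃` is left adjoint to global sections of the push forward. -/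
noncomputable def adj : tilde.functor (CommRingCat.of A) ⋙ Scheme.Modules.pullback i ⊣ pushΓ i :=
  (tilde.adjunction (R := CommRingCat.of A)).comp
    (Scheme.Modules.pullbackPushforwardAdjunction i)

/-- `M → Γ(i^*M̃)`. -/
noncomputable def proj (M : ModuleCat.{u} A) :
    M ⟶ (pushΓ i).obj ((Scheme.Modules.pullback i).obj (tilde (R := CommRingCat.of A) M)) :=
  (adj i).unit.app M

lemma proj_apply (M : ModuleCat.{u} A) (m : M) :
    (proj i M).hom m =
      pullSec i (tilde (R := CommRingCat.of A) M) (U := ⊤)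
        ((tilde.toOpen (R := CommRingCat.of A) M ⊤).hom m) :=
  rfl

lemma homEquiv_apply {M : ModuleCat.{u} A} {G : Z.Modules}
    (φ : (Scheme.Modules.pullback i).obj (tilde (R := CommRingCat.of A) M) ⟶ G) (m : M) :
    (((adj i).homEquiv M G) φ).hom m = φ.app (i ⁻¹ᵁ ⊤) ((proj i M).hom m) :=
  congr($((adj i).homEquiv_unit M G φ).hom m)

lemma hom_ext {M : ModuleCat.{u} A} {G : Z.Modules}
    {φ ψ : (Scheme.Modules.pullback i).obj (tilde (R := CommRingCat.of A) M) ⟶ G}
    (h : ∀ m : M, φ.app (i ⁻¹ᵁ ⊤) ((proj i M).hom m) = ψ.app (i ⁻¹ᵁ ⊤) ((proj i M).hom m)) :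
    φ = ψ :=
  ((adj i).homEquiv M G).injective (ModuleCat.hom_ext (LinearMap.ext fun m =>
    (homEquiv_apply i φ m).trans ((h m).trans (homEquiv_apply i ψ m).symm)))

lemma map_proj {M N : ModuleCat.{u} A} (f : M ⟶ N) (m : M) :
    ((Scheme.Modules.pullback i).map ((tilde.functor (CommRingCat.of A)).map f)).app (i ⁻¹ᵁ ⊤)
        ((proj i M).hom m) = (proj i N).hom (f.hom m) :=
  congr($(((adj i).unit.naturality f).symm).hom m)

lemma smul_def (G : Z.Modules) (a : A) (x : (pushΓ i).obj G) :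
    a • x = (show Γ(G, i ⁻¹ᵁ ⊤) from
      i.app ⊤ ((Scheme.ΓSpecIso (CommRingCat.of A)).inv a) • (show Γ(G, i ⁻¹ᵁ ⊤) from x)) := by
  refine (Scheme.Modules.smul_Spec_def (R := CommRingCat.of A)
    (M := (Scheme.Modules.pushforward i).obj G) (U := ⊤) a x).trans ?_
  rw [Subsingleton.elim (⊤ : (Spec (CommRingCat.of A)).Opens).leTop.op (𝟙 _),
    CategoryTheory.Functor.map_id]
  rfl

variable [IsClosedImmersion i] {K : Ideal A} (hK : i.ker = FSch.idealSpec A K)

include hK in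
lemma app_eq_zero_iff (r : Γ(Spec (CommRingCat.of A), ⊤)) :
    i.app ⊤ r = 0 ↔ r ∈ K.map (Scheme.ΓSpecIso (CommRingCat.of A)).inv.hom := by
  rw [← Groth.AdicLinTop.Thickenings.idealSpec_ideal_top, ← hK, Scheme.Hom.ker_apply,
    RingHom.mem_ker]

include hK in
lemma smul_eq_zero (G : Z.Modules) {a : A} (ha : a ∈ K) (x : (pushΓ i).obj G) : a • x = 0 := by
  have h : i.app ⊤ ((Scheme.ΓSpecIso (CommRingCat.of A)).inv a) = 0 :=
    (app_eq_zero_iff i hK _).2 (Ideal.mem_map_of_mem _ ha)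
  rw [smul_def, h, zero_smul]
  rfl

include hK in
lemma smul_top_eq_bot (G : Z.Modules) : K • (⊤ : Submodule A ((pushΓ i).obj G)) = ⊥ := by
  rw [eq_bot_iff, Submodule.smul_le]
  intro a ha x _
  exact (Submodule.mem_bot _).2 (smul_eq_zero i hK G ha x)

include hK in
lemma proj_spec (M : ModuleCat.{u} A) :
    Function.Surjective (proj i M).hom ∧ LinearMap.ker (proj i M).hom = K • ⊤ := by
  have hb := Groth.QCohMod.unit_closedImmersion_app i (tilde (R := CommRingCat.of A) M)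
    (isAffineOpen_top _)
  have hto : Function.Bijective (tilde.toOpen (R := CommRingCat.of A) M ⊤).hom :=
    (ConcreteCategory.isIso_iff_bijective _).1
      (tilde.isIso_toOpen_top (R := CommRingCat.of A) (M := M))
  refine ⟨fun y => ?_, le_antisymm (fun m hm => ?_) ?_⟩
  · obtain ⟨s, hs⟩ := hb.1 y
    obtain ⟨m, rfl⟩ := hto.2 s
    exact ⟨m, hs⟩
  · have h1 := (hb.2 _).1 hm
    rw [hK, Groth.AdicLinTop.Thickenings.idealSpec_ideal_top] at h1
    suffices h2 : ∀ s : Γ(tilde (R := CommRingCat.of A) M, ⊤),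
        s ∈ K.map (Scheme.ΓSpecIso (CommRingCat.of A)).inv.hom •
          (⊤ : Submodule Γ(Spec (CommRingCat.of A), ⊤) Γ(tilde (R := CommRingCat.of A) M, ⊤)) →
        s ∈ Submodule.map (tilde.toOpen (R := CommRingCat.of A) M ⊤).hom (K • ⊤) by
      obtain ⟨m', hm', he⟩ := h2 _ h1
      rwa [← hto.1 he]
    clear hm h1
    intro s h1
    induction h1 using Submodule.smul_induction_on' with
    | smul r hr s hs =>
      obtain ⟨a, ha, rfl⟩ := (Ideal.mem_map_iff_of_surjective _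
        (Scheme.ΓSpecIso (CommRingCat.of A)).symm.commRingCatIsoToRingEquiv.surjective).1 hr
      obtain ⟨s, rfl⟩ := hto.2 s
      refine ⟨a • s, Submodule.smul_mem_smul ha trivial, ?_⟩
      rw [map_smul]
      refine (Scheme.Modules.smul_Spec_def (R := CommRingCat.of A)
        (M := tilde (R := CommRingCat.of A) M) (U := ⊤) a _).trans ?_
      rw [Subsingleton.elim (⊤ : (Spec (CommRingCat.of A)).Opens).leTop.op (𝟙 _),
        CategoryTheory.Functor.map_id]
      rfl
    | add p hp q hq hp' hq' => exact Submodule.add_mem _ hp' hq'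
  · rw [Submodule.smul_le]
    intro a ha x _
    rw [LinearMap.mem_ker, map_smul]
    exact smul_eq_zero i hK _ ha _

include hK in
/-- A map `i^*M̃ → G` is an isomorphism if `M → Γ(G)` is surjective with kernel `K • M`. -/
lemma isIso_of_adjunct (M : ModuleCat.{u} A) {G : Z.Modules} [G.IsQuasicoherent]
    (g : M ⟶ (pushΓ i).obj G) (hg : Function.Surjective g.hom)
    (hker : LinearMap.ker g.hom = K • ⊤) : IsIso (((adj i).homEquiv M G).symm g) := by
  have : IsAffine Z := isAffine_of_isAffineHom i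
  set ψ := ((adj i).homEquiv M G).symm g
  have hψ : ∀ m, ψ.app (i ⁻¹ᵁ ⊤) ((proj i M).hom m) = g.hom m := fun m =>
    (homEquiv_apply i ψ m).symm.trans
      congr($(((adj i).homEquiv M G).apply_symm_apply g).hom m)
  have : ((tilde.functor (CommRingCat.of A) ⋙ Scheme.Modules.pullback i).obj M).IsQuasicoherent :=
    inferInstanceAs
      ((Scheme.Modules.pullback i).obj (tilde (R := CommRingCat.of A) M)).IsQuasicoherent
  refine Groth.OmegaSheaf.isIso_of_affine_cover ψ fun z =>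
    ⟨i ⁻¹ᵁ ⊤, (isAffineOpen_top _).preimage i, trivial, ⟨?_, fun y => ?_⟩⟩
  · refine (injective_iff_map_eq_zero _).2 fun x hx => ?_
    obtain ⟨m, rfl⟩ := (proj_spec i hK M).1 x
    have hm : m ∈ LinearMap.ker g.hom := (hψ m).symm.trans hx
    rw [hker, ← (proj_spec i hK M).2] at hm
    exact hm
  · obtain ⟨m, rfl⟩ := hg y
    exact ⟨_, hψ m⟩

end Single

section System

variable {𝔛 : FSch.Sys.{u}} (i : ∀ n, 𝔛.X n ⟶ Spec (CommRingCat.of A))
  (hc : ∀ n, 𝔛.ι n ≫ i (n + 1) = i n)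

/-- The transition isomorphism of `n ↦ (i n)^*`. -/
noncomputable def trans (n : ℕ) :
    Scheme.Modules.pullback (i (n + 1)) ⋙ Scheme.Modules.pullback (𝔛.ι n) ≅
      Scheme.Modules.pullback (i n) :=
  Scheme.Modules.pullbackComp (𝔛.ι n) (i (n + 1)) ≪≫ Scheme.Modules.pullbackCongr (hc n)

/-- The system `n ↦ (i n)^*M̃`. -/
noncomputable def sysMod (M : ModuleCat.{u} A) : FSch.ModSys 𝔛 where
  F n := (Scheme.Modules.pullback (i n)).obj (tilde (R := CommRingCat.of A) M)
  e n := (trans i hc n).app _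

lemma congr_pullSec {X Y : Scheme.{u}} {f g : X ⟶ Y} (h : f = g) (M : Y.Modules) (m : Γ(M, ⊤)) :
    ((Scheme.Modules.pullbackCongr h).hom.app M).app ⊤ (pullSec f M m) =
      pullSec g M m := by
  subst h
  simp [Scheme.Modules.pullbackCongr]

lemma trans_pullSec (F : (Spec (CommRingCat.of A)).Modules) (n : ℕ) (s : Γ(F, ⊤)) :
    ((trans i hc n).hom.app F).app ⊤ (pullSec (𝔛.ι n) _ (pullSec (i (n + 1)) F s)) =
      pullSec (i n) F s := by
  rw [← congr_pullSec (hc n) F s, ← pullSec_comp]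
  rfl

include hc in
lemma app_comp_eq (n : ℕ) (r : Γ(Spec (CommRingCat.of A), ⊤)) :
    (𝔛.ι n).app (i (n + 1) ⁻¹ᵁ ⊤) ((i (n + 1)).app ⊤ r) = (i n).app ⊤ r := by
  have key : ∀ {f g : 𝔛.X n ⟶ Spec (CommRingCat.of A)}, f = g →
      (show Γ(𝔛.X n, ⊤) from f.app ⊤ r) = g.app ⊤ r := fun h => by subst h; rfl
  exact key (hc n)

/-- The modules of global sections of a system. -/
noncomputable abbrev secs (𝔐 : FSch.ModSys 𝔛) (n : ℕ) : ModuleCat.{u} A := (pushΓ (i n)).obj (𝔐.F n)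

/-- The transition maps between global sections. -/
noncomputable def step (𝔐 : FSch.ModSys 𝔛) (n : ℕ) : secs i 𝔐 (n + 1) →ₗ[A] secs i 𝔐 n where
  toFun x := (𝔐.e n).hom.app ⊤ (pullSec (𝔛.ι n) (𝔐.F (n + 1)) (U := i (n + 1) ⁻¹ᵁ ⊤) x)
  map_add' x y := (congrArg _ (map_add _ x y)).trans (map_add _ _ _)
  map_smul' a x := by
    simp only [RingHom.id_apply]
    rw [smul_def, smul_def, pullSec_smul]
    refine ((𝔐.e n).hom.app_smul _ _).trans ?_
    exact congrArg (· • _) (app_comp_eq i hc n _)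

lemma step_apply (𝔐 : FSch.ModSys 𝔛) (n : ℕ) (x : secs i 𝔐 (n + 1)) :
    step i hc 𝔐 n x =
      (𝔐.e n).hom.app ⊤ (pullSec (𝔛.ι n) (𝔐.F (n + 1)) (U := i (n + 1) ⁻¹ᵁ ⊤) x) :=
  rfl

lemma step_proj (M : ModuleCat.{u} A) (n : ℕ) (m : M) :
    step i hc (sysMod i hc M) n ((proj (i (n + 1)) M).hom m) = (proj (i n) M).hom m :=
  trans_pullSec i hc _ n _

lemma app_step {𝔐 𝔑 : FSch.ModSys 𝔛} (φ : 𝔐 ⟶ 𝔑) (n : ℕ) (x : secs i 𝔐 (n + 1)) :
    step i hc 𝔑 n ((φ.app (n + 1)).app (i (n + 1) ⁻¹ᵁ ⊤) x) =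
      (φ.app n).app (i n ⁻¹ᵁ ⊤) (step i hc 𝔐 n x) := by
  rw [step_apply, step_apply, ← pullSec_map]
  exact congr(($(φ.comm n)).app ⊤ (pullSec (𝔛.ι n) (𝔐.F (n + 1)) (U := i (n + 1) ⁻¹ᵁ ⊤) x))

variable (J : Ideal A) [∀ n, IsClosedImmersion (i n)]
  (hK : ∀ n, (i n).ker = FSch.idealSpec A (J ^ (n + 1)))

include hK in
lemma step_spec (𝔐 : FSch.ModSys 𝔛) (h𝔐 : 𝔐.IsCoh) (n : ℕ) :
    Function.Surjective (step i hc 𝔐 n) ∧
      LinearMap.ker (step i hc 𝔐 n) = J ^ (n + 1) • ⊤ := by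
  have : IsAffine (𝔛.X (n + 1)) := isAffine_of_isAffineHom (i (n + 1))
  have : IsClosedImmersion (𝔛.ι n ≫ i (n + 1)) := by rw [hc]; infer_instance
  have : IsClosedImmersion (𝔛.ι n) := IsClosedImmersion.of_comp (𝔛.ι n) (i (n + 1))
  have : (𝔐.F (n + 1)).IsQuasicoherent := (h𝔐 (n + 1)).1
  have hb := Groth.QCohMod.unit_closedImmersion_app (𝔛.ι n) (𝔐.F (n + 1))
    (U := i (n + 1) ⁻¹ᵁ ⊤) ((isAffineOpen_top _).preimage _)
  have he : Function.Bijective ((𝔐.e n).hom.app ⊤) := ConcreteCategory.bijective_of_isIso _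
  refine ⟨fun y => ?_, le_antisymm (fun x hx => ?_) ?_⟩
  · obtain ⟨z, hz⟩ := he.2 y
    obtain ⟨x, hx⟩ := hb.1 z
    exact ⟨x, (congrArg _ hx).trans hz⟩
  · rw [LinearMap.mem_ker, step_apply] at hx
    have h1 := (hb.2 x).1 (he.1 (hx.trans (map_zero _).symm))
    clear hx
    induction h1 using Submodule.smul_induction_on' with
    | smul r hr s hs =>
      obtain ⟨r, rfl⟩ := (i (n + 1)).app_surjective ⊤ (isAffineOpen_top _) r
      have hr' : (i n).app ⊤ r = 0 := by
        rw [Scheme.Hom.ker_apply, RingHom.mem_ker] at hr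
        rw [← app_comp_eq i hc n r]
        exact hr
      obtain ⟨a, ha, rfl⟩ := (Ideal.mem_map_iff_of_surjective _
        (Scheme.ΓSpecIso (CommRingCat.of A)).symm.commRingCatIsoToRingEquiv.surjective).1
        ((app_eq_zero_iff (i n) (hK n) r).1 hr')
      have h3 : a • (show secs i 𝔐 (n + 1) from s) ∈
          J ^ (n + 1) • (⊤ : Submodule A (secs i 𝔐 (n + 1))) :=
        Submodule.smul_mem_smul ha trivial
      rw [smul_def] at h3
      exact h3
    | add p hp q hq hp' hq' => exact Submodule.add_mem _ hp' hq'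
  · rw [Submodule.smul_le]
    intro a ha x _
    rw [LinearMap.mem_ker, map_smul]
    exact smul_eq_zero (i n) (hK n) _ ha _

lemma finite_zero (𝔐 : FSch.ModSys 𝔛) (h𝔐 : 𝔐.IsCoh) : Module.Finite A (secs i 𝔐 0) := by
  classical
  have : IsAffine (𝔛.X 0) := isAffine_of_isAffineHom (i 0)
  have : (𝔐.F 0).IsQuasicoherent := (h𝔐 0).1
  have hfin := Groth.QCohMod.finite_sections (𝔐.F 0) (h𝔐 0).2
    ((isAffineOpen_top _).preimage (i 0))
  obtain ⟨T, hT⟩ := (Module.Finite.fg_top :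
    (⊤ : Submodule Γ(𝔛.X 0, i 0 ⁻¹ᵁ ⊤) Γ(𝔐.F 0, i 0 ⁻¹ᵁ ⊤)).FG)
  refine ⟨⟨(show Finset (secs i 𝔐 0) from T), eq_top_iff.2 fun x _ => ?_⟩⟩
  suffices h : ∀ y : Γ(𝔐.F 0, i 0 ⁻¹ᵁ ⊤),
      (show secs i 𝔐 0 from y) ∈ Submodule.span A
        (show Set (secs i 𝔐 0) from (↑T : Set Γ(𝔐.F 0, i 0 ⁻¹ᵁ ⊤))) from h x
  intro y
  have hx : y ∈
      Submodule.span Γ(𝔛.X 0, i 0 ⁻¹ᵁ ⊤) (T : Set Γ(𝔐.F 0, i 0 ⁻¹ᵁ ⊤)) := hT.ge trivial
  induction hx using Submodule.span_induction with
  | mem t ht => exact Submodule.subset_span ht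
  | zero => exact Submodule.zero_mem _
  | add p q _ _ hp hq => exact Submodule.add_mem _ hp hq
  | smul r p _ hp =>
    obtain ⟨r, rfl⟩ := (i 0).app_surjective ⊤ (isAffineOpen_top _) r
    obtain ⟨a, rfl⟩ :=
      (Scheme.ΓSpecIso (CommRingCat.of A)).symm.commRingCatIsoToRingEquiv.surjective r
    have h3 := Submodule.smul_mem _ a hp
    rw [smul_def] at h3
    exact h3

include hK in
/-- Maps of completed systems of a separated complete module come from module maps. -/
theorem existsUnique_sysMap (M N : ModuleCat.{u} A) [IsAdicComplete J N] :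
    ∀ φ : sysMod i hc M ⟶ sysMod i hc N, ∃! f : M ⟶ N, ∀ n m,
      (φ.app n).app (i n ⁻¹ᵁ ⊤) ((proj (i n) M).hom m) = (proj (i n) N).hom (f.hom m) := by
  intro φ
  let P := fun n => (proj (i n) N).hom
  let g : ∀ n, M →ₗ[A] secs i (sysMod i hc N) n := fun n =>
    (((adj (i n)).homEquiv M _) (φ.app n)).hom
  have hP : ∀ n, Function.Surjective (P n) ∧ LinearMap.ker (P n) = J ^ (n + 1) • ⊤ :=
    fun n => proj_spec (i n) (hK n) N
  have hsep : ∀ y z : N, (∀ n, P n y = P n z) → y = z := by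
    intro y z h
    refine sub_eq_zero.1 (IsHausdorff.haus (I := J) inferInstance _ fun k => ?_)
    rw [SModEq.zero]
    rcases k with _ | k
    · simp
    · rw [← (hP k).2, LinearMap.mem_ker, map_sub, h k, sub_self]
  have hg : ∀ n m, step i hc (sysMod i hc N) n (g (n + 1) m) = g n m := by
    intro n m
    simp only [g]
    exact (congrArg _ (homEquiv_apply (i (n + 1)) (φ.app (n + 1)) m)).trans
      ((app_step i hc φ n _).trans ((congrArg _ (step_proj i hc M n m)).trans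
        (homEquiv_apply (i n) (φ.app n) m).symm))
  have hex : ∀ m, ∃ y : N, ∀ n, P n y = g n m := by
    intro m
    choose x hx using fun n => (hP n).1 (g n m)
    have hd : ∀ n, x (n + 1) - x n ∈ J ^ (n + 1) • (⊤ : Submodule A N) := by
      intro n
      rw [← (hP n).2, LinearMap.mem_ker, map_sub, hx n, sub_eq_zero, ← hg n m, ← hx (n + 1)]
      exact (step_proj i hc N n _).symm
    have hd' : ∀ {p q : ℕ}, p ≤ q → x p ≡ x q [SMOD (J ^ p • ⊤ : Submodule A N)] := by
      intro p q hpq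
      induction q, hpq using Nat.le_induction with
      | base => rfl
      | succ q hpq ih =>
        refine ih.trans (SModEq.symm (SModEq.sub_mem.2 ?_))
        exact Submodule.smul_mono_left (Ideal.pow_le_pow_right (by omega)) (hd q)
    obtain ⟨y, hy⟩ := IsPrecomplete.prec (I := J) inferInstance hd'
    refine ⟨y, fun n => ?_⟩
    rw [← hx n, ← sub_eq_zero, ← map_sub, ← LinearMap.mem_ker, (hP n).2,
      show y - x n = (y - x (n + 1)) + (x (n + 1) - x n) by abel]
    exact Submodule.add_mem _ (SModEq.sub_mem.1 (hy (n + 1)).symm) (hd n)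
  choose y hy using hex
  let f : M →ₗ[A] N :=
    { toFun := y
      map_add' := fun a b => hsep _ _ fun n => by rw [map_add, hy, hy, hy, map_add]; rfl
      map_smul' := fun a b => hsep _ _ fun n => by
        rw [RingHom.id_apply, map_smul, hy, hy, map_smul]; rfl }
  refine ⟨ModuleCat.ofHom f, fun n m => ?_, fun f' hf' => ?_⟩
  · exact (homEquiv_apply (i n) (φ.app n) m).symm.trans (hy m n).symm
  · refine ModuleCat.hom_ext (LinearMap.ext fun m => hsep _ _ fun n => ?_)
    refine ((hf' n m).symm.trans ?_).trans (hy m n).symm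
    exact (homEquiv_apply (i n) (φ.app n) m).symm

include hK in
/-- Every coherent system comes from a finite module. -/
theorem exists_iso_sysMod (hJ : J.FG) [IsAdicComplete J A] (𝔐 : FSch.ModSys 𝔛) (h𝔐 : 𝔐.IsCoh) :
    ∃ M : ModuleCat.{u} A, Module.Finite A M ∧ Nonempty (𝔐 ≅ sysMod i hc M) := by
  let f := step i hc 𝔐
  have hf := fun n => (step_spec i hc J hK 𝔐 h𝔐 n).1
  have hker := fun n => (step_spec i hc J hK 𝔐 h𝔐 n).2
  let L : Submodule A (∀ n, secs i 𝔐 n) :=
    { carrier := {y | ∀ n, f n (y (n + 1)) = y n}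
      add_mem' := fun {a b} ha hb n => by simp [Pi.add_apply, map_add, ha n, hb n]
      zero_mem' := fun n => by simp
      smul_mem' := fun c a ha n => by simp [Pi.smul_apply, map_smul, ha n] }
  let π : ∀ n, L →ₗ[A] secs i 𝔐 n := fun n => (LinearMap.proj n).comp L.subtype
  have hπ : ∀ n, f n ∘ₗ π (n + 1) = π n := fun n => LinearMap.ext fun y => y.2 n
  have hlift : ∀ y : (∀ n, secs i 𝔐 n), (∀ n, f n (y (n + 1)) = y n) → ∃ x : L, ∀ n, π n x = y n :=
    fun y hy => ⟨⟨y, hy⟩, fun n => rfl⟩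
  have hanti := InvLim.antitone_ker f π hπ
  have hsep : ∀ x : L, (∀ k, x ∈ LinearMap.ker (π k)) → x = 0 := fun x hx =>
    Subtype.ext (funext fun k => hx k)
  have hcomp := InvLim.complete_ker f π hπ hlift
  have hle := InvLim.pow_smul_top_le_ker f π hπ hlift hf hker
  have hsurj := InvLim.surjective_proj f π hlift hf
  have hkerπ : ∀ n, LinearMap.ker (π n) = J ^ (n + 1) • ⊤ := fun n => le_antisymm
    (InvLim.le_of_fg hanti hsep hcomp hle hJ (InvLim.ker_le_step f π hπ hlift hf hker) n) (hle n)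
  have hfinite : Module.Finite A L := by
    classical
    have := finite_zero i 𝔐 h𝔐
    obtain ⟨m, s, hs⟩ := Module.Finite.exists_fin (R := A) (M := secs i 𝔐 0)
    choose l hl using fun j => hsurj 0 (s j)
    let N : Submodule A L := Submodule.span A (Set.range l)
    have h0 : (⊤ : Submodule A L) ≤ N ⊔ LinearMap.ker (π 0) := by
      intro x _
      have h1 : π 0 x ∈ Submodule.map (π 0) N := by
        rw [Submodule.map_span, ← Set.range_comp, show π 0 ∘ l = s from funext hl, hs]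
        trivial
      obtain ⟨y, hy, hyx⟩ := h1
      exact Submodule.mem_sup.2 ⟨y, hy, x - y, by simp [LinearMap.mem_ker, hyx], add_sub_cancel _ _⟩
    have hstep : ∀ n, LinearMap.ker (π n) ≤ J ^ (n + 1) • N ⊔ LinearMap.ker (π (n + 1)) := by
      intro n
      rw [hkerπ n, hkerπ (n + 1)]
      refine (Submodule.smul_mono le_rfl h0).trans ?_
      rw [Submodule.smul_sup, hkerπ 0, pow_one, ← Submodule.smul_assoc, smul_eq_mul, ← pow_succ]
    have hK0 : LinearMap.ker (π 0) ≤ N :=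
      (InvLim.le_of_finite hanti hsep hle l hstep 0).trans Submodule.smul_le_right
    exact ⟨⟨Finset.univ.image l, by
      rw [Finset.coe_image, Finset.coe_univ, Set.image_univ]
      exact top_le_iff.1 (h0.trans (sup_le le_rfl hK0))⟩⟩
  refine ⟨ModuleCat.of A L, hfinite, ?_⟩
  have : ∀ n, (𝔐.F n).IsQuasicoherent := fun n => (h𝔐 n).1
  let g : ∀ n, ModuleCat.of A L ⟶ secs i 𝔐 n := fun n =>
    ModuleCat.ofHom (Y := ↑(secs i 𝔐 n)) (π n)
  let ψ : ∀ n, (sysMod i hc (ModuleCat.of A L)).F n ⟶ 𝔐.F n := fun n =>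
    ((adj (i n)).homEquiv (ModuleCat.of A L) (𝔐.F n)).symm (g n)
  have hψ : ∀ n x, (ψ n).app (i n ⁻¹ᵁ ⊤) ((proj (i n) (ModuleCat.of A L)).hom x) = π n x :=
    fun n x => (homEquiv_apply (i n) (ψ n) x).symm.trans
      (congr($(Equiv.apply_symm_apply ((adj (i n)).homEquiv _ _) (g n)).hom x))
  have hcomm : ∀ n, (Scheme.Modules.pullback (𝔛.ι n)).map (ψ (n + 1)) ≫ (𝔐.e n).hom =
      ((sysMod i hc (ModuleCat.of A L)).e n).hom ≫ ψ n := by
    intro n
    rw [← cancel_epi ((sysMod i hc (ModuleCat.of A L)).e n).inv, Iso.inv_hom_id_assoc]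
    refine hom_ext (i n) fun x => ?_
    refine Eq.trans ?_ ((LinearMap.congr_fun (hπ n) x).trans (hψ n x).symm)
    show _ = f n (π (n + 1) x)
    refine Eq.trans ?_ ((congrArg (fun z => (𝔐.e n).hom.app ⊤ z)
      (pullSec_map (𝔛.ι n) (ψ (n + 1)) (U := i (n + 1) ⁻¹ᵁ ⊤)
        ((proj (i (n + 1)) (ModuleCat.of A L)).hom x))).trans
      (congrArg (step i hc 𝔐 n) (hψ (n + 1) x)))
    refine congrArg (fun z => (𝔐.e n).hom.app ⊤
      (((Scheme.Modules.pullback (𝔛.ι n)).map (ψ (n + 1))).app ⊤ z)) ?_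
    refine (congrArg _ (step_proj i hc (ModuleCat.of A L) n x).symm).trans ?_
    exact congr(($(((sysMod i hc (ModuleCat.of A L)).e n).hom_inv_id)).app ⊤
      (pullSec (𝔛.ι n) _ (U := i (n + 1) ⁻¹ᵁ ⊤) ((proj (i (n + 1)) (ModuleCat.of A L)).hom x)))
  have hiso : ∀ n, IsIso (ψ n) := fun n =>
    isIso_of_adjunct (i n) (hK n) _ (g n) (hsurj n) (hkerπ n)
  let Φ : sysMod i hc (ModuleCat.of A L) ⟶ 𝔐 := ⟨ψ, hcomm⟩
  let Ψ : 𝔐 ⟶ sysMod i hc (ModuleCat.of A L) := ⟨fun n => inv (ψ n), fun n => by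
    rw [Functor.map_inv, IsIso.inv_comp_eq, ← Category.assoc, hcomm, Category.assoc,
      IsIso.hom_inv_id, Category.comp_id]⟩
  exact ⟨⟨Ψ, Φ, FSch.ModSys.Hom.ext (funext fun n => IsIso.inv_hom_id _),
    FSch.ModSys.Hom.ext (funext fun n => IsIso.hom_inv_id _)⟩⟩

end System

end Groth.AdicLinTop.TildeSys
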