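import Groth.Agent.AdicLinTop.SpaceGlue
import Groth.Agent.AdicLinTop.FormalSpan
import Groth.Agent.AdicLinTop.TildeSys
import Groth.Agent.Flatmor4.ModuleApprox

/-!
# Inverse images of presented modules on a formal scheme to its levels
-/

set_option autoImplicit false

universe u

open CategoryTheory CategoryTheory.Limits AlgebraicGeometry TopologicalSpace Opposite

namespace Groth.AdicLinTop.FormalPull

open Groth.AdicLinTop.FormalLevels Groth.AdicLinTop.FormalReal Groth.AdicLinTop.FormalAffine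
open Groth.AdicLinTop.FormalSpan
open Groth.QCohMod (res resFun res_res res_smul res_app res_self resFun_resFun)

section Sch

variable {X : Scheme.{u}} {U : X.Opens}

/-- The restriction ring map from an open to its open subscheme. -/
noncomputable abbrev topRing (U : X.Opens) : Γ(X, U) →+* Γ(U.toScheme, ⊤) := U.topIso.inv.hom

theorem topRing_eq (a : Γ(X, U)) :
    topRing U a = (resFun X (U.ι_image_top).le a : Γ(X, U.ι ''ᵁ ⊤)) := rfl

theorem restrict_smul (M : X.Modules) (W : U.toScheme.Opens) (a : Γ(X, U.ι ''ᵁ W)) (x : Γ(M, U.ι ''ᵁ W)) :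
    (show Γ(U.toScheme, W) from a) • (show Γ(M.restrict U.ι, W) from x) =
      (show Γ(M.restrict U.ι, W) from a • x) := by
  have h := Scheme.Modules.smul_restrictAppIso_hom_apply U.ι M W (show Γ(U.toScheme, W) from a) x
  rw [Scheme.Opens.ι_appIso] at h
  exact h.symm.symm

theorem topRing_smul_restrict (M : X.Modules) (a : Γ(X, U)) (x : Γ(M, U)) :
    topRing U a • (show Γ(M.restrict U.ι, ⊤) from res M (U.ι_image_top).le x) =
      (show Γ(M.restrict U.ι, ⊤) from res M (U.ι_image_top).le (a • x)) := by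
  rw [topRing_eq, restrict_smul, res_smul]

/-- Sections of a module on an open subscheme over the preimage of the open. -/
noncomputable abbrev topSec (H : U.toScheme.Modules) : Γ(H, U.ι ⁻¹ᵁ U) →+ Γ(H, ⊤) :=
  res H (U.ι_preimage_self).ge

theorem topSec_bijective (H : U.toScheme.Modules) : Function.Bijective (topSec H) := by
  have key : ∀ {A B : U.toScheme.Opens} (e : B ≤ A), A = B → Function.Bijective (res H e) := fun e e' => by
    subst e'
    exact ⟨fun a b h => by rwa [res_self, res_self] at h, fun a => ⟨a, res_self _ _⟩⟩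
  exact key _ U.ι_preimage_self

theorem topSec_smul (H : U.toScheme.Modules) (a : Γ(X, U)) (x : Γ(H, U.ι ⁻¹ᵁ U)) :
    topSec H (U.ι.app U a • x) = topRing U a • topSec H x := by
  refine (res_smul H _ _ _).trans (congrArg (· • _) ?_)
  rw [Scheme.Opens.ι_app]
  show (X.presheaf.map _) ((X.presheaf.map _) a) = (X.presheaf.map _) a
  exact congr($((X.presheaf.map_comp _ _).symm) a)

/-- `toSpecΓ` acts through `topRing`. -/
theorem smul_pushΓ (H : U.toScheme.Modules) (a : Γ(X, U)) (x : (TildeSys.pushΓ U.toSpecΓ).obj H) :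
    a • x = (show Γ(H, U.toSpecΓ ⁻¹ᵁ ⊤) from topRing U a • (show Γ(H, ⊤) from x)) := by
  refine (TildeSys.smul_def U.toSpecΓ H a x).trans (congrArg (fun r : Γ(U.toScheme, ⊤) => r • (show Γ(H, ⊤) from x)) ?_)
  show U.toSpecΓ.appTop ((Scheme.ΓSpecIso Γ(X, U)).inv a) = _
  rw [Scheme.Opens.toSpecΓ_appTop, CommRingCat.comp_apply, ← CommRingCat.comp_apply _ _ a, Iso.inv_hom_id]
  rfl

theorem topSec_app {G : X.Modules} {H : U.toScheme.Modules} (ψ : G.restrict U.ι ⟶ H) (y : Γ(G, U)) :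
    topSec H (ψ.app (U.ι ⁻¹ᵁ U) (((Scheme.Modules.restrictAdjunction U.ι).unit.app G).app U y)) =
      ψ.app ⊤ (show Γ(G.restrict U.ι, ⊤) from res G U.ι_image_top.le y) := by
  let z : Γ(G.restrict U.ι, U.ι ⁻¹ᵁ U) := res G (U.ι.image_preimage_le U) y
  have h1 : res (G.restrict U.ι) U.ι_preimage_self.ge z = (show Γ(G.restrict U.ι, ⊤) from res G U.ι_image_top.le y) :=
    res_res G (U.ι.image_preimage_le U) (U.ι.image_mono U.ι_preimage_self.ge) y
  rw [Scheme.Modules.restrictAdjunction_unit_app_app]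
  exact (res_app ψ U.ι_preimage_self.ge z).trans (congrArg (ψ.app ⊤) h1)

/-- Maps out of a quotient of a finite free module. -/
theorem exists_lift {A : Type u} [CommRing A] {ι : Type} [Fintype ι] [DecidableEq ι] (M : ModuleCat.{u} A)
    (g : ι → M) (R : Set (ι → A)) (hR : ∀ c ∈ R, ∑ i, c i • g i = 0) :
    ∃ f : ModuleCat.of A ((ι → A) ⧸ Submodule.span A R) ⟶ M,
      ∀ c, f.hom (Submodule.Quotient.mk c) = ∑ i, c i • g i :=
  ⟨ModuleCat.ofHom ((Submodule.span A R).liftQ (Fintype.linearCombination A g) (Submodule.span_le.2 fun c hc =>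
      (Fintype.linearCombination_apply A g c).trans (hR c hc))),
    fun c => (Submodule.liftQ_apply _ _ _).trans (Fintype.linearCombination_apply A g c)⟩

end Sch

variable {𝔛 : FSch.Sys.{u}} {h : 𝔛.IsFormal} {𝔉 : FSch.ModF 𝔛 h} {U : (𝔛.X 0).Opens} {n m : ℕ} {k : ℕ}

variable (h 𝔉 k) in
/-- The inverse image to a level. -/
noncomputable abbrev pullk : (𝔛.X k).Modules := (FSch.levelMor 𝔛 h k).pull.obj 𝔉

variable (h 𝔉 k) in
/-- The unit on sections. -/
noncomputable def ηk (U : (𝔛.X 0).Opens) (x : Sec 𝔉 U) : Γ(pullk h 𝔉 k, 𝔛.lvU h k U) :=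
  pushEquiv k _ U (app ((FSch.levelMor 𝔛 h k).adj.unit.app 𝔉) U x)

theorem ηk_smul (a : RS h U) (x : Sec 𝔉 U) :
    ηk h 𝔉 k U (a • x) = projR k U a • ηk h 𝔉 k U x := by
  rw [ηk, map_smul, pushEquiv_smul]
  rfl

theorem ηk_sum {ι : Type*} (s : Finset ι) (f : ι → Sec 𝔉 U) :
    ηk h 𝔉 k U (∑ i ∈ s, f i) = ∑ i ∈ s, ηk h 𝔉 k U (f i) := by
  rw [ηk, map_sum, map_sum]
  rfl

theorem ηk_zero : ηk h 𝔉 k U 0 = 0 := by rw [ηk, map_zero, map_zero]

theorem ηk_rs {V : (𝔛.X 0).Opens} (e : V ≤ U) (x : Sec 𝔉 U) :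
    ηk h 𝔉 k V (rs 𝔉 e x) = res (pullk h 𝔉 k) (lvU_mono h k e) (ηk h 𝔉 k U x) :=
  congrArg (pushEquiv k _ V) (rs_app _ e x)

variable (h U k) in
/-- Direct image from the part of a level over an open. -/
noncomputable abbrev pushU (H : (𝔛.lvU h k U).toScheme.Modules) : FSch.ModF 𝔛 h :=
  (push h k).obj ((Scheme.Modules.pushforward (𝔛.lvU h k U).ι).obj H)

theorem isLocalAt_pushU (H : (𝔛.lvU h k U).toScheme.Modules) :
    SpaceGlue.IsLocalAt (O := 𝔛.Osh h) (pushU h U k H) U := fun V => by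
  have key : ∀ {A B : (𝔛.lvU h k U).toScheme.Opens} (e : B ≤ A), A ≤ B → Function.Bijective (res H e) := fun e e' => by
    obtain rfl := le_antisymm e' e
    exact ⟨fun a b h => by rwa [res_self, res_self] at h, fun a => ⟨a, res_self _ _⟩⟩
  refine key ((Opens.map (𝔛.lvU h k U).ι.base).map ((Opens.map (𝔛.gInv h k)).map (homOfLE inf_le_left))).le ?_
  intro p hp
  exact ⟨hp, p.2⟩

/-- The adjoint morphism of a morphism on the part of the level over an open. -/
noncomputable def toPushU {H : (𝔛.lvU h k U).toScheme.Modules}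
    (ψ : (pullk h 𝔉 k).restrict (𝔛.lvU h k U).ι ⟶ H) : 𝔉 ⟶ pushU h U k H :=
  (FSch.levelMor 𝔛 h k).adj.homEquiv _ _
    ((Scheme.Modules.restrictAdjunction (𝔛.lvU h k U).ι).homEquiv _ _ ψ)

theorem toPushU_injective {H : (𝔛.lvU h k U).toScheme.Modules} :
    Function.Injective (toPushU (𝔉 := 𝔉) (H := H)) :=
  ((FSch.levelMor 𝔛 h k).adj.homEquiv _ _).injective.comp
    ((Scheme.Modules.restrictAdjunction (𝔛.lvU h k U).ι).homEquiv _ _).injective

theorem toPushU_surjective {H : (𝔛.lvU h k U).toScheme.Modules} :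
    Function.Surjective (toPushU (𝔉 := 𝔉) (H := H)) :=
  ((FSch.levelMor 𝔛 h k).adj.homEquiv _ _).surjective.comp
    ((Scheme.Modules.restrictAdjunction (𝔛.lvU h k U).ι).homEquiv _ _).surjective

variable (h k) in
/-- The section of the restricted inverse image given by a section. -/
noncomputable def gen (x : Sec 𝔉 U) : Γ((pullk h 𝔉 k).restrict (𝔛.lvU h k U).ι, ⊤) :=
  res (pullk h 𝔉 k) (𝔛.lvU h k U).ι_image_top.le (ηk h 𝔉 k U x)

theorem topSec_toPushU {H : (𝔛.lvU h k U).toScheme.Modules}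
    (ψ : (pullk h 𝔉 k).restrict (𝔛.lvU h k U).ι ⟶ H) (x : Sec 𝔉 U) :
    topSec H (pushEquiv k _ U (app (toPushU ψ) U x)) = ψ.app ⊤ (gen h k x) := by
  rw [toPushU, Adjunction.homEquiv_unit, app_comp, app_push_map, Adjunction.homEquiv_unit]
  show topSec H (ψ.app _ (((Scheme.Modules.restrictAdjunction (𝔛.lvU h k U).ι).unit.app (pullk h 𝔉 k)).app
    (𝔛.lvU h k U) (ηk h 𝔉 k U x))) = _
  exact topSec_app ψ (ηk h 𝔉 k U x)

theorem pushEquiv_smul_topSec (H : (𝔛.lvU h k U).toScheme.Modules) (a : RS h U) (x : Sec (pushU h U k H) U) :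
    topSec H (pushEquiv k _ U (a • x)) = topRing _ (projR k U a) • topSec H (pushEquiv k _ U x) := by
  rw [pushEquiv_smul]
  exact topSec_smul H (projR k U a) _

section Pres

variable (P : SpacePres.PresData (O := 𝔛.Osh h) 𝔉 U n m)

theorem hom_ext_restrict {H : (𝔛.lvU h k U).toScheme.Modules}
    {ψ ψ' : (pullk h 𝔉 k).restrict (𝔛.lvU h k U).ι ⟶ H}
    (e : ∀ i, ψ.app ⊤ (gen h k (P.s i)) = ψ'.app ⊤ (gen h k (P.s i))) : ψ = ψ' :=
  toPushU_injective (SpaceGlue.hom_ext_gen P.toGenData (isLocalAt_pushU H) fun i =>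
    (pushEquiv k _ U).injective ((topSec_bijective H).1
      ((topSec_toPushU ψ (P.s i)).trans ((e i).trans (topSec_toPushU ψ' (P.s i)).symm))))

theorem exists_hom_restrict {H : (𝔛.lvU h k U).toScheme.Modules} (t : Fin n → Γ(H, ⊤))
    (ht : ∀ j, ∑ i, topRing _ (projR k U (P.r j i)) • t i = 0) :
    ∃ ψ : (pullk h 𝔉 k).restrict (𝔛.lvU h k U).ι ⟶ H, ∀ i, ψ.app ⊤ (gen h k (P.s i)) = t i := by
  choose z hz using fun i => (topSec_bijective H).2 (t i)
  obtain ⟨φ, hφ, -⟩ := SpaceGlue.existsUnique_hom P (isLocalAt_pushU H)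
    (fun i => (pushEquiv k _ U).symm (z i)) fun j => (pushEquiv k _ U).injective ((topSec_bijective H).1 (by
      refine ((congrArg (topSec H) (map_sum (pushEquiv k _ U) _ _)).trans (map_sum (topSec H) _ _)).trans
        (Eq.trans ?_ ((congrArg (topSec H) (map_zero (pushEquiv k _ U))).trans (map_zero _)).symm)
      refine Eq.trans (Finset.sum_congr rfl fun i _ => ?_) (ht j)
      rw [pushEquiv_smul_topSec, AddEquiv.apply_symm_apply, hz]))
  obtain ⟨ψ, rfl⟩ := toPushU_surjective φ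
  refine ⟨ψ, fun i => ?_⟩
  have e : app (toPushU ψ) U (P.s i) = (pushEquiv k _ U).symm (z i) := hφ i
  rw [← topSec_toPushU, e, AddEquiv.apply_symm_apply, hz]

theorem sum_gen (j : Fin m) :
    ∑ i, topRing _ (projR k U (P.r j i)) • gen h k (P.s i) = 0 := by
  have h0 := congrArg (ηk h 𝔉 k U) (P.zero j)
  rw [ηk_sum, ηk_zero] at h0
  refine Eq.trans (Finset.sum_congr rfl fun i _ => ?_)
    ((map_sum (res (pullk h 𝔉 k) (𝔛.lvU h k U).ι_image_top.le) _ _).symm.trans ((congrArg _ h0).trans (map_zero _)))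
  refine (topRing_smul_restrict (pullk h 𝔉 k) _ (ηk h 𝔉 k U (P.s i))).trans ?_
  rw [← ηk_smul]

/-- The relations at a level. -/
noncomputable def relk : Submodule Γ(𝔛.X k, 𝔛.lvU h k U) (Fin n → Γ(𝔛.X k, 𝔛.lvU h k U)) :=
  Submodule.span _ (Set.range fun j i => projR k U (P.r j i))

variable (hU : IsAffineOpen U)

include hU in
/-- The inverse image to a level of a presented module, over an affine open. -/
theorem pullk_spec : Coh.IsCoh ((pullk h 𝔉 k).restrict (𝔛.lvU h k U).ι) ∧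
    (∀ y, ∃ c : Fin n → Γ(𝔛.X k, 𝔛.lvU h k U), y = ∑ i, topRing (𝔛.lvU h k U) (c i) • gen h k (P.s i)) ∧
    ∀ c, ∑ i, topRing (𝔛.lvU h k U) (c i) • gen h k (P.s i) = 0 → c ∈ relk P := by
  classical
  let Uk := 𝔛.lvU h k U
  have : IsAffine Uk.toScheme := isAffineOpen_lvU h hU k
  have : IsIso Uk.toSpecΓ := by
    rw [show Uk.toSpecΓ = (isAffineOpen_lvU h hU k).isoSpec.hom from (isAffineOpen_lvU h hU k).isoSpec_hom.symm]
    infer_instance
  let N : ModuleCat.{u} Γ(𝔛.X k, Uk) := ModuleCat.of _ ((Fin n → Γ(𝔛.X k, Uk)) ⧸ relk P)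
  let Q := (Scheme.Modules.pullback Uk.toSpecΓ).obj (tilde (R := CommRingCat.of Γ(𝔛.X k, Uk)) N)
  have hQ : Coh.IsCoh Q := by
    have : Module.Finite Γ(𝔛.X k, Uk) N := inferInstanceAs (Module.Finite _ (_ ⧸ relk P))
    exact ⟨Groth.QCohMod.isQCoh_pullback_obj _ _,
      Groth.QCohMod.isFT_pullback _ _ (Groth.Flatmor4.isFT_tilde N)⟩
  let e : Fin n → N := fun i => Submodule.Quotient.mk (Pi.single i 1)
  let q : Fin n → Γ(Q, ⊤) := fun i => (TildeSys.proj Uk.toSpecΓ N).hom (e i)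
  have he : ∀ c : Fin n → Γ(𝔛.X k, Uk), (Submodule.Quotient.mk c : N) = ∑ i, c i • e i := fun c => by
    show (relk P).mkQ c = ∑ i, c i • (relk P).mkQ (Pi.single i 1)
    rw [← Fintype.sum_congr _ _ fun i => map_smul _ _ _, ← map_sum]
    exact congrArg _ (pi_eq_sum_univ' c)
  have hq : ∀ c : Fin n → Γ(𝔛.X k, Uk), ∑ i, topRing Uk (c i) • q i =
      (TildeSys.proj Uk.toSpecΓ N).hom (Submodule.Quotient.mk c) := fun c => by
    rw [he, map_sum]
    exact Finset.sum_congr rfl fun i _ => ((map_smul _ _ _).trans (smul_pushΓ Q (c i) _)).symm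
  obtain ⟨ψ, hψ⟩ := exists_hom_restrict P (H := Q) q fun j => by
    rw [hq, show (Submodule.Quotient.mk (fun i => projR k U (P.r j i)) : N) = 0 from
      (Submodule.Quotient.mk_eq_zero _).2 (Submodule.subset_span ⟨j, rfl⟩), map_zero]
    rfl
  let G := (pullk h 𝔉 k).restrict Uk.ι
  obtain ⟨L, hL⟩ : ∃ L : N ⟶ (TildeSys.pushΓ Uk.toSpecΓ).obj G, ∀ c,
      L.hom (Submodule.Quotient.mk c) =
        (show Γ(G, ⊤) from ∑ i, topRing Uk (c i) • gen h k (P.s i)) := by
    obtain ⟨f, hf⟩ := exists_lift ((TildeSys.pushΓ Uk.toSpecΓ).obj G) (fun i => gen h k (P.s i))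
      (Set.range fun j i => projR k U (P.r j i)) (by
        rintro _ ⟨j, rfl⟩
        exact (Finset.sum_congr rfl fun i _ => smul_pushΓ G _ _).trans (sum_gen P j))
    exact ⟨f, fun c => (hf c).trans (Finset.sum_congr rfl fun i _ => smul_pushΓ G (c i) _)⟩
  let φ : Q ⟶ G := ((TildeSys.adj Uk.toSpecΓ).homEquiv N G).symm L
  have hφ : ∀ c, φ.app ⊤ ((TildeSys.proj Uk.toSpecΓ N).hom (Submodule.Quotient.mk c)) =
      ∑ i, topRing Uk (c i) • gen h k (P.s i) := fun c =>
    ((TildeSys.homEquiv_apply Uk.toSpecΓ φ _).symm.trans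
      congr($(((TildeSys.adj Uk.toSpecΓ).homEquiv N G).apply_symm_apply L).hom _)).trans (hL c)
  have hφq : ∀ i, φ.app ⊤ (q i) = gen h k (P.s i) := fun i => by
    refine (hφ (Pi.single i 1)).trans ((Finset.sum_eq_single i (fun j _ hj => ?_) (fun hi => absurd (Finset.mem_univ i) hi)).trans ?_)
    · rw [Pi.single_eq_of_ne hj, map_zero, zero_smul]
    · rw [Pi.single_eq_same, map_one, one_smul]
  have h1 : ψ ≫ φ = 𝟙 G := hom_ext_restrict P fun i => by
    show φ.app ⊤ (ψ.app ⊤ _) = _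
    rw [hψ, hφq]
    rfl
  have happ : ∀ c : Fin n → Γ(𝔛.X k, Uk), ψ.app ⊤ (∑ i, topRing Uk (c i) • gen h k (P.s i)) =
      (TildeSys.proj Uk.toSpecΓ N).hom (Submodule.Quotient.mk c) := fun c => by
    rw [← hq, map_sum]
    exact Finset.sum_congr rfl fun i _ => (ψ.app_smul _ _).trans (congrArg _ (hψ i))
  have h2 : φ ≫ ψ = 𝟙 Q := TildeSys.hom_ext Uk.toSpecΓ fun v => by
    obtain ⟨c, rfl⟩ := Submodule.Quotient.mk_surjective _ v
    show ψ.app ⊤ (φ.app ⊤ _) = (TildeSys.proj Uk.toSpecΓ N).hom _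
    exact (congrArg (ψ.app ⊤) (hφ c)).trans (happ c)
  have hker : Uk.toSpecΓ.ker = FSch.idealSpec Γ(𝔛.X k, Uk) ⊥ :=
    Scheme.IdealSheafData.ext_of_isAffine (by
      rw [Scheme.Hom.ker_eq_bot_of_isIso, Groth.AdicLinTop.Thickenings.idealSpec_ideal_top, Ideal.map_bot]
      rfl)
  obtain ⟨hs, hk⟩ := TildeSys.proj_spec Uk.toSpecΓ hker N
  refine ⟨Groth.QCohMod.isCoh_of_iso ⟨φ, ψ, h2, h1⟩ hQ, fun y => ?_, fun c hc => ?_⟩
  · obtain ⟨v, hv⟩ := hs (ψ.app ⊤ y)
    obtain ⟨c, rfl⟩ := Submodule.Quotient.mk_surjective _ v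
    refine ⟨c, (congr(($h1).app ⊤ y)).symm.trans ?_⟩
    show φ.app ⊤ (ψ.app ⊤ y) = _
    exact (congrArg (φ.app ⊤) hv.symm).trans (hφ c)
  · have hv : (Submodule.Quotient.mk c : N) ∈ LinearMap.ker (TildeSys.proj Uk.toSpecΓ N).hom := by
      rw [LinearMap.mem_ker, ← happ, hc, map_zero]
      rfl
    rw [hk, Submodule.bot_smul, Submodule.mem_bot, Submodule.Quotient.mk_eq_zero] at hv
    exact hv

end Pres

end Groth.AdicLinTop.FormalPull
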