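import Groth.Agent.AdicLinTop.FormalLevels
import Groth.Agent.QCohMod.ClosedImm
import Groth.Agent.QCohMod.Coherent

/-!
# Realisations of coherent systems as modules on the formal scheme
-/

set_option autoImplicit false

universe u

open CategoryTheory CategoryTheory.Limits AlgebraicGeometry TopologicalSpace Opposite

namespace Groth.AdicLinTop.FormalReal

open Groth.PicAux (pullSec pullSec_smul)
open Groth.AdicLinTop.FormalLevels

variable {𝔛 : FSch.Sys.{u}} {h : 𝔛.IsFormal}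

/-- Sections of a module on the formal scheme. -/
abbrev Sec (M : FSch.ModF 𝔛 h) (U : (𝔛.X 0).Opens) : Type u := M.val.obj (op U)

instance secModule (M : FSch.ModF 𝔛 h) (U : (𝔛.X 0).Opens) :
    Module ((𝔛.Osh h).obj.obj (op U)) (Sec M U) :=
  (M.val.obj (op U)).isModule

/-- A morphism on sections. -/
noncomputable def app {M N : FSch.ModF 𝔛 h} (φ : M ⟶ N) (U : (𝔛.X 0).Opens) :
    Sec M U →ₗ[(𝔛.Osh h).obj.obj (op U)] Sec N U :=
  (φ.val.app (op U)).hom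

/-- Restriction of sections. -/
noncomputable def rs (M : FSch.ModF 𝔛 h) {U V : (𝔛.X 0).Opens} (hVU : V ≤ U) :
    Sec M U →+ Sec M V :=
  AddMonoidHom.mk' (fun m => M.val.map (homOfLE hVU).op m) fun a b => map_add (M.val.map (homOfLE hVU).op).hom a b

theorem rs_app {M N : FSch.ModF 𝔛 h} (φ : M ⟶ N) {U V : (𝔛.X 0).Opens} (hVU : V ≤ U) (m : Sec M U) :
    app φ V (rs M hVU m) = rs N hVU (app φ U m) :=
  PresheafOfModules.naturality_apply φ.val (homOfLE hVU).op m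

theorem app_comp {M N P : FSch.ModF 𝔛 h} (φ : M ⟶ N) (ψ : N ⟶ P) (U : (𝔛.X 0).Opens) (m : Sec M U) :
    app (φ ≫ ψ) U m = app ψ U (app φ U m) := rfl

theorem app_zero {M N : FSch.ModF 𝔛 h} (U : (𝔛.X 0).Opens) (m : Sec M U) :
    app (0 : M ⟶ N) U m = 0 := rfl

/-- Sections agreeing on all affine opens inside are equal. -/
theorem sec_ext_affine (M : FSch.ModF 𝔛 h) {U : (𝔛.X 0).Opens} {a b : Sec M U}
    (hab : ∀ (V : (𝔛.X 0).Opens) (hVU : V ≤ U), IsAffineOpen V → rs M hVU a = rs M hVU b) :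
    a = b := by
  refine TopCat.Presheaf.section_ext
    (⟨M.val.presheaf, M.isSheaf⟩ : TopCat.Sheaf AddCommGrpCat.{u} (𝔛.X 0).carrier) U a b fun x hx => ?_
  obtain ⟨_, ⟨V, hV, rfl⟩, hxV, hVU⟩ :=
    (𝔛.X 0).isBasis_affineOpens.exists_subset_of_mem_open hx U.2
  have h1 := TopCat.Presheaf.germ_res_apply M.val.presheaf (homOfLE hVU) x hxV a
  have h2 := TopCat.Presheaf.germ_res_apply M.val.presheaf (homOfLE hVU) x hxV b
  refine h1.symm.trans (Eq.trans ?_ h2)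
  exact congrArg _ (hab V hVU hV)

/-- Morphisms agreeing on affine opens are equal. -/
theorem hom_ext_affine {M N : FSch.ModF 𝔛 h} {φ ψ : M ⟶ N}
    (hφψ : ∀ (V : (𝔛.X 0).Opens), IsAffineOpen V → ∀ m, app φ V m = app ψ V m) : φ = ψ := by
  refine SheafOfModules.hom_ext (PresheafOfModules.hom_ext fun U => ?_)
  ext m
  exact sec_ext_affine N fun V hVU hV =>
    (rs_app φ hVU m).symm.trans ((hφψ V hV _).trans (rs_app ψ hVU m))

/-- Surjectivity on affine opens gives an epimorphism. -/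
theorem epi_of_affine_surjective {M N : FSch.ModF 𝔛 h} (φ : M ⟶ N)
    (hφ : ∀ (V : (𝔛.X 0).Opens), IsAffineOpen V → Function.Surjective (app φ V)) : Epi φ :=
  ⟨fun {_} a b e => hom_ext_affine fun V hV n => by
    obtain ⟨m, rfl⟩ := hφ V hV n
    rw [← app_comp, ← app_comp, e]⟩

variable (h) in
/-- The direct image from a level. -/
noncomputable abbrev push (k : ℕ) : (𝔛.X k).Modules ⥤ FSch.ModF 𝔛 h :=
  (FSch.levelMor 𝔛 h k).push

/-- Sections of a direct image. -/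
noncomputable def pushEquiv (k : ℕ) (G : (𝔛.X k).Modules) (U : (𝔛.X 0).Opens) :
    Sec ((push h k).obj G) U ≃+ Γ(G, 𝔛.lvU h k U) :=
  AddEquiv.refl _

/-- The map from sections of the structure sheaf to those of a level. -/
noncomputable abbrev projR (k : ℕ) (U : (𝔛.X 0).Opens) (a : (𝔛.Osh h).obj.obj (op U)) :
    Γ(𝔛.X k, 𝔛.lvU h k U) :=
  (𝔛.OshProj h k).hom.app (op U) a

theorem pushEquiv_smul (k : ℕ) (G : (𝔛.X k).Modules) (U : (𝔛.X 0).Opens)
    (a : (𝔛.Osh h).obj.obj (op U)) (x : Sec ((push h k).obj G) U) :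
    pushEquiv k G U (a • x) = projR k U a • pushEquiv k G U x :=
  rfl

theorem smul_push_eq_zero (k : ℕ) (G : (𝔛.X k).Modules) (U : (𝔛.X 0).Opens)
    {a : (𝔛.Osh h).obj.obj (op U)} (ha : projR k U a = 0)
    (x : Sec ((push h k).obj G) U) : a • x = 0 := by
  refine (pushEquiv k G U).injective ?_
  rw [pushEquiv_smul, ha, zero_smul, map_zero]

theorem app_push_map (k : ℕ) {G G' : (𝔛.X k).Modules} (φ : G ⟶ G') (U : (𝔛.X 0).Opens)
    (x : Sec ((push h k).obj G) U) :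
    pushEquiv k G' U (app ((push h k).map φ) U x) = φ.app (𝔛.lvU h k U) (pushEquiv k G U x) :=
  rfl

/-- Direct image from a level is faithful. -/
theorem push_map_injective {k : ℕ} {G G' : (𝔛.X k).Modules} {φ φ' : G ⟶ G'}
    (e : (push h k).map φ = (push h k).map φ') : φ = φ' := by
  ext V m
  have hV : 𝔛.lvU h k (𝔛.toX k ⁻¹ᵁ V) = V := by
    change (Opens.map (𝔛.gInv h k ≫ (𝔛.toX k).base)).obj V = V
    rw [𝔛.gInv_toX_base]
    rfl
  revert m
  rw [← hV]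
  intro m
  exact congr(pushEquiv k G' _ (app $e (𝔛.toX k ⁻¹ᵁ V) ((pushEquiv k G _).symm m)))

/-- Direct image from a level is full, given surjectivity of the structure map on affines. -/
theorem exists_push_map_eq (h𝔛 : 𝔛.IsLocNoethFormal) {k : ℕ} {G G' : (𝔛.X k).Modules}
    (Φ : (push h𝔛.1 k).obj G ⟶ (push h𝔛.1 k).obj G') : ∃ φ : G ⟶ G', (push h𝔛.1 k).map φ = Φ := by
  let W : (𝔛.X k).Opens → (𝔛.X 0).Opens := fun V => 𝔛.toX k ⁻¹ᵁ V
  have hW : ∀ V, 𝔛.lvU h𝔛.1 k (W V) = V := fun V => by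
    change (Opens.map (𝔛.gInv h𝔛.1 k ≫ (𝔛.toX k).base)).obj V = V
    rw [𝔛.gInv_toX_base]
    rfl
  -- the map on the sections over a level open
  let f0 : ∀ V : (𝔛.X 0).Opens, Γ(G, 𝔛.lvU h𝔛.1 k V) →+ Γ(G', 𝔛.lvU h𝔛.1 k V) := fun V =>
    (pushEquiv k G' V).toAddMonoidHom.comp
      ((app Φ V).toAddMonoidHom.comp (pushEquiv k G V).symm.toAddMonoidHom)
  have hnat : ∀ (V V' : (𝔛.X 0).Opens) (hle : V' ≤ V) (m : Γ(G, 𝔛.lvU h𝔛.1 k V)),
      f0 V' (Groth.QCohMod.res G ((Opens.map (𝔛.gInv h𝔛.1 k)).map (homOfLE hle)).le m) =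
        Groth.QCohMod.res G' ((Opens.map (𝔛.gInv h𝔛.1 k)).map (homOfLE hle)).le (f0 V m) :=
    fun V V' hle m => rs_app Φ hle ((pushEquiv k G V).symm m)
  have hsmul : ∀ (V : (𝔛.X 0).Opens) (r : Γ(𝔛.X k, 𝔛.lvU h𝔛.1 k V)) (m : Γ(G, 𝔛.lvU h𝔛.1 k V)),
      f0 V (r • m) = r • f0 V m := by
    intro V r m
    suffices he : ∀ (V' : (𝔛.X 0).Opens) (hle : V' ≤ V), IsAffineOpen V' →
        rs ((push h𝔛.1 k).obj G') hle ((pushEquiv k G' V).symm (f0 V (r • m))) =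
          rs ((push h𝔛.1 k).obj G') hle ((pushEquiv k G' V).symm (r • f0 V m)) from
      (pushEquiv k G' V).symm.injective (sec_ext_affine _ he)
    intro V' hle hV'
    refine (hnat V V' hle (r • m)).symm.trans (Eq.trans ?_ (Groth.QCohMod.res_smul G' _ r _).symm)
    rw [Groth.QCohMod.res_smul]
    refine Eq.trans ?_ (congrArg (_ • ·) (hnat V V' hle m))
    obtain ⟨a, ha⟩ := ((FormalLevels.adic h𝔛 hV').2.1 k).1
      (Groth.QCohMod.resFun (𝔛.X k) ((Opens.map (𝔛.gInv h𝔛.1 k)).map (homOfLE hle)).le r)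
    rw [← ha]
    exact (app Φ V').map_smul a
      ((pushEquiv k G V').symm (Groth.QCohMod.res G _ m))
  let φ : G ⟶ G' := ⟨PresheafOfModules.homMk
    { app := fun V => AddCommGrpCat.ofHom
        ((Groth.QCohMod.res G' (hW V.unop).ge).comp
          ((f0 (W V.unop)).comp (Groth.QCohMod.res G (hW V.unop).le)))
      naturality := fun V V' i => by
        ext m
        show Groth.QCohMod.res G' _ (f0 (W V'.unop) (Groth.QCohMod.res G _
            (Groth.QCohMod.res G i.unop.le m))) =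
          Groth.QCohMod.res G' i.unop.le (Groth.QCohMod.res G' _ (f0 (W V.unop)
            (Groth.QCohMod.res G _ m)))
        have hle : W V'.unop ≤ W V.unop := (𝔛.toX k).preimage_mono i.unop.le
        rw [Groth.QCohMod.res_res, Groth.QCohMod.res_res]
        conv_lhs => rw [← Groth.QCohMod.res_res G (hW V.unop).le
          ((Opens.map (𝔛.gInv h𝔛.1 k)).map (homOfLE hle)).le, hnat _ _ hle,
          Groth.QCohMod.res_res] }
    fun V r m => by
      show Groth.QCohMod.res G' (hW V.unop).ge (f0 (W V.unop) (Groth.QCohMod.res G (hW V.unop).le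
          ((show Γ(𝔛.X k, V.unop) from r) • (show Γ(G, V.unop) from m)))) =
        (show Γ(𝔛.X k, V.unop) from r) • Groth.QCohMod.res G' (hW V.unop).ge
          (f0 (W V.unop) (Groth.QCohMod.res G (hW V.unop).le (show Γ(G, V.unop) from m)))
      rw [Groth.QCohMod.res_smul, hsmul, Groth.QCohMod.res_smul, Groth.QCohMod.resFun_resFun,
        Groth.QCohMod.resFun_self]⟩
  refine ⟨φ, hom_ext_affine fun V _ x => (pushEquiv k G' V).injective ?_⟩
  rw [app_push_map]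
  show Groth.QCohMod.res G' (hW _).ge (f0 (W (𝔛.lvU h𝔛.1 k V)) (Groth.QCohMod.res G (hW _).le _)) = _
  have hWV : W (𝔛.lvU h𝔛.1 k V) = V := toX_preimage_lvU h𝔛.1 k V
  have key : ∀ (V' : (𝔛.X 0).Opens) (hVV' : V' = V) (e : 𝔛.lvU h𝔛.1 k V' ≤ 𝔛.lvU h𝔛.1 k V)
      (e' : 𝔛.lvU h𝔛.1 k V ≤ 𝔛.lvU h𝔛.1 k V') (y : Γ(G, 𝔛.lvU h𝔛.1 k V)),
      Groth.QCohMod.res G' e' (f0 V' (Groth.QCohMod.res G e y)) = f0 V y := by
    rintro V' rfl e e' y
    rw [Groth.QCohMod.res_self, Groth.QCohMod.res_self]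
  exact key _ hWV _ _ _

section Real

variable (h) (𝔐 : FSch.ModSys 𝔛)

/-- The projection of the realisation to a level, on sections. -/
noncomputable def proj (k : ℕ) : 𝔐.realMod h ⟶ (push h k).obj (𝔐.F k) :=
  FSch.realProj 𝔛 h 𝔐.F 𝔐.toPush k

/-- The transition between levels. -/
noncomputable def trans (k : ℕ) : (push h (k + 1)).obj (𝔐.F (k + 1)) ⟶ (push h k).obj (𝔐.F k) :=
  (push h (k + 1)).map (𝔐.toPush k) ≫ (FSch.pushCompare 𝔛 h k).app (𝔐.F k)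

theorem proj_trans (k : ℕ) : proj h 𝔐 (k + 1) ≫ trans h 𝔐 k = proj h 𝔐 k :=
  FSch.realProj_map 𝔛 h 𝔐.F 𝔐.toPush k

theorem exists_unique_sec (U : (𝔛.X 0).Opens) (y : ∀ k, Sec ((push h k).obj (𝔐.F k)) U)
    (hy : ∀ k, app (trans h 𝔐 k) U (y (k + 1)) = y k) :
    ∃! m : Sec (𝔐.realMod h) U, ∀ k, app (proj h 𝔐 k) U m = y k := by
  let S := FSch.levelSysOf 𝔛 h 𝔐.F 𝔐.toPush
  let G : FSch.ModF 𝔛 h ⥤ Type u := SheafOfModules.evaluation _ (op U) ⋙ forget _
  let σ : ∀ j, (S ⋙ G).obj j := fun j => y j.unop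
  have hlim : IsLimit (G.mapCone (limit.cone S)) := isLimitOfPreserves G (limit.isLimit _)
  let τ : (Functor.const ℕᵒᵖ).obj PUnit.{u + 1} ⟶ S ⋙ G :=
    NatTrans.ofOpSequence (fun n => ↾(fun _ => σ (op n))) fun n => by
      ext a
      show σ (op n) = (S ⋙ G).map (homOfLE (Nat.le_add_right n 1)).op (σ (op (n + 1)))
      simp only [S, Functor.comp_map, FSch.levelSysOf_map_succ]
      exact (hy n).symm
  have hσ : σ ∈ (S ⋙ G).sections := fun {a b} f => by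
    exact (ConcreteCategory.congr_hom (τ.naturality f) PUnit.unit).symm
  refine ⟨(Types.isLimitEquivSections hlim).symm ⟨σ, hσ⟩,
    fun n => Types.isLimitEquivSections_symm_apply hlim ⟨σ, hσ⟩ (op n), fun b hb => ?_⟩
  refine (Equiv.eq_symm_apply _).2 (Subtype.ext (funext fun j => ?_))
  exact hb j.unop

theorem trans_apply (k : ℕ) (U : (𝔛.X 0).Opens) (x : Sec ((push h (k + 1)).obj (𝔐.F (k + 1))) U) :
    pushEquiv k (𝔐.F k) U (app (trans h 𝔐 k) U x) =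
      Groth.QCohMod.res (𝔐.F k) (𝔛.lvU_le h k U)
        ((𝔐.e k).hom.app (𝔛.ι k ⁻¹ᵁ 𝔛.lvU h (k + 1) U)
          (pullSec (𝔛.ι k) (𝔐.F (k + 1)) (pushEquiv (k + 1) (𝔐.F (k + 1)) U x))) :=
  rfl

end Real

section Affine

variable (h𝔛 : 𝔛.IsLocNoethFormal) {𝔐 : FSch.ModSys 𝔛} (h𝔐 : 𝔐.IsCoh) {U : (𝔛.X 0).Opens}
  (hU : IsAffineOpen U)

include h𝔐 hU in
/-- The transition maps over an affine open are surjective with kernel the multiples by powers of
the ideal of definition. -/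
theorem trans_spec (k : ℕ) :
    Function.Surjective (app (trans h𝔛.1 𝔐 k) U) ∧
      LinearMap.ker (app (trans h𝔛.1 𝔐 k) U) =
        RingHom.ker ((𝔛.OshProj h𝔛.1 0).hom.app (op U)).hom ^ (k + 1) • ⊤ := by
  have hF := h𝔛.1
  have := (hF k).1
  have hq : (𝔐.F (k + 1)).IsQuasicoherent := (h𝔐 (k + 1)).1
  have hb := Groth.QCohMod.unit_closedImmersion_app (𝔛.ι k) (𝔐.F (k + 1))
    (isAffineOpen_lvU h𝔛.1 hU (k + 1))
  have he : Function.Bijective ((𝔐.e k).hom.app (𝔛.ι k ⁻¹ᵁ 𝔛.lvU h𝔛.1 (k + 1) U)) :=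
    ConcreteCategory.bijective_of_isIso _
  have hr : Function.Bijective (Groth.QCohMod.res (𝔐.F k) (𝔛.lvU_le h𝔛.1 k U)) := by
    have key : ∀ {A B : (𝔛.X k).Opens} (e : A ≤ B), B ≤ A →
        Function.Bijective (Groth.QCohMod.res (𝔐.F k) e) := fun e e' => by
      obtain rfl := le_antisymm e e'
      refine ⟨fun a b hab => ?_, fun a => ⟨a, Groth.QCohMod.res_self _ a⟩⟩
      rwa [Groth.QCohMod.res_self, Groth.QCohMod.res_self] at hab
    exact key _ (𝔛.lvU_succ h𝔛.1 k U).le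
  obtain ⟨-, hproj, -⟩ := FormalLevels.adic h𝔛 hU
  refine ⟨fun y => ?_, le_antisymm (fun x hx => ?_) ?_⟩
  · obtain ⟨z, hz⟩ := hr.2 (pushEquiv k (𝔐.F k) U y)
    obtain ⟨w, hw⟩ := he.2 z
    obtain ⟨v, hv⟩ := hb.1 w
    refine ⟨(pushEquiv (k + 1) (𝔐.F (k + 1)) U).symm v, (pushEquiv k (𝔐.F k) U).injective ?_⟩
    rw [trans_apply, AddEquiv.apply_symm_apply]
    exact ((congrArg _ (congrArg _ hv)).trans ((congrArg _ hw))).trans hz
  · have h0 := congrArg (pushEquiv k (𝔐.F k) U) (LinearMap.mem_ker.1 hx)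
    rw [trans_apply, map_zero] at h0
    have h1 := (hb.2 _).1 (he.1 ((hr.1 (h0.trans (map_zero _).symm)).trans (map_zero _).symm))
    suffices key : ∀ z : Γ(𝔐.F (k + 1), 𝔛.lvU h𝔛.1 (k + 1) U),
        z ∈ (𝔛.ι k).ker.ideal ⟨_, isAffineOpen_lvU h𝔛.1 hU (k + 1)⟩ •
          (⊤ : Submodule Γ(𝔛.X (k + 1), 𝔛.lvU h𝔛.1 (k + 1) U) _) →
        (pushEquiv (k + 1) (𝔐.F (k + 1)) U).symm z ∈
          RingHom.ker ((𝔛.OshProj h𝔛.1 0).hom.app (op U)).hom ^ (k + 1) •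
            (⊤ : Submodule ((𝔛.Osh h𝔛.1).obj.obj (op U)) _) by
      have := key _ h1
      rwa [AddEquiv.symm_apply_apply] at this
    intro z hz
    induction hz using Submodule.smul_induction_on' with
    | smul r hr' s hs =>
      obtain ⟨a, rfl⟩ := (hproj (k + 1)).1 r
      have ha : a ∈ RingHom.ker ((𝔛.OshProj h𝔛.1 0).hom.app (op U)).hom ^ (k + 1) := by
        rw [← (hproj k).2, RingHom.mem_ker]
        refine (OshProj_levelMap_apply h𝔛.1 U k a).symm.trans ?_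
        rw [← ker_appLE_eq (𝔛.ι k) ⟨_, isAffineOpen_lvU h𝔛.1 hU (k + 1)⟩ _ (𝔛.lvU_le h𝔛.1 k U)
          (𝔛.lvU_succ h𝔛.1 k U).le] at hr'
        exact hr'
      exact Submodule.smul_mem_smul ha
        (Submodule.mem_top : ((pushEquiv (k + 1) (𝔐.F (k + 1)) U).symm s) ∈ _)
    | add p hp q hq hp' hq' => rw [map_add]; exact Submodule.add_mem _ hp' hq'
  · rw [Submodule.smul_le]
    intro a ha m _
    rw [← (hproj k).2] at ha
    rw [LinearMap.mem_ker, map_smul]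
    exact smul_push_eq_zero k _ U ha _

include h𝔐 hU in
/-- The sections of a realisation over an affine open. -/
theorem proj_spec :
    IsAdicComplete (RingHom.ker ((𝔛.OshProj h𝔛.1 0).hom.app (op U)).hom)
        (Sec (𝔐.realMod h𝔛.1) U) ∧
      ∀ k, Function.Surjective (app (proj h𝔛.1 𝔐 k) U) ∧
        LinearMap.ker (app (proj h𝔛.1 𝔐 k) U) =
          RingHom.ker ((𝔛.OshProj h𝔛.1 0).hom.app (op U)).hom ^ (k + 1) • ⊤ := by
  obtain ⟨-, -, hI⟩ := FormalLevels.adic h𝔛 hU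
  let f := fun k => app (trans h𝔛.1 𝔐 k) U
  let π := fun k => app (proj h𝔛.1 𝔐 k) U
  have hπ : ∀ k, f k ∘ₗ π (k + 1) = π k := fun k =>
    LinearMap.ext fun m => congr(app $(proj_trans h𝔛.1 𝔐 k) U m)
  have hlift : ∀ y : (∀ k, Sec ((push h𝔛.1 k).obj (𝔐.F k)) U),
      (∀ k, f k (y (k + 1)) = y k) → ∃ x, ∀ k, π k x = y k :=
    fun y hy => (exists_unique_sec h𝔛.1 𝔐 U y hy).exists
  have hf := fun k => (trans_spec h𝔛 h𝔐 hU k).1
  have hker := fun k => (trans_spec h𝔛 h𝔐 hU k).2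
  have hsep : ∀ x, (∀ k, x ∈ LinearMap.ker (π k)) → x = 0 := fun x hx =>
    (exists_unique_sec h𝔛.1 𝔐 U (fun _ => 0) fun _ => map_zero _).unique hx fun _ => map_zero _
  have hcomp := InvLim.complete_ker f π hπ hlift
  have hle := InvLim.pow_smul_top_le_ker f π hπ hlift hf hker
  have heq : ∀ k, LinearMap.ker (π k) = _ := fun k => le_antisymm
    (InvLim.le_of_fg (InvLim.antitone_ker f π hπ) hsep hcomp hle hI
      (InvLim.ker_le_step f π hπ hlift hf hker) k) (hle k)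
  exact ⟨InvLim.isAdicComplete hsep hcomp heq,
    fun k => ⟨InvLim.surjective_proj f π hlift hf k, heq k⟩⟩

end Affine

variable (h𝔛 : 𝔛.IsLocNoethFormal) {𝔐 : FSch.ModSys 𝔛} (h𝔐 : 𝔐.IsCoh)

include h𝔐 in
theorem epi_proj (k : ℕ) : Epi (proj h𝔛.1 𝔐 k) :=
  epi_of_affine_surjective _ fun _ hV => ((proj_spec h𝔛 h𝔐 hV).2 k).1

include h𝔐 in
/-- Maps from a realisation to the direct image of a module on a level factor through the level. -/
theorem existsUnique_factor (k : ℕ) (G : (𝔛.X k).Modules)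
    (ψ : 𝔐.realMod h𝔛.1 ⟶ (push h𝔛.1 k).obj G) :
    ∃! φ : 𝔐.F k ⟶ G, proj h𝔛.1 𝔐 k ≫ (push h𝔛.1 k).map φ = ψ := by
  have := epi_proj h𝔛 h𝔐 k
  have hz : kernel.ι (proj h𝔛.1 𝔐 k) ≫ ψ = 0 := by
    refine hom_ext_affine fun V hV m => ?_
    rw [app_comp, app_zero]
    have hm : app (kernel.ι (proj h𝔛.1 𝔐 k)) V m ∈ LinearMap.ker (app (proj h𝔛.1 𝔐 k) V) :=
      congr(app $(kernel.condition (proj h𝔛.1 𝔐 k)) V m)
    rw [((proj_spec h𝔛 h𝔐 hV).2 k).2] at hm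
    refine (Submodule.smul_le.2 (fun a ha x _ => ?_) hm : _ ∈ LinearMap.ker (app ψ V))
    rw [LinearMap.mem_ker, map_smul]
    rw [← ((FormalLevels.adic h𝔛 hV).2.1 k).2] at ha
    exact smul_push_eq_zero k G V ha _
  let Φ := (Abelian.epiIsCokernelOfKernel (limit.cone (parallelPair (proj h𝔛.1 𝔐 k) 0))
    (limit.isLimit _)).desc (CokernelCofork.ofπ ψ hz)
  have hΦ : proj h𝔛.1 𝔐 k ≫ Φ = ψ :=
    (Abelian.epiIsCokernelOfKernel (limit.cone (parallelPair (proj h𝔛.1 𝔐 k) 0))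
      (limit.isLimit _)).fac (CokernelCofork.ofπ ψ hz) WalkingParallelPair.one
  obtain ⟨φ, hφ⟩ := exists_push_map_eq h𝔛 Φ
  refine ⟨φ, show _ = ψ by rw [hφ, hΦ], fun φ' (hφ' : _ = ψ) => push_map_injective (h := h𝔛.1) ?_⟩
  rw [← cancel_epi (proj h𝔛.1 𝔐 k), hφ', hφ, hΦ]

end Groth.AdicLinTop.FormalReal
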