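import Groth.Agent.AdicLinTop.IndQcoh

/-!
# Filtered colimits of coherent modules as cokernels of maps of free modules

On an affine formal scheme the filtered colimits of coherent modules are exactly the cokernels of maps of free
modules; free modules are such colimits on every locally Noetherian formal scheme.
-/

set_option autoImplicit false

universe u

open CategoryTheory CategoryTheory.Limits AlgebraicGeometry TopologicalSpace Opposite

set_option backward.defeqAttrib.useBackward true
set_option backward.isDefEq.respectTransparency false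
set_option backward.isDefEq.respectTransparency.types false
set_option synthInstance.maxHeartbeats 400000

namespace Groth.AdicLinTop.GlobalPres

open Groth.SitesTopoi.ModH Groth.AdicLinTop.SpacePres Groth.AdicLinTop.CohKer Groth.AdicLinTop.IndCoh
open Groth.SitesTopoi

section Generic

variable {T : Type u} [TopologicalSpace T] {O : Sheaf (Opens.grothendieckTopology T) CommRingCat.{u}}
  {M : ModSite.Mod O}

/-- The structure sheaf is finitely presented. -/
theorem fp_unit : FPSmall.fpProp O (ModSite.unit O) :=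
  FPSmall.fp_of_presData fun x => ⟨⊤, 1, 0, trivial, ⟨{
    s := fun _ => (1 : rsec O ⊤)
    gen := fun W hW t y hy => ⟨W, le_rfl, hy, fun _ => (t : rsec O W), by
      rw [rm_self, Fin.sum_univ_one]
      show (show rsec O W from t) = (show rsec O W from t) * rr (le_rfl.trans hW) (1 : rsec O ⊤)
      rw [map_one, mul_one]⟩
    r := Fin.elim0
    zero := fun q => q.elim0
    rel := fun W hW a ha y hy => ⟨W, le_rfl, hy, Fin.elim0, fun i => by
      have h : (a 0 : rsec O W) * rr hW (1 : rsec O ⊤) = 0 := by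
        rw [Fin.sum_univ_one] at ha
        exact ha
      rw [map_one, mul_one] at h
      rw [Subsingleton.elim i 0, h, map_zero, Fin.sum_univ_zero]⟩ }⟩⟩

/-- A global section. -/
noncomputable def glob (t : sc M.val (⊤ : Opens T)) : M.sections :=
  PresheafOfModules.sectionsMk (fun V => rsm M.val (homOfLE le_top : V.unop ⟶ ⊤) t) fun V W f => by
    show rsm M.val f.unop _ = _
    rw [rsm_rsm]
    rfl

/-- Modules generated by global sections are quotients of free modules. -/
theorem exists_epi_free {κ : Type u} (g : κ → sc M.val (⊤ : Opens T))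
    (hg : ∀ (W : Opens T) (t : sc M.val W), ∀ x ∈ W, ∃ (V : Opens T) (hV : V ≤ W), x ∈ V ∧
      ∃ (s : Finset κ) (a : κ → rsec O V), rm M hV t = ∑ i ∈ s, a i • rm M (le_top : V ≤ ⊤) (g i)) :
    ∃ p : (SheafOfModules.free κ : ModSite.Mod O) ⟶ M, Epi p := by
  refine ⟨Cofan.IsColimit.desc (SheafOfModules.isColimitFreeCofan κ) fun i => M.unitHomEquiv.symm (glob (g i)),
    Preadditive.epi_of_cancel_zero _ fun {Z} q hq => ?_⟩
  have hz : ∀ i, apm q.val ⊤ (g i) = 0 := fun i => by
    have h : M.unitHomEquiv.symm (glob (g i)) ≫ q = 0 := by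
      have h := congrArg (fun k => SheafOfModules.ιFree i ≫ k) hq
      simp only [comp_zero] at h
      erw [← Category.assoc, Cofan.IsColimit.fac] at h
      exact h
    have h1 := congrArg (fun k => (Z.unitHomEquiv k).val (op (⊤ : Opens T))) h
    simp only [SheafOfModules.unitHomEquiv_comp_apply, Equiv.apply_symm_apply] at h1
    have h2 : (glob (g i)).val (op (⊤ : Opens T)) = g i := rsm_id M.val (g i)
    rw [← h2]
    exact h1
  refine mod_hom_ext fun W t => (eq_zero_of_local (m := apm q.val W t) fun x hx => ?_).trans rfl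
  obtain ⟨V, hV, hxV, s, a, ha⟩ := hg W t x hx
  refine ⟨V, hV, hxV, ?_⟩
  show rsm Z.val (homOfLE hV) _ = 0
  rw [← apm_rsm]
  refine (congrArg (apm q.val V) ha).trans ?_
  rw [map_sum]
  refine Finset.sum_eq_zero fun i _ => ?_
  rw [map_smul]
  show a i • apm q.val V (rsm M.val (homOfLE le_top) (g i)) = 0
  rw [apm_rsm, hz, map_zero, smul_zero]

end Generic

variable {𝔛 : FSch.Sys.{u}} (h𝔛 : 𝔛.IsLocNoethFormal)

/-- Free modules are filtered colimits of coherent modules. -/
theorem ind_free (κ : Type u) :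
    ObjectProperty.ind.{u} (cohP h𝔛) (SheafOfModules.free κ : FSch.ModF 𝔛 h𝔛.1) := by
  have := isClosedUnderColimitsOfShape_ind h𝔛 (Discrete κ)
  exact ObjectProperty.prop_colimit _ (Discrete.functor fun _ : κ => (ModSite.unit (𝔛.Osh h𝔛.1)))
    fun _ => (cohP h𝔛).le_ind _ (fp_unit (O := 𝔛.Osh h𝔛.1))

/-- Cokernels of maps of free modules are filtered colimits of coherent modules. -/
theorem ind_cokernel_free {α β : Type u}
    (φ : (SheafOfModules.free α : FSch.ModF 𝔛 h𝔛.1) ⟶ SheafOfModules.free β) :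
    ObjectProperty.ind.{u} (cohP h𝔛) (cokernel φ) :=
  ind_cokernel h𝔛 (ind_free h𝔛 α) (ind_free h𝔛 β) φ

/-- A filtered colimit of coherent modules on an affine formal scheme is a quotient of a free module. -/
theorem exists_epi_free_of_ind {X : FSch.ModF 𝔛 h𝔛.1} (hT : IsAffineOpen (⊤ : (𝔛.X 0).Opens))
    (hX : ObjectProperty.ind.{u} (cohP h𝔛) X) :
    ∃ (κ : Type u) (p : (SheafOfModules.free κ : FSch.ModF 𝔛 h𝔛.1) ⟶ X), Epi p := by
  obtain ⟨p⟩ := IndQcoh.nonempty_presentation_of_ind h𝔛 hT hX
  obtain ⟨q, hq⟩ := exists_epi_free (O := 𝔛.Osh h𝔛.1) (QuotFP.gv p le_rfl) fun W t x hx => by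
    obtain ⟨V, hV, hxV, s, a, ha⟩ := QuotFP.exists_gv_comb p le_top t hx
    exact ⟨V, hV, hxV, s, a, ha.trans (Finset.sum_congr rfl fun i _ => by rw [QuotFP.rm_gv])⟩
  exact ⟨_, q, hq⟩

/-- On an affine formal scheme a filtered colimit of coherent modules is a cokernel of free modules. -/
theorem exists_cokernel_free {X : FSch.ModF 𝔛 h𝔛.1} (hT : IsAffineOpen (⊤ : (𝔛.X 0).Opens))
    (hX : ObjectProperty.ind.{u} (cohP h𝔛) X) :
    ∃ (α β : Type u) (φ : (SheafOfModules.free α : FSch.ModF 𝔛 h𝔛.1) ⟶ SheafOfModules.free β),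
      Nonempty (cokernel φ ≅ X) := by
  obtain ⟨β, p, hp⟩ := exists_epi_free_of_ind h𝔛 hT hX
  obtain ⟨α, q, hq⟩ := exists_epi_free_of_ind h𝔛 hT (ind_kernel h𝔛 (ind_free h𝔛 β) hX p)
  refine ⟨α, β, q ≫ kernel.ι p, ⟨cokernelEpiComp q (kernel.ι p) ≪≫ ?_⟩⟩
  exact IsColimit.coconePointUniqueUpToIso (cokernelIsCokernel _)
    (Abelian.epiIsCokernelOfKernel _ (kernelIsKernel p))

end Groth.AdicLinTop.GlobalPres
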