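import Groth.Agent.Misc4.RpushTrunc
import Groth.Agent.Misc4.ExtFree
import Groth.Agent.AdicLinTop.CompactPushD
import Groth.Agent.AdicLinTop.GlobalPres

/-!
# Hypercohomology of objects with cohomology bounded above
-/

set_option autoImplicit false

universe u

open CategoryTheory CategoryTheory.Limits CategoryTheory.Pretriangulated DerivedCategory Opposite TopologicalSpace

attribute [local instance] HasDerivedCategory.standard

set_option backward.defeqAttrib.useBackward true
set_option backward.isDefEq.respectTransparency false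
set_option backward.isDefEq.respectTransparency.types false
set_option synthInstance.maxHeartbeats 400000
set_option maxHeartbeats 1000000

namespace Groth.AdicLinTop.GlobalBound

open Groth.SitesTopoi.ModH
open Groth.Misc4.DerivedLift (S0)

section Site

variable {C : Type u} [SmallCategory C] {J : GrothendieckTopology C} {O : Sheaf J CommRingCat.{u}}
  (A : ObjectProperty (ModSite.Mod O)) [WSerre.IsWeakSerre A]

/-- Morphisms from a free module vanish above the sum of the two bounds. -/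
theorem subsingleton_hom (B : Set C)
    (hB : ∀ U : C, ∃ (ι : Type u) (Y : ι → C) (g : ∀ i, Y i ⟶ U), Sieve.ofArrows Y g ∈ J U ∧ ∀ i, Y i ∈ B)
    (hA : ∀ V ∈ B, ∃ d : ℕ, ∀ T ∈ J V, ∃ (ι : Type u) (Y : ι → C) (g : ∀ i, Y i ⟶ V),
      (∀ i, T.arrows (g i)) ∧ Sieve.ofArrows Y g ∈ J V ∧
      ∀ (i : ι) (F : ModSite.Mod O), A F → ∀ k : ℕ, d < k → Subsingleton (ModSite.HU O F k (Y i)))
    (U : C) (d : ℕ) (hd : ∀ F : ModSite.Mod O, A F → ∀ k : ℕ, d < k → Subsingleton (ModSite.HU O F k U))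
    (X : DerivedCategory (ModSite.Mod O)) (hX : WSerre.cohIn A X) (a : ℤ) [X.IsLE a] (i : ℤ)
    (hi : a + d < i) : Subsingleton (S0.obj (ModSite.freeOn O U) ⟶ X⟦i⟧) := by
  have : HasExt.{u} (ModSite.Mod O) := hasExt_of_enoughInjectives _
  have := Misc4.RpushTrunc.hasProduct_nat O (CohCx.truncTower X)
  have hRl := Misc4.RpushTrunc.isRlimVia X A B hB hA hX
  have hM : ∀ F : ModSite.Mod O, A F → ∀ k : ℕ, d < k →
      Subsingleton (Abelian.Ext (ModSite.freeOn O U) F k) := fun F hF k hk => by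
    have := hd F hF k hk
    exact Misc4.ExtFree.subsingleton_ext_freeOn U F k
  have htr : ∀ n : ℕ, WSerre.cohInPlus A (CohCx.truncTower X n) := fun n => by
    have hge : (CohCx.truncTower X n).IsGE (-(n : ℤ)) := inferInstanceAs (TStructure.t.IsGE _ _)
    refine ⟨fun q => ?_, -(n : ℤ), hge⟩
    by_cases h : -(n : ℤ) ≤ q
    · have := Misc4.RlimTrunc.isIso_homology_toTrunc X n q h
      exact A.prop_of_iso (asIso ((homologyFunctor _ q).map (CohCx.toTruncTower X n))) (hX q)
    · exact A.prop_of_isZero (isZero_of_isGE _ (-(n : ℤ)) q (by lia))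
  have hbij : ∀ m : ℤ, i - 1 ≤ m → m ≤ i → ∀ n, ((d : ℤ) + 2 - i).toNat ≤ n →
      Function.Bijective fun f : S0.obj (ModSite.freeOn O U) ⟶ (CohCx.truncTower X (n + 1))⟦m⟧ =>
        f ≫ (CohCx.truncTowerMap X n)⟦m⟧' := fun m h1 h2 n hn =>
    Misc4.RlimVanish.bijective_comp_shift A hM _ (htr (n + 1)) (htr n) m fun q hq _ =>
      Misc4.RlimTrunc.isIso_homology_map X n q (by lia)
  have hinj := (Misc4.RlimEventual.bijective_of_eventually hRl _ i _
    (hbij i (by lia) le_rfl) (fun n hn => (hbij (i - 1) le_rfl (by lia) n hn).2)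
    ((d : ℤ) + 2 - i).toNat le_rfl).1
  have hz : ∀ f : S0.obj (ModSite.freeOn O U) ⟶ (CohCx.truncTower X ((d : ℤ) + 2 - i).toNat)⟦i⟧, f = 0 :=
    fun f => Misc4.RlimVanish.eq_zero_of_window A hM (Misc4.RlimVanish.cohInPlus_shift A (htr _) i)
      (fun q h1 h2 => by
        refine IsZero.of_iso ?_ (Misc4.RlimVanish.hShift _ i q (i + q) rfl)
        have hge : (CohCx.truncTower X ((d : ℤ) + 2 - i).toNat).IsGE (-(((d : ℤ) + 2 - i).toNat : ℤ)) :=
          inferInstanceAs (TStructure.t.IsGE _ _)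
        by_cases h : -(((d : ℤ) + 2 - i).toNat : ℤ) ≤ i + q
        · have := Misc4.RlimTrunc.isIso_homology_toTrunc X _ (i + q) h
          exact (isZero_of_isLE X a (i + q) (by lia)).of_iso
            (asIso ((homologyFunctor _ (i + q)).map (CohCx.toTruncTower X _))).symm
        · exact isZero_of_isGE _ (-(((d : ℤ) + 2 - i).toNat : ℤ)) (i + q) (by lia)) f
  exact ⟨fun f g => hinj ((hz _).trans (hz _).symm)⟩

end Site

section Top

variable {T : Type u} [TopologicalSpace T] {O : Sheaf (Opens.grothendieckTopology T) CommRingCat.{u}}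

/-- Global sections as sections over the whole space. -/
noncomputable def sectionsTopEquiv (M : ModSite.Mod O) : M.sections ≃ sc M.val (⊤ : Opens T) where
  toFun s := s.val (op (⊤ : Opens T))
  invFun := GlobalPres.glob
  left_inv s := Subtype.ext (funext fun V => s.property (homOfLE le_top : V.unop ⟶ ⊤).op)
  right_inv t := rsm_id M.val t

/-- The free module on the whole space is the structure sheaf. -/
theorem nonempty_freeOn_top_iso : Nonempty (ModSite.freeOn O (⊤ : Opens T) ≅ ModSite.unit O) :=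
  Groth.Misc4.FreeOn.nonempty_iso_of_homEquiv (fun M : ModSite.Mod O => sc M.val (⊤ : Opens T))
    (fun p => apm p.val (⊤ : Opens T)) (fun M => Groth.Misc4.FreeOn.homEquiv (⊤ : Opens T) M)
    (fun M => M.unitHomEquiv.trans (sectionsTopEquiv M))
    (fun p f => Groth.Misc4.FreeOn.homEquiv_comp (⊤ : Opens T) f p)
    (fun {M N} p f => by
      show (N.unitHomEquiv (f ≫ p)).val (op (⊤ : Opens T)) = _
      rw [SheafOfModules.unitHomEquiv_comp_apply]
      rfl)

end Top

/-- Hypercohomology of a quasi-compact formal scheme is bounded above. -/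
theorem exists_bound {𝔛 : FSch.Sys.{u}} (h𝔛 : 𝔛.IsLocNoethFormal) [CompactSpace (𝔛.X 0)] :
    ∃ d : ℕ, ∀ (G : DerivedCategory (FSch.ModF 𝔛 h𝔛.1)), WSerre.cohIn (AffineGens.affGen h𝔛) G →
      ∀ a : ℤ, G.IsLE a → ∀ i : ℤ, a + d < i →
        Subsingleton (SiteCmp.inD (𝔛.Osh h𝔛.1) (FSch.unitF 𝔛 h𝔛.1) ⟶
          (shiftFunctor (DerivedCategory (FSch.ModF 𝔛 h𝔛.1)) i).obj G) := by
  haveI := h𝔛.2.2 0
  obtain ⟨d, hd⟩ := QcqsBound.exists_bound (X := 𝔛.X 0) ⊤ isCompact_univ
  refine ⟨d, fun G hG a ha i hi => ?_⟩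
  obtain ⟨e⟩ := nonempty_freeOn_top_iso (O := 𝔛.Osh h𝔛.1)
  have h : Subsingleton (S0.obj (ModSite.freeOn (𝔛.Osh h𝔛.1) (⊤ : (𝔛.X 0).Opens)) ⟶ G⟦i⟧) := by
    refine subsingleton_hom (AffineGens.affGen h𝔛) {V | AlgebraicGeometry.IsAffineOpen V} (fun U => ?_)
      (fun V _ => ⟨0, fun T hT => ?_⟩) ⊤ d (fun F hF k hk => ?_) G hG a i hi
    · obtain ⟨ι, Y, g, -, hY, hB⟩ := AffineGens.exists_affine_cover U ⊤ (GrothendieckTopology.top_mem _ _)
      exact ⟨ι, Y, g, hY, hB⟩
    · obtain ⟨ι, Y, g, hg, hY, hB⟩ := AffineGens.exists_affine_cover V T hT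
      refine ⟨ι, Y, g, hg, hY, fun j F hF k hk => ?_⟩
      obtain ⟨m, rfl⟩ := Nat.exists_eq_succ_of_ne_zero (by lia : k ≠ 0)
      exact AffineGens.affGen.hVanish hF m (hB j)
    · have h := hd _ (CompactPushD.affAcyclic hF) ⊤ (QcqsBound.cutsAffine_top _) k hk.le
      rw [inf_top_eq] at h
      exact h
  exact @Equiv.subsingleton _ _
    (Iso.homCongr ((singleFunctor (FSch.ModF 𝔛 h𝔛.1) 0).mapIso e) (Iso.refl _)).symm h

end Groth.AdicLinTop.GlobalBound
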