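import Groth.Prelude.Def_AssocGrMod
import Mathlib.RingTheory.AdicCompletion.Basic
import Mathlib.RingTheory.Finiteness.Basic

/-!
Successive approximation in filtered modules over adically precomplete rings.
-/

universe u v

namespace Groth.AdicLinTop.GrComplete

variable {A : Type u} [CommRing A] (I : Ideal A) {M : Type v} [AddCommGroup M] [Module A M]

theorem sum_smul_mem (N : ℕ → Submodule A M) (hN : Antitone N)
    (hmul : ∀ a b, ∀ r ∈ I ^ a, ∀ y ∈ N b, r • y ∈ N (a + b)) {k : ℕ} (d : Fin k → ℕ) (x : Fin k → M)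
    (hx : ∀ i, x i ∈ N (d i)) {m : ℕ} {c : Fin k → A} (hc : ∀ i, c i ∈ I ^ (m - d i)) :
    ∑ i, c i • x i ∈ N m :=
  Submodule.sum_mem _ fun i _ => hN (by omega) (hmul _ _ _ (hc i) _ (hx i))

/-- Successive approximation: if every element of `P ∩ N m` agrees modulo `N (m+1)` with a combination
of the `x i` with coefficients in `I ^ (m - d i)`, then it is such a combination. -/
theorem exists_eq_sum [IsPrecomplete I A] (N : ℕ → Submodule A M) (hN : Antitone N)
    (hmul : ∀ a b, ∀ r ∈ I ^ a, ∀ y ∈ N b, r • y ∈ N (a + b)) (hsep : ∀ y, (∀ n, y ∈ N n) → y = 0)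
    {k : ℕ} (d : Fin k → ℕ) (x : Fin k → M) (hx : ∀ i, x i ∈ N (d i)) (P : Submodule A M)
    (hxP : ∀ i, x i ∈ P)
    (happ : ∀ m, ∀ y ∈ P, y ∈ N m → ∃ c : Fin k → A, (∀ i, c i ∈ I ^ (m - d i)) ∧
      y - ∑ i, c i • x i ∈ N (m + 1))
    (m : ℕ) (y : M) (hyP : y ∈ P) (hy : y ∈ N m) :
    ∃ c : Fin k → A, (∀ i, c i ∈ I ^ (m - d i)) ∧ ∑ i, c i • x i = y := by
  classical
  choose g hg hg' using happ
  let step : ∀ t : ℕ, {p : (Fin k → A) // y - ∑ i, p i • x i ∈ P ∧ y - ∑ i, p i • x i ∈ N (m + t)} →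
      {p : (Fin k → A) // y - ∑ i, p i • x i ∈ P ∧ y - ∑ i, p i • x i ∈ N (m + (t + 1))} := fun t p =>
    ⟨fun i => p.1 i + g (m + t) _ p.2.1 p.2.2 i, by
      have he : y - ∑ i, (p.1 i + g (m + t) _ p.2.1 p.2.2 i) • x i =
          (y - ∑ i, p.1 i • x i) - ∑ i, g (m + t) _ p.2.1 p.2.2 i • x i := by
        simp only [add_smul, Finset.sum_add_distrib]; abel
      rw [he]
      exact ⟨Submodule.sub_mem _ p.2.1 (Submodule.sum_mem _ fun i _ => Submodule.smul_mem _ _ (hxP i)),
        hg' (m + t) _ p.2.1 p.2.2⟩⟩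
  let p0 : {p : (Fin k → A) // y - ∑ i, p i • x i ∈ P ∧ y - ∑ i, p i • x i ∈ N (m + 0)} :=
    ⟨0, by simpa using ⟨hyP, hy⟩⟩
  let S : ∀ t : ℕ, {p : (Fin k → A) // y - ∑ i, p i • x i ∈ P ∧ y - ∑ i, p i • x i ∈ N (m + t)} :=
    fun t => Nat.rec p0 (fun t p => step t p) t
  have hS : ∀ t i, (S (t + 1)).1 i - (S t).1 i ∈ I ^ (m + t - d i) := fun t i => by
    show (S t).1 i + g (m + t) _ (S t).2.1 (S t).2.2 i - (S t).1 i ∈ _
    rw [add_sub_cancel_left]
    exact hg _ _ _ _ i
  have hS' : ∀ s t i, s ≤ t → (S t).1 i - (S s).1 i ∈ I ^ (m + s - d i) := fun s t i h => by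
    induction h with
    | refl => simp
    | @step t h ih =>
      rw [← sub_add_sub_cancel _ ((S t).1 i)]
      exact Ideal.add_mem _ (Ideal.pow_le_pow_right (Nat.sub_le_sub_right (Nat.add_le_add_left h m) _) (hS t i)) ih
  let D := Finset.univ.sup d
  have hD : ∀ i, d i ≤ D := fun i => Finset.le_sup (Finset.mem_univ i)
  have hlim : ∀ i, ∃ L : A, ∀ n, (S (n + D)).1 i - L ∈ I ^ n := fun i => by
    obtain ⟨L, hL⟩ := IsPrecomplete.prec (I := I) (M := A) inferInstance
      (f := fun n => (S (n + D)).1 i) (fun {a b} hab => by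
        rw [SModEq.sub_mem, smul_eq_mul, Ideal.mul_top, ← neg_sub]
        exact neg_mem (Ideal.pow_le_pow_right (by have := hD i; omega) (hS' (a + D) (b + D) i (by omega))))
    refine ⟨L, fun n => ?_⟩
    have := hL n
    rwa [SModEq.sub_mem, smul_eq_mul, Ideal.mul_top] at this
  choose L hL using hlim
  refine ⟨L, fun i => ?_, ?_⟩
  · have h1 : (S (m + D)).1 i ∈ I ^ (m - d i) := by
      have := hS' 0 (m + D) i (Nat.zero_le _)
      simpa [S, p0] using this
    have := Ideal.sub_mem _ h1 (Ideal.pow_le_pow_right (Nat.sub_le m (d i)) (hL i m))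
    simpa using this
  · refine sub_eq_zero.mp (hsep _ fun n => ?_)
    have h1 : ∑ i, ((S (n + D)).1 i - L i) • x i ∈ N n :=
      Submodule.sum_mem _ fun i _ => hN (Nat.le_add_right n (d i)) (hmul _ _ _ (hL i n) _ (hx i))
    have h2 := hN (show n ≤ m + (n + D) by omega) (S (n + D)).2.2
    have he : ∑ i, L i • x i - y =
        -(∑ i, ((S (n + D)).1 i - L i) • x i) - (y - ∑ i, (S (n + D)).1 i • x i) := by
      simp only [sub_smul, Finset.sum_sub_distrib]; abel
    rw [he]
    exact Submodule.sub_mem _ (neg_mem h1) h2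

section graded

open AssocGr

variable {I} {M : Type u} [AddCommGroup M] [Module A M] (F : I.Filtration M)

theorem filtration_smul_mem (a b : ℕ) (r : A) (hr : r ∈ I ^ a) (y : M) (hy : y ∈ F.N b) :
    r • y ∈ F.N (a + b) :=
  F.pow_smul_le a b (Submodule.smul_mem_smul hr hy)

/-- Degree `m` part of a linear combination of homogeneous classes. -/
theorem exists_coeff_of_mem_span {k : ℕ} (d : Fin k → ℕ) (x : (i : Fin k) → ↥(F.N (d i))) (m : ℕ)
    (y : F.N m)
    (h : (inDegM F m y : GrMod F) ∈ Submodule.span (GrRing (FiltBl.IdealFiltration.adic I))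
      (Set.range fun i => (inDegM F (d i) (x i) : GrMod F))) :
    ∃ c : Fin k → A, (∀ i, c i ∈ I ^ (m - d i)) ∧ (y : M) - ∑ i, c i • (x i : M) ∈ F.N (m + 1) := by
  classical
  obtain ⟨g, hg⟩ := Submodule.mem_span_range_iff_exists_fun _ |>.mp h
  choose f hf using fun i => mkG_surjective (FiltBl.IdealFiltration.adic I) (g i)
  refine ⟨fun i => if d i ≤ m then ((f i : Polynomial A)).coeff (m - d i) else 0, fun i => ?_, ?_⟩
  · by_cases hi : d i ≤ m
    · simp only [if_pos hi]; exact (f i).2 (m - d i)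
    · simp only [if_neg hi]; exact zero_mem _
  · have h0 : mkGM F (monomM F m y - ∑ i, f i • monomM F (d i) (x i)) = 0 := by
      rw [map_sub, map_sum, sub_eq_zero, ← coe_inDegM, ← hg]
      exact Finset.sum_congr rfl fun i _ => by rw [← hf i, coe_inDegM, mkG_smul_mkGM]
    have h1 := (mem_succMod_iff F _).mp ((mkGM_eq_zero_iff F _).mp h0) m
    rw [← ReesM.coeffHom_apply, map_sub, map_sum, ReesM.coeffHom_apply, ReesM.coeff_monomM, if_pos rfl] at h1
    convert h1 using 3 with i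
    rw [ReesM.coeffHom_apply, ReesM.coeff_smul]
    simp only [ReesM.coeff_monomM, smul_ite, smul_zero]
    by_cases hi : d i ≤ m
    · rw [if_pos hi, Finset.sum_eq_single (m - d i, d i)]
      · rw [if_pos rfl]
      · rintro ⟨a, b⟩ hab hne
        rw [if_neg]
        rintro rfl
        rw [Finset.mem_antidiagonal] at hab
        exact hne (by simp [← hab])
      · intro hn
        exact (hn (Finset.mem_antidiagonal.mpr (Nat.sub_add_cancel hi))).elim
    · rw [if_neg hi, zero_smul]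
      refine (Finset.sum_eq_zero fun p hp => if_neg ?_).symm
      rw [Finset.mem_antidiagonal] at hp
      omega

theorem span_inDegM_eq_top :
    Submodule.span (GrRing (FiltBl.IdealFiltration.adic I))
      (Set.range fun p : (n : ℕ) × ↥(F.N n) => (inDegM F p.1 p.2 : GrMod F)) = ⊤ := by
  refine eq_top_iff.mpr fun z _ => ?_
  obtain ⟨y, rfl⟩ := mkGM_surjective F z
  rw [← sum_termM F y, map_sum]
  exact Submodule.sum_mem _ fun n _ => Submodule.subset_span ⟨⟨n, ⟨_, ReesM.coeff_mem F y n⟩⟩, rfl⟩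

/-- Finitely many homogeneous classes generating the span of a finitely generated homogeneous family. -/
theorem exists_fin_gens (s : Set ((n : ℕ) × ↥(F.N n)))
    (hfg : (Submodule.span (GrRing (FiltBl.IdealFiltration.adic I))
      ((fun p : (n : ℕ) × ↥(F.N n) => (inDegM F p.1 p.2 : GrMod F)) '' s)).FG) :
    ∃ (k : ℕ) (p : Fin k → (n : ℕ) × ↥(F.N n)), (∀ i, p i ∈ s) ∧ ∀ q ∈ s,
      (inDegM F q.1 q.2 : GrMod F) ∈ Submodule.span (GrRing (FiltBl.IdealFiltration.adic I))
        (Set.range fun i => (inDegM F (p i).1 (p i).2 : GrMod F)) := by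
  classical
  obtain ⟨t, ht, hsp⟩ := Submodule.fg_span_iff_fg_span_finset_subset _ |>.mp hfg
  obtain ⟨k, e, -, he⟩ := t.finite_toSet.fin_param
  choose p hp hpe using fun i => ht (he ▸ Set.mem_range_self i : e i ∈ (↑t : Set (GrMod F)))
  refine ⟨k, p, hp, fun q hq => ?_⟩
  have h1 : (inDegM F q.1 q.2 : GrMod F) ∈ Submodule.span (GrRing (FiltBl.IdealFiltration.adic I)) t :=
    hsp ▸ Submodule.subset_span ⟨q, hq, rfl⟩
  rw [← he] at h1
  convert h1 using 3
  exact funext hpe

theorem exists_eq_sum_of_span [IsPrecomplete I A] (hsep : ⨅ n, F.N n = ⊥) {k : ℕ} (d : Fin k → ℕ)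
    (x : (i : Fin k) → ↥(F.N (d i))) (P : Submodule A M) (hxP : ∀ i, (x i : M) ∈ P)
    (hspan : ∀ m, ∀ y : F.N m, (y : M) ∈ P → (inDegM F m y : GrMod F) ∈
      Submodule.span (GrRing (FiltBl.IdealFiltration.adic I))
      (Set.range fun i => (inDegM F (d i) (x i) : GrMod F)))
    (m : ℕ) (y : M) (hyP : y ∈ P) (hy : y ∈ F.N m) :
    y ∈ Submodule.span A (Set.range fun i => (x i : M)) := by
  obtain ⟨c, -, rfl⟩ := exists_eq_sum I F.N F.antitone (filtration_smul_mem F)
    (fun z hz => (Submodule.mem_bot A).mp (hsep ▸ Submodule.mem_iInf _ |>.mpr hz)) d (fun i => (x i : M))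
    (fun i => (x i).2) P hxP
    (fun m y hP hy => exists_coeff_of_mem_span F d x m ⟨y, hy⟩ (hspan m ⟨y, hy⟩ hP)) m y hyP hy
  exact Submodule.sum_mem _ fun i _ => Submodule.smul_mem _ _ (Submodule.subset_span ⟨i, rfl⟩)

end graded

end Groth.AdicLinTop.GrComplete
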