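import Groth.Agent.CohC3.GradedFG
import Groth.Agent.CohC3.Tower
import Groth.Agent.AdicLinTop.GrComplete
import Mathlib.RingTheory.Finiteness.Ideal

/-!
# Towers of modules with finitely generated associated graded

A tower `H` of modules with operators raising the level, whose connecting maps land in a finitely generated graded
sequence, satisfies the Mittag-Leffler condition with a uniform delay; when moreover the kernels of the transition
maps are images of a finitely generated graded sequence, the module of compatible families is finitely generated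
over an adically complete base and its natural filtration is good.
-/

set_option autoImplicit false

universe u

open Groth.CohC3

namespace Groth.AdicLinTop.GrTower

variable {A : Type u} [CommRing A] {r : ℕ} (t : Fin r → A) {H : ℕ → Type u} [∀ n, AddCommGroup (H n)]
  [∀ n, Module A (H n)] (π : ∀ m, H (m + 1) →ₗ[A] H m) (ρ : Fin r → ∀ m, H m →ₗ[A] H (m + 1))

/-- The operators of a tower. -/
structure Hyp : Prop where
  ρπ : ∀ i m x, π (m + 1) (ρ i (m + 1) x) = ρ i m (π m x)
  ρ0 : ∀ i x, π 0 (ρ i 0 x) = 0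
  smul : ∀ i m y, ρ i m (π m y) = t i • y

/-- Composite transition. -/
noncomputable def dn (k m : ℕ) (h : k ≤ m) : H m →ₗ[A] H k where
  toFun := Tower.c H (fun n => (π n).toAddMonoidHom) k m h
  map_add' := map_add _
  map_smul' a x := by
    dsimp only [RingHom.id_apply]
    induction m, h using Nat.le_induction with
    | base => simp
    | succ m hm ih =>
      rw [← Tower.c_comp H _ k m (m + 1) hm (Nat.le_succ m), Tower.c_succ,
        ← Tower.c_comp H _ k m (m + 1) hm (Nat.le_succ m) x, Tower.c_succ]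
      exact (congrArg (Tower.c H _ k m hm) ((π m).map_smul a x)).trans (ih _)

@[simp] theorem dn_self (k : ℕ) (x : H k) : dn π k k le_rfl x = x := Tower.c_self H _ k x

theorem dn_dn {i j k : ℕ} (h : i ≤ j) (h' : j ≤ k) (x : H k) :
    dn π i j h (dn π j k h' x) = dn π i k (h.trans h') x := Tower.c_comp H _ i j k h h' x

theorem dn_succ {k m : ℕ} (h : k ≤ m) (x : H (m + 1)) :
    dn π k (m + 1) (h.trans (Nat.le_succ m)) x = dn π k m h (π m x) := by
  rw [← dn_dn π h (Nat.le_succ m)]
  exact congrArg (dn π k m h) (Tower.c_succ H _ m x)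

theorem π_dn {k m : ℕ} (h : k + 1 ≤ m) (x : H m) :
    π k (dn π (k + 1) m h x) = dn π k m ((Nat.le_succ k).trans h) x :=
  Tower.t_c H (fun n => (π n).toAddMonoidHom) k m h x

theorem dn_ρ (hyp : Hyp t π ρ) (i : Fin r) {j m : ℕ} (h : j ≤ m) (x : H m) :
    dn π (j + 1) (m + 1) (Nat.succ_le_succ h) (ρ i m x) = ρ i j (dn π j m h x) := by
  induction m, h using Nat.le_induction with
  | base => simp
  | succ m hm ih =>
    rw [dn_succ π (Nat.succ_le_succ hm) (ρ i (m + 1) x), hyp.ρπ, ih, dn_succ π hm x]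

theorem dn_zero_ρ (hyp : Hyp t π ρ) (i : Fin r) {m : ℕ} (x : H m) :
    dn π 0 (m + 1) (Nat.zero_le _) (ρ i m x) = 0 := by
  rw [← π_dn π (Nat.succ_le_succ (Nat.zero_le m)), dn_ρ t π ρ hyp i (Nat.zero_le m), hyp.ρ0]

/-- Elements whose images at the levels below `b` vanish. -/
def vanishBelow (b m : ℕ) : Submodule A (H m) where
  carrier := {x | ∀ j (h : j ≤ m), j < b → dn π j m h x = 0}
  add_mem' {x y} hx hy j h hj := by rw [map_add, hx j h hj, hy j h hj, add_zero]
  zero_mem' j h _ := map_zero _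
  smul_mem' a x hx j h hj := by rw [map_smul, hx j h hj, smul_zero]

theorem ρ_mem_vanishBelow (hyp : Hyp t π ρ) (i : Fin r) {b m : ℕ} {x : H m} (hx : x ∈ vanishBelow π b m) :
    ρ i m x ∈ vanishBelow π (b + 1) (m + 1) := by
  intro j h hj
  cases j with
  | zero => exact dn_zero_ρ t π ρ hyp i x
  | succ j => rw [dn_ρ t π ρ hyp i (Nat.le_of_succ_le_succ h), hx j _ (by omega), map_zero]

section ML

variable [IsNoetherianRing A] {E : ℕ → Type u} [∀ n, AddCommGroup (E n)] [∀ n, Module A (E n)]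
  (δ : ∀ m, H m →ₗ[A] E m) (op : Fin r → ∀ m, E m →ₗ[A] E (m + 1)) [∀ n, Module.Finite A (E n)]

/-- Uniform Mittag-Leffler: classes at a level lift one step up to a correction vanishing a bounded number of
levels below. -/
theorem exists_delay (hyp : Hyp t π ρ) (hδ : ∀ m x, δ m x = 0 → x ∈ LinearMap.range (π m))
    (hnat : ∀ i m x, δ (m + 1) (ρ i m x) = op i m (δ m x))
    (hcomm : ∀ i j n (x : E n), op i (n + 1) (op j n x) = op j (n + 1) (op i n x))
    (hgen : ∃ d, ∀ n, d ≤ n → (⊤ : Submodule A (E (n + 1))) ≤ ⨆ i, LinearMap.range (op i n)) :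
    ∃ s, ∀ k m (h : k ≤ m), k + s ≤ m → ∀ x : H m,
      ∃ x' : H (m + 1), dn π k (m + 1) (h.trans (Nat.le_succ m)) x' = dn π k m h x := by
  classical
  let B : ℕ → ∀ m, Submodule A (E m) := fun s m => (vanishBelow π (m + 1 - s) m).map (δ m)
  have hmono : ∀ {s s'} m, s ≤ s' → B s m ≤ B s' m := fun {s s'} m hs =>
    Submodule.map_mono fun x hx j h hj => hx j h (by omega)
  let S : ∀ m, Submodule A (E m) := fun m => LinearMap.range (δ m)
  have hstab : ∀ s i m, (B s m).map (op i m) ≤ B s (m + 1) := by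
    rintro s i m _ ⟨_, ⟨x, hx, rfl⟩, rfl⟩
    exact ⟨ρ i m x, fun j h hj => ρ_mem_vanishBelow t π ρ hyp i hx j h (by omega), hnat i m x⟩
  have hS : ∀ i m, (S m).map (op i m) ≤ S (m + 1) := by
    rintro i m _ ⟨_, ⟨x, rfl⟩, rfl⟩
    exact ⟨ρ i m x, hnat i m x⟩
  obtain ⟨d₀, hd₀⟩ := hgen
  obtain ⟨d', hd'⟩ := exists_bound_of_stable op hcomm d₀ hd₀ S hS
  have htop : ∀ m, S m ≤ B (m + 1) m := by
    rintro m _ ⟨x, rfl⟩
    exact ⟨x, fun j h hj => by omega, rfl⟩
  have key : ∀ m, S m ≤ B (d' + 1) m := by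
    intro m
    induction m with
    | zero => exact (htop 0).trans (hmono 0 (by omega))
    | succ m ih =>
      by_cases hm : d' ≤ m
      · exact (hd' m hm).trans (iSup_le fun i => (Submodule.map_mono ih).trans (hstab _ i m))
      · exact (htop (m + 1)).trans (hmono (m + 1) (by omega))
  refine ⟨d' + 1, fun k m h hkm x => ?_⟩
  obtain ⟨y, hy, hxy⟩ := key m ⟨x, rfl⟩
  obtain ⟨x', hx'⟩ := hδ m (x - y) (by rw [map_sub, hxy, sub_self])
  refine ⟨x', ?_⟩
  rw [dn_succ π h, hx', map_sub, hy k h (by omega), sub_zero]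

end ML

/-- Compatible families. -/
def lim : Submodule A (∀ k, H k) where
  carrier := {x | ∀ k, π k (x (k + 1)) = x k}
  add_mem' {x y} hx hy k := by simp only [Pi.add_apply, map_add, hx k, hy k]
  zero_mem' k := map_zero _
  smul_mem' a x hx k := by simp only [Pi.smul_apply, map_smul, hx k]

theorem dn_lim {x : ∀ k, H k} (hx : x ∈ lim π) {k m : ℕ} (h : k ≤ m) : dn π k m h (x m) = x k := by
  induction m, h using Nat.le_induction with
  | base => simp
  | succ m hm ih => rw [dn_succ π hm, hx m, ih]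

theorem exists_mem_lim_of_delay {s : ℕ}
    (hs : ∀ k m (h : k ≤ m), k + s ≤ m → ∀ x : H m,
      ∃ x' : H (m + 1), dn π k (m + 1) (h.trans (Nat.le_succ m)) x' = dn π k m h x)
    (k : ℕ) (x : H (k + s)) : ∃ z ∈ lim π, z k = dn π k (k + s) (Nat.le_add_right k s) x := by
  let step : ∀ j, H (k + j + s) → H (k + (j + 1) + s) := fun j w =>
    (Nat.succ_add (k + j) s ▸ (hs (k + j) (k + j + s) (Nat.le_add_right _ _) le_rfl w).choose :
      H (k + (j + 1) + s))
  let Y : ∀ j, H (k + j + s) := fun j => Nat.rec (motive := fun j => H (k + j + s)) x step j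
  have hY : ∀ j, dn π (k + j) (k + (j + 1) + s) (by omega) (Y (j + 1)) =
      dn π (k + j) (k + j + s) (by omega) (Y j) := fun j => by
    have hc := (hs (k + j) (k + j + s) (Nat.le_add_right _ _) le_rfl (Y j)).choose_spec
    refine Eq.trans ?_ hc
    show dn π (k + j) (k + (j + 1) + s) _ (step j (Y j)) = _
    simp only [step]
    generalize (hs (k + j) (k + j + s) (Nat.le_add_right _ _) le_rfl (Y j)).choose = w
    have key : ∀ (a : ℕ) (e : k + j + s + 1 = a) (h : k + j ≤ a),
        dn π (k + j) a h (e ▸ w : H a) = dn π (k + j) (k + j + s + 1) (by omega) w := by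
      rintro a rfl h
      rfl
    exact key _ _ _
  let z : ∀ n, H n := fun n => dn π n (k + n + s) (by omega) (Y n)
  have hY' : ∀ n a b (_ : a ≤ b) (hn : n ≤ k + a),
      dn π n (k + b + s) (by omega) (Y b) = dn π n (k + a + s) (by omega) (Y a) := by
    intro n a b hab hn
    induction b, hab using Nat.le_induction with
    | base => rfl
    | succ b hb ih =>
      rw [← ih, ← dn_dn π (show n ≤ k + b by omega) (show k + b ≤ k + (b + 1) + s by omega), hY b, dn_dn]
  refine ⟨z, fun n => ?_, ?_⟩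
  · show π n (z (n + 1)) = z n
    rw [π_dn]
    exact hY' n n (n + 1) (Nat.le_succ n) (by omega)
  · show dn π k (k + k + s) _ (Y k) = _
    exact hY' k 0 k (Nat.zero_le k) (Nat.le_add_right k 0)

/-- The filtration of the module of compatible families. -/
def fil (a : ℕ) : Submodule A (∀ k, H k) where
  carrier := {x | x ∈ lim π ∧ ∀ j, j < a → x j = 0}
  add_mem' {x y} hx hy := ⟨add_mem hx.1 hy.1, fun j hj => by simp [hx.2 j hj, hy.2 j hj]⟩
  zero_mem' := ⟨zero_mem _, fun j _ => rfl⟩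
  smul_mem' b x hx := ⟨Submodule.smul_mem _ b hx.1, fun j hj => by simp [hx.2 j hj]⟩

theorem fil_antitone : Antitone (fil π (H := H)) := fun _ _ hab _ hx => ⟨hx.1, fun j hj => hx.2 j (hj.trans_le hab)⟩

theorem eq_zero_of_mem_fil {x : ∀ k, H k} (hx : ∀ a, x ∈ fil π a) : x = 0 :=
  funext fun j => (hx (j + 1)).2 j (Nat.lt_succ_self j)

theorem smul_t_apply_succ (hyp : Hyp t π ρ) (i : Fin r) {x : ∀ k, H k} (hx : x ∈ lim π) (m : ℕ) :
    (t i • x) (m + 1) = ρ i m (x m) := by
  rw [Pi.smul_apply, ← hx m, hyp.smul]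

theorem smul_t_mem_fil (hyp : Hyp t π ρ) (i : Fin r) {a : ℕ} {x : ∀ k, H k} (hx : x ∈ fil π a) :
    t i • x ∈ fil π (a + 1) := by
  have hl := Submodule.smul_mem (lim π) (t i) hx.1
  refine ⟨hl, fun j hj => ?_⟩
  cases j with
  | zero => rw [← hl 0, smul_t_apply_succ t π ρ hyp i hx.1, hyp.ρ0]
  | succ j => rw [smul_t_apply_succ t π ρ hyp i hx.1, hx.2 j (by omega), map_zero]

theorem smul_fil_le (hyp : Hyp t π ρ) (a b : ℕ) :
    Ideal.span (Set.range t) ^ a • fil π b ≤ fil π (a + b) := by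
  induction a with
  | zero => simp
  | succ a ih =>
    rw [pow_succ', Submodule.mul_smul]
    refine (Submodule.smul_mono le_rfl ih).trans (Submodule.smul_le.2 fun c hc y hy => ?_)
    refine Submodule.span_induction (p := fun c _ => c • y ∈ fil π (a + 1 + b)) ?_ ?_ ?_ ?_ hc
    · rintro _ ⟨i, rfl⟩
      exact fil_antitone π (by omega) (smul_t_mem_fil t π ρ hyp i hy)
    · rw [zero_smul]; exact zero_mem _
    · intro c c' _ _ h h'; rw [add_smul]; exact add_mem h h'
    · intro e c _ h; rw [smul_eq_mul, mul_smul]; exact Submodule.smul_mem _ e h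

section Good

variable [IsNoetherianRing A] {G : ℕ → Type u} [∀ n, AddCommGroup (G n)] [∀ n, Module A (G n)]
  (ι : ∀ m, G m →ₗ[A] H (m + 1)) (opG : Fin r → ∀ m, G m →ₗ[A] G (m + 1)) [∀ n, Module.Finite A (G n)]

/-- The filtration is multiplied by the ideal from some degree on. -/
theorem exists_fil_le (hyp : Hyp t π ρ) (hι : ∀ m y, π m y = 0 → y ∈ LinearMap.range (ι m))
    (hπι : ∀ m z, π m (ι m z) = 0)
    (hnat : ∀ i m z, ι (m + 1) (opG i m z) = ρ i (m + 1) (ι m z))
    (hcomm : ∀ i j n (x : G n), opG i (n + 1) (opG j n x) = opG j (n + 1) (opG i n x))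
    (hgen : ∃ d, ∀ n, d ≤ n → (⊤ : Submodule A (G (n + 1))) ≤ ⨆ i, LinearMap.range (opG i n)) :
    ∃ c, ∀ j, fil π (c + j) ≤ Ideal.span (Set.range t) ^ j • fil π c := by
  classical
  let Z : ∀ m, Submodule A (G m) := fun m =>
    { carrier := {z | ∃ x ∈ lim π, x (m + 1) = ι m z}
      add_mem' := fun {z z'} ⟨x, hx, e⟩ ⟨x', hx', e'⟩ =>
        ⟨x + x', add_mem hx hx', by rw [Pi.add_apply, e, e', map_add]⟩
      zero_mem' := ⟨0, zero_mem _, (map_zero _).symm⟩
      smul_mem' := fun a z ⟨x, hx, e⟩ => ⟨a • x, Submodule.smul_mem _ a hx, by rw [Pi.smul_apply, e, map_smul]⟩ }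
  have hZ : ∀ i m, (Z m).map (opG i m) ≤ Z (m + 1) := by
    rintro i m _ ⟨z, ⟨x, hx, e⟩, rfl⟩
    exact ⟨t i • x, Submodule.smul_mem _ _ hx, by rw [smul_t_apply_succ t π ρ hyp i hx, e, hnat]⟩
  obtain ⟨d, hd⟩ := hgen
  obtain ⟨d', hd'⟩ := exists_bound_of_stable opG hcomm d hd Z hZ
  have one : ∀ a, d' + 1 ≤ a → ∀ x ∈ fil π (a + 1), ∃ y : Fin r → ∀ k, H k,
      (∀ i, y i ∈ fil π a) ∧ x - ∑ i, t i • y i ∈ fil π (a + 2) := by
    intro a ha x hx
    obtain ⟨m, rfl⟩ : ∃ m, a = m + 1 := ⟨a - 1, by omega⟩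
    obtain ⟨z, hz⟩ := hι (m + 1) (x (m + 1 + 1)) (by rw [hx.1, hx.2 _ (Nat.lt_succ_self _)])
    have hzZ : z ∈ Z (m + 1) := ⟨x, hx.1, hz.symm⟩
    obtain ⟨z', hz', hzz⟩ : ∃ z' : Fin r → G m, (∀ i, z' i ∈ Z m) ∧ ∑ i, opG i m (z' i) = z := by
      refine Submodule.iSup_induction _ (motive := fun z => ∃ z' : Fin r → G m, (∀ i, z' i ∈ Z m) ∧
        ∑ i, opG i m (z' i) = z) (hd' m (by omega) hzZ) ?_ ⟨0, fun _ => zero_mem _, by simp⟩ ?_
      · rintro i _ ⟨w, hw, rfl⟩
        refine ⟨Pi.single i w, fun j => ?_, ?_⟩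
        · obtain rfl | hji := eq_or_ne j i
          · rwa [Pi.single_eq_same]
          · rw [Pi.single_eq_of_ne hji]; exact zero_mem _
        · rw [Finset.sum_eq_single i (fun j _ hji => by rw [Pi.single_eq_of_ne hji, map_zero]) (by simp),
            Pi.single_eq_same]
      · rintro a b ⟨a', ha', rfl⟩ ⟨b', hb', rfl⟩
        exact ⟨a' + b', fun i => add_mem (ha' i) (hb' i), by simp [map_add, Finset.sum_add_distrib]⟩
    choose y hy hye using hz'
    have hyfil : ∀ i, y i ∈ fil π (m + 1) := fun i => ⟨hy i, fun j hj => by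
      rw [← dn_lim π (hy i) (show j ≤ m by omega), ← hy i m, hye i, hπι, map_zero]⟩
    refine ⟨y, hyfil, ?_⟩
    have hs : ∑ i, t i • y i ∈ fil π (m + 1 + 1) :=
      Submodule.sum_mem _ fun i _ => smul_t_mem_fil t π ρ hyp i (hyfil i)
    refine ⟨sub_mem hx.1 hs.1, fun j hj => ?_⟩
    rcases Nat.lt_or_ge j (m + 2) with hj' | hj'
    · rw [Pi.sub_apply, hx.2 j hj', hs.2 j hj', sub_zero]
    · obtain rfl : j = m + 1 + 1 := by omega
      rw [Pi.sub_apply, Finset.sum_apply, sub_eq_zero, ← hz, ← hzz, map_sum]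
      refine Finset.sum_congr rfl fun i _ => ?_
      rw [smul_t_apply_succ t π ρ hyp i (hy i), hye i, hnat]
  have full : ∀ a, d' + 1 ≤ a → fil π (a + 1) ≤ Ideal.span (Set.range t) • fil π a := by
    intro a ha x hx
    choose y hy hyr using fun (l : ℕ) (w : {w : ∀ k, H k // w ∈ fil π (a + l + 1)}) =>
      one (a + l) (by omega) w.1 w.2
    let step : ∀ l, {w : ∀ k, H k // w ∈ fil π (a + l + 1)} → {w : ∀ k, H k // w ∈ fil π (a + (l + 1) + 1)} :=
      fun l w => ⟨w.1 - ∑ i, t i • y l w i, fil_antitone π (by omega) (hyr l w)⟩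
    let R : ∀ l, {w : ∀ k, H k // w ∈ fil π (a + l + 1)} :=
      fun l => Nat.rec (motive := fun l => {w : ∀ k, H k // w ∈ fil π (a + l + 1)}) ⟨x, hx⟩ step l
    have hR : ∀ L, x - (R L).1 = ∑ l ∈ Finset.range L, ∑ i, t i • y l (R l) i := by
      intro L
      induction L with
      | zero => simp [R]
      | succ L ih =>
        rw [Finset.sum_range_succ, ← ih]
        show x - ((R L).1 - ∑ i, t i • y L (R L) i) = _
        abel
    let Y : Fin r → ∀ k, H k := fun i j => ∑ l ∈ Finset.range (j + 1), y l (R l) i j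
    have hzero : ∀ i l j, j < a + l → y l (R l) i j = 0 := fun i l j hj => (hy l (R l) i).2 j hj
    have hY : ∀ i, Y i ∈ fil π a := by
      refine fun i => ⟨fun j => ?_, fun j hj => Finset.sum_eq_zero fun l _ => hzero i l j (by omega)⟩
      show π j (∑ l ∈ Finset.range (j + 1 + 1), y l (R l) i (j + 1)) = _
      rw [map_sum, Finset.sum_congr rfl fun l _ => (hy l (R l) i).1 j, Finset.sum_range_succ,
        hzero i (j + 1) j (by omega), add_zero]
    have hxY : x = ∑ i, t i • Y i := by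
      funext j
      have h1 := congrFun (hR (j + 1)) j
      rw [Pi.sub_apply, (R (j + 1)).2.2 j (by omega), sub_zero] at h1
      simp only [Finset.sum_apply, Pi.smul_apply] at h1 ⊢
      rw [h1, Finset.sum_comm]
      exact Finset.sum_congr rfl fun i _ => (Finset.smul_sum).symm
    rw [hxY]
    exact Submodule.sum_mem _ fun i _ => Submodule.smul_mem_smul (Ideal.subset_span ⟨i, rfl⟩) (hY i)
  refine ⟨d' + 1, fun j => ?_⟩
  induction j with
  | zero => simp
  | succ j ih =>
    rw [pow_succ', Submodule.mul_smul]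
    exact (full (d' + 1 + j) (by omega)).trans (Submodule.smul_mono le_rfl ih)

end Good

section Finite

variable [IsNoetherianRing A] [∀ n, Module.Finite A (H n)]

/-- A good filtration over a complete base: finitely many families generate, compatibly with the filtration. -/
theorem exists_span (hyp : Hyp t π ρ) [IsPrecomplete (Ideal.span (Set.range t)) A] {c : ℕ}
    (hc : ∀ j, fil π (c + j) ≤ Ideal.span (Set.range t) ^ j • fil π c) :
    ∃ (b : ℕ) (y : Fin b → ∀ k, H k), (∀ l, y l ∈ lim π) ∧ lim π ≤ Submodule.span A (Set.range y) ∧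
      ∀ j, fil π (c + j) ≤ Ideal.span (Set.range t) ^ j • Submodule.span A (Set.range y) := by
  classical
  set J := Ideal.span (Set.range t)
  -- generators modulo the next step
  have hgr : ∀ (P : Submodule A (∀ k, H k)) (n : ℕ), ∃ (b : ℕ) (y : Fin b → ∀ k, H k), (∀ l, y l ∈ P) ∧
      ∀ x ∈ P, ∃ e : Fin b → A, ∀ j, j < n → (x - ∑ l, e l • y l) j = 0 := by
    intro P n
    let φ : (∀ k, H k) →ₗ[A] (∀ j : Fin n, H j) := LinearMap.pi fun j => LinearMap.proj (j : ℕ)
    obtain ⟨b, z, hz⟩ := Submodule.fg_iff_exists_fin_generating_family.1 (IsNoetherian.noetherian (P.map φ))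
    choose y hy hyz using fun l => Submodule.mem_map.1 (show z l ∈ P.map φ from hz.le (Submodule.subset_span ⟨l, rfl⟩))
    refine ⟨b, y, hy, fun x hx => ?_⟩
    have hx' : φ x ∈ Submodule.span A (Set.range z) := hz.symm ▸ Submodule.mem_map_of_mem hx
    obtain ⟨e, he⟩ := (Submodule.mem_span_range_iff_exists_fun A).1 hx'
    refine ⟨e, fun j hj => ?_⟩
    have h1 : φ (x - ∑ l, e l • y l) = 0 := by
      rw [map_sub, map_sum, sub_eq_zero, ← he]
      exact Finset.sum_congr rfl fun l _ => by rw [map_smul, hyz]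
    exact congrFun h1 ⟨j, hj⟩
  obtain ⟨b₁, y₁, hy₁, hspan₁⟩ := hgr (lim π) c
  obtain ⟨b₂, y₂, hy₂, hspan₂⟩ := hgr (fil π c) (c + 1)
  have hmul : ∀ a b, ∀ e ∈ J ^ a, ∀ w ∈ fil π (c + b), e • w ∈ fil π (c + (a + b)) := fun a b e he w hw =>
    fil_antitone π (by omega) (smul_fil_le t π ρ hyp a (c + b) (Submodule.smul_mem_smul he hw))
  have main : ∀ m, ∀ w ∈ fil π (c + m), w ∈ J ^ m • Submodule.span A (Set.range y₂) := by
    intro m w hw
    obtain ⟨e, he, rfl⟩ := GrComplete.exists_eq_sum J (fun m => fil π (c + m))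
      (fun _ _ h => fil_antitone π (Nat.add_le_add_left h c)) hmul
      (fun v hv => eq_zero_of_mem_fil π fun a => fil_antitone π (Nat.le_add_left a c) (hv a))
      (fun _ => 0) y₂ (fun l => hy₂ l) ⊤ (fun _ => trivial) (fun m v _ hv => by
        have h1 : v ∈ J ^ m • (Submodule.span A (Set.range y₂) ⊔ fil π (c + 1)) := by
          refine Submodule.smul_mono le_rfl (fun v hv => ?_) (hc m hv)
          obtain ⟨e, he⟩ := hspan₂ v hv
          refine Submodule.mem_sup.2 ⟨∑ l, e l • y₂ l, Submodule.sum_mem _ fun l _ =>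
            Submodule.smul_mem _ _ (Submodule.subset_span ⟨l, rfl⟩), v - ∑ l, e l • y₂ l,
            ⟨sub_mem hv.1 (Submodule.sum_mem _ fun l _ => Submodule.smul_mem _ _ (hy₂ l).1), he⟩,
            add_sub_cancel _ _⟩
        rw [Submodule.smul_sup] at h1
        obtain ⟨p, hp, q, hq, rfl⟩ := Submodule.mem_sup.1 h1
        obtain ⟨a, ha, hae⟩ := (Submodule.mem_ideal_smul_span_iff_exists_sum (J ^ m) y₂ p).1 hp
        refine ⟨fun l => a l, fun l => ha l, ?_⟩
        have hsum : ∑ l, a l • y₂ l = p := by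
          rw [← hae, Finsupp.sum_fintype]
          intro l
          exact zero_smul _ _
        rw [hsum, add_sub_cancel_left]
        exact fil_antitone π (by omega) (smul_fil_le t π ρ hyp m (c + 1) hq))
      m w trivial hw
    exact Submodule.sum_mem _ fun l _ =>
      Submodule.smul_mem_smul (by simpa using he l) (Submodule.subset_span ⟨l, rfl⟩)
  have hsub₂ : Set.range y₂ ⊆ Set.range (Fin.append y₁ y₂) := by
    rintro _ ⟨l, rfl⟩
    exact ⟨Fin.natAdd b₁ l, Fin.append_right ..⟩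
  refine ⟨b₁ + b₂, Fin.append y₁ y₂, fun l => ?_, fun x hx => ?_, fun j w hw => ?_⟩
  · refine Fin.addCases (fun l => ?_) (fun l => ?_) l
    · rw [Fin.append_left]; exact hy₁ l
    · rw [Fin.append_right]; exact (hy₂ l).1
  · obtain ⟨e, he⟩ := hspan₁ x hx
    have h1 := main 0 (x - ∑ l, e l • y₁ l) ⟨sub_mem hx (Submodule.sum_mem _ fun l _ =>
      Submodule.smul_mem _ _ (hy₁ l)), he⟩
    rw [pow_zero, Ideal.one_eq_top, Submodule.top_smul] at h1
    rw [← sub_add_cancel x (∑ l, e l • y₁ l)]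
    exact add_mem (Submodule.span_mono hsub₂ h1)
      (Submodule.sum_mem _ fun l _ => Submodule.smul_mem _ _
        (Submodule.subset_span ⟨Fin.castAdd b₂ l, Fin.append_left ..⟩))
  · exact Submodule.smul_mono le_rfl
      (Submodule.span_mono hsub₂) (main j w hw)

end Finite

end Groth.AdicLinTop.GrTower
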