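import Groth.Agent.AdicLinTop.GradedPieces
import Groth.Agent.CohC3.ProperHelpers
import Groth.Agent.CohC3.GradedCoh
import Groth.Agent.CohFin.Proper

/-!
# Finiteness and generation of the cohomology of the graded pieces of a coherent formal module
-/

set_option autoImplicit false

universe u

open CategoryTheory CategoryTheory.Limits AlgebraicGeometry TopologicalSpace Opposite
open CategoryTheory.Abelian (Ext)

set_option backward.defeqAttrib.useBackward true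
set_option backward.isDefEq.respectTransparency false
set_option backward.isDefEq.respectTransparency.types false
set_option synthInstance.maxHeartbeats 400000
set_option maxHeartbeats 800000

namespace Groth.AdicLinTop.GradedGen

open Groth.SitesTopoi.ModH Groth.AdicLinTop.SpacePres Groth.AdicLinTop.FormalAffine Groth.AdicLinTop.FormalReal
open Groth.AdicLinTop.FormalCoh (sys isCoh_sys)
open Groth.AdicLinTop.RestrAct Groth.AdicLinTop.FormalTower Groth.AdicLinTop.GradedPieces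

variable {𝔛 : FSch.Sys.{u}} (h𝔛 : 𝔛.IsLocNoethFormal) {𝔉 : FSch.ModF 𝔛 h𝔛.1} (h𝔉 : FSch.IsCohF 𝔛 h𝔛.1 𝔉)
  {U : (𝔛.X 0).Opens} {A : Type u} [CommRing A] {φ : A →+* RS h𝔛.1 U} {r : ℕ} {t : Fin r → A}
  (ht : ∀ i, φ (t i) ∈ idl h𝔛.1 U)

/-- The tower. -/
abbrev D := data h𝔛 𝔉 h𝔉 U φ t ht

/-- The raising maps on sections. -/
noncomputable def raiseApp (i : Fin r) (m : ℕ) (W : U.toScheme.Opens) :
    sc (levM h𝔛 𝔉 m).val (img (T := (𝔛.X 0).toTopCat) U W) →+ sc (levM h𝔛 𝔉 (m + 1)).val (img (T := (𝔛.X 0).toTopCat) U W) :=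
  ((ExtTower.raise (D h𝔛 h𝔉 ht) i m).hom.app (op W)).hom

theorem raiseApp_trans (i : Fin r) (m : ℕ) (W : U.toScheme.Opens) (y : sc (levM h𝔛 𝔉 (m + 1)).val (img (T := (𝔛.X 0).toTopCat) U W)) :
    raiseApp h𝔛 h𝔉 ht i m W (apm (FSch.levelTrans 𝔛 h𝔛.1 𝔉 m).val (img (T := (𝔛.X 0).toTopCat) U W) y) =
      rr (img_le (T := (𝔛.X 0).toTopCat) U W) (φ (t i)) • y := by
  have h := ConcreteCategory.congr_hom (congrArg (fun ψ : FU h𝔛 𝔉 U (m + 1) ⟶ FU h𝔛 𝔉 U (m + 1) => ψ.hom.app (op W))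
    (ExtTower.p_raise (D h𝔛 h𝔉 ht) i m)) y
  exact h

theorem raiseApp_smul (i : Fin r) (m : ℕ) (W : U.toScheme.Opens) (hW : IsAffineOpen (img (T := (𝔛.X 0).toTopCat) U W))
    (a : RS h𝔛.1 (img (T := (𝔛.X 0).toTopCat) U W)) (x : sc (levM h𝔛 𝔉 m).val (img (T := (𝔛.X 0).toTopCat) U W)) :
    raiseApp h𝔛 h𝔉 ht i m W (a • x) = a • raiseApp h𝔛 h𝔉 ht i m W x := by
  obtain ⟨y, rfl⟩ := surjective_trans h𝔛 𝔉 h𝔉 hW m x
  rw [← map_smul, raiseApp_trans, raiseApp_trans]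
  exact smul_comm _ _ _

/-- The operators, on abelian sheaves. -/
noncomputable def opAb (i : Fin r) (m : ℕ) :
    Coh.toAb ((piece h𝔛 𝔉 m).restrict U.ι) ⟶ Coh.toAb ((piece h𝔛 𝔉 (m + 1)).restrict U.ι) :=
  (κ h𝔛 𝔉 h𝔉 U m).hom ≫ ExtTower.op (D h𝔛 h𝔉 ht) i m ≫ (κ h𝔛 𝔉 h𝔉 U (m + 1)).inv

/-- The operators on sections. -/
noncomputable def opSec (i : Fin r) (m : ℕ) (W : U.toScheme.Opens) :
    Γ((piece h𝔛 𝔉 m).restrict U.ι, W) →+ Γ((piece h𝔛 𝔉 (m + 1)).restrict U.ι, W) :=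
  ((opAb h𝔛 h𝔉 ht i m).hom.app (op W)).hom

theorem secLev_opSec (i : Fin r) (m : ℕ) (W : U.toScheme.Opens) (z : Γ((piece h𝔛 𝔉 m).restrict U.ι, W)) :
    secLev h𝔛 𝔉 h𝔉 U (m + 1) W (opSec h𝔛 h𝔉 ht i m W z) =
      raiseApp h𝔛 h𝔉 ht i (m + 1) W (secLev h𝔛 𝔉 h𝔉 U m W z) := by
  have h : opAb h𝔛 h𝔉 ht i m ≫ (κ h𝔛 𝔉 h𝔉 U (m + 1)).hom ≫ kernel.ι (pk h𝔛 𝔉 U (m + 1)) =
      ((κ h𝔛 𝔉 h𝔉 U m).hom ≫ kernel.ι (pk h𝔛 𝔉 U m)) ≫ ExtTower.raise (D h𝔛 h𝔉 ht) i (m + 1) := by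
    rw [opAb, Category.assoc, Category.assoc, Iso.inv_hom_id_assoc, ExtTower.op_ι, Category.assoc]
  exact ConcreteCategory.congr_hom (congrArg (fun ψ => ψ.hom.app (op W)) h) z

theorem opSec_res (i : Fin r) (m : ℕ) {W W' : U.toScheme.Opens} (e : W' ≤ W)
    (x : Γ((piece h𝔛 𝔉 m).restrict U.ι, W)) :
    opSec h𝔛 h𝔉 ht i m W' (Groth.QCohMod.res _ e x) = Groth.QCohMod.res _ e (opSec h𝔛 h𝔉 ht i m W x) :=
  NatTrans.naturality_apply (opAb h𝔛 h𝔉 ht i m).hom (homOfLE e).op x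

theorem isAffineOpen_img {W : U.toScheme.Opens} (hW : IsAffineOpen W) : IsAffineOpen (img (T := (𝔛.X 0).toTopCat) U W) :=
  hW.image_of_isOpenImmersion U.ι

theorem opSec_smul (i : Fin r) (m : ℕ) (W : U.toScheme.Opens) (c : Γ(U.toScheme, W))
    (x : Γ((piece h𝔛 𝔉 m).restrict U.ι, W)) :
    opSec h𝔛 h𝔉 ht i m W (c • x) = c • opSec h𝔛 h𝔉 ht i m W x := by
  choose V hV hxV hVW using fun p : W => exists_isAffineOpen_mem_and_subset (X := U.toScheme) p.2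
  refine Groth.CohTwo.eq_of_local _ _ _ fun p hp => ⟨V ⟨p, hp⟩, hVW ⟨p, hp⟩, hxV ⟨p, hp⟩, ?_⟩
  show Groth.QCohMod.res _ (hVW ⟨p, hp⟩) _ = Groth.QCohMod.res _ (hVW ⟨p, hp⟩) _
  rw [← opSec_res, Groth.QCohMod.res_smul, Groth.QCohMod.res_smul, ← opSec_res]
  obtain ⟨a, ha⟩ := rU_surjective h𝔛 U (V ⟨p, hp⟩) (isAffineOpen_img (hV ⟨p, hp⟩))
    (Groth.QCohMod.resFun U.toScheme (hVW ⟨p, hp⟩) c)
  rw [← ha]
  refine secLev_injective h𝔛 𝔉 h𝔉 U (m + 1) _ ?_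
  rw [secLev_opSec, secLev_smul, secLev_smul, raiseApp_smul h𝔛 h𝔉 ht _ _ _ (isAffineOpen_img (hV ⟨p, hp⟩)),
    secLev_opSec]

/-- The operators, as maps of modules. -/
noncomputable def opMod (i : Fin r) (m : ℕ) :
    (piece h𝔛 𝔉 m).restrict U.ι ⟶ (piece h𝔛 𝔉 (m + 1)).restrict U.ι :=
  ⟨PresheafOfModules.homMk (opAb h𝔛 h𝔉 ht i m).hom fun W c x => opSec_smul h𝔛 h𝔉 ht i m W.unop c x⟩

theorem toAb_opMod (i : Fin r) (m : ℕ) :
    (Groth.CohBase.toAbF U.toScheme).map (opMod h𝔛 h𝔉 ht i m) = opAb h𝔛 h𝔉 ht i m := rfl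

/-- The sequence of graded pieces. -/
noncomputable def gseq : Groth.CohC3.GSeq U.toScheme r where
  obj m := (piece h𝔛 𝔉 m).restrict U.ι
  op := opMod h𝔛 h𝔉 ht
  comm i j m := by
    have h : opAb h𝔛 h𝔉 ht j m ≫ opAb h𝔛 h𝔉 ht i (m + 1) = opAb h𝔛 h𝔉 ht i m ≫ opAb h𝔛 h𝔉 ht j (m + 1) := by
      simp only [opAb, Category.assoc, Iso.inv_hom_id_assoc]
      rw [← Category.assoc (ExtTower.op (D h𝔛 h𝔉 ht) j m), ExtTower.op_comm, Category.assoc]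
    refine Scheme.Modules.hom_ext _ _ fun W => ?_
    exact congrArg (fun ψ => ψ.hom.app (op W)) h

variable (hgen : ∀ (W : (𝔛.X 0).Opens) (e : W ≤ U), IsAffineOpen W →
  idl h𝔛.1 W ≤ Ideal.span (Set.range fun i => resR h𝔛.1 e (φ (t i))))

include hgen in
theorem exists_sum_opSec (m : ℕ) {W : U.toScheme.Opens} (hW : IsAffineOpen W)
    (z : Γ((piece h𝔛 𝔉 (m + 1)).restrict U.ι, W)) :
    ∃ c : Fin r → Γ((piece h𝔛 𝔉 m).restrict U.ι, W), z = ∑ i, opSec h𝔛 h𝔉 ht i m W (c i) := by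
  classical
  have hV : IsAffineOpen (img (T := (𝔛.X 0).toTopCat) U W) := isAffineOpen_img hW
  let 𝔐 := sys h𝔛.1 𝔉
  have h𝔐 : 𝔐.IsCoh := isCoh_sys h𝔛 h𝔉
  have hps := fun k => (proj_spec h𝔛 h𝔐 hV).2 k
  obtain ⟨x, hx⟩ := (hps (m + 2)).1 (secLev h𝔛 𝔉 h𝔉 U (m + 1) W z)
  have htr : ∀ k (y : Sec (𝔐.realMod h𝔛.1) (img (T := (𝔛.X 0).toTopCat) U W)), apm (FSch.levelTrans 𝔛 h𝔛.1 𝔉 k).val (img (T := (𝔛.X 0).toTopCat) U W)
      (app (proj h𝔛.1 𝔐 (k + 1)) (img (T := (𝔛.X 0).toTopCat) U W) y) = app (proj h𝔛.1 𝔐 k) (img (T := (𝔛.X 0).toTopCat) U W) y := fun k y => by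
    rw [levelTrans_eq h𝔛]
    exact (app_comp (proj h𝔛.1 𝔐 (k + 1)) (trans h𝔛.1 𝔐 k) _ y).symm.trans (by rw [proj_trans])
  have hx0 : app (proj h𝔛.1 𝔐 (m + 1)) (img (T := (𝔛.X 0).toTopCat) U W) x = 0 := by
    rw [← htr]
    exact (congrArg _ hx).trans (trans_secLev h𝔛 𝔉 h𝔉 U (m + 1) W z)
  have hmem := (hps (m + 1)).2.le (LinearMap.mem_ker.2 hx0)
  let J : Ideal (RS h𝔛.1 (img (T := (𝔛.X 0).toTopCat) U W)) := idl h𝔛.1 (img (T := (𝔛.X 0).toTopCat) U W)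
  let s : Fin r → RS h𝔛.1 (img (T := (𝔛.X 0).toTopCat) U W) := fun i => resR h𝔛.1 (img_le (T := (𝔛.X 0).toTopCat) U W) (φ (t i))
  have hJ : J ≤ Ideal.span (Set.range s) := hgen _ _ hV
  have hdec : ∀ y ∈ Ideal.span (Set.range s) • (J ^ (m + 1) • (⊤ : Submodule (RS h𝔛.1 (img (T := (𝔛.X 0).toTopCat) U W)) (Sec (𝔐.realMod h𝔛.1) (img (T := (𝔛.X 0).toTopCat) U W)))),
      ∃ c : Fin r → Sec (𝔐.realMod h𝔛.1) (img (T := (𝔛.X 0).toTopCat) U W),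
        (∀ i, c i ∈ J ^ (m + 1) • (⊤ : Submodule (RS h𝔛.1 (img (T := (𝔛.X 0).toTopCat) U W)) _)) ∧ y = ∑ i, s i • c i := by
    intro y hy
    refine Submodule.smul_induction_on hy (fun b hb w hw => ?_) ?_
    · obtain ⟨e, rfl⟩ := (Submodule.mem_span_range_iff_exists_fun _).1 hb
      refine ⟨fun i => e i • w, fun i => Submodule.smul_mem _ _ hw, ?_⟩
      rw [Finset.sum_smul]
      exact Finset.sum_congr rfl fun i _ => by rw [smul_eq_mul, mul_comm, mul_smul]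
    · rintro a b ⟨ca, hca, rfl⟩ ⟨cb, hcb, rfl⟩
      exact ⟨ca + cb, fun i => add_mem (hca i) (hcb i), by simp [Finset.sum_add_distrib, smul_add]⟩
  obtain ⟨xi, hxi, hxe⟩ := hdec x (Submodule.smul_mono hJ le_rfl (by
    rw [← Submodule.mul_smul, ← pow_succ']
    exact hmem))
  choose w hw using fun i => exists_secLev h𝔛 𝔉 h𝔉 U m W (app (proj h𝔛.1 𝔐 (m + 1)) (img (T := (𝔛.X 0).toTopCat) U W) (xi i)) (by
    rw [htr]
    exact LinearMap.mem_ker.1 ((hps m).2.ge (hxi i)))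
  refine ⟨w, secLev_injective h𝔛 𝔉 h𝔉 U (m + 1) W ?_⟩
  rw [map_sum, ← hx, hxe, map_sum]
  refine Finset.sum_congr rfl fun i _ => ?_
  rw [secLev_opSec, hw]
  refine Eq.trans ?_ (congrArg (raiseApp h𝔛 h𝔉 ht i (m + 1) W) (htr (m + 1) (xi i)))
  rw [raiseApp_trans, map_smul]

include hgen in
theorem gen_gseq : (gseq h𝔛 h𝔉 ht).Gen := by
  refine ⟨0, fun m _ => Preadditive.epi_of_cancel_zero _ fun {P} g hg => ?_⟩
  have hi : ∀ i, opMod h𝔛 h𝔉 ht i m ≫ g = 0 := fun i => by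
    have := congrArg (biproduct.ι (fun _ => (piece h𝔛 𝔉 m).restrict U.ι) i ≫ ·) hg
    simpa [gseq] using this
  refine Scheme.Modules.hom_ext _ _ fun W => ?_
  ext z
  choose V hV hxV hVW using fun p : W => exists_isAffineOpen_mem_and_subset (X := U.toScheme) p.2
  show g.app W z = 0
  refine Groth.CohTwo.eq_of_local _ _ _ fun p hp => ⟨V ⟨p, hp⟩, hVW ⟨p, hp⟩, hxV ⟨p, hp⟩, ?_⟩
  show Groth.QCohMod.res _ (hVW ⟨p, hp⟩) _ = Groth.QCohMod.res _ (hVW ⟨p, hp⟩) _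
  rw [map_zero, Groth.QCohMod.res_app]
  obtain ⟨c, hc⟩ := exists_sum_opSec h𝔛 h𝔉 ht hgen m (hV ⟨p, hp⟩)
    (Groth.QCohMod.res ((piece h𝔛 𝔉 (m + 1)).restrict U.ι) (hVW ⟨p, hp⟩) z)
  refine (congrArg (g.app (V ⟨p, hp⟩)) hc).trans ((map_sum (g.app (V ⟨p, hp⟩)).hom _ _).trans
    (Finset.sum_eq_zero fun i _ => ?_))
  exact ConcreteCategory.congr_hom (congrArg (fun ψ => Scheme.Modules.Hom.app ψ (V ⟨p, hp⟩)) (hi i)) (c i)

variable [U.toScheme.Over (Spec (CommRingCat.of A))]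
  (hover : ∀ (a : A) (W : U.toScheme.Opens),
    (show Γ(U.toScheme, W) from Coh.resTop U.toScheme (op W)
      (Coh.toGlobal (U.toScheme ↘ Spec (CommRingCat.of A)) a)) =
    rU h𝔛 U W (rr (img_le (T := (𝔛.X 0).toTopCat) U W) (φ a)))

include hover in
theorem smulAb_κ (a : A) (m : ℕ) :
    Coh.smulAb ((piece h𝔛 𝔉 m).restrict U.ι) (Coh.toGlobal (U.toScheme ↘ Spec (CommRingCat.of A)) a) ≫
        (κ h𝔛 𝔉 h𝔉 U m).hom =
      (κ h𝔛 𝔉 h𝔉 U m).hom ≫ ExtTower.actK (D h𝔛 h𝔉 ht) m a := by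
  rw [← cancel_mono (kernel.ι (pk h𝔛 𝔉 U m))]
  simp only [Category.assoc, ExtTower.actK_ι]
  refine Sheaf.hom_ext (NatTrans.ext (funext fun W => AddCommGrpCat.hom_ext (AddMonoidHom.ext fun x => ?_)))
  show secLev h𝔛 𝔉 h𝔉 U m W.unop
      ((show Γ(U.toScheme, W.unop) from Coh.resTop U.toScheme W
        (Coh.toGlobal (U.toScheme ↘ Spec (CommRingCat.of A)) a)) •
          (show Γ((piece h𝔛 𝔉 m).restrict U.ι, W.unop) from x)) =
    rr (img_le (T := (𝔛.X 0).toTopCat) U W.unop) (φ a) • secLev h𝔛 𝔉 h𝔉 U m W.unop x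
  rw [← secLev_smul, ← hover a W.unop]

/-- The map on cohomology of the comparison. -/
noncomputable def θfun (m q : ℕ) (x : Coh.HH U.toScheme ((piece h𝔛 𝔉 m).restrict U.ι) q) :
    ExtTower.EM (Groth.CohBase.constZ (TopCat.of U)) (ExtTower.actK (D h𝔛 h𝔉 ht) m) q :=
  ExtTower.ofExt (Groth.CohBase.constZ (TopCat.of U)) (ExtTower.actK (D h𝔛 h𝔉 ht) m) q
    (Sheaf.H.map (κ h𝔛 𝔉 h𝔉 U m).hom q x)

theorem θfun_add (m q : ℕ) (x y : Coh.HH U.toScheme ((piece h𝔛 𝔉 m).restrict U.ι) q) :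
    θfun h𝔛 h𝔉 ht m q (x + y) = θfun h𝔛 h𝔉 ht m q x + θfun h𝔛 h𝔉 ht m q y :=
  congrArg (ExtTower.ofExt (Groth.CohBase.constZ (TopCat.of U)) (ExtTower.actK (D h𝔛 h𝔉 ht) m) q)
    (map_add (Sheaf.H.map (κ h𝔛 𝔉 h𝔉 U m).hom q) x y)

include hover in
theorem θfun_smul (m q : ℕ) (a : A) (x : Coh.HH U.toScheme ((piece h𝔛 𝔉 m).restrict U.ι) q) :
    θfun h𝔛 h𝔉 ht m q (a • x) = a • θfun h𝔛 h𝔉 ht m q x := by
  let S := Coh.smulAb ((piece h𝔛 𝔉 m).restrict U.ι) (Coh.toGlobal (U.toScheme ↘ Spec (CommRingCat.of A)) a)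
  let K : ExtTower.K (pk h𝔛 𝔉 U) m ⟶ ExtTower.K (pk h𝔛 𝔉 U) m := ExtTower.actK (D h𝔛 h𝔉 ht) m a
  have h2 : Sheaf.H.map (κ h𝔛 𝔉 h𝔉 U m).hom q (Sheaf.H.map S q x) =
      Sheaf.H.map K q (Sheaf.H.map (κ h𝔛 𝔉 h𝔉 U m).hom q x) := by
    refine (Sheaf.H.map_comp_apply S (κ h𝔛 𝔉 h𝔉 U m).hom x).symm.trans ?_
    refine Eq.trans ?_ (Sheaf.H.map_comp_apply (κ h𝔛 𝔉 h𝔉 U m).hom K x)
    exact congrArg (fun ψ => Sheaf.H.map ψ q x) (smulAb_κ h𝔛 h𝔉 ht hover a m)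
  refine ExtTower.toExt_injective _ _ _ ?_
  refine Eq.trans ?_ (ExtTower.toExt_smul _ _ _ a _).symm
  exact h2

include hover in
theorem θfun_bijective (m q : ℕ) : Function.Bijective (θfun h𝔛 h𝔉 ht m q) := by
  refine Function.bijective_iff_has_inverse.2 ⟨fun y => Sheaf.H.map (κ h𝔛 𝔉 h𝔉 U m).inv q (ExtTower.toExt _ _ _ y),
    fun x => ?_, fun y => ExtTower.toExt_injective _ _ _ ?_⟩
  · refine (Sheaf.H.map_comp_apply (κ h𝔛 𝔉 h𝔉 U m).hom (κ h𝔛 𝔉 h𝔉 U m).inv x).symm.trans ?_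
    rw [Iso.hom_inv_id, Sheaf.H.map_id_apply]
  · refine (Sheaf.H.map_comp_apply (κ h𝔛 𝔉 h𝔉 U m).inv (κ h𝔛 𝔉 h𝔉 U m).hom (ExtTower.toExt _ _ _ y)).symm.trans ?_
    rw [Iso.inv_hom_id, Sheaf.H.map_id_apply]

/-- Cohomology of a graded piece as cohomology of the kernel. -/
noncomputable def θ (m q : ℕ) :
    Coh.HH U.toScheme ((piece h𝔛 𝔉 m).restrict U.ι) q ≃ₗ[A]
      ExtTower.EM (Groth.CohBase.constZ (TopCat.of U)) (ExtTower.actK (D h𝔛 h𝔉 ht) m) q :=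
  LinearEquiv.ofBijective
    { toFun := θfun h𝔛 h𝔉 ht m q
      map_add' := θfun_add h𝔛 h𝔉 ht m q
      map_smul' := θfun_smul h𝔛 h𝔉 ht hover m q } (θfun_bijective h𝔛 h𝔉 ht hover m q)

theorem Hop_θ (i : Fin r) (m q : ℕ) (x : Coh.HH U.toScheme ((piece h𝔛 𝔉 m).restrict U.ι) q) :
    ExtTower.Hop (Groth.CohBase.constZ (TopCat.of U)) (D h𝔛 h𝔉 ht) q i m (θ h𝔛 h𝔉 ht hover m q x) =
      θ h𝔛 h𝔉 ht hover (m + 1) q (Groth.CohC3.hmap A (opMod h𝔛 h𝔉 ht i m) q x) := by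
  refine ExtTower.toExt_injective _ _ _ ?_
  show Sheaf.H.map (ExtTower.op (D h𝔛 h𝔉 ht) i m) q (Sheaf.H.map (κ h𝔛 𝔉 h𝔉 U m).hom q x) =
    Sheaf.H.map (κ h𝔛 𝔉 h𝔉 U (m + 1)).hom q (Sheaf.H.map (opAb h𝔛 h𝔉 ht i m) q x)
  rw [← Sheaf.H.map_comp_apply, ← Sheaf.H.map_comp_apply]
  refine congrArg (fun ψ => Sheaf.H.map ψ q x) ?_
  rw [opAb, Category.assoc, Category.assoc, Iso.inv_hom_id, Category.comp_id]

variable [IsNoetherianRing A] [IsProper (U.toScheme ↘ Spec (CommRingCat.of A))]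

include hgen hover in
/-- Cohomology of the graded pieces is finite and finitely generated. -/
theorem finGen : ExtTower.FinGen (Groth.CohBase.constZ (TopCat.of U)) (D h𝔛 h𝔉 ht) where
  fin m q := by
    haveI := h𝔛.2.2 0
    haveI := Groth.CohC3.finite_HH_of_proper A U.toScheme
      (Groth.CohFin.isCoh_restrict (isCoh_piece h𝔛 𝔉 h𝔉 m) U) q
    exact Module.Finite.equiv (θ h𝔛 h𝔉 ht hover m q)
  fin0 q := by
    haveI := h𝔛.2.2 0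
    let G : (𝔛.X 0).Modules := (FSch.levelMor 𝔛 h𝔛.1 0).pull.obj 𝔉
    haveI : Module.Finite A (Coh.HH U.toScheme (G.restrict U.ι) q) := Groth.CohC3.finite_HH_of_proper A U.toScheme
      (Groth.CohFin.isCoh_restrict (isCoh_sys h𝔛 h𝔉 0) U) q
    let e := rIso h𝔛 U G
    have he : ∀ a, Coh.smulAb (G.restrict U.ι) (Coh.toGlobal (U.toScheme ↘ Spec (CommRingCat.of A)) a) ≫ e.hom =
        e.hom ≫ ExtTower.act (σU h𝔛 𝔉 U φ) 0 a := fun a => by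
      refine Sheaf.hom_ext (NatTrans.ext (funext fun W => AddCommGrpCat.hom_ext (AddMonoidHom.ext fun x => ?_)))
      show (rIso h𝔛 U G).hom.hom.app W
          ((show Γ(U.toScheme, W.unop) from Coh.resTop U.toScheme W
            (Coh.toGlobal (U.toScheme ↘ Spec (CommRingCat.of A)) a)) •
              (show Γ(G.restrict U.ι, W.unop) from x)) =
        rr (img_le (T := (𝔛.X 0).toTopCat) U W.unop) (φ a) •
          (show sc (levM h𝔛 𝔉 0).val (img (T := (𝔛.X 0).toTopCat) U W.unop) from (rIso h𝔛 U G).hom.hom.app W x)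
      rw [hover a W.unop]
      exact rIso_smul h𝔛 U G W.unop _ x
    have hsm : ∀ (a : A) (x : Coh.HH U.toScheme (G.restrict U.ι) q),
        ExtTower.ofExt (Groth.CohBase.constZ (TopCat.of U)) (σU h𝔛 𝔉 U φ 0) q (Sheaf.H.map e.hom q (a • x)) =
          a • ExtTower.ofExt (Groth.CohBase.constZ (TopCat.of U)) (σU h𝔛 𝔉 U φ 0) q (Sheaf.H.map e.hom q x) := by
      intro a x
      let S := Coh.smulAb (G.restrict U.ι) (Coh.toGlobal (U.toScheme ↘ Spec (CommRingCat.of A)) a)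
      let K : FU h𝔛 𝔉 U 0 ⟶ FU h𝔛 𝔉 U 0 := ExtTower.act (σU h𝔛 𝔉 U φ) 0 a
      have h2 : Sheaf.H.map e.hom q (Sheaf.H.map S q x) = Sheaf.H.map K q (Sheaf.H.map e.hom q x) := by
        refine (Sheaf.H.map_comp_apply S e.hom x).symm.trans ?_
        refine Eq.trans ?_ (Sheaf.H.map_comp_apply e.hom K x)
        exact congrArg (fun ψ => Sheaf.H.map ψ q x) (he a)
      refine ExtTower.toExt_injective _ _ _ ?_
      refine Eq.trans ?_ (ExtTower.toExt_smul _ _ _ a _).symm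
      exact h2
    let f : Coh.HH U.toScheme (G.restrict U.ι) q →ₗ[A]
        ExtTower.EM (Groth.CohBase.constZ (TopCat.of U)) (σU h𝔛 𝔉 U φ 0) q :=
      { toFun := fun x => ExtTower.ofExt _ _ _ (Sheaf.H.map e.hom q x)
        map_add' := fun x y => congrArg (ExtTower.ofExt _ _ _) (map_add _ x y)
        map_smul' := fun a x => hsm a x }
    refine Module.Finite.of_surjective f fun y => ⟨Sheaf.H.map e.inv q (ExtTower.toExt _ _ _ y), ?_⟩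
    refine ExtTower.toExt_injective _ _ _ ?_
    show Sheaf.H.map e.hom q (Sheaf.H.map e.inv q (ExtTower.toExt _ _ _ y)) = ExtTower.toExt _ _ _ y
    refine (Sheaf.H.map_comp_apply e.inv e.hom (ExtTower.toExt _ _ _ y)).symm.trans ?_
    rw [Iso.inv_hom_id, Sheaf.H.map_id_apply]
    rfl
  gen q := by
    haveI := h𝔛.2.2 0
    haveI := Groth.CohC3.isNoetherian_of_proper A U.toScheme
    obtain ⟨d, hd⟩ := Groth.CohC3.GSeq.gen_hh
      (Groth.CohC3.finClass_isCoh (fun G hG p => Groth.CohC3.finite_HH_of_proper A U.toScheme hG p))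
      (gseq h𝔛 h𝔉 ht) (fun m => Groth.CohFin.isCoh_restrict (isCoh_piece h𝔛 𝔉 h𝔉 m) U)
      (gen_gseq h𝔛 h𝔉 ht hgen) q
    refine ⟨d, fun m hm y _ => ?_⟩
    let e := θ h𝔛 h𝔉 ht hover (m + 1) q
    have hle : Submodule.map e.toLinearMap
        (⨆ i, LinearMap.range (Groth.CohC3.hmap A (opMod h𝔛 h𝔉 ht i m) q)) ≤
        ⨆ i, LinearMap.range (ExtTower.Hop (Groth.CohBase.constZ (TopCat.of U)) (D h𝔛 h𝔉 ht) q i m) := by
      rw [Submodule.map_iSup]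
      refine iSup_mono fun i => ?_
      rintro _ ⟨_, ⟨x, rfl⟩, rfl⟩
      exact ⟨θ h𝔛 h𝔉 ht hover m q x, Hop_θ h𝔛 h𝔉 ht hover i m q x⟩
    exact hle ⟨e.symm y, hd m hm Submodule.mem_top, e.apply_symm_apply y⟩

end Groth.AdicLinTop.GradedGen
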