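import Groth.Agent.AdicLinTop.TorsPush
import Groth.Agent.AdicLinTop.FormalCoh
import Groth.Agent.AdicLinTop.Thickenings
import Groth.Agent.Flatmor4.ThickFT
import Groth.Agent.CohFin.BaseLocal
import Groth.Agent.CohFin.ProjFinite

/-!
# Proper direct images of coherent torsion modules are coherent
-/

set_option autoImplicit false

universe u

open CategoryTheory CategoryTheory.Limits AlgebraicGeometry TopologicalSpace Opposite

set_option backward.defeqAttrib.useBackward true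
set_option backward.isDefEq.respectTransparency false
set_option backward.isDefEq.respectTransparency.types false
set_option synthInstance.maxHeartbeats 400000
set_option maxHeartbeats 1000000

namespace Groth.AdicLinTop.TorsPushCoh

open Groth.SitesTopoi.ModH Groth.AdicLinTop.SpacePres Groth.AdicLinTop.CohKer Groth.AdicLinTop.QcohLocal
open Groth.AdicLinTop.FormalAffine Groth.AdicLinTop.FormalReal Groth.AdicLinTop.AffineGlue
open Groth.AdicLinTop.TorsAff Groth.AdicLinTop.FinitePush Groth.AdicLinTop.TorsPush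
open Groth.AdicLinTop.FormalPull Groth.AdicLinTop.FormalLevels
open Groth.AdicLinTop.FormalCoh (Good exists_good spec_lev isCoh_sys)

variable {𝔛 : FSch.Sys.{u}} (h𝔛 : 𝔛.IsLocNoethFormal) {M : FSch.ModF 𝔛 h𝔛.1}

/-- A coherent torsion module on a quasi-compact formal scheme is killed by one open ideal. -/
theorem exists_killed_all [CompactSpace (𝔛.X 0)] (hM : FSch.IsCohF 𝔛 h𝔛.1 M)
    (hT : FTors.IsTorsF 𝔛 h𝔛.1 M) : ∃ N, ∀ (U : (𝔛.X 0).Opens) (s : sc M.val U), Killed h𝔛 N s := by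
  classical
  choose V hV hxV _ using fun x : 𝔛.X 0 => exists_good h𝔛 hM ⊤ x trivial
  choose n m P using fun x => (hV x).2
  obtain ⟨t, ht⟩ := isCompact_univ.elim_finite_subcover (fun x => (V x : Set (𝔛.X 0))) (fun x => (V x).2)
    fun x _ => Set.mem_iUnion.2 ⟨x, hxV x⟩
  choose k hk using fun x i => exists_killed h𝔛 hT (hV x).1.isCompact ((P x).some.s i)
  refine ⟨t.sup fun x => Finset.univ.sup (k x), fun U s => killed_of_local h𝔛 fun y hy => ?_⟩
  obtain ⟨x, hx, hyx⟩ := Set.mem_iUnion₂.1 (ht (Set.mem_univ y))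
  obtain ⟨W, hW, hyW, a, ha⟩ := (P x).some.gen (U ⊓ V x) inf_le_right (rm M inf_le_left s) y ⟨hy, hyx⟩
  refine ⟨W, hW.trans inf_le_left, hyW, ?_⟩
  rw [rm_rm] at ha
  rw [ha]
  intro W' g b hb
  show b • rm M g.le (∑ i, a i • rm M (hW.trans inf_le_right) ((P x).some.s i)) = 0
  rw [map_sum, Finset.smul_sum]
  refine Finset.sum_eq_zero fun i _ => ?_
  rw [rm_smul, smul_comm, rm_rm]
  exact (congrArg _ ((((hk x i).mono
    ((Finset.le_sup (f := k x) (Finset.mem_univ i)).trans (Finset.le_sup (f := fun x => Finset.univ.sup (k x)) hx))))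
      (homOfLE (g.le.trans (hW.trans inf_le_right))) b hb)).trans (smul_zero _)

variable {N : ℕ} (hM : FSch.IsCohF 𝔛 h𝔛.1 M) (hN : ∀ (U : (𝔛.X 0).Opens) (s : sc M.val U), Killed h𝔛 N s)

include hM hN in
/-- A module killed at a level injects into its inverse image there. -/
theorem ηk_injective (U : (𝔛.X 0).Opens) : Function.Injective (ηk h𝔛.1 M N U) := by
  have key : ∀ x : Sec M U, ηk h𝔛.1 M N U x = 0 → x = 0 := fun x hx => eq_zero_of_local fun p hp => by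
    obtain ⟨V₀, ⟨hV₀, n, m, ⟨P₀⟩⟩, hpV₀, hV₀U⟩ := exists_good h𝔛 hM U p hp
    obtain ⟨W, hW, hpW, a₀, ha₀⟩ := P₀.gen V₀ le_rfl (rm M hV₀U x) p hpV₀
    obtain ⟨V, hV, hpV, hVW⟩ := (IndCoh.goodBasis h𝔛).exists_mem p W hpW
    let P := P₀.restrict (hVW.trans hW)
    let a : Fin n → RS h𝔛.1 V := fun i => resR h𝔛.1 hVW (a₀ i)
    have hxa : rm M ((hVW.trans hW).trans hV₀U) x = ∑ i, a i • (show Sec M V from P.s i) := by
      rw [← rm_rm M hV₀U (hVW.trans hW), ← rm_rm M hW hVW]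
      refine (congrArg (rm M hVW) ha₀).trans ((map_sum _ _ _).trans (Finset.sum_congr rfl fun i _ => ?_))
      exact (rm_smul M hVW (a₀ i) _).trans (congrArg (resR h𝔛.1 hVW (a₀ i) • ·) (rm_rm M _ hVW (P₀.s i)))
    refine ⟨V, (hVW.trans hW).trans hV₀U, hpV, ?_⟩
    have h0 : ∑ i, projR N V (a i) • ηk h𝔛.1 M N V (P.s i) = 0 := by
      have e := congrArg (ηk h𝔛.1 M N V) hxa
      rw [ηk_sum] at e
      refine Eq.trans ?_ (e.symm.trans ((ηk_rs _ x).trans (by rw [hx, map_zero])))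
      exact Finset.sum_congr rfl fun i _ => (ηk_smul (a i) _).symm
    obtain ⟨c, hc⟩ := (Submodule.mem_span_range_iff_exists_fun _).1 ((spec_lev P hV N).2 _ h0)
    choose d hd using fun j => ((FormalLevels.adic h𝔛 hV).2.1 N).1 (c j)
    rw [hxa]
    have hz : ∀ i, (a i - ∑ j, d j * P.r j i) • (show Sec M V from P.s i) = 0 := fun i => by
      refine (killed_iff h𝔛 hV N _).1 (hN V _) _ ((mem_pow_iff h𝔛 hV N _).2 ?_)
      refine (map_sub _ _ _).trans (sub_eq_zero.2 ?_)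
      refine (congrFun hc i).symm.trans ((Finset.sum_apply i _ _).trans ?_)
      refine Eq.trans (Finset.sum_congr rfl fun j _ => ?_) (map_sum ((𝔛.OshProj h𝔛.1 N).hom.app (op V)).hom _ _).symm
      show c j * projR N V (P.r j i) = projR N V (d j * P.r j i)
      rw [← hd j]
      exact (map_mul _ _ _).symm
    have hz' : ∀ i, a i • (show Sec M V from P.s i) = (∑ j, d j * P.r j i) • (show Sec M V from P.s i) :=
      fun i => sub_eq_zero.1 ((sub_smul _ _ _).symm.trans (hz i))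
    simp only [hz', Finset.sum_smul, mul_smul]
    rw [Finset.sum_comm]
    refine Finset.sum_eq_zero fun j _ => ?_
    rw [← Finset.smul_sum]
    exact (congrArg (d j • ·) (P.zero j)).trans (smul_zero _)
  intro x y h
  refine sub_eq_zero.1 (key _ ?_)
  rw [ηk, map_sub, map_sub]
  exact sub_eq_zero.2 h

include hM hN in
/-- A module killed at a level is the direct image of its inverse image there. -/
theorem ηk_bijective (U : (𝔛.X 0).Opens) : Function.Bijective (ηk h𝔛.1 M N U) := by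
  refine ⟨ηk_injective h𝔛 hM hN U, fun y => ?_⟩
  choose V hV hxV hVU using fun x : U => exists_good h𝔛 hM U x.1 x.2
  have hsurj : ∀ x : U, ∃ z, ηk h𝔛.1 M N (V x) z =
      Groth.QCohMod.res (pullk h𝔛.1 M N) (lvU_mono h𝔛.1 N (hVU x)) y := fun x => by
    obtain ⟨hVa, n, m, ⟨P⟩⟩ := hV x
    obtain ⟨c, hc⟩ := (spec_lev P hVa N).1 (Groth.QCohMod.res (pullk h𝔛.1 M N) (lvU_mono h𝔛.1 N (hVU x)) y)
    choose d hd using fun i => ((FormalLevels.adic h𝔛 hVa).2.1 N).1 (c i)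
    refine ⟨∑ i, d i • (show Sec M (V x) from P.s i), ?_⟩
    rw [ηk_sum, hc]
    exact Finset.sum_congr rfl fun i _ => (ηk_smul _ _).trans (by rw [← hd i])
  choose z hz using hsurj
  obtain ⟨w, hw, -⟩ := TopCat.Sheaf.existsUnique_gluing'
    (⟨M.val.presheaf, M.isSheaf⟩ : TopCat.Sheaf AddCommGrpCat.{u} (TopCat.of (𝔛.X 0)))
    V U (fun x => homOfLE (hVU x)) (fun p hp => Opens.mem_iSup.2 ⟨⟨p, hp⟩, hxV _⟩) z
    (fun i j => ηk_injective h𝔛 hM hN _ (by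
      refine ((ηk_rs (inf_le_left : V i ⊓ V j ≤ V i) (z i)).trans ?_).trans
        (ηk_rs (inf_le_right : V i ⊓ V j ≤ V j) (z j)).symm
      rw [hz, hz, Groth.QCohMod.res_res, Groth.QCohMod.res_res]))
  refine ⟨w, ?_⟩
  refine TopCat.Sheaf.eq_of_locally_eq'
    (⟨(pullk h𝔛.1 M N).presheaf, (pullk h𝔛.1 M N).isSheaf⟩ : TopCat.Sheaf AddCommGrpCat.{u} (TopCat.of (𝔛.X N)))
    (fun x => 𝔛.lvU h𝔛.1 N (V x)) (𝔛.lvU h𝔛.1 N U) (fun x => homOfLE (lvU_mono h𝔛.1 N (hVU x)))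
    (fun p hp => Opens.mem_iSup.2 ⟨⟨_, hp⟩, hxV _⟩) _ _ fun x => ?_
  exact ((ηk_rs (hVU x) w).symm.trans (congrArg (ηk h𝔛.1 M N (V x)) (hw x))).trans (hz x)

variable {𝔜 : FSch.Sys.{u}} (f : 𝔛 ⟶ 𝔜) (h𝔜 : 𝔜.IsLocNoethFormal)

include h𝔛 h𝔜 in
/-- All levels of a morphism with proper smallest level are proper. -/
theorem isProper_app [IsProper ((f : FSch.Hom 𝔛 𝔜).app 0)] (n : ℕ) :
    IsProper ((f : FSch.Hom 𝔛 𝔜).app n) := by
  haveI := h𝔛.2.2 n
  haveI := 𝔛.toX_isClosedImmersion h𝔛.1 n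
  haveI := 𝔜.toX_isClosedImmersion h𝔜.1 n
  haveI : AlgebraicGeometry.Surjective (𝔛.toX n) := ⟨𝔛.toX_surjective h𝔛.1 n⟩
  have w := FSch.Hom.toX_comm f n
  haveI : IsProper (𝔛.toX n ≫ (f : FSch.Hom 𝔛 𝔜).app n) := by rw [w]; infer_instance
  haveI : LocallyOfFiniteType ((f : FSch.Hom 𝔛 𝔜).app n) :=
    Groth.Flatmor4.locallyOfFiniteType_of_comp_thickening (𝔛.toX n)
      (fun U => by
        haveI : IsNoetherianRing Γ(𝔛.X n, U.1) := IsLocallyNoetherian.component_noetherian U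
        exact (Ideal.FG.isNilpotent_iff_le_nilradical (IsNoetherian.noetherian _)).mpr
          (Thickenings.ideal_ker_le_nilradical _ U))
      (fun U => by
        haveI : IsNoetherianRing Γ(𝔛.X n, U.1) := IsLocallyNoetherian.component_noetherian U
        exact IsNoetherian.noetherian _) _
  haveI := Groth.Flatmor4.isSeparated_of_thickening ((f : FSch.Hom 𝔛 𝔜).app n) ((f : FSch.Hom 𝔛 𝔜).app 0)
    (𝔛.toX n) (𝔜.toX n) w.symm
  haveI : UniversallyClosed ((f : FSch.Hom 𝔛 𝔜).app n) := UniversallyClosed.of_comp_surjective (𝔛.toX n) _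
  exact {}

variable [CompactSpace (𝔛.X 0)]

include hM in
/-- Direct images of coherent torsion modules along pseudo-proper morphisms are coherent. -/
theorem isCohF_pushF [IsProper ((f : FSch.Hom 𝔛 𝔜).app 0)] (hQ : FTors.IsQCT 𝔛 h𝔛.1 M) :
    FSch.IsCohF 𝔜 h𝔜.1 ((FSch.pushF f h𝔛.1 h𝔜.1).obj M) := by
  classical
  obtain ⟨N, hN⟩ := exists_killed_all h𝔛 hM hQ.1
  let fN := (f : FSch.Hom 𝔛 𝔜).app N
  haveI : IsProper fN := isProper_app h𝔛 f h𝔜 N
  haveI := h𝔜.2.2 N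
  have hcoh := Groth.QCohMod.isCoh_of_iso ((Scheme.Modules.pushforward fN).rightDerivedZeroIsoSelf.app _)
    (Groth.CohFin.isCoh_rightDerived_of_proper Groth.CohFin.projFinite fN 0 _ (isCoh_sys h𝔛 hM N))
  refine FPSmall.fp_of_presData fun x => ?_
  obtain ⟨V, hV, hxV, -⟩ := (IndCoh.goodBasis h𝔜).exists_mem x ⊤ trivial
  have hfin := ((QCohMod.isCoh_iff _).1 hcoh).2 _ (isAffineOpen_lvU h𝔜.1 hV N)
  haveI : Module.Finite Γ(𝔜.X N, 𝔜.lvU h𝔜.1 N V)
      Γ((Coh.push fN).obj (pullk h𝔛.1 M N), 𝔜.lvU h𝔜.1 N V) := hfin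
  obtain ⟨n, y, hy⟩ := Module.Finite.exists_fin (R := Γ(𝔜.X N, 𝔜.lvU h𝔜.1 N V))
    (M := Γ((Coh.push fN).obj (pullk h𝔛.1 M N), 𝔜.lvU h𝔜.1 N V))
  have e1 := FSch.Hom.lvU_preimage f h𝔛.1 h𝔜.1 N V
  choose s hs using fun i => (ηk_bijective h𝔛 hM hN (pre f V)).2
    (Groth.QCohMod.res (pullk h𝔛.1 M N) e1.ge (y i))
  let σ : Fin n → sc ((FSch.pushF f h𝔛.1 h𝔜.1).obj M).val V := fun i => (pe f h𝔛 h𝔜 V).symm (s i)
  have hspan : ∀ t : sc ((FSch.pushF f h𝔛.1 h𝔜.1).obj M).val V, ∃ d : Fin n → RS h𝔜.1 V, t = ∑ i, d i • σ i :=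
    fun t => by
    obtain ⟨c, hc⟩ := (Submodule.mem_span_range_iff_exists_fun _).1 (hy.symm ▸ Submodule.mem_top :
      (show Γ((Coh.push fN).obj (pullk h𝔛.1 M N), 𝔜.lvU h𝔜.1 N V) from
        Groth.QCohMod.res (pullk h𝔛.1 M N) e1.le (ηk h𝔛.1 M N (pre f V) (pe f h𝔛 h𝔜 V t))) ∈
        Submodule.span Γ(𝔜.X N, 𝔜.lvU h𝔜.1 N V) (Set.range y))
    choose d hd using fun i => ((FormalLevels.adic h𝔜 hV).2.1 N).1 (c i)
    refine ⟨d, (pe f h𝔛 h𝔜 V).injective ((ηk_bijective h𝔛 hM hN (pre f V)).1 ?_)⟩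
    have h := congrArg (fun z : Γ(pullk h𝔛.1 M N, fN ⁻¹ᵁ 𝔜.lvU h𝔜.1 N V) =>
      Groth.QCohMod.res (pullk h𝔛.1 M N) e1.ge z) hc
    simp only [Groth.QCohMod.res_res, Groth.QCohMod.res_self] at h
    refine h.symm.trans ?_
    refine (map_sum (Groth.QCohMod.res (pullk h𝔛.1 M N) e1.ge) _ _).trans (Eq.trans ?_
      ((congrArg (ηk h𝔛.1 M N (pre f V)) (map_sum (pe f h𝔛 h𝔜 V) _ _)).trans (ηk_sum _ _)).symm)
    refine Finset.sum_congr rfl fun i _ => ?_
    rw [pe_smul, AddEquiv.apply_symm_apply, ηk_smul, hs i, ← hd i]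
    show Groth.QCohMod.res (pullk h𝔛.1 M N) e1.ge
        (fN.app _ (projR N V (d i)) • (show Γ(pullk h𝔛.1 M N, fN ⁻¹ᵁ 𝔜.lvU h𝔜.1 N V) from y i)) = _
    rw [Groth.QCohMod.res_smul, projR_shp]
    rfl
  let D : GenData ((FSch.pushF f h𝔛.1 h𝔜.1).obj M) V n := ⟨σ, fun W hW t z hz => by
    obtain ⟨p, hzp, hpW⟩ := exists_bas_le h𝔜 hV (hW hz) W hz
    obtain ⟨q, w, hw⟩ := exists_extend_push f h𝔛 h𝔜 hQ p (rm _ hpW t)
    obtain ⟨c, hc⟩ := exists_inv h𝔜 hV (isTorsF_pushF f h𝔛 h𝔜 hQ.1) p q (rm _ hpW t)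
    obtain ⟨d, rfl⟩ := hspan w
    refine ⟨bas h𝔜 p, hpW, hzp, fun i => c * resR h𝔜.1 (bas_le h𝔜 p) (d i), ?_⟩
    refine hc.symm.trans ((congrArg (c • ·) hw).trans ?_)
    simp only [map_sum, rm_smul, Finset.smul_sum, smul_smul]⟩
  obtain ⟨l, ⟨E⟩⟩ := exists_relData_pushF f h𝔛 h𝔜 hQ hV σ
  exact ⟨V, n, l, hxV, ⟨{ D with r := E.e, zero := E.zero, rel := E.rel }⟩⟩

end Groth.AdicLinTop.TorsPushCoh
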