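import Groth.Agent.AdicLinTop.FormalTower
import Groth.Agent.AdicLinTop.LevelPush
import Groth.Agent.AdicLinTop.TorsPushCoh

/-!
# The graded pieces of a coherent formal module as modules on an open of the smallest level
-/

set_option autoImplicit false

universe u

open CategoryTheory CategoryTheory.Limits AlgebraicGeometry TopologicalSpace Opposite

set_option backward.defeqAttrib.useBackward true
set_option backward.isDefEq.respectTransparency false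
set_option backward.isDefEq.respectTransparency.types false
set_option synthInstance.maxHeartbeats 400000
set_option maxHeartbeats 800000

namespace Groth.AdicLinTop.GradedPieces

open Groth.SitesTopoi.ModH Groth.AdicLinTop.SpacePres Groth.AdicLinTop.FormalAffine Groth.AdicLinTop.FormalReal
open Groth.AdicLinTop.FormalCoh (sys isCoh_sys)
open Groth.AdicLinTop.RestrAct Groth.AdicLinTop.FormalTower Groth.AdicLinTop.TorsAff
open Groth.QCohMod (res resFun res_res res_smul res_self)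

variable {𝔛 : FSch.Sys.{u}} (h𝔛 : 𝔛.IsLocNoethFormal) (𝔉 : FSch.ModF 𝔛 h𝔛.1) (h𝔉 : FSch.IsCohF 𝔛 h𝔛.1 𝔉)

theorem e0 (V : (𝔛.X 0).Opens) : 𝔛.lvU h𝔛.1 0 V = V := FormalLevels.toX_preimage_lvU h𝔛.1 0 V

/-- Reduction of sections to the smallest level. -/
noncomputable def r0 (V : (𝔛.X 0).Opens) : RS h𝔛.1 V →+* Γ(𝔛.X 0, V) :=
  (resFun (𝔛.X 0) (e0 h𝔛 V).ge).comp ((𝔛.OshProj h𝔛.1 0).hom.app (op V)).hom

theorem r0_resR {V W : (𝔛.X 0).Opens} (e : W ≤ V) (a : RS h𝔛.1 V) :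
    r0 h𝔛 W (resR h𝔛.1 e a) = resFun (𝔛.X 0) e (r0 h𝔛 V a) := by
  show resFun _ _ (projR 0 W (resR h𝔛.1 e a)) = _
  rw [projR_resR]
  show resFun (𝔛.X 0) _ (resFun (𝔛.X 0) _ (projR 0 V a)) = resFun _ e (resFun _ _ (projR 0 V a))
  rw [Groth.QCohMod.resFun_resFun, Groth.QCohMod.resFun_resFun]

theorem r0_surjective {V : (𝔛.X 0).Opens} (hV : IsAffineOpen V) : Function.Surjective (r0 h𝔛 V) := fun y => by
  obtain ⟨a, ha⟩ := ((FormalLevels.adic h𝔛 hV).2.1 0).1 (resFun (𝔛.X 0) (e0 h𝔛 V).le y)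
  refine ⟨a, ?_⟩
  show resFun _ _ ((𝔛.OshProj h𝔛.1 0).hom.app (op V) a) = y
  rw [ha]
  exact (Groth.QCohMod.resFun_resFun _ _ _).trans (Groth.QCohMod.resFun_self _)

/-- Kernels of the transitions, as modules. -/
noncomputable abbrev kM (m : ℕ) : FSch.ModF 𝔛 h𝔛.1 := kernel (FSch.levelTrans 𝔛 h𝔛.1 𝔉 m)

include h𝔉 in
theorem isCohF_kM (m : ℕ) : FSch.IsCohF 𝔛 h𝔛.1 (kM h𝔛 𝔉 m) :=
  CohKer.fp_kernel (IndCoh.goodBasis h𝔛) _
    (LevelPush.isCohF_push_level h𝔛 (m + 1) _ (isCoh_sys h𝔛 h𝔉 (m + 1)))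
    (LevelPush.isCohF_push_level h𝔛 m _ (isCoh_sys h𝔛 h𝔉 m))

include h𝔉 in
theorem killed_kM (m : ℕ) (V : (𝔛.X 0).Opens) (s : sc (kM h𝔛 𝔉 m).val V) : Killed h𝔛 0 s := fun W g a ha => by
  rw [FTors.mem_openIdealFam_iff] at ha
  show a • rm _ g.le s = 0
  have hinj : Function.Injective (apm (kernel.ι (FSch.levelTrans 𝔛 h𝔛.1 𝔉 m)).val W) :=
    injective_of_mono (kernel.ι (FSch.levelTrans 𝔛 h𝔛.1 𝔉 m)) W
  refine hinj ?_
  rw [map_smul, map_zero]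
  refine smul_eq_zero_of_trans_eq_zero h𝔛 𝔉 h𝔉 m ha _ ?_
  exact congrArg (fun ψ : kM h𝔛 𝔉 m ⟶ _ => apm (SheafOfModules.Hom.val ψ) W (rm _ g.le s))
    (kernel.condition (FSch.levelTrans 𝔛 h𝔛.1 𝔉 m))

/-- The graded piece on the smallest level. -/
noncomputable abbrev piece (m : ℕ) : (𝔛.X 0).Modules := FormalPull.pullk h𝔛.1 (kM h𝔛 𝔉 m) 0

include h𝔉 in
theorem isCoh_piece (m : ℕ) : Coh.IsCoh (piece h𝔛 𝔉 m) := isCoh_sys h𝔛 (isCohF_kM h𝔛 𝔉 h𝔉 m) 0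

include h𝔉 in
theorem isIso_unit (m : ℕ) : IsIso ((FSch.levelMor 𝔛 h𝔛.1 0).adj.unit.app (kM h𝔛 𝔉 m)) := by
  have hb := TorsPushCoh.ηk_bijective h𝔛 (isCohF_kM h𝔛 𝔉 h𝔉 m) (killed_kM h𝔛 𝔉 h𝔉 m)
  haveI : Mono ((FSch.levelMor 𝔛 h𝔛.1 0).adj.unit.app (kM h𝔛 𝔉 m)) := mono_of_injective _ fun W => (hb W).1
  haveI : Epi ((FSch.levelMor 𝔛 h𝔛.1 0).adj.unit.app (kM h𝔛 𝔉 m)) := ⟨fun g g' h => mod_hom_ext fun W z => by
    obtain ⟨y, hy⟩ := (hb W).2 z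
    rw [← show apm ((FSch.levelMor 𝔛 h𝔛.1 0).adj.unit.app (kM h𝔛 𝔉 m)).val W y = z from hy]
    exact congrArg (fun ψ : kM h𝔛 𝔉 m ⟶ _ => apm (SheafOfModules.Hom.val ψ) W y) h⟩
  exact isIso_of_mono_of_epi _

/-- The inclusion of the graded piece. -/
noncomputable def incl (m : ℕ) : (FormalReal.push h𝔛.1 0).obj (piece h𝔛 𝔉 m) ⟶ levM h𝔛 𝔉 (m + 1) :=
  haveI := isIso_unit h𝔛 𝔉 h𝔉 m
  inv ((FSch.levelMor 𝔛 h𝔛.1 0).adj.unit.app (kM h𝔛 𝔉 m)) ≫ kernel.ι _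

variable (U : (𝔛.X 0).Opens)

theorem lvU_img (W : U.toScheme.Opens) : 𝔛.lvU h𝔛.1 0 (img (T := (𝔛.X 0).toTopCat) U W) = U.ι ''ᵁ W := by
  rw [e0 h𝔛]
  ext x
  rfl

/-- Restriction to the open subscheme and to the open subspace agree. -/
noncomputable def rIso (N : (𝔛.X 0).Modules) :
    Coh.toAb (N.restrict U.ι) ≅ restrAb (T := (𝔛.X 0).toTopCat) U ((FormalReal.push h𝔛.1 0).obj N) where
  hom := ⟨{ app := fun W => AddCommGrpCat.ofHom (show Γ(N, U.ι ''ᵁ W.unop) →+ Γ(N, 𝔛.lvU h𝔛.1 0 (img (T := (𝔛.X 0).toTopCat) U W.unop)) from res N (lvU_img h𝔛 U W.unop).le)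
            naturality := fun W W' i => AddCommGrpCat.hom_ext (AddMonoidHom.ext fun x => by
              have hle : U.ι ''ᵁ W'.unop ≤ U.ι ''ᵁ W.unop := U.ι.image_mono (leOfHom i.unop)
              show res N (lvU_img h𝔛 U W'.unop).le (res N hle (show Γ(N, U.ι ''ᵁ W.unop) from x)) =
                res N (((lvU_img h𝔛 U W'.unop).le.trans hle).trans (lvU_img h𝔛 U W.unop).ge)
                  (res N (lvU_img h𝔛 U W.unop).le (show Γ(N, U.ι ''ᵁ W.unop) from x))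
              rw [res_res, res_res]) }⟩
  inv := ⟨{ app := fun W => AddCommGrpCat.ofHom (show Γ(N, 𝔛.lvU h𝔛.1 0 (img (T := (𝔛.X 0).toTopCat) U W.unop)) →+ Γ(N, U.ι ''ᵁ W.unop) from res N (lvU_img h𝔛 U W.unop).ge)
            naturality := fun W W' i => AddCommGrpCat.hom_ext (AddMonoidHom.ext fun x => by
              have hle : U.ι ''ᵁ W'.unop ≤ U.ι ''ᵁ W.unop := U.ι.image_mono (leOfHom i.unop)
              show res N (lvU_img h𝔛 U W'.unop).ge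
                  (res N (((lvU_img h𝔛 U W'.unop).le.trans hle).trans (lvU_img h𝔛 U W.unop).ge)
                    (show Γ(N, 𝔛.lvU h𝔛.1 0 (img (T := (𝔛.X 0).toTopCat) U W.unop)) from x)) =
                res N hle (res N (lvU_img h𝔛 U W.unop).ge (show Γ(N, 𝔛.lvU h𝔛.1 0 (img (T := (𝔛.X 0).toTopCat) U W.unop)) from x))
              rw [res_res, res_res]) }⟩
  hom_inv_id := by
    refine Sheaf.hom_ext (NatTrans.ext (funext fun W => AddCommGrpCat.hom_ext (AddMonoidHom.ext fun x => ?_)))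
    exact (res_res N _ _ _).trans (res_self N _)
  inv_hom_id := by
    refine Sheaf.hom_ext (NatTrans.ext (funext fun W => AddCommGrpCat.hom_ext (AddMonoidHom.ext fun x => ?_)))
    exact (res_res N _ _ _).trans (res_self N _)

/-- Sections of the structure sheaf of the formal scheme, over the subspace, on the open subscheme. -/
noncomputable def rU (W : U.toScheme.Opens) : RS h𝔛.1 (img (T := (𝔛.X 0).toTopCat) U W) →+* Γ(U.toScheme, W) :=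
  ((resFun (𝔛.X 0) (lvU_img h𝔛 U W).ge : Γ(𝔛.X 0, _) →+* Γ(𝔛.X 0, U.ι ''ᵁ W)).comp
    ((𝔛.OshProj h𝔛.1 0).hom.app (op (img (T := (𝔛.X 0).toTopCat) U W))).hom)

theorem rU_surjective (W : U.toScheme.Opens) (hW : IsAffineOpen (img (T := (𝔛.X 0).toTopCat) U W)) :
    Function.Surjective (rU h𝔛 U W) := fun y => by
  obtain ⟨a, ha⟩ := ((FormalLevels.adic h𝔛 hW).2.1 0).1
    (resFun (𝔛.X 0) (lvU_img h𝔛 U W).le (show Γ(𝔛.X 0, U.ι ''ᵁ W) from y))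
  refine ⟨a, ?_⟩
  show resFun _ _ ((𝔛.OshProj h𝔛.1 0).hom.app (op (img (T := (𝔛.X 0).toTopCat) U W)) a) = _
  rw [ha]
  exact (Groth.QCohMod.resFun_resFun _ _ _).trans (Groth.QCohMod.resFun_self _)

theorem rIso_smul (N : (𝔛.X 0).Modules) (W : U.toScheme.Opens)
    (a : RS h𝔛.1 (img (T := (𝔛.X 0).toTopCat) U W)) (x : Γ(N.restrict U.ι, W)) :
    (rIso h𝔛 U N).hom.hom.app (op W) (rU h𝔛 U W a • x) =
      a • (show sc ((FormalReal.push h𝔛.1 0).obj N).val (img (T := (𝔛.X 0).toTopCat) U W) from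
        (rIso h𝔛 U N).hom.hom.app (op W) x) := by
  refine (pushEquiv 0 N _).injective ?_
  refine Eq.trans ?_ (pushEquiv_smul 0 N _ a _).symm
  show res N _ ((show Γ(U.toScheme, W) from _) • (show Γ(N.restrict U.ι, W) from x)) = _
  rw [FormalPull.restrict_smul]
  refine (res_smul N _ _ _).trans (congrArg (· • _) ?_)
  exact (Groth.QCohMod.resFun_resFun _ _ _).trans (Groth.QCohMod.resFun_self _)

include h𝔉 in
/-- The graded piece on the open subscheme is the kernel of the transition on the subspace. -/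
noncomputable def κ (m : ℕ) :
    Coh.toAb ((piece h𝔛 𝔉 m).restrict U.ι) ≅ ExtTower.K (pk h𝔛 𝔉 U) m :=
  haveI := isIso_unit h𝔛 𝔉 h𝔉 m
  rIso h𝔛 U (piece h𝔛 𝔉 m) ≪≫
    (SheafOfModules.toSheaf _ ⋙ CohTop.restrFunctor (X := (𝔛.X 0).toTopCat) U).mapIso
      (asIso ((FSch.levelMor 𝔛 h𝔛.1 0).adj.unit.app (kM h𝔛 𝔉 m))).symm ≪≫
    PreservesKernel.iso (SheafOfModules.toSheaf _ ⋙ CohTop.restrFunctor (X := (𝔛.X 0).toTopCat) U)
      (FSch.levelTrans 𝔛 h𝔛.1 𝔉 m)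

theorem κ_ι (m : ℕ) :
    (κ h𝔛 𝔉 h𝔉 U m).hom ≫ kernel.ι (pk h𝔛 𝔉 U m) =
      (rIso h𝔛 U (piece h𝔛 𝔉 m)).hom ≫ restrMap (T := (𝔛.X 0).toTopCat) U (incl h𝔛 𝔉 h𝔉 m) := by
  haveI := isIso_unit h𝔛 𝔉 h𝔉 m
  simp only [κ, Iso.trans_hom, Category.assoc, PreservesKernel.iso_hom]
  refine congrArg (_ ≫ ·) ?_
  rw [show kernel.ι (pk h𝔛 𝔉 U m) = kernel.ι ((SheafOfModules.toSheaf _ ⋙
    CohTop.restrFunctor (X := (𝔛.X 0).toTopCat) U).map (FSch.levelTrans 𝔛 h𝔛.1 𝔉 m)) from rfl]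
  rw [kernelComparison_comp_ι]
  exact ((SheafOfModules.toSheaf _ ⋙ CohTop.restrFunctor (X := (𝔛.X 0).toTopCat) U).map_comp _ _).symm

/-- A section of the graded piece in the next level. -/
noncomputable def secLev (m : ℕ) (W : U.toScheme.Opens) :
    Γ((piece h𝔛 𝔉 m).restrict U.ι, W) →+ sc (levM h𝔛 𝔉 (m + 1)).val (img (T := (𝔛.X 0).toTopCat) U W) :=
  (((κ h𝔛 𝔉 h𝔉 U m).hom ≫ kernel.ι (pk h𝔛 𝔉 U m)).hom.app (op W)).hom

theorem secLev_smul (m : ℕ) (W : U.toScheme.Opens) (a : RS h𝔛.1 (img (T := (𝔛.X 0).toTopCat) U W))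
    (x : Γ((piece h𝔛 𝔉 m).restrict U.ι, W)) :
    secLev h𝔛 𝔉 h𝔉 U m W (rU h𝔛 U W a • x) = a • secLev h𝔛 𝔉 h𝔉 U m W x := by
  have h1 : ∀ z, secLev h𝔛 𝔉 h𝔉 U m W z = apm (incl h𝔛 𝔉 h𝔉 m).val (img (T := (𝔛.X 0).toTopCat) U W)
      ((rIso h𝔛 U (piece h𝔛 𝔉 m)).hom.hom.app (op W) z) := fun z => by
    rw [secLev, κ_ι]
    rfl
  rw [h1, h1, rIso_smul, map_smul]

theorem secLev_injective (m : ℕ) (W : U.toScheme.Opens) : Function.Injective (secLev h𝔛 𝔉 h𝔉 U m W) := by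
  haveI : Mono ((κ h𝔛 𝔉 h𝔉 U m).hom ≫ kernel.ι (pk h𝔛 𝔉 U m)) := mono_comp _ _
  haveI : Mono ((κ h𝔛 𝔉 h𝔉 U m).hom ≫ kernel.ι (pk h𝔛 𝔉 U m)).hom :=
    inferInstanceAs (Mono ((sheafToPresheaf _ AddCommGrpCat.{u}).map ((κ h𝔛 𝔉 h𝔉 U m).hom ≫ kernel.ι _)))
  exact (AddCommGrpCat.mono_iff_injective _).mp ((NatTrans.mono_iff_mono_app _).mp inferInstance _)

theorem trans_secLev (m : ℕ) (W : U.toScheme.Opens) (x : Γ((piece h𝔛 𝔉 m).restrict U.ι, W)) :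
    apm (FSch.levelTrans 𝔛 h𝔛.1 𝔉 m).val (img (T := (𝔛.X 0).toTopCat) U W) (secLev h𝔛 𝔉 h𝔉 U m W x) = 0 := by
  have h : ((κ h𝔛 𝔉 h𝔉 U m).hom ≫ kernel.ι (pk h𝔛 𝔉 U m)) ≫ pk h𝔛 𝔉 U m = 0 := by
    rw [Category.assoc, kernel.condition, comp_zero]
  exact ConcreteCategory.congr_hom (congrArg (fun ψ => ψ.hom.app (op W)) h) x

theorem exists_secLev (m : ℕ) (W : U.toScheme.Opens)
    (y : sc (levM h𝔛 𝔉 (m + 1)).val (img (T := (𝔛.X 0).toTopCat) U W))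
    (hy : apm (FSch.levelTrans 𝔛 h𝔛.1 𝔉 m).val _ y = 0) : ∃ x, secLev h𝔛 𝔉 h𝔉 U m W x = y := by
  have hker : ∀ (z : (FU h𝔛 𝔉 U (m + 1)).obj.obj (op W)), (pk h𝔛 𝔉 U m).hom.app (op W) z = 0 →
      ∃ x, ((κ h𝔛 𝔉 h𝔉 U m).hom ≫ kernel.ι (pk h𝔛 𝔉 U m)).hom.app (op W) x = z := fun z hz => by
    obtain ⟨w, hw⟩ := TopCat.Sheaf.sections_exact_of_left_exact
      (S := ShortComplex.mk (kernel.ι (pk h𝔛 𝔉 U m)) (pk h𝔛 𝔉 U m) (kernel.condition _))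
      (ShortComplex.exact_of_f_is_kernel _ (kernelIsKernel _)) inferInstance z hz
    refine ⟨(κ h𝔛 𝔉 h𝔉 U m).inv.hom.app (op W) w, ?_⟩
    have e := ConcreteCategory.congr_hom (congrArg (fun ψ => ψ.hom.app (op W)) (κ h𝔛 𝔉 h𝔉 U m).inv_hom_id) w
    exact (congrArg ((kernel.ι (pk h𝔛 𝔉 U m)).hom.app (op W)) e).trans hw
  exact hker y hy

end Groth.AdicLinTop.GradedPieces
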