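import Groth.Agent.AdicLinTop.GradedGen
import Groth.Agent.AdicLinTop.FinitePush

/-!
# Cohomology of the levels over the preimage of an affine open of the base
-/

set_option autoImplicit false

universe u

open CategoryTheory CategoryTheory.Limits AlgebraicGeometry TopologicalSpace Opposite

set_option backward.defeqAttrib.useBackward true
set_option backward.isDefEq.respectTransparency false
set_option backward.isDefEq.respectTransparency.types false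
set_option synthInstance.maxHeartbeats 400000
set_option maxHeartbeats 800000

namespace Groth.AdicLinTop.GradedSetup

open Groth.SitesTopoi.ModH Groth.AdicLinTop.SpacePres Groth.AdicLinTop.FormalAffine Groth.AdicLinTop.FormalReal
open Groth.AdicLinTop.FinitePush Groth.AdicLinTop.FormalLevels
open Groth.AdicLinTop.RestrAct Groth.AdicLinTop.FormalTower Groth.AdicLinTop.GradedPieces

variable {𝔛 𝔜 : FSch.Sys.{u}} (f : 𝔛 ⟶ 𝔜) (h𝔛 : 𝔛.IsLocNoethFormal) (h𝔜 : 𝔜.IsLocNoethFormal)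
  {V : (𝔜.X 0).Opens}

theorem shp_mem_idl {a : RS h𝔜.1 V} (ha : a ∈ idl h𝔜.1 V) : shp f h𝔛 h𝔜 V a ∈ idl h𝔛.1 (pre f V) := by
  rw [RingHom.mem_ker]
  refine (projR_shp f h𝔛 h𝔜 0 V a).trans ?_
  rw [show projR 0 V a = 0 from ha, map_zero]

variable (hf : FSch.IsAdicHom f)

include hf in
/-- Along an adic morphism the ideal of definition is generated by that of the base. -/
theorem idl_le_map (hV : IsAffineOpen V) {W : (𝔛.X 0).Opens} (hW : IsAffineOpen W) (e : W ≤ pre f V) :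
    idl h𝔛.1 W ≤ (idl h𝔜.1 V).map ((resR h𝔛.1 e).comp (shp f h𝔛 h𝔜 V)) := by
  obtain ⟨hcW, hpW, hfgW⟩ := FormalLevels.adic h𝔛 hW
  obtain ⟨-, hpV, -⟩ := FormalLevels.adic h𝔜 hV
  refine Submodule.le_of_le_smul_of_le_jacobson_bot hfgW
    (IsAdicComplete.le_jacobson_bot (idl h𝔛.1 W)) fun b hb => ?_
  have := (h𝔛.1 0).1
  have := (h𝔜.1 0).1
  let VV : (𝔜.X (0 + 1)).affineOpens := ⟨_, isAffineOpen_lvU h𝔜.1 hV (0 + 1)⟩
  let WW : (𝔛.X (0 + 1)).affineOpens := ⟨_, isAffineOpen_lvU h𝔛.1 hW (0 + 1)⟩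
  have hle : 𝔛.lvU h𝔛.1 (0 + 1) W ≤ (f : FSch.Hom 𝔛 𝔜).app (0 + 1) ⁻¹ᵁ 𝔜.lvU h𝔜.1 (0 + 1) V :=
    (lvU_mono h𝔛.1 (0 + 1) e).trans (FSch.Hom.lvU_preimage f h𝔛.1 h𝔜.1 (0 + 1) V).ge
  have hb1 : projR (0 + 1) W b ∈ (𝔛.ι 0).ker.ideal WW := by
    rw [← ker_appLE_eq (𝔛.ι 0) WW _ (𝔛.lvU_le h𝔛.1 0 _) (𝔛.lvU_succ h𝔛.1 0 _).le, RingHom.mem_ker]
    exact (OshProj_levelMap_apply h𝔛.1 _ 0 b).trans hb
  rw [Thickenings.ker_eq_comap_of_isPullback (hf 0), Groth.BlowUpBasics.ideal_comap _ _ VV WW hle] at hb1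
  have hid : (𝔜.ι 0).ker.ideal VV = (idl h𝔜.1 V).map ((𝔜.OshProj h𝔜.1 (0 + 1)).hom.app (op V)).hom := by
    rw [← ker_appLE_eq (𝔜.ι 0) VV _ (𝔜.lvU_le h𝔜.1 0 V) (𝔜.lvU_succ h𝔜.1 0 V).le]
    refine le_antisymm (fun x hx => ?_) ?_
    · obtain ⟨a, rfl⟩ := (hpV (0 + 1)).1 x
      exact Ideal.mem_map_of_mem _ ((OshProj_levelMap_apply h𝔜.1 V 0 a).symm.trans hx)
    · exact Ideal.map_le_iff_le_comap.2 fun a ha => (OshProj_levelMap_apply h𝔜.1 V 0 a).trans ha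
  rw [hid] at hb1
  have hcomp : (((f : FSch.Hom 𝔛 𝔜).app (0 + 1)).appLE (𝔜.lvU h𝔜.1 (0 + 1) V) (𝔛.lvU h𝔛.1 (0 + 1) W) hle).hom.comp
      ((𝔜.OshProj h𝔜.1 (0 + 1)).hom.app (op V)).hom =
      ((𝔛.OshProj h𝔛.1 (0 + 1)).hom.app (op W)).hom.comp ((resR h𝔛.1 e).comp (shp f h𝔛 h𝔜 V)) :=
    RingHom.ext fun a => by
      refine Eq.trans ?_ (projR_resR (0 + 1) e (shp f h𝔛 h𝔜 V a)).symm
      rw [projR_shp]
      show _ = ((((f : FSch.Hom 𝔛 𝔜).app (0 + 1)).appLE _ _ _ ≫ (𝔛.X (0 + 1)).presheaf.map _).hom) (projR (0 + 1) V a)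
      rw [Scheme.Hom.appLE_map]
      rfl
  obtain ⟨c, hc, hcb⟩ := (Ideal.mem_map_iff_of_surjective _ (hpW (0 + 1)).1).1
    ((map_map_comm hcomp (idl h𝔜.1 V)).le hb1)
  refine Submodule.mem_sup.2 ⟨c, hc, b - c, ?_, add_sub_cancel _ _⟩
  rw [smul_eq_mul, ← pow_two, mem_pow_iff h𝔛 hW 1]
  show projR (0 + 1) W (b - c) = 0
  exact (map_sub _ _ _).trans (sub_eq_zero.2 hcb.symm)

include hf in
theorem hgen (hV : IsAffineOpen V) {r : ℕ} (t : Fin r → RS h𝔜.1 V)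
    (ht : idl h𝔜.1 V = Ideal.span (Set.range t))
    (W : (𝔛.X 0).Opens) (e : W ≤ pre f V) (hW : IsAffineOpen W) :
    idl h𝔛.1 W ≤ Ideal.span (Set.range fun i => resR h𝔛.1 e (shp f h𝔛 h𝔜 V (t i))) := by
  refine (idl_le_map f h𝔛 h𝔜 hf hV hW e).trans ?_
  rw [ht, Ideal.map_span]
  refine le_of_eq (congrArg _ ?_)
  rw [← Set.range_comp]
  rfl

variable (hV : IsAffineOpen V)

/-- The structure morphism of the preimage over the sections of the structure sheaf of the base. -/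
noncomputable def struct : (pre f V).toScheme ⟶ Spec (CommRingCat.of (RS h𝔜.1 V)) :=
  ((f : FSch.Hom 𝔛 𝔜).app 0 ∣_ V) ≫ hV.isoSpec.hom ≫
    Spec.map (CommRingCat.ofHom (r0 h𝔜 V) : CommRingCat.of (RS h𝔜.1 V) ⟶ Γ(𝔜.X 0, V))

theorem isProper_struct [IsProper ((f : FSch.Hom 𝔛 𝔜).app 0)] : IsProper (struct f h𝔜 hV) := by
  haveI : IsClosedImmersion (Spec.map (CommRingCat.ofHom (r0 h𝔜 V) : CommRingCat.of (RS h𝔜.1 V) ⟶ Γ(𝔜.X 0, V))) :=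
    IsClosedImmersion.spec_of_surjective _ (r0_surjective h𝔜 hV)
  haveI : IsProper ((f : FSch.Hom 𝔛 𝔜).app 0 ∣_ V) := IsZariskiLocalAtTarget.restrict ‹_› _
  unfold struct
  infer_instance

theorem r0_shp (a : RS h𝔜.1 V) :
    r0 h𝔛 (pre f V) (shp f h𝔛 h𝔜 V a) =
      ((f : FSch.Hom 𝔛 𝔜).app 0).app V (r0 h𝔜 V a) := by
  show Groth.QCohMod.resFun (𝔛.X 0) (e0 h𝔛 (pre f V)).ge (projR 0 (pre f V) (shp f h𝔛 h𝔜 V a)) =
    ((f : FSch.Hom 𝔛 𝔜).app 0).app V (Groth.QCohMod.resFun (𝔜.X 0) (e0 h𝔜 V).ge (projR 0 V a))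
  rw [projR_shp]
  show ((((f : FSch.Hom 𝔛 𝔜).app 0).appLE _ _ _ ≫ (𝔛.X 0).presheaf.map (homOfLE (e0 h𝔛 (pre f V)).ge).op).hom) (projR 0 V a) =
    (((𝔜.X 0).presheaf.map (homOfLE (e0 h𝔜 V).ge).op ≫ ((f : FSch.Hom 𝔛 𝔜).app 0).app V).hom) (projR 0 V a)
  rw [Scheme.Hom.appLE_map, Scheme.Hom.app_eq_appLE, Scheme.Hom.map_appLE]

theorem struct_eq :
    struct f h𝔜 hV = (pre f V).toSpecΓ ≫
      Spec.map (CommRingCat.ofHom (r0 h𝔜 V) ≫ ((f : FSch.Hom 𝔛 𝔜).app 0).app V :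
        CommRingCat.of (RS h𝔜.1 V) ⟶ Γ(𝔛.X 0, pre f V)) := by
  unfold struct
  rw [IsAffineOpen.isoSpec_hom, ← Category.assoc, ← Scheme.Opens.toSpecΓ_naturality, Category.assoc, ← Spec.map_comp]

theorem toGlobal_struct (a : RS h𝔜.1 V) :
    Coh.toGlobal (struct f h𝔜 hV) a =
      (show Coh.Γtop (pre f V).toScheme from
        FormalPull.topRing (pre f V) (((f : FSch.Hom 𝔛 𝔜).app 0).app V (r0 h𝔜 V a))) := by
  rw [struct_eq]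
  let ψ : CommRingCat.of (RS h𝔜.1 V) ⟶ Γ(𝔛.X 0, pre f V) :=
    CommRingCat.ofHom (r0 h𝔜 V) ≫ ((f : FSch.Hom 𝔛 𝔜).app 0).app V
  show ((Scheme.ΓSpecIso _).inv ≫ ((pre f V).toSpecΓ ≫ Spec.map ψ).appTop).hom a = (ψ ≫ (pre f V).topIso.inv).hom a
  refine congrArg (fun z : CommRingCat.of (RS h𝔜.1 V) ⟶ Γ((pre f V).toScheme, ⊤) => z.hom a) ?_
  rw [Scheme.Hom.comp_appTop, ← Category.assoc, ← Scheme.ΓSpecIso_inv_naturality, Category.assoc,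
    Scheme.Opens.toSpecΓ_appTop, Iso.inv_hom_id_assoc]

theorem hover (a : RS h𝔜.1 V) (W : (pre f V).toScheme.Opens) :
    (show Γ((pre f V).toScheme, W) from Coh.resTop (pre f V).toScheme (op W)
      (Coh.toGlobal (struct f h𝔜 hV) a)) =
    rU h𝔛 (pre f V) W (rr (img_le (T := (𝔛.X 0).toTopCat) (pre f V) W) (shp f h𝔛 h𝔜 V a)) := by
  rw [toGlobal_struct f h𝔜 hV, ← r0_shp f h𝔛 h𝔜]
  set b := shp f h𝔛 h𝔜 V a
  show Groth.QCohMod.resFun (𝔛.X 0) ((pre f V).ι.image_mono le_top)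
      (Groth.QCohMod.resFun (𝔛.X 0) (pre f V).ι_image_top.le
        (Groth.QCohMod.resFun (𝔛.X 0) (e0 h𝔛 (pre f V)).ge (projR 0 (pre f V) b))) =
    Groth.QCohMod.resFun (𝔛.X 0) (lvU_img h𝔛 (pre f V) W).ge
      (projR 0 (img (T := (𝔛.X 0).toTopCat) (pre f V) W) (resR h𝔛.1 (img_le (T := (𝔛.X 0).toTopCat) (pre f V) W) b))
  rw [projR_resR]
  show _ = Groth.QCohMod.resFun (𝔛.X 0) _ (Groth.QCohMod.resFun (𝔛.X 0) _ (projR 0 (pre f V) b))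
  simp only [Groth.QCohMod.resFun_resFun]

/-- The data of the tower over the preimage. -/
abbrev D {𝔉 : FSch.ModF 𝔛 h𝔛.1} (h𝔉 : FSch.IsCohF 𝔛 h𝔛.1 𝔉) {r : ℕ} {t : Fin r → RS h𝔜.1 V}
    (ht : ∀ i, t i ∈ idl h𝔜.1 V) :=
  GradedGen.D (U := pre f V) (φ := shp f h𝔛 h𝔜 V) h𝔛 h𝔉 fun i => shp_mem_idl f h𝔛 h𝔜 (ht i)

include hf in
/-- Over the preimage of an affine open the cohomology of the graded pieces is finite and finitely generated. -/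
theorem finGen [IsProper ((f : FSch.Hom 𝔛 𝔜).app 0)] (hV : IsAffineOpen V) {𝔉 : FSch.ModF 𝔛 h𝔛.1}
    (h𝔉 : FSch.IsCohF 𝔛 h𝔛.1 𝔉) {r : ℕ} {t : Fin r → RS h𝔜.1 V} (hspan : idl h𝔜.1 V = Ideal.span (Set.range t))
    (ht : ∀ i, t i ∈ idl h𝔜.1 V) :
    ExtTower.FinGen (Groth.CohBase.constZ (TopCat.of (pre f V))) (D f h𝔛 h𝔜 h𝔉 ht) := by
  letI : (pre f V).toScheme.Over (Spec (CommRingCat.of (RS h𝔜.1 V))) := ⟨struct f h𝔜 hV⟩
  haveI : IsProper ((pre f V).toScheme ↘ Spec (CommRingCat.of (RS h𝔜.1 V))) := isProper_struct f h𝔜 hV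
  haveI := FormalAffine.isNoetherianRing h𝔜 hV
  exact GradedGen.finGen h𝔛 h𝔉 (fun i => shp_mem_idl f h𝔛 h𝔜 (ht i)) (hgen f h𝔛 h𝔜 hf hV t hspan)
    (hover f h𝔛 h𝔜 hV)

end Groth.AdicLinTop.GradedSetup
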