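import Groth.Agent.AdicLinTop.SpanImage

/-!
# The submodule spanned by a submodule and sections over several opens
-/

set_option autoImplicit false

universe u

open CategoryTheory CategoryTheory.Limits Opposite TopologicalSpace

set_option backward.defeqAttrib.useBackward true
set_option backward.isDefEq.respectTransparency false
set_option backward.isDefEq.respectTransparency.types false
set_option synthInstance.maxHeartbeats 400000

namespace Groth.AdicLinTop.SpanFamily

open Groth.SitesTopoi.ModH Groth.Misc4.FreeOn Groth.AdicLinTop.SpacePres Groth.AdicLinTop.CohKer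
open Groth.AdicLinTop.FPSmall (fpProp fp_of_presData)

variable {T : Type u} [TopologicalSpace T] {O : Sheaf (Opens.grothendieckTopology T) CommRingCat.{u}}
  {F : ModSite.Mod O} {U : Opens T}

/-- Near `y`, the section is a combination of the given ones. -/
def LocComb {n : ℕ} (g : Fin n → sc F.val U) {W : Opens T} (hW : W ≤ U) (t : sc F.val W) (y : T) : Prop :=
  ∃ (V : Opens T) (hV : V ≤ W), y ∈ V ∧ ∃ a : Fin n → rsec O V, rm F hV t = ∑ k, a k • rm F (hV.trans hW) (g k)

variable {n : ℕ} {g : Fin n → sc F.val U} {W : Opens T} {hW : W ≤ U} {y : T}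

lemma LocComb.add {t t' : sc F.val W} (h : LocComb g hW t y) (h' : LocComb g hW t' y) :
    LocComb g hW (t + t') y := by
  obtain ⟨V, hV, hy, a, ha⟩ := h
  obtain ⟨V', hV', hy', a', ha'⟩ := h'
  refine ⟨V ⊓ V', inf_le_left.trans hV, ⟨hy, hy'⟩, fun k => rr inf_le_left (a k) + rr inf_le_right (a' k), ?_⟩
  have e := congrArg (rm F (inf_le_left : V ⊓ V' ≤ V)) ha
  have e' := congrArg (rm F (inf_le_right : V ⊓ V' ≤ V')) ha'
  simp only [map_sum, rm_smul, rm_rm] at e e'
  simp only [map_add, e, e', add_smul, Finset.sum_add_distrib]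

lemma LocComb.smul {t : sc F.val W} (r : rsec O W) (h : LocComb g hW t y) : LocComb g hW (r • t) y := by
  obtain ⟨V, hV, hy, a, ha⟩ := h
  refine ⟨V, hV, hy, fun k => rr hV r * a k, ?_⟩
  rw [rm_smul, ha, Finset.smul_sum]
  simp only [mul_smul]

lemma LocComb.zero (hy : y ∈ W) : LocComb g hW (0 : sc F.val W) y :=
  ⟨W, le_rfl, hy, 0, by simp⟩

lemma LocComb.self (hy : y ∈ W) (k : Fin n) : LocComb g hW (rm F hW (g k)) y := by
  classical
  exact ⟨W, le_rfl, hy, Pi.single k 1, by simp [rm_rm, Pi.single_apply]⟩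

lemma LocComb.of_restrict {W' : Opens T} (h : W' ≤ W) {t : sc F.val W}
    (ht : LocComb g (h.trans hW) (rm F h t) y) : LocComb g hW t y := by
  obtain ⟨V, hV, hy, a, ha⟩ := ht
  exact ⟨V, hV.trans h, hy, a, (rm_rm F h hV t).symm.trans ha⟩

lemma LocComb.sum {m : ℕ} (hy : y ∈ W) (c : Fin m → rsec O W) (t : Fin m → sc F.val W)
    (h : ∀ i, LocComb g hW (t i) y) : LocComb g hW (∑ i, c i • t i) y :=
  Finset.sum_induction _ (fun t => LocComb g hW t y) (fun _ _ => LocComb.add) (LocComb.zero hy)
    fun i _ => (h i).smul (c i)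

variable {ι : Type u} (V : ι → Opens T)

/-- The presheaf of sets of a family of opens. -/
def famPresheaf : (Opens T)ᵒᵖ ⥤ Type u where
  obj W := Σ i, (W.unop ⟶ V i)
  map f := ↾fun e => ⟨e.1, f.unop ≫ e.2⟩

/-- The free presheaf on a family of opens. -/
noncomputable abbrev freeFam (O : Sheaf (Opens.grothendieckTopology T) CommRingCat.{u}) : PM O :=
  PresheafOfModules.freeObj (R := O.obj ⋙ forget₂ CommRingCat.{u} RingCat.{u}) (famPresheaf V)

variable {V} (s : ∀ i, sc F.val (V i))

/-- The map from the free presheaf given by sections. -/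
noncomputable def descFam : freeFam V O ⟶ F.val :=
  PresheafOfModules.freeObjDesc
    { app := fun W => ↾fun e => rsm F.val e.2 (s e.1)
      naturality := fun W W' f => by
        ext e
        exact (rsm_rsm F.val e.2 f.unop (s e.1)).symm }

lemma apm_descFam_gen {W : Opens T} (i : ι) (h : W ≤ V i) :
    apm (descFam s) W (ModuleCat.freeMk (X := (famPresheaf V).obj (op W)) ⟨i, homOfLE h⟩) = rm F h (s i) :=
  ModuleCat.freeDesc_apply _ _

lemma apm_descFam_mem {W : Opens T} (y : sc (freeFam V O) W) :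
    apm (descFam s) W y ∈ Submodule.span (rsec O W) {z | ∃ (i : ι) (h : W ≤ V i), z = rm F h (s i)} := by
  classical
  let y' : (famPresheaf V).obj (op W) →₀ rsec O W := y
  rw [show y = y' from rfl]
  induction y' using Finsupp.induction_linear with
  | zero => exact (map_zero (apm (descFam s) W)).symm ▸ Submodule.zero_mem _
  | add a b ha hb => exact (map_add (apm (descFam s) W) a b).symm ▸ Submodule.add_mem _ ha hb
  | single e r =>
    have e1 : (Finsupp.single e r : (famPresheaf V).obj (op W) →₀ rsec O W) =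
        r • (ModuleCat.freeMk (X := (famPresheaf V).obj (op W)) ⟨e.1, homOfLE e.2.le⟩ : sc (freeFam V O) W) := by
      show _ = r • (Finsupp.single (⟨e.1, homOfLE e.2.le⟩ : (famPresheaf V).obj (op W)) 1 :
        (famPresheaf V).obj (op W) →₀ rsec O W)
      rw [Finsupp.smul_single', mul_one]
      rfl
    rw [e1, map_smul, apm_descFam_gen]
    exact Submodule.smul_mem _ _ (Submodule.subset_span ⟨e.1, e.2.le, rfl⟩)

/-- The map given by sections. -/
noncomputable def mapFam : (aP O).obj (freeFam V O) ⟶ F := ((adjP O).homEquiv _ _).symm (descFam s)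

lemma apm_mapFam_eta {W : Opens T} (y : sc (freeFam V O) W) :
    apm (mapFam s).val W (apm (etaP (freeFam V O)) W y) = apm (descFam s) W y :=
  congrArg (fun k => apm k W y)
    (((adjP O).homEquiv_unit (f := mapFam s)).symm.trans (Equiv.apply_symm_apply _ _))

variable {C' : ModSite.Mod O} (j : C' ⟶ F)

/-- The submodule spanned by the image of `j` and the sections. -/
noncomputable abbrev spanSub : ModSite.Mod O := Abelian.image (biprod.desc j (mapFam s))

lemma exists_sec_left {W : Opens T} (c : sc C'.val W) :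
    ∃ t : sc (spanSub s j).val W, apm (Abelian.image.ι (biprod.desc j (mapFam s))).val W t = apm j.val W c := by
  refine ⟨apm (biprod.inl ≫ Abelian.factorThruImage (biprod.desc j (mapFam s))).val W c, ?_⟩
  exact congrArg (fun k : C' ⟶ F => apm k.val W c)
    (show (biprod.inl ≫ Abelian.factorThruImage (biprod.desc j (mapFam s))) ≫ Abelian.image.ι _ = j by
      rw [Category.assoc, Abelian.image.fac, biprod.inl_desc])

lemma exists_sec_right {W : Opens T} (i : ι) (h : W ≤ V i) :
    ∃ t : sc (spanSub s j).val W, apm (Abelian.image.ι (biprod.desc j (mapFam s))).val W t = rm F h (s i) := by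
  refine ⟨apm (biprod.inr ≫ Abelian.factorThruImage (biprod.desc j (mapFam s))).val W
    (apm (etaP (freeFam V O)) W (ModuleCat.freeMk (X := (famPresheaf V).obj (op W)) ⟨i, homOfLE h⟩)), ?_⟩
  refine Eq.trans (congrArg (fun k : (aP O).obj (freeFam V O) ⟶ F => apm k.val W
    (apm (etaP (freeFam V O)) W (ModuleCat.freeMk (X := (famPresheaf V).obj (op W)) ⟨i, homOfLE h⟩)))
    (show (biprod.inr ≫ Abelian.factorThruImage (biprod.desc j (mapFam s))) ≫ Abelian.image.ι _ = mapFam s by
      rw [Category.assoc, Abelian.image.fac, biprod.inr_desc])) ?_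
  rw [apm_mapFam_eta, apm_descFam_gen]

/-- If near `U` everything is a combination of finitely many of the sections, the span is generated there. -/
theorem nonempty_genData_spanSub {n₁ n₂ : ℕ} (p : Fin n₁ → ι) (hp : ∀ k, U ≤ V (p k))
    (c : Fin n₂ → sc C'.val U)
    (hC : ∀ (W : Opens T) (hW : W ≤ U) (z : sc C'.val W), ∀ y ∈ W,
      LocComb (Fin.append (fun k => rm F (hp k) (s (p k))) fun k => apm j.val U (c k)) hW (apm j.val W z) y)
    (hS : ∀ (i : ι), ∀ y ∈ V i ⊓ U,
      LocComb (Fin.append (fun k => rm F (hp k) (s (p k))) fun k => apm j.val U (c k))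
        (inf_le_right : V i ⊓ U ≤ U) (rm F inf_le_left (s i)) y) :
    Nonempty (GenData (spanSub s j) U (n₁ + n₂)) := by
  classical
  let g := Fin.append (fun k => rm F (hp k) (s (p k))) fun k => apm j.val U (c k)
  have hg : ∀ k, ∃ t : sc (spanSub s j).val U, apm (Abelian.image.ι (biprod.desc j (mapFam s))).val U t = g k :=
    fun k => Fin.addCases (fun k => by simpa [g] using exists_sec_right s j (p k) (hp k))
      (fun k => by simpa [g] using exists_sec_left s j (c k)) k
  choose S hS' using hg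
  refine ⟨{ s := S, gen := fun W hW t y hy => ?_ }⟩
  obtain ⟨R, hR, hR'⟩ := locSurj_of_epi (Abelian.factorThruImage (biprod.desc j (mapFam s))) W t
  obtain ⟨W₁, hW₁, hy₁, hRW⟩ := exists_nhd_of_mem hR hy
  obtain ⟨z, hz⟩ := hR' (homOfLE hW₁) hRW
  obtain ⟨R', hR₁, hR₁'⟩ := locSurj_etaP (freeFam V O) W₁ (apm (biprod.snd (X := C')).val W₁ z)
  obtain ⟨W₂, hW₂, hy₂, hRW₂⟩ := exists_nhd_of_mem hR₁ hy₁
  obtain ⟨f, hf⟩ := hR₁' (homOfLE hW₂) hRW₂
  have hW₂U : W₂ ≤ U := (hW₂.trans hW₁).trans hW
  have hspan : LocComb g hW₂U (apm (descFam s) W₂ f) y := by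
    refine Submodule.span_induction (p := fun z _ => LocComb g hW₂U z y) ?_ (LocComb.zero hy₂)
      (fun _ _ _ _ => LocComb.add) (fun r _ _ h => h.smul r) (apm_descFam_mem s f)
    rintro _ ⟨i, h, rfl⟩
    have hy' : y ∈ V i ⊓ U := ⟨h hy₂, hW₂U hy₂⟩
    obtain ⟨W₃, hW₃, hy₃, a, ha⟩ := hS i y hy'
    refine ⟨W₃ ⊓ W₂, inf_le_right, ⟨hy₃, hy₂⟩, fun k => rr inf_le_left (a k), ?_⟩
    have e := congrArg (rm F (inf_le_left : W₃ ⊓ W₂ ≤ W₃)) ha
    simp only [map_sum, rm_smul, rm_rm] at e
    rw [rm_rm]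
    exact e
  have hleft : LocComb g hW₂U (apm j.val W₂ (rm C' hW₂ (apm (biprod.fst (Y := (aP O).obj (freeFam V O))).val W₁ z))) y :=
    hC W₂ hW₂U _ y hy₂
  have htot : apm j.val W₂ (rm C' hW₂ (apm (biprod.fst (Y := (aP O).obj (freeFam V O))).val W₁ z)) +
      apm (descFam s) W₂ f =
        rm F (hW₂.trans hW₁) (apm (Abelian.image.ι (biprod.desc j (mapFam s))).val W t) := by
    have h1 : apm (biprod.desc j (mapFam s)).val W₁ z =
        rm F hW₁ (apm (Abelian.image.ι (biprod.desc j (mapFam s))).val W t) := by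
      refine (congrArg (fun k : C' ⊞ (aP O).obj (freeFam V O) ⟶ F => apm k.val W₁ z)
        (Abelian.image.fac (biprod.desc j (mapFam s)))).symm.trans ?_
      exact (congrArg (apm (Abelian.image.ι (biprod.desc j (mapFam s))).val W₁) hz).trans (apm_rsm _ _ _)
    rw [← rm_rm F hW₁ hW₂, ← h1, ← apm_mapFam_eta, hf]
    have h2 : apm (biprod.desc j (mapFam s)).val W₁ z =
        apm j.val W₁ (apm (biprod.fst (Y := (aP O).obj (freeFam V O))).val W₁ z) +
          apm (mapFam s).val W₁ (apm (biprod.snd (X := C')).val W₁ z) :=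
      congrArg (fun k : C' ⊞ (aP O).obj (freeFam V O) ⟶ F => apm k.val W₁ z) biprod.desc_eq
    rw [h2, map_add]
    congr 1
    · exact apm_rsm _ _ _
    · exact apm_rsm _ _ _
  have hfin := LocComb.of_restrict (t := apm (Abelian.image.ι (biprod.desc j (mapFam s))).val W t) (hW := hW)
    (hW₂.trans hW₁) (htot ▸ hleft.add hspan)
  obtain ⟨W₄, hW₄, hy₄, a, ha⟩ := hfin
  refine ⟨W₄, hW₄, hy₄, a, injective_of_mono (Abelian.image.ι (biprod.desc j (mapFam s))) W₄ ?_⟩
  rw [map_sum]
  refine (apm_rsm _ _ _).trans (ha.trans (Finset.sum_congr rfl fun k _ => ?_))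
  rw [map_smul]
  refine congrArg (a k • ·) ?_
  rw [← hS' k]
  exact (apm_rsm _ _ _).symm

/-- Locally generated modules with locally finitely generated relations are finitely presented. -/
theorem fp_of_relFin {M : ModSite.Mod O} (hR : RelFin M)
    (h : ∀ x : T, ∃ (U : Opens T) (n : ℕ), x ∈ U ∧ Nonempty (GenData M U n)) : fpProp O M :=
  fp_of_presData fun x => by
    obtain ⟨U, n, hxU, ⟨D⟩⟩ := h x
    obtain ⟨V, hV, l, hxV, ⟨R⟩⟩ := hR U n D.s x hxU
    exact ⟨V, n, l, hxV, ⟨{ D.restrict hV with r := R.e, zero := R.zero, rel := R.rel }⟩⟩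

end Groth.AdicLinTop.SpanFamily
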