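import Groth.Agent.AdicLinTop.QcohExt
import Groth.Agent.AdicLinTop.SpanFamily
import Groth.Agent.SitesTopoi.Mod.HomColim

/-!
# The internal hom out of a coherent module

On a locally Noetherian formal scheme the internal hom from a coherent module to a quasi-coherent one is
quasi-coherent, and coherent when the target is.
-/

set_option autoImplicit false

universe u

open CategoryTheory CategoryTheory.Limits AlgebraicGeometry TopologicalSpace Opposite

set_option backward.defeqAttrib.useBackward true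
set_option backward.isDefEq.respectTransparency false
set_option backward.isDefEq.respectTransparency.types false
set_option synthInstance.maxHeartbeats 400000

namespace Groth.AdicLinTop.HomQcoh

open Groth.SitesTopoi.ModH Groth.AdicLinTop.SpacePres Groth.AdicLinTop.CohKer Groth.AdicLinTop.QcohLocal
open Groth.SitesTopoi Groth.SitesTopoi.HomSec

variable {T : Type u} [TopologicalSpace T] {O : Sheaf (Opens.grothendieckTopology T) CommRingCat.{u}}
  {G : ModSite.Mod O} {U : Opens T}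

/-- Relations holding simultaneously among several tuples are locally generated by finitely many. -/
theorem exists_simRel (hrel : ∀ (N : ℕ) (g : Fin N → sc G.val U), ∃ l, Nonempty (RelData (F := G) g l)) :
    ∀ (n : ℕ) {N : ℕ} (g : Fin n → Fin N → sc G.val U), ∃ (l : ℕ) (E : Fin l → Fin N → rsec O U),
      (∀ q i, ∑ k, E q k • g i k = 0) ∧
      ∀ (W : Opens T) (hW : W ≤ U) (a : Fin N → rsec O W), (∀ i, ∑ k, a k • rm G hW (g i k) = 0) →
        ∀ x ∈ W, ∃ (V : Opens T) (hV : V ≤ W), x ∈ V ∧ ∃ c : Fin l → rsec O V,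
          ∀ k, rr hV (a k) = ∑ q, c q * rr (hV.trans hW) (E q k)
  | 0, N, g => ⟨N, fun q k => if k = q then 1 else 0, fun q i => i.elim0, fun W hW a _ x hx =>
      ⟨W, le_rfl, hx, a, fun k => by simp [apply_ite (rr (le_rfl.trans hW))]; exact rsR_id _⟩⟩
  | n + 1, N, g => by
    obtain ⟨m, ⟨R⟩⟩ := hrel N (g 0)
    obtain ⟨l, E, hE0, hE⟩ := exists_simRel hrel n fun i q => ∑ k, R.e q k • g i.succ k
    refine ⟨l, fun p k => ∑ q, E p q * R.e q k, fun p i => ?_, fun W hW a ha x hx => ?_⟩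
    · simp only [Finset.sum_smul, mul_smul]
      rw [Finset.sum_comm]
      simp only [← Finset.smul_sum]
      induction i using Fin.cases with
      | zero => exact Finset.sum_eq_zero fun q _ => by rw [show ∑ k, R.e q k • g 0 k = 0 from R.zero q, smul_zero]
      | succ i => exact hE0 p i
    · obtain ⟨V, hV, hxV, d, hd⟩ := R.rel W hW a (ha 0) x hx
      have hd0 : ∀ i : Fin n, ∑ q, d q • rm G (hV.trans hW) (∑ k, R.e q k • g i.succ k) = 0 := fun i => by
        have h := congrArg (rm G hV) (ha i.succ)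
        simp only [map_sum, rm_smul, rm_rm, map_zero, hd, Finset.sum_smul, mul_smul] at h
        simp only [map_sum, rm_smul, Finset.smul_sum]
        rw [Finset.sum_comm]
        exact h
      obtain ⟨V', hV', hxV', c, hc⟩ := hE V (hV.trans hW) d hd0 x hxV
      refine ⟨V', hV'.trans hV, hxV', c, fun k => ?_⟩
      have h := congrArg (rr hV') (hd k)
      simp only [map_sum, map_mul, rr_rr, hc] at h
      rw [h]
      simp only [map_sum, map_mul, Finset.mul_sum, Finset.sum_mul, mul_assoc]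
      exact Finset.sum_comm

variable {F : ModSite.Mod O} [ModSite.HasSheafHom F]

lemma evalAt_add {W V : Opens T} (s t : sc ((ModSite.sheafHom F).obj G).val W) (g : V ⟶ W) (f : sc F.val V) :
    evalAt (s + t) g f = evalAt s g f + evalAt t g f := by
  rw [evalAt, map_add, tm_add_left, map_add, map_add]
  rfl

lemma evalAt_smul {W V : Opens T} (r : rsec O W) (s : sc ((ModSite.sheafHom F).obj G).val W) (g : V ⟶ W)
    (f : sc F.val V) : evalAt (r • s) g f = rsR g r • evalAt s g f := by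
  rw [evalAt, rsm_smul, tm_smul_left, map_smul, map_smul]
  rfl

variable (P : LocPres F U)

/-- The values of a local section of the internal hom at the generators. -/
noncomputable def ev {W : Opens T} (hW : W ≤ U) (i : Fin P.n) :
    sc ((ModSite.sheafHom F).obj G).val W →ₗ[rsec O W] sc G.val W where
  toFun t := evalAt t (𝟙 W) (rm F hW (P.e i))
  map_add' s t := evalAt_add s t _ _
  map_smul' r t := (evalAt_smul r t _ _).trans (by rw [rsR_id]; rfl)

lemma ev_rm {W V : Opens T} (hW : W ≤ U) (h : V ≤ W) (t : sc ((ModSite.sheafHom F).obj G).val W) (i : Fin P.n) :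
    ev P (h.trans hW) i (rm ((ModSite.sheafHom F).obj G) h t) = rm G h (ev P hW i t) := by
  show evalAt (rsm ((ModSite.sheafHom F).obj G).val (homOfLE h) t) (𝟙 V) (rm F (h.trans hW) (P.e i)) =
    rsm G.val (homOfLE h) (evalAt t (𝟙 W) (rm F hW (P.e i)))
  rw [evalAt_rsm, ← comp'_secEquiv, ← comp'_secEquiv, Groth.Misc4.FreeOn.rsm_comp']
  congr 1
  exact (rm_rm F hW h (P.e i)).symm

lemma eq_of_ev {W : Opens T} (hW : W ≤ U) {s t : sc ((ModSite.sheafHom F).obj G).val W}
    (h : ∀ i, ev P hW i s = ev P hW i t) : s = t :=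
  HomColim.eq_of_evalAt_gen P (homOfLE hW) s t h

/-- Values satisfying the relations come from a section. -/
lemma exists_of_values (y : Fin P.n → sc G.val U) (hy : ∀ j, ∑ i, P.c j i • y i = 0) :
    ∃ s : sc ((ModSite.sheafHom F).obj G).val U, ∀ i, ev P le_rfl i s = y i := by
  obtain ⟨ψ, hψ⟩ := P.exists_hom (𝟙 U) y (fun j => by simpa only [rsR_id] using hy j)
  obtain ⟨s, hs⟩ := exists_section ψ
  exact ⟨s, fun i => (hs _ _).trans (hψ i)⟩

lemma values_rel {W : Opens T} (hW : W ≤ U) (t : sc ((ModSite.sheafHom F).obj G).val W) (j : Fin P.m) :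
    ∑ i, rr hW (P.c j i) • ev P hW i t = 0 := by
  show ∑ i, rr hW (P.c j i) • evalAt t (𝟙 W) (rm F hW (P.e i)) = 0
  simp only [← comp'_secEquiv, ← map_smul, ← map_sum]
  have h := congrArg (rm F hW) (P.rel j)
  simp only [map_sum, rm_smul, map_zero] at h
  rw [h, map_zero]

include P in
/-- Relations among sections of the internal hom. -/
theorem exists_relData (hrel : ∀ (N : ℕ) (g : Fin N → sc G.val U), ∃ l, Nonempty (RelData (F := G) g l))
    {N : ℕ} (h : Fin N → sc ((ModSite.sheafHom F).obj G).val U) :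
    ∃ l, Nonempty (RelData (F := (ModSite.sheafHom F).obj G) h l) := by
  obtain ⟨l, E, hE0, hE⟩ := exists_simRel hrel P.n fun i k => ev P le_rfl i (h k)
  refine ⟨l, ⟨{ e := E, zero := fun q => eq_of_ev P le_rfl fun i => ?_,
                rel := fun W hW a ha => hE W hW a fun i => ?_ }⟩⟩
  · simp only [map_sum, map_smul, map_zero, hE0]
  · have e := congrArg (ev P hW i) ha
    simp only [map_sum, map_smul, map_zero] at e
    refine Eq.trans (Finset.sum_congr rfl fun k _ => ?_) e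
    exact congrArg _ (ev_rm P le_rfl hW (h k) i).symm

/-- Sections with values spanned by given sections are spanned by finitely many. -/
theorem exists_comb_sections (hrel : ∀ (N : ℕ) (g : Fin N → sc G.val U), ∃ l, Nonempty (RelData (F := G) g l))
    {p : ℕ} (g : Fin p → sc G.val U) :
    ∃ (l : ℕ) (k : Fin l → sc ((ModSite.sheafHom F).obj G).val U),
      ∀ (W : Opens T) (hW : W ≤ U) (t : sc ((ModSite.sheafHom F).obj G).val W) (a : Fin P.n → Fin p → rsec O W),
        (∀ i, ev P hW i t = ∑ b, a i b • rm G hW (g b)) → ∀ x ∈ W, ∃ (V : Opens T) (hV : V ≤ W), x ∈ V ∧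
          ∃ c : Fin l → rsec O V, rm _ hV t = ∑ q, c q • rm ((ModSite.sheafHom F).obj G) (hV.trans hW) (k q) := by
  obtain ⟨l, E, hE0, hE⟩ := exists_simRel hrel P.m
    (N := P.n * p) fun j ib => P.c j (finProdFinEquiv.symm ib).1 • g (finProdFinEquiv.symm ib).2
  have hsum : ∀ {R M : Type u} [AddCommMonoid M] [SMul R M] (e : Fin (P.n * p) → R) (v : Fin P.n × Fin p → M),
      ∑ ib, e ib • v (finProdFinEquiv.symm ib) = ∑ i, ∑ b, e (finProdFinEquiv (i, b)) • v (i, b) :=
    fun e v => by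
      rw [← Equiv.sum_comp finProdFinEquiv, Fintype.sum_prod_type]
      simp only [Equiv.symm_apply_apply]
  have hy : ∀ q j, ∑ i, P.c j i • (∑ b, E q (finProdFinEquiv (i, b)) • g b) = 0 := fun q j => by
    refine Eq.trans ?_ (hE0 q j)
    rw [hsum (E q) fun ib => P.c j ib.1 • g ib.2]
    simp only [Finset.smul_sum, smul_smul, mul_comm]
  choose k hk using fun q => exists_of_values P _ (hy q)
  refine ⟨l, k, fun W hW t a hta x hx => ?_⟩
  obtain ⟨V, hV, hxV, c, hc⟩ := hE W hW (fun ib => a (finProdFinEquiv.symm ib).1 (finProdFinEquiv.symm ib).2)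
    (fun j => by
      refine Eq.trans ?_ (values_rel P hW t j)
      simp only [rm_smul, hta, Finset.smul_sum, smul_smul]
      rw [← Equiv.sum_comp finProdFinEquiv, Fintype.sum_prod_type]
      simp only [Equiv.symm_apply_apply, mul_comm]) x hx
  refine ⟨V, hV, hxV, c, eq_of_ev P (hV.trans hW) fun i => ?_⟩
  rw [ev_rm P hW hV, hta, map_sum, map_sum]
  have hcb : ∀ b, rr hV (a i b) = ∑ q, c q * rr (hV.trans hW) (E q (finProdFinEquiv (i, b))) := fun b => by
    simpa using hc (finProdFinEquiv (i, b))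
  simp only [rm_smul, rm_rm, hcb, Finset.sum_smul, map_smul, mul_smul]
  rw [Finset.sum_comm]
  refine Finset.sum_congr rfl fun q _ => ?_
  rw [← Finset.smul_sum]
  refine congrArg (c q • ·) ?_
  rw [ev_rm P le_rfl (hV.trans hW) (k q) i, hk, map_sum]
  simp only [rm_smul]

/-- Finitely many values are combinations of one finite set of generators near a point. -/
lemma exists_values_comb {κ : Type u} {g : κ → sc G.val U} (hg : Gens g) {W : Opens T} (hW : W ≤ U) {x : T}
    (hx : x ∈ W) : ∀ {N : ℕ} (y : Fin N → sc G.val W), ∃ (V : Opens T) (hV : V ≤ W), x ∈ V ∧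
      ∃ (s : Finset κ) (a : Fin N → κ → rsec O V),
        ∀ i, rm G hV (y i) = ∑ b ∈ s, a i b • rm G (hV.trans hW) (g b)
  | 0, _ => ⟨W, le_rfl, hx, ∅, fun i => i.elim0, fun i => i.elim0⟩
  | N + 1, y => by
    classical
    obtain ⟨V, hV, hxV, s, a, ha⟩ := exists_values_comb hg hW hx fun i => y i.succ
    obtain ⟨V', hV', hxV', s', a', ha'⟩ := hg V (hV.trans hW) (rm G hV (y 0)) x hxV
    refine ⟨V', hV'.trans hV, hxV', s ∪ s',
      Fin.cons (fun b => if b ∈ s' then a' b else 0) fun i b => if b ∈ s then rr hV' (a i b) else 0, fun i => ?_⟩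
    induction i using Fin.cases with
    | zero =>
      rw [Fin.cons_zero, ← rm_rm G hV hV', ha']
      refine Eq.trans (Finset.sum_congr rfl fun b hb => ?_)
        (Finset.sum_subset Finset.subset_union_right fun b _ hb => ?_)
      · simp only [if_pos hb]
      · simp only [if_neg hb, zero_smul]
    | succ i =>
      rw [Fin.cons_succ, ← rm_rm G hV hV', ha, map_sum]
      refine Eq.trans (Finset.sum_congr rfl fun b hb => ?_)
        (Finset.sum_subset Finset.subset_union_left fun b _ hb => ?_)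
      · simp only [if_pos hb, rm_smul, rm_rm]
      · simp only [if_neg hb, zero_smul]

include P in
/-- Generators of the internal hom. -/
theorem exists_gens_hom (hrel : ∀ (N : ℕ) (g : Fin N → sc G.val U), ∃ l, Nonempty (RelData (F := G) g l))
    {κ : Type u} {g : κ → sc G.val U} (hg : Gens g) :
    ∃ (κ' : Type u) (k : κ' → sc ((ModSite.sheafHom F).obj G).val U), Gens k := by
  classical
  choose l k hk using fun s : Finset κ => exists_comb_sections P hrel fun b : Fin s.card => g (s.equivFin.symm b).1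
  refine ⟨Σ s : Finset κ, Fin (l s), fun p => k p.1 p.2, fun W hW t x hx => ?_⟩
  obtain ⟨V₁, hV₁, hx₁, s, a, ha⟩ := exists_values_comb hg hW hx fun i => ev P hW i t
  obtain ⟨V, hV, hxV, c, hc⟩ := hk s V₁ (hV₁.trans hW) (rm _ hV₁ t) (fun i b => a i (s.equivFin.symm b).1)
    (fun i => by rw [ev_rm P hW hV₁, ha, sum_fin]) x hx₁
  refine ⟨V, hV.trans hV₁, hxV, Finset.univ.map ⟨Sigma.mk s, sigma_mk_injective⟩,
    Function.extend (Sigma.mk s) c 0, ?_⟩
  rw [Finset.sum_map]
  simp only [Function.Embedding.coeFn_mk, sigma_mk_injective.extend_apply]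
  rw [rm_rm] at hc
  exact hc

include P in
/-- Finitely many generators of the internal hom into a finitely generated module. -/
theorem exists_genData_hom (hrel : ∀ (N : ℕ) (g : Fin N → sc G.val U), ∃ l, Nonempty (RelData (F := G) g l))
    {n : ℕ} (D : GenData G U n) : ∃ l, Nonempty (GenData ((ModSite.sheafHom F).obj G) U l) := by
  obtain ⟨l, k, hk⟩ := exists_comb_sections P hrel D.s
  have hcomb : ∀ {W : Opens T} (hW : W ≤ U) {x : T}, x ∈ W → ∀ {N : ℕ} (y : Fin N → sc G.val W),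
      ∃ (V : Opens T) (hV : V ≤ W), x ∈ V ∧ ∃ a : Fin N → Fin n → rsec O V,
        ∀ i, rm G hV (y i) = ∑ b, a i b • rm G hV (rm G hW (D.s b)) := fun {W} hW {x} hx {N} y =>
    CohKer.exists_comb (D.restrict hW) hx y
  refine ⟨l, ⟨{ s := k, gen := fun W hW t x hx => ?_ }⟩⟩
  obtain ⟨V₁, hV₁, hx₁, a, ha⟩ := hcomb hW hx fun i => ev P hW i t
  obtain ⟨V, hV, hxV, c, hc⟩ := hk V₁ (hV₁.trans hW) (rm _ hV₁ t) a
    (fun i => (ev_rm P hW hV₁ t i).trans (by simpa only [rm_rm] using ha i)) x hx₁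
  exact ⟨V, hV.trans hV₁, hxV, c, by rwa [rm_rm] at hc⟩

/-- A restriction of a local presentation. -/
noncomputable def restrictPres {U' : Opens T} (h : U' ≤ U) : LocPres F U' where
  n := P.n
  m := P.m
  e i := rm F h (P.e i)
  c j i := rr h (P.c j i)
  rel j := by
    have e := congrArg (rm F h) (P.rel j)
    simp only [map_sum, rm_smul, map_zero] at e
    exact e
  gen {V} g f := by
    obtain ⟨S, hS, hS'⟩ := P.gen (g ≫ homOfLE h) f
    refine ⟨S, hS, fun V' k hk => ?_⟩
    obtain ⟨r, hr⟩ := hS' k hk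
    refine ⟨r, hr.trans (Finset.sum_congr rfl fun i _ => ?_)⟩
    rw [rm, rsm_rsm, Category.assoc]
  ker {V} g r hr := by
    obtain ⟨S, hS, hS'⟩ := P.ker (g ≫ homOfLE h) r (by simpa only [rm, rsm_rsm] using hr)
    refine ⟨S, hS, fun V' k hk => ?_⟩
    obtain ⟨s, hs⟩ := hS' k hk
    refine ⟨s, fun i => (hs i).trans (Finset.sum_congr rfl fun j _ => ?_)⟩
    rw [rr, rsR_rsR, Category.assoc]

section Formal

variable {𝔛 : FSch.Sys.{u}} (h𝔛 : 𝔛.IsLocNoethFormal)

include h𝔛 in
/-- Presentations on small affine opens. -/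
theorem exists_locPres_affine {F : FSch.ModF 𝔛 h𝔛.1} (hF : FSch.IsCohF 𝔛 h𝔛.1 F) (x : 𝔛.X 0)
    (W : (𝔛.X 0).Opens) (hx : x ∈ W) :
    ∃ V : (𝔛.X 0).Opens, IsAffineOpen V ∧ x ∈ V ∧ V ≤ W ∧ Nonempty (LocPres (O := 𝔛.Osh h𝔛.1) F V) := by
  haveI : F.IsFinitePresentation := hF
  obtain ⟨S, hS, hS'⟩ := exists_cover_locPres (O := 𝔛.Osh h𝔛.1) F W
  obtain ⟨V₁, hV₁, hxV₁, hSV⟩ := exists_nhd_of_mem hS hx
  obtain ⟨P⟩ := hS' (homOfLE hV₁) hSV
  obtain ⟨V, hV, hxV, hVV⟩ := (IndCoh.goodBasis h𝔛).exists_mem x V₁ hxV₁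
  exact ⟨V, hV, hxV, hVV.trans hV₁, ⟨restrictPres P hVV⟩⟩

include h𝔛 in
theorem relFin_sheafHom {F G : FSch.ModF 𝔛 h𝔛.1} [ModSite.HasSheafHom F] (hF : FSch.IsCohF 𝔛 h𝔛.1 F)
    (hG : RelFin (O := 𝔛.Osh h𝔛.1) G) : RelFin (O := 𝔛.Osh h𝔛.1) ((ModSite.sheafHom F).obj G) := by
  intro U N h x hx
  obtain ⟨V, hV, hxV, hVU, ⟨P⟩⟩ := exists_locPres_affine h𝔛 hF x U hx
  obtain ⟨l, hl⟩ := exists_relData P (fun N g => AffineSections.exists_relData_of_relFin h𝔛 hV hG g)
    fun i => rm _ hVU (h i)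
  exact ⟨V, hVU, l, hxV, hl⟩

include h𝔛 in
/-- The internal hom from a coherent module to a quasi-coherent one is quasi-coherent. -/
theorem isQuasicoherent_sheafHom {F G : FSch.ModF 𝔛 h𝔛.1} [ModSite.HasSheafHom F]
    (hF : FSch.IsCohF 𝔛 h𝔛.1 F) [SheafOfModules.IsQuasicoherent.{u} G] :
    SheafOfModules.IsQuasicoherent.{u} ((ModSite.sheafHom F).obj G) := by
  refine isQuasicoherent_of_gens h𝔛 (relFin_sheafHom h𝔛 hF (relFin h𝔛)) fun x => ?_
  obtain ⟨V₁, -, hx₁, -, κ, g, hg⟩ := exists_gens_affine h𝔛 (F := G) x ⊤ trivial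
  obtain ⟨V, hV, hxV, hVV, ⟨P⟩⟩ := exists_locPres_affine h𝔛 hF x V₁ hx₁
  obtain ⟨κ', k, hk⟩ := exists_gens_hom P
    (fun N g => AffineSections.exists_relData_of_relFin h𝔛 hV (relFin h𝔛) g) (hg.restrict hVV)
  exact ⟨V, κ', k, hxV, hk⟩

include h𝔛 in
/-- The internal hom between coherent modules is coherent. -/
theorem isCohF_sheafHom {F G : FSch.ModF 𝔛 h𝔛.1} [ModSite.HasSheafHom F]
    (hF : FSch.IsCohF 𝔛 h𝔛.1 F) (hG : FSch.IsCohF 𝔛 h𝔛.1 G) :
    FSch.IsCohF 𝔛 h𝔛.1 ((ModSite.sheafHom F).obj G) :=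
  SpanFamily.fp_of_relFin (relFin_sheafHom h𝔛 hF (IndCoh.relFin_coh h𝔛 hG)) fun x => by
    obtain ⟨U₁, n, m, hx₁, ⟨P₁⟩⟩ := exists_presData (O := 𝔛.Osh h𝔛.1) hG x
    obtain ⟨V, hV, hxV, hVV, ⟨P⟩⟩ := exists_locPres_affine h𝔛 hF x U₁ hx₁
    obtain ⟨l, hl⟩ := exists_genData_hom P
      (fun N g => AffineSections.exists_relData_of_relFin h𝔛 hV (IndCoh.relFin_coh h𝔛 hG) g)
      (P₁.toGenData.restrict hVV)
    exact ⟨V, l, hxV, hl⟩

end Formal

end Groth.AdicLinTop.HomQcoh
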