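import Groth.Agent.AdicLinTop.QcohExt
import Groth.Agent.AdicLinTop.SpanFamily

/-!
# Extensions of filtered colimits of coherent modules on a Noetherian formal scheme

Over a quasi-compact locally Noetherian formal scheme an extension of filtered colimits of coherent modules is
such a colimit; hence so is the middle term of an exact sequence of five with the other terms such colimits.
-/

set_option autoImplicit false

universe u

open CategoryTheory CategoryTheory.Limits AlgebraicGeometry TopologicalSpace Opposite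

set_option backward.defeqAttrib.useBackward true
set_option backward.isDefEq.respectTransparency false
set_option backward.isDefEq.respectTransparency.types false
set_option synthInstance.maxHeartbeats 400000

namespace Groth.AdicLinTop.IndExt

open Groth.SitesTopoi.ModH Groth.AdicLinTop.SpacePres Groth.AdicLinTop.CohKer Groth.AdicLinTop.SpanFamily
open Groth.AdicLinTop.QcohExt (apm_rm)
open Groth.SitesTopoi

section Generic

variable {T : Type u} [TopologicalSpace T] {O : Sheaf (Opens.grothendieckTopology T) CommRingCat.{u}}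
  {F G : ModSite.Mod O} {Λ : Type u} [SmallCategory Λ] [IsFiltered Λ]

/-- Lifts of generators near a point. -/
lemma exists_lifted_gens (π : F ⟶ G) [Epi π] {K : ModSite.Mod O} (hK : FPSmall.fpProp O K) (a : K ⟶ G) (x : T) :
    ∃ (U : Opens T) (n : ℕ) (D : GenData K U n) (g : Fin n → sc F.val U), x ∈ U ∧
      ∀ i, apm π.val U (g i) = apm a.val U (D.s i) := by
  obtain ⟨U, n, m, hxU, ⟨P⟩⟩ := exists_presData hK x
  obtain ⟨V, hV, hxV, g, hg⟩ := QcohLocal.exists_lifts π hxU fun i => apm a.val U (P.s i)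
  exact ⟨V, n, P.toGenData.restrict hV, g, hxV, fun i => (hg i).trans (apm_rm a hV _).symm⟩

/-- A section of the kernel comes locally from a stage of a colimit presentation. -/
lemma exists_kernel_stage (π : F ⟶ G) (P : ColimitPresentation Λ (kernel π)) {W : Opens T} (t : sc F.val W)
    (ht : apm π.val W t = 0) {y : T} (hy : y ∈ W) :
    ∃ (W' : Opens T) (hW' : W' ≤ W), y ∈ W' ∧ ∃ (l : Λ) (k : sc (P.diag.obj l).val W'),
      rm F hW' t = apm (P.ι.app l ≫ kernel.ι π).val W' k := by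
  obtain ⟨c, hc⟩ := exists_kernel_sec π t ht
  obtain ⟨S, hS, hS'⟩ := FiltColim.exists_local_stage P.cocone P.isColimit W c
  obtain ⟨W', hW', hyW', hSW⟩ := exists_nhd_of_mem hS hy
  obtain ⟨l, k, hk⟩ := hS' (homOfLE hW') hSW
  refine ⟨W', hW', hyW', l, k, ?_⟩
  rw [← hc, ← apm_rm]
  exact (congrArg (apm (kernel.ι π).val W') hk).symm

/-- Differences of lifts on an overlap come from finitely many stages. -/
lemma exists_stages (π : F ⟶ G) (P : ColimitPresentation Λ (kernel π)) {K : ModSite.Mod O} (a : K ⟶ G)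
    {U : Opens T} {n : ℕ} (D : GenData K U n) (g : Fin n → sc F.val U)
    (hg : ∀ i, apm π.val U (g i) = apm a.val U (D.s i)) {V : Opens T} (z : sc K.val V) (t : sc F.val V)
    (ht : apm π.val V t = apm a.val V z) (hc : IsCompact ((V ⊓ U : Opens T) : Set T)) :
    ∃ L : Finset Λ, ∀ y ∈ V ⊓ U, ∃ (W : Opens T) (hW : W ≤ V ⊓ U), y ∈ W ∧
      ∃ c : Fin n → rsec O W, ∃ l ∈ L, ∃ k : sc (P.diag.obj l).val W,
        rm F (hW.trans inf_le_left) t =
          ∑ i, c i • rm F (hW.trans inf_le_right) (g i) + apm (P.ι.app l ≫ kernel.ι π).val W k := by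
  classical
  have hloc : ∀ y : (V ⊓ U : Opens T), ∃ (W : Opens T) (hW : W ≤ V ⊓ U), y.1 ∈ W ∧
      ∃ (c : Fin n → rsec O W) (l : Λ) (k : sc (P.diag.obj l).val W),
        rm F (hW.trans inf_le_left) t =
          ∑ i, c i • rm F (hW.trans inf_le_right) (g i) + apm (P.ι.app l ≫ kernel.ι π).val W k := fun y => by
    obtain ⟨W₁, hW₁, hy₁, c, hc⟩ := D.gen (V ⊓ U) inf_le_right (rm K inf_le_left z) y.1 y.2
    obtain ⟨W₂, hW₂, hy₂, l, k, hk⟩ := exists_kernel_stage π P
      (rm F (hW₁.trans inf_le_left) t - ∑ i, c i • rm F (hW₁.trans inf_le_right) (g i)) (by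
        have h := congrArg (apm a.val W₁) hc
        simp only [map_sum, map_smul, apm_rm, rm_rm] at h
        simp only [map_sub, map_sum, map_smul, apm_rm, ht, hg, h, sub_self]) hy₁
    refine ⟨W₂, hW₂.trans hW₁, hy₂, fun i => rr hW₂ (c i), l, k, ?_⟩
    rw [← hk]
    simp only [map_sub, map_sum, rm_smul, rm_rm]
    abel
  choose W hW hyW c l k hk using hloc
  obtain ⟨S, hS⟩ := hc.elim_finite_subcover (fun y : (V ⊓ U : Opens T) => (W y : Set T)) (fun y => (W y).2)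
    fun z hz => Set.mem_iUnion.2 ⟨⟨z, hz⟩, hyW ⟨z, hz⟩⟩
  refine ⟨S.image l, fun y hy => ?_⟩
  obtain ⟨z, hz, hyz⟩ := Set.mem_iUnion₂.1 (hS hy)
  exact ⟨W z, hW z, hyz, c z, l z, Finset.mem_image_of_mem l hz, k z, hk z⟩

/-- A finitely presented module whose image in the quotient covers that of a given one. -/
theorem exists_fp_cover (π : F ⟶ G) [Epi π] [NoetherianSpace T] (hF : RelFin F)
    (P : ColimitPresentation Λ (kernel π)) (hP : ∀ l, FPSmall.fpProp O (P.diag.obj l)) {K : ModSite.Mod O}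
    (hK : FPSmall.fpProp O K) (a : K ⟶ G) :
    ∃ (I : ModSite.Mod O) (e : I ⟶ F), FPSmall.fpProp O I ∧
      ∀ (W : Opens T) (t : sc F.val W) (z : sc K.val W), apm π.val W t = apm a.val W z → ∀ x ∈ W,
        ∃ (V : Opens T) (hV : V ≤ W), x ∈ V ∧ ∃ (i : sc I.val V) (c : sc (kernel π).val V),
          rm F hV t = apm e.val V i + apm (kernel.ι π).val V c := by
  classical
  choose U n D g hxU hg using exists_lifted_gens π hK a
  obtain ⟨Tf, hTf⟩ := (NoetherianSpace.isCompact (Set.univ : Set T)).elim_finite_subcover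
    (fun x : T => (U x : Set T)) (fun x => (U x).2) fun z _ => Set.mem_iUnion.2 ⟨z, hxU z⟩
  have hcov : ∀ y : T, ∃ x : Tf, y ∈ U x.1 := fun y => by
    obtain ⟨x, hx, hyx⟩ := Set.mem_iUnion₂.1 (hTf (Set.mem_univ y))
    exact ⟨⟨x, hx⟩, hyx⟩
  let ι := Σ x : Tf, Fin (n x.1)
  let V : ι → Opens T := fun p => U p.1.1
  let s : ∀ p, sc F.val (V p) := fun p => g p.1.1 p.2
  choose L hL using fun pq : ι × Tf => exists_stages π P a (D pq.2.1) (g pq.2.1) (hg pq.2.1)
    (V := V pq.1) ((D pq.1.1.1).s pq.1.2) (s pq.1) (hg _ _) (NoetherianSpace.isCompact _)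
  obtain ⟨l₀, hl₀⟩ := IsFiltered.sup_objs_exists (Finset.univ.biUnion L)
  let j : P.diag.obj l₀ ⟶ F := P.ι.app l₀ ≫ kernel.ι π
  let e := Abelian.image.ι (biprod.desc j (mapFam s))
  refine ⟨spanSub s j, e, fp_of_relFin (relFin_of_mono e hF) fun x => ?_, fun W t z htz x hx => ?_⟩
  · obtain ⟨b, hb⟩ := hcov x
    obtain ⟨U₂, n₂, m₂, hx₂, ⟨P₂⟩⟩ := exists_presData (hP l₀) x
    let Dl := P₂.toGenData.restrict (inf_le_right : U b.1 ⊓ U₂ ≤ U₂)
    let g' : Fin (n b.1 + n₂) → sc F.val (U b.1 ⊓ U₂) := Fin.append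
      (fun k => rm F (inf_le_left : U b.1 ⊓ U₂ ≤ U b.1) (s ⟨b, k⟩)) fun k => apm j.val (U b.1 ⊓ U₂) (Dl.s k)
    have hC : ∀ (W : Opens T) (hW : W ≤ U b.1 ⊓ U₂) (z : sc (P.diag.obj l₀).val W), ∀ y ∈ W,
        LocComb g' hW (apm j.val W z) y := fun W hW z y hy => by
      obtain ⟨W₁, hW₁, hy₁, c, hc⟩ := Dl.gen W hW z y hy
      refine ⟨W₁, hW₁, hy₁, Fin.append (fun _ => 0) c, ?_⟩
      simp only [g', Fin.sum_univ_add, Fin.append_left, Fin.append_right, zero_smul, Finset.sum_const_zero, zero_add]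
      rw [← apm_rm, hc, map_sum]
      exact Finset.sum_congr rfl fun k _ => by rw [map_smul, apm_rm]
    refine ⟨U b.1 ⊓ U₂, n b.1 + n₂, ⟨hb, hx₂⟩, nonempty_genData_spanSub s j (fun k : Fin (n b.1) => (⟨b, k⟩ : ι)) (fun _ => inf_le_left) Dl.s hC
      fun p y hy => ?_⟩
    obtain ⟨W, hW, hyW, c, l, hl, k, hk⟩ := hL (p, b) y ⟨hy.1, hy.2.1⟩
    obtain ⟨α⟩ := hl₀ (Finset.mem_biUnion.2 ⟨(p, b), Finset.mem_univ _, hl⟩)
    let W' := W ⊓ U₂
    have hW'U : W' ≤ V p ⊓ (U b.1 ⊓ U₂) := le_inf (inf_le_left.trans (hW.trans inf_le_left))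
      (le_inf (inf_le_left.trans (hW.trans inf_le_right)) inf_le_right)
    refine LocComb.of_restrict hW'U ?_
    have hyW' : y ∈ W' := ⟨hyW, hy.2.2⟩
    have e1 : rm F hW'U (rm F (inf_le_left : V p ⊓ (U b.1 ⊓ U₂) ≤ V p) (s p)) =
        ∑ i, rr (inf_le_left : W' ≤ W) (c i) • rm F (hW'U.trans inf_le_right) (g' (Fin.castAdd n₂ i)) +
          apm j.val W' (rm (P.diag.obj l₀) (inf_le_left : W' ≤ W) (apm (P.diag.map α).val W k)) := by
      have h := congrArg (rm F (inf_le_left : W' ≤ W)) hk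
      rw [map_add, map_sum] at h
      simp only [rm_smul, rm_rm] at h
      simp only [g', Fin.append_left, rm_rm]
      refine h.trans ?_
      congr 1
      rw [apm_rm]
      refine congrArg (rm F (inf_le_left : W' ≤ W)) ?_
      exact congrArg (fun χ : P.diag.obj l ⟶ F => apm χ.val W k)
        (show P.ι.app l ≫ kernel.ι π = P.diag.map α ≫ j by
          rw [← Category.assoc, P.ι.naturality α]; rfl)
    rw [e1]
    exact (LocComb.sum hyW' _ _ fun i => LocComb.self hyW' _).add (hC W' _ _ y hyW')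
  · obtain ⟨b, hb⟩ := hcov x
    obtain ⟨W₁, hW₁, hx₁, c, hc⟩ := (D b.1).gen (W ⊓ U b.1) inf_le_right (rm K inf_le_left z) x ⟨hx, hb⟩
    choose S hS using fun k : Fin (n b.1) =>
      exists_sec_right s j (⟨b, k⟩ : ι) (hW₁.trans inf_le_right : W₁ ≤ U b.1)
    obtain ⟨c', hc'⟩ := exists_kernel_sec π
      (rm F (hW₁.trans inf_le_left) t - apm e.val W₁ (∑ k, c k • S k)) (by
        have h := congrArg (apm a.val W₁) hc
        simp only [map_sum, map_smul, apm_rm, rm_rm] at h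
        simp only [e, map_sub, map_sum, map_smul, hS, apm_rm, s, V, htz, hg, h, sub_self])
    exact ⟨W₁, hW₁.trans inf_le_left, hx₁, _, c', by rw [hc', add_sub_cancel]⟩

/-- Coherent modules covering an extension. -/
theorem exists_cover_ext (π : F ⟶ G) [Epi π] [NoetherianSpace T] (hF : RelFin F)
    (P : ColimitPresentation Λ (kernel π)) (hP : ∀ l, FPSmall.fpProp O (P.diag.obj l))
    {M : Type u} [SmallCategory M] [IsFiltered M] (Q : ColimitPresentation M G)
    (hQ : ∀ m, FPSmall.fpProp O (Q.diag.obj m)) :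
    ∃ (κ : Type u) (K : κ → ModSite.Mod O), (∀ k, FPSmall.fpProp O (K k)) ∧ ∃ a : ∀ k, K k ⟶ F,
      ∀ {Z : ModSite.Mod O} (g : F ⟶ Z), (∀ k, a k ≫ g = 0) → g = 0 := by
  choose I e hI he using fun m => exists_fp_cover π hF P hP (hQ m) (Q.ι.app m)
  refine ⟨Λ ⊕ M, Sum.elim P.diag.obj I, fun k => k.rec hP hI,
    fun k => k.rec (fun l => P.ι.app l ≫ kernel.ι π) e, fun {Z} g hg => ?_⟩
  have hker : kernel.ι π ≫ g = 0 := P.isColimit.hom_ext fun l => by
    rw [comp_zero]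
    exact (Category.assoc _ _ _).symm.trans (hg (Sum.inl l))
  refine mod_hom_ext fun W t => (eq_zero_of_local (m := apm g.val W t) fun x hx => ?_).trans rfl
  obtain ⟨S, hS, hS'⟩ := FiltColim.exists_local_stage Q.cocone Q.isColimit W (apm π.val W t)
  obtain ⟨W₁, hW₁, hx₁, hSW⟩ := exists_nhd_of_mem hS hx
  obtain ⟨m, z, hz⟩ := hS' (homOfLE hW₁) hSW
  obtain ⟨V, hV, hxV, i, c, hic⟩ := he m W₁ (rm F hW₁ t) z ((apm_rm π hW₁ t).trans hz.symm) x hx₁
  refine ⟨V, hV.trans hW₁, hxV, ?_⟩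
  rw [← apm_rm, ← rm_rm F hW₁ hV, hic, map_add]
  have h1 : apm g.val V (apm (e m).val V i) = 0 :=
    congrArg (fun χ : I m ⟶ Z => apm χ.val V i) (hg (Sum.inr m))
  have h2 : apm g.val V (apm (kernel.ι π).val V c) = 0 :=
    congrArg (fun χ : kernel π ⟶ Z => apm χ.val V c) hker
  rw [h1, h2, add_zero]

end Generic

variable {𝔛 : FSch.Sys.{u}} (h𝔛 : 𝔛.IsLocNoethFormal)

open IndCoh (cohP)

include h𝔛 in
/-- An extension of filtered colimits of coherent modules is one. -/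
theorem ind_of_ext [CompactSpace (𝔛.X 0)] {F G : FSch.ModF 𝔛 h𝔛.1} (π : F ⟶ G) [Epi π]
    (hC : ObjectProperty.ind.{u} (cohP h𝔛) (kernel π)) (hG : ObjectProperty.ind.{u} (cohP h𝔛) G) :
    ObjectProperty.ind.{u} (cohP h𝔛) F := by
  have hR : RelFin (O := 𝔛.Osh h𝔛.1) F :=
    QcohExt.relFin_of_ext π (IndCoh.relFin_of_ind h𝔛 hC) (IndCoh.relFin_of_ind h𝔛 hG)
  obtain ⟨Λ, _, _, P, hP⟩ := hC
  obtain ⟨M, _, _, Q, hQ⟩ := hG
  have : IsLocallyNoetherian (𝔛.X 0) := h𝔛.2.2 0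
  have : AlgebraicGeometry.IsNoetherian (𝔛.X 0) := AlgebraicGeometry.IsNoetherian.mk
  obtain ⟨κ, K, hK, a, ha⟩ := exists_cover_ext (O := 𝔛.Osh h𝔛.1) π hR P hP Q hQ
  exact IndCoh.ind_of_cover h𝔛 hR K hK a ha

include h𝔛 in
/-- The middle term of an exact sequence of five whose other terms are filtered colimits of coherent modules
is one. -/
theorem ind_of_exact_five [CompactSpace (𝔛.X 0)] {F₀ F₁ F₂ F₃ F₄ : FSch.ModF 𝔛 h𝔛.1} (a : F₀ ⟶ F₁)
    (b : F₁ ⟶ F₂) (c : F₂ ⟶ F₃) (d : F₃ ⟶ F₄) (hab : a ≫ b = 0) (hbc : b ≫ c = 0) (hcd : c ≫ d = 0)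
    (h1 : (ShortComplex.mk a b hab).Exact) (h2 : (ShortComplex.mk b c hbc).Exact)
    (h3 : (ShortComplex.mk c d hcd).Exact)
    (hF₀ : ObjectProperty.ind.{u} (cohP h𝔛) F₀) (hF₁ : ObjectProperty.ind.{u} (cohP h𝔛) F₁)
    (hF₃ : ObjectProperty.ind.{u} (cohP h𝔛) F₃) (hF₄ : ObjectProperty.ind.{u} (cohP h𝔛) F₄) :
    ObjectProperty.ind.{u} (cohP h𝔛) F₂ := by
  let π : F₂ ⟶ kernel d := kernel.lift d c hcd
  have : Epi π := ((ShortComplex.mk c d hcd).exact_iff_epi_kernel_lift).1 h3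
  let ψ : cokernel a ⟶ kernel c := kernel.lift c (cokernel.desc a b hab) (by
    rw [← cancel_epi (cokernel.π a), cokernel.π_desc_assoc, hbc, comp_zero])
  have : Mono ψ := by
    have : Mono (ψ ≫ kernel.ι c) := by
      rw [kernel.lift_ι]
      exact ((ShortComplex.mk a b hab).exact_iff_mono_cokernel_desc).1 h1
    exact mono_of_mono ψ (kernel.ι c)
  have : Epi ψ := by
    have : Epi (cokernel.π a ≫ ψ) := by
      rw [show cokernel.π a ≫ ψ = kernel.lift c b hbc from by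
        rw [← cancel_mono (kernel.ι c)]; simp [ψ]]
      exact ((ShortComplex.mk b c hbc).exact_iff_epi_kernel_lift).1 h2
    exact epi_of_epi (cokernel.π a) ψ
  have : IsIso ψ := isIso_of_mono_of_epi ψ
  refine ind_of_ext h𝔛 π ?_ (IndCoh.ind_kernel h𝔛 hF₃ hF₄ d)
  exact (ObjectProperty.ind.{u} (cohP h𝔛)).prop_of_iso
    (asIso ψ ≪≫ kernelIsoOfEq (kernel.lift_ι d c hcd).symm ≪≫ kernelCompMono π (kernel.ι d))
    (IndCoh.ind_cokernel h𝔛 hF₀ hF₁ a)

end Groth.AdicLinTop.IndExt
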