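import Groth.Agent.AdicLinTop.IndCoh
import Groth.Agent.SiteCohomology.ModulesGrothendieck
import Mathlib.CategoryTheory.Abelian.GrothendieckCategory.Basic
import Mathlib.CategoryTheory.Abelian.GrothendieckAxioms.Basic
import Mathlib.CategoryTheory.Abelian.Subcategory

/-!
Filtered colimits of coherent modules form a Grothendieck abelian category.
-/

set_option autoImplicit false

universe u

open CategoryTheory CategoryTheory.Limits

set_option backward.defeqAttrib.useBackward true
set_option backward.isDefEq.respectTransparency false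
set_option backward.isDefEq.respectTransparency.types false
set_option synthInstance.maxHeartbeats 400000

namespace Groth.AdicLinTop.IndGroth

open IndCoh

variable {𝔛 : FSch.Sys.{u}} (h𝔛 : 𝔛.IsLocNoethFormal)

theorem isGrothendieckAbelian [PreservesFiniteLimits (ObjectProperty.ind.{u} (cohP h𝔛)).ι] :
    IsGrothendieckAbelian.{u} (ObjectProperty.ind.{u} (cohP h𝔛)).FullSubcategory := by
  let Q := ObjectProperty.ind.{u} (cohP h𝔛)
  haveI : ∀ (J : Type u) [SmallCategory J], HasColimitsOfShape J Q.FullSubcategory := fun J _ =>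
    haveI := isClosedUnderColimitsOfShape_ind h𝔛 J
    hasColimitsOfShape_of_closedUnderColimits J Q
  haveI : ∀ (J : Type u) [SmallCategory J], PreservesColimitsOfShape J Q.ι := fun J _ =>
    haveI := isClosedUnderColimitsOfShape_ind h𝔛 J
    let cr := createsColimitsOfShapeFullSubcategoryInclusion (P := Q) J
    preservesColimitOfShape_of_createsColimitsOfShape_and_hasColimitsOfShape _
  haveI : HasFilteredColimitsOfSize.{u, u} Q.FullSubcategory := ⟨fun J _ _ => inferInstance⟩
  haveI : AB5OfSize.{u, u} Q.FullSubcategory :=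
    ⟨fun J _ _ =>
      haveI : HasExactColimitsOfShape J (FSch.ModF 𝔛 h𝔛.1) := inferInstance
      haveI : ReflectsFiniteLimits Q.ι := ⟨fun J _ _ => inferInstance⟩
      HasExactColimitsOfShape.domain_of_functor J Q.ι⟩
  obtain ⟨I, G, hG, hrep⟩ := FPSmall.exists_small_family (𝔛.Osh h𝔛.1)
  let G' : I → Q.FullSubcategory := fun i => ⟨G i, (cohP h𝔛).le_ind _ (hG i)⟩
  have hsep : (ObjectProperty.ofObj G').IsSeparating := by
    intro X Y f g hfg
    obtain ⟨J, hJ, hJ', pres, hP⟩ := X.property
    apply ObjectProperty.hom_ext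
    refine pres.isColimit.hom_ext fun j => ?_
    obtain ⟨i, ⟨e⟩⟩ := hrep _ (hP j)
    have h1 := congrArg (fun φ => e.inv ≫ φ.hom)
      (hfg (G' i) (ObjectProperty.ofObj_apply G' i) (Q.homMk (e.hom ≫ pres.ι.app j)))
    simpa using h1
  haveI : LocallySmall.{u} Q.FullSubcategory := ⟨fun X Y => small_of_injective fun a b h => ObjectProperty.hom_ext _ h⟩
  exact { hasSeparator := ⟨∐ G', ObjectProperty.IsSeparating.isSeparator_coproduct hsep⟩ }

end Groth.AdicLinTop.IndGroth
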