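import Groth.Agent.AdicLinTop.QuotFP

/-!
# Presentations of modules on a ringed space by infinitely many sections over an open

Sections over an open which generate locally by finite combinations, with finite relations generated locally
by finite relations over the open, give a presentation of the restricted module.
-/

set_option autoImplicit false

universe u

open CategoryTheory CategoryTheory.Limits Opposite TopologicalSpace

set_option backward.defeqAttrib.useBackward true
set_option backward.isDefEq.respectTransparency false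
set_option backward.isDefEq.respectTransparency.types false
set_option synthInstance.maxHeartbeats 400000

namespace Groth.AdicLinTop.InfPres

open Groth.SitesTopoi.ModH Groth.Misc4.FlatFactor Groth.AdicLinTop.SpacePres Groth.AdicLinTop.QuotFP
open Groth.SitesTopoi.GlobalFree (fr gen coef)

variable {T : Type u} [TopologicalSpace T] {O : Sheaf (Opens.grothendieckTopology T) CommRingCat.{u}}
  {M : ModSite.Mod O} {U : Opens T}

/-- The map out of the structure sheaf on the slice given by an element. -/
noncomputable def elemHom (N : ModOver O U) (y : sc N.val (top' U)) : oU O U ⟶ N :=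
  N.unitHomEquiv.symm (PresheafOfModules.sectionsMk
    (fun V => rsm N.val (Over.homMk (U := V.unop) (V := top' U) V.unop.hom (Category.comp_id _)) y)
    (fun V W f => by
      show rsm N.val f.unop _ = _
      rw [rsm_rsm]
      congr 1))

lemma ev_elemHom (N : ModOver O U) (y : sc N.val (top' U)) : ev (elemHom N y) = y := by
  have h : (N.unitHomEquiv (elemHom N y)).val (op (top' U)) =
      rsm N.val (Over.homMk (U := top' U) (V := top' U) (top' U).hom (Category.comp_id _)) y := by
    rw [elemHom, Equiv.apply_symm_apply]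
    rfl
  refine h.trans ?_
  rw [show (Over.homMk (U := top' U) (V := top' U) (top' U).hom (Category.comp_id _) : top' U ⟶ top' U) = 𝟙 _ from
    Over.OverMorphism.ext (Subsingleton.elim _ _), rsm_id]

variable {I : Type u} (g : I → sc M.val U)

/-- The map out of a free module given by sections. -/
noncomputable def mapOfSec : fr (O.over U) I ⟶ (ModSite.restr O U).obj M :=
  Cofan.IsColimit.desc (SheafOfModules.isColimitFreeCofan I) fun i => ofElem (g i)

/-- A morphism to the slice at the top. -/
abbrev toTop (W : Over U) : W ⟶ top' U := Over.homMk (U := W) (V := top' U) W.hom (Category.comp_id _)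

lemma apm_mapOfSec_gen {W : Opens T} (hW : W ≤ U) (i : I) :
    apm (mapOfSec g).val (ov hW) (gen (O.over U) (ov hW) i) = (rm M hW (g i) : sc M.val W) := by
  have e : apm (mapOfSec g).val (top' U) (gen (O.over U) (top' U) i) = ev (ofElem (g i)) := by
    refine Eq.trans ?_ (congrArg (fun k => ev k) (Cofan.IsColimit.fac (SheafOfModules.isColimitFreeCofan I)
      (fun i => ofElem (g i)) i))
    rfl
  rw [← FreeSections.rsm_gen (toTop (ov hW)) i, apm_rsm, e]
  show rsm ((ModSite.restr O U).obj M).val _ (ev (ofElem (g i))) = _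
  exact congrArg (rsm M.val (homOfLE hW)) (ev_ofElem (g i))

lemma apm_mapOfSec_comb {W : Opens T} (hW : W ≤ U) (s : Finset I) (a : I → rsec O W) :
    apm (mapOfSec g).val (ov hW) (∑ i ∈ s, (show rsec (O.over U) (ov hW) from a i) • gen (O.over U) (ov hW) i) =
      (∑ i ∈ s, a i • rm M hW (g i) : sc M.val W) := by
  rw [map_sum]
  refine Finset.sum_congr rfl fun i _ => ?_
  rw [map_smul, apm_mapOfSec_gen]

/-- Finite relations between the sections. -/
def Rel : Type u :=
  {r : Finset I × (I → rsec O U) // ∑ i ∈ r.1, r.2 i • g i = 0}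

/-- The relation as an element of the free module. -/
noncomputable def relElt (r : Rel g) : sc (fr (O.over U) I).val (top' U) :=
  ∑ i ∈ r.1.1, (show rsec (O.over U) (top' U) from r.1.2 i) • gen (O.over U) (top' U) i

/-- The map given by the relations. -/
noncomputable def mapOfRel : fr (O.over U) (Rel g) ⟶ fr (O.over U) I :=
  Cofan.IsColimit.desc (SheafOfModules.isColimitFreeCofan (Rel g)) fun r => elemHom _ (relElt g r)

lemma apm_mapOfRel_gen {W : Opens T} (hW : W ≤ U) (r : Rel g) :
    apm (mapOfRel g).val (ov hW) (gen (O.over U) (ov hW) r) =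
      ∑ i ∈ r.1.1, (show rsec (O.over U) (ov hW) from rr hW (r.1.2 i)) • gen (O.over U) (ov hW) i := by
  have e : apm (mapOfRel g).val (top' U) (gen (O.over U) (top' U) r) = relElt g r := by
    refine Eq.trans ?_ (ev_elemHom _ (relElt g r))
    refine Eq.trans ?_ (congrArg (fun k => ev k) (Cofan.IsColimit.fac (SheafOfModules.isColimitFreeCofan (Rel g))
      (fun r => elemHom _ (relElt g r)) r))
    rfl
  rw [← FreeSections.rsm_gen (toTop (ov hW)) r, apm_rsm, e, relElt, map_sum]
  refine Finset.sum_congr rfl fun i _ => ?_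
  rw [rsm_smul, FreeSections.rsm_gen]
  rfl

lemma mapOfRel_mapOfSec : mapOfRel g ≫ mapOfSec g = 0 := by
  refine Cofan.IsColimit.hom_ext (SheafOfModules.isColimitFreeCofan (Rel g)) _ _ fun r => ev_ext ?_
  show apm (mapOfSec g).val (top' U) (apm (mapOfRel g).val (top' U) (gen (O.over U) (top' U) r)) = _
  have h := congrArg (apm (mapOfSec g).val (ov (le_refl U))) (apm_mapOfRel_gen g (le_refl U) r)
  rw [apm_mapOfSec_comb g (le_refl U)] at h
  have h0 : (∑ i ∈ r.1.1, rr (le_refl U) (r.1.2 i) • rm M (le_refl U) (g i) : sc M.val U) = 0 := by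
    refine (Finset.sum_congr rfl fun i _ => ?_).trans r.2
    rw [rm_self]
    exact congrArg (· • g i) (rsR_id _)
  exact h.trans h0

variable (hgen : ∀ (W : Opens T) (hW : W ≤ U) (t : sc M.val W), ∀ x ∈ W,
    ∃ (V : Opens T) (hV : V ≤ W), x ∈ V ∧ ∃ (s : Finset I) (a : I → rsec O V),
      rm M hV t = ∑ i ∈ s, a i • rm M (hV.trans hW) (g i))

include hgen in
lemma epi_mapOfSec : Epi (mapOfSec g) := by
  refine epi_of_locSurj _ (locSurj_of_nhds _ fun W q x hx => ?_)
  obtain ⟨V, hV, hxV, s, a, ha⟩ := hgen W.left W.hom.le q x hx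
  refine ⟨V, hV, hxV, ∑ i ∈ s, (show rsec (O.over U) (ov (hV.trans W.hom.le)) from a i) •
    gen (O.over U) (ov (hV.trans W.hom.le)) i, ?_⟩
  rw [apm_mapOfSec_comb]
  exact ha.symm

variable (hrel : ∀ (W : Opens T) (hW : W ≤ U) (s : Finset I) (a : I → rsec O W),
    ∑ i ∈ s, a i • rm M hW (g i) = 0 → ∀ x ∈ W, ∃ (V : Opens T) (hV : V ≤ W), x ∈ V ∧
      ∃ (R : Finset (Rel g)) (c : Rel g → rsec O V),
        ∀ i, onSet s (fun i => rr hV (a i)) i = ∑ r ∈ R, c r * onSet r.1.1 (fun i => rr (hV.trans hW) (r.1.2 i)) i)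

include hrel in
lemma epi_lift_mapOfRel : Epi (kernel.lift _ (mapOfRel g) (mapOfRel_mapOfSec g)) := by
  classical
  refine epi_of_locSurj _ (locSurj_of_nhds _ fun W q x hx => ?_)
  let y := apm (kernel.ι (mapOfSec g)).val W q
  obtain ⟨S, hS, hS'⟩ := FreeSections.exists_finite_comb (O := O.over U) y
  obtain ⟨V₁, hV₁, hxV₁, hSV⟩ := exists_nhd_of_mem ((GrothendieckTopology.mem_over_iff _ _).1 hS) hx
  let g₁ : ov (hV₁.trans W.hom.le) ⟶ W := Over.homMk (homOfLE hV₁)
  obtain ⟨s, a, ha⟩ := hS' g₁ ((Sieve.overEquiv_iff S (homOfLE hV₁)).1 hSV)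
  have hz : (∑ i ∈ s, a i • rm M (hV₁.trans W.hom.le) (g i) : sc M.val V₁) = 0 := by
    have e1 : apm (mapOfSec g).val (ov (hV₁.trans W.hom.le)) (rsm (fr (O.over U) I).val g₁ y) = 0 := by
      rw [apm_rsm]
      have : apm (mapOfSec g).val W y = 0 :=
        congrArg (fun k => apm (SheafOfModules.Hom.val k) W q) (kernel.condition (mapOfSec g))
      rw [this, map_zero]
    rw [ha, apm_mapOfSec_comb] at e1
    exact e1
  obtain ⟨V, hV, hxV, R, c, hc⟩ := hrel V₁ (hV₁.trans W.hom.le) s a hz x hxV₁
  have hVU : V ≤ U := (hV.trans hV₁).trans W.hom.le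
  refine ⟨V, hV.trans hV₁, hxV,
    ∑ r ∈ R, (show rsec (O.over U) (ov hVU) from c r) • gen (O.over U) (ov hVU) r, ?_⟩
  refine injective_of_mono (kernel.ι (mapOfSec g)) _ ?_
  show apm (kernel.lift _ (mapOfRel g) (mapOfRel_mapOfSec g) ≫ kernel.ι (mapOfSec g)).val _ _ = _
  rw [kernel.lift_ι, apm_rsm, map_sum]
  have e2 : rsm (fr (O.over U) I).val (Over.homMk (U := ov hVU) (V := W) (homOfLE (hV.trans hV₁))) y =
      rsm (fr (O.over U) I).val
        (Over.homMk (U := ov hVU) (V := ov (hV₁.trans W.hom.le)) (homOfLE hV)) (rsm (fr (O.over U) I).val g₁ y) := by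
    rw [rsm_rsm]
    rfl
  show _ = rsm (fr (O.over U) I).val (Over.homMk (U := ov hVU) (V := W) (homOfLE (hV.trans hV₁))) y
  rw [e2, ha, map_sum]
  simp only [rsm_smul, FreeSections.rsm_gen, map_smul, apm_mapOfRel_gen, Finset.smul_sum, smul_smul]
  let t : Finset I := s ∪ R.biUnion fun r => r.1.1
  calc ∑ r ∈ R, ∑ i ∈ r.1.1, ((show rsec (O.over U) (ov hVU) from c r) *
        (show rsec (O.over U) (ov hVU) from rr hVU (r.1.2 i))) • gen (O.over U) (ov hVU) i
      = ∑ r ∈ R, ∑ i ∈ t, (show rsec (O.over U) (ov hVU) from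
          c r * onSet r.1.1 (fun i => rr hVU (r.1.2 i)) i) • gen (O.over U) (ov hVU) i := by
        refine Finset.sum_congr rfl fun r hr => ?_
        refine Finset.sum_subset_zero_on_sdiff (fun i hi => Finset.mem_union_right _ (Finset.mem_biUnion.2 ⟨r, hr, hi⟩))
          (fun i hi => ?_) (fun i hi => ?_)
        · simp only [onSet, if_neg (Finset.mem_sdiff.1 hi).2, mul_zero]
          exact zero_smul _ _
        · simp only [onSet, if_pos hi]
    _ = ∑ i ∈ t, (show rsec (O.over U) (ov hVU) from onSet s (fun i => rr hV (a i)) i) •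
          gen (O.over U) (ov hVU) i := by
        rw [Finset.sum_comm]
        refine Finset.sum_congr rfl fun i _ => ?_
        rw [← Finset.sum_smul]
        exact congrArg (fun z => (show rsec (O.over U) (ov hVU) from z) • gen (O.over U) (ov hVU) i) (hc i).symm
    _ = _ := by
        symm
        refine Finset.sum_subset_zero_on_sdiff Finset.subset_union_left (fun i hi => ?_) (fun i hi => ?_)
        · simp only [onSet, if_neg (Finset.mem_sdiff.1 hi).2]
          exact zero_smul _ _
        · simp only [onSet, if_pos hi]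
          rfl

include hgen hrel in
/-- The presentation. -/
theorem nonempty_presentation : Nonempty ((ModSite.restr O U).obj M).Presentation :=
  ⟨presOfEpi (mapOfSec g) (epi_mapOfSec g hgen) (kernel.lift _ (mapOfRel g) (mapOfRel_mapOfSec g))
    (epi_lift_mapOfRel g hrel)⟩

omit g

/-- Presentations near every point give quasi-coherence. -/
theorem isQuasicoherent_of_presentations
    (h : ∀ x : T, ∃ U : Opens T, x ∈ U ∧ Nonempty ((ModSite.restr O U).obj M).Presentation) :
    SheafOfModules.IsQuasicoherent.{u} (R := ModSite.ringSh O) M := by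
  choose U hxU P using h
  exact SheafOfModules.IsQuasicoherent.mk (R := ModSite.ringSh O) (M := M)
    ⟨{ I := T
       X := U
       coversTop := by
        rw [Opens.coversTop_iff]
        ext x
        simpa [Opens.mem_iSup] using ⟨x, hxU x⟩
       presentation := fun x => (P x).some }⟩

end Groth.AdicLinTop.InfPres
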