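import Groth.Agent.AdicLinTop.MilnorSheaf
import Groth.Agent.AdicLinTop.ClosedCoh
import Groth.Agent.CohBase.AffineVanishing
import Groth.Agent.AdicLinTop.FormalCoh

/-!
# Cohomology of realisations on formal schemes as limits over the levels
-/

set_option autoImplicit false

universe u

open CategoryTheory CategoryTheory.Limits AlgebraicGeometry TopologicalSpace Opposite
open CategoryTheory.Abelian (Ext)

namespace Groth.AdicLinTop.LevelsH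

open Groth.CohBase Groth.AdicLinTop.FormalLevels Groth.AdicLinTop.FormalReal Groth.AdicLinTop.FormalAffine

variable {𝔛 : FSch.Sys.{u}} (h : 𝔛.IsFormal) (𝔐 : FSch.ModSys 𝔛)

theorem isClosedEmbedding_gInv (k : ℕ) : Topology.IsClosedEmbedding (𝔛.gInv h k).hom :=
  (TopCat.homeoOfIso (asIso (𝔛.gInv h k))).isClosedEmbedding

/-- The abelian sheaf of the direct image from a level. -/
noncomputable abbrev lvSh (k : ℕ) : AbSheaf (𝔛.X 0).toTopCat :=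
  ModSite.toAb ((push h k).obj (𝔐.F k))

/-- The transition maps of the abelian sheaves of the levels. -/
noncomputable abbrev lvT (k : ℕ) : lvSh h 𝔐 (k + 1) ⟶ lvSh h 𝔐 k :=
  (SheafOfModules.toSheaf _).map (trans h 𝔐 k)

/-- The projections from the realisation to the levels. -/
noncomputable abbrev lvP (k : ℕ) : ModSite.toAb (𝔐.realMod h) ⟶ lvSh h 𝔐 k :=
  (SheafOfModules.toSheaf _).map (proj h 𝔐 k)

theorem lvSh_eq (k : ℕ) : lvSh h 𝔐 k = (pushSheaf (𝔛.gInv h k)).obj (abSheaf (𝔐.F k)) := rfl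

theorem lvP_lvT (k : ℕ) : lvP h 𝔐 (k + 1) ≫ lvT h 𝔐 k = lvP h 𝔐 k :=
  ((SheafOfModules.toSheaf _).map_comp _ _).symm.trans
    (congrArg (fun φ => (SheafOfModules.toSheaf _).map φ) (proj_trans h 𝔐 k))

theorem hVanish_lvSh {k : ℕ} (hq : (𝔐.F k).IsQuasicoherent) {U : (𝔛.X 0).Opens}
    (hU : IsAffineOpen (𝔛.lvU h k U)) (i : ℕ) :
    HVanish (lvSh h 𝔐 k) (i + 1) U :=
  ClosedCoh.hVanish_push (𝔛.gInv h k) (isClosedEmbedding_gInv h k) (hVanish_of_isAffineOpen (𝔐.F k) hU i)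

/-- A section at a level as a section of the sheaf on the space. -/
noncomputable def toLv (k : ℕ) (U : (𝔛.X 0).Opens) (x : Γ(𝔐.F k, 𝔛.lvU h k U)) : (lvSh h 𝔐 k).obj.obj (op U) := x

/-- The transition maps on sections. -/
theorem lvT_toLv (k : ℕ) (U : (𝔛.X 0).Opens) (x : Γ(𝔐.F (k + 1), 𝔛.lvU h (k + 1) U)) :
    (lvT h 𝔐 k).hom.app (op U) (toLv h 𝔐 (k + 1) U x) =
      toLv h 𝔐 k U (pushEquiv k (𝔐.F k) U (app (trans h 𝔐 k) U ((pushEquiv (k + 1) (𝔐.F (k + 1)) U).symm x))) := rfl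

variable {h 𝔐}

theorem lvP_lim (U : (𝔛.X 0).Opens) :
    (∀ a : (ModSite.toAb (𝔐.realMod h)).obj.obj (op U), (∀ k, (lvP h 𝔐 k).hom.app (op U) a = 0) → a = 0) ∧
    ∀ y : ∀ k, (lvSh h 𝔐 k).obj.obj (op U), (∀ k, (lvT h 𝔐 k).hom.app (op U) (y (k + 1)) = y k) →
      ∃ a, ∀ k, (lvP h 𝔐 k).hom.app (op U) a = y k := by
  refine ⟨fun a ha => ?_, fun y hy => ?_⟩
  · exact (exists_unique_sec h 𝔐 U (fun _ => 0) fun _ => map_zero _).unique ha fun _ => map_zero _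
  · obtain ⟨a, ha, -⟩ := exists_unique_sec h 𝔐 U y hy
    exact ⟨a, ha⟩

variable (h𝔛 : 𝔛.IsLocNoethFormal) (h𝔐 : 𝔐.IsCoh) {n : ℕ} {G : AbSheaf (𝔛.X 0).toTopCat}

include h𝔐 in
theorem vanish_affine : ∀ U ∈ (𝔛.X 0).affineOpens, ∀ k i,
    Subsingleton (CategoryTheory.Sheaf.H' (lvSh h𝔛.1 𝔐 k) (i + 1) U) :=
  fun _ hU k i => hVanish_lvSh h𝔛.1 𝔐 (h𝔐 k).1 (isAffineOpen_lvU h𝔛.1 hU k) i

include h𝔐 in
theorem surjective_affine : ∀ U ∈ (𝔛.X 0).affineOpens, ∀ k,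
    Function.Surjective ((lvT h𝔛.1 𝔐 k).hom.app (op U)) :=
  fun _ hU k => (trans_spec h𝔛 h𝔐 hU k).1

include h𝔐 in
/-- `Ext` into a realisation maps onto the compatible families at the levels. -/
theorem exists_of_compatible (y : ∀ k, Ext G (lvSh h𝔛.1 𝔐 k) n)
    (hy : ∀ k, (y (k + 1)).comp (Ext.mk₀ (lvT h𝔛.1 𝔐 k)) (add_zero n) = y k) :
    ∃ x : Ext G (ModSite.toAb (𝔐.realMod h𝔛.1)) n, ∀ k, x.comp (Ext.mk₀ (lvP h𝔛.1 𝔐 k)) (add_zero n) = y k :=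
  MilnorSheaf.exists_of_compatible_seq (X := (𝔛.X 0).toTopCat) (𝔛.X 0).affineOpens (𝔛.X 0).isBasis_affineOpens
    (vanish_affine h𝔛 h𝔐) (surjective_affine h𝔛 h𝔐) (lvP h𝔛.1 𝔐) (lvP_lvT h𝔛.1 𝔐) (fun U _ => lvP_lim U) y hy

/-- Stable images of the cohomology of the levels. -/
abbrev LvML (G : AbSheaf (𝔛.X 0).toTopCat) (n : ℕ) : Prop :=
  MilnorSheaf.HML G (lvT h𝔛.1 𝔐) n

include h𝔐 in
/-- A class of a realisation with zero images at the levels vanishes, given stable images one degree down. -/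
theorem eq_zero_of_forall (hML : ∀ m, n = m + 1 → LvML (𝔐 := 𝔐) h𝔛 G m)
    (x : Ext G (ModSite.toAb (𝔐.realMod h𝔛.1)) n)
    (hx : ∀ k, x.comp (Ext.mk₀ (lvP h𝔛.1 𝔐 k)) (add_zero n) = 0) : x = 0 := by
  cases n with
  | zero =>
    exact MilnorSheaf.eq_zero_of_forall_zero_seq (X := (𝔛.X 0).toTopCat) (𝔛.X 0).affineOpens
      (𝔛.X 0).isBasis_affineOpens (lvP h𝔛.1 𝔐) (lvP_lvT h𝔛.1 𝔐) (fun U _ => lvP_lim U) x hx
  | succ m =>
    exact MilnorSheaf.eq_zero_of_forall_seq (X := (𝔛.X 0).toTopCat) (𝔛.X 0).affineOpens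
      (𝔛.X 0).isBasis_affineOpens (vanish_affine h𝔛 h𝔐) (surjective_affine h𝔛 h𝔐)
      (lvP h𝔛.1 𝔐) (lvP_lvT h𝔛.1 𝔐) (fun U _ => lvP_lim U) (hML m rfl) x hx

end Groth.AdicLinTop.LevelsH
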