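import Mathlib.Algebra.Homology.DerivedCategory.Ext.ExactSequences
import Mathlib.Algebra.Homology.DerivedCategory.Ext.EnoughInjectives
import Mathlib.CategoryTheory.Abelian.FunctorCategory
import Groth.Agent.CohC3.Tower
import Groth.Agent.SiteCohomology.ModulesRLim

/-!
# The Milnor sequence for `Ext` into the limit of a tower

For an `ℕ`-indexed tower whose terms are acyclic for a family of detecting objects and whose
transition maps are surjective on those objects, `Ext^n(G, lim E)` maps onto `lim Ext^n(G, E_k)`,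
bijectively when the tower `Ext^(n-1)(G, E_k)` is Mittag-Leffler.
-/

set_option autoImplicit false

universe w v u

open CategoryTheory CategoryTheory.Limits CategoryTheory.Abelian Opposite

namespace Groth.AdicLinTop.Milnor

open Groth.CohC3.Tower (c c_self c_succ c_comp t_c)

section Towers

variable (G : ℕ → Type w) [∀ n, AddCommGroup (G n)] (t : ∀ n, G (n + 1) →+ G n)

/-- The images in each level stabilise. -/
def TowerML : Prop :=
  ∀ i, ∃ (j : ℕ) (h : i ≤ j), ∀ (k : ℕ) (h' : i ≤ k) (x : G j), ∃ y : G k, c G t i k h' y = c G t i j h x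

variable {G t}

/-- A tower with stable images has a surjective difference map. -/
theorem TowerML.exists_sub_eq (hG : TowerML G t) (e : ∀ n, G n) :
    ∃ u : ∀ n, G n, ∀ n, t n (u (n + 1)) - u n = e n := by
  choose J hJ hst using hG
  have h1 : ∀ i, ∀ s ∈ (c G t i (J i) (hJ i)).range,
      ∃ s' ∈ (c G t (i + 1) (J (i + 1)) (hJ (i + 1))).range, t i s' = s := by
    rintro i _ ⟨z, rfl⟩
    obtain ⟨y, hy⟩ := hst i (max (i + 1) (max (J i) (J (i + 1)))) (by omega) z
    refine ⟨c G t (i + 1) (max (i + 1) (max (J i) (J (i + 1)))) (le_max_left _ _) y,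
      ⟨c G t (J (i + 1)) _ ((le_max_right (J i) _).trans (le_max_right (i + 1) _)) y, c_comp _ _ _ _ _ _ _ _⟩, ?_⟩
    rw [t_c]
    exact hy
  have h2 : ∀ i, ∀ s ∈ (c G t (i + 1) (J (i + 1)) (hJ (i + 1))).range,
      t i s ∈ (c G t i (J i) (hJ i)).range := by
    rintro i _ ⟨z, rfl⟩
    obtain ⟨y, hy⟩ := hst (i + 1) (max (i + 1) (max (J i) (J (i + 1)))) (le_max_left _ _) z
    refine ⟨c G t (J i) _ ((le_max_left _ (J (i + 1))).trans (le_max_right (i + 1) _)) y, ?_⟩
    rw [c_comp, ← hy, t_c]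
  obtain ⟨x, hx⟩ := Groth.CohC3.Tower.towerDiff_surjective_of_subgroups G t
    (fun i => (c G t i (J i) (hJ i)).range) h1 h2
    (fun i => ⟨J i, hJ i, fun z => ⟨z, rfl⟩⟩) (fun n => - e n)
  refine ⟨x, fun n => ?_⟩
  have h := congrFun hx n
  change x n - t n (x (n + 1)) = - e n at h
  rw [← neg_sub, h, neg_neg]

theorem c_naturality {H : ℕ → Type w} [∀ n, AddCommGroup (H n)] {s : ∀ n, H (n + 1) →+ H n}
    (f : ∀ n, G n →+ H n) (hf : ∀ n x, f n (t n x) = s n (f (n + 1) x)) (i k : ℕ) (h : i ≤ k) (x : G k) :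
    f i (c G t i k h x) = c H s i k h (f k x) := by
  induction k, h using Nat.le_induction with
  | base => rw [c_self, c_self]
  | succ k hk ih =>
    rw [← c_comp G t i k (k + 1) hk (Nat.le_succ k), c_succ, ih, hf,
      ← c_comp H s i k (k + 1) hk (Nat.le_succ k), c_succ]

theorem c_surjective (ht : ∀ n, Function.Surjective (t n)) (i k : ℕ) (h : i ≤ k) :
    Function.Surjective (c G t i k h) := by
  induction k, h using Nat.le_induction with
  | base => exact fun x => ⟨x, c_self G t i x⟩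
  | succ k hk ih =>
    intro x
    obtain ⟨y, rfl⟩ := ih x
    obtain ⟨z, rfl⟩ := ht k y
    exact ⟨z, by rw [← c_comp G t i k (k + 1) hk (Nat.le_succ k), c_succ]⟩

/-- A recursion along a tower with surjective transition maps. -/
theorem exists_sub_eq_of_surjective (ht : ∀ n, Function.Surjective (t n)) (e : ∀ n, G n) :
    ∃ u : ∀ n, G n, ∀ n, t n (u (n + 1)) - u n = e n := by
  choose g hg using ht
  refine ⟨fun n => Nat.rec 0 (fun k x => g k (x + e k)) n, fun n => ?_⟩
  change t n (g n (_ + e n)) - _ = _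
  rw [hg, add_sub_cancel_left]

end Towers

variable {C : Type u} [Category.{v} C] [Abelian C] [HasExt.{w} C]

/-- The transition maps of a tower. -/
abbrev trn (E : ℕᵒᵖ ⥤ C) (k : ℕ) : E.obj (op (k + 1)) ⟶ E.obj (op k) :=
  E.map (homOfLE (Nat.le_succ k)).op

/-- Lifts into a limit from successive compatibility. -/
theorem exists_lift {D : Type u} [Category.{v} D] {E : ℕᵒᵖ ⥤ D} [HasLimit E] {b : D}
    (s : ∀ k, b ⟶ E.obj (op k)) (hs : ∀ k, s (k + 1) ≫ E.map (homOfLE (Nat.le_succ k)).op = s k) :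
    ∃ l : b ⟶ limit E, ∀ k, l ≫ limit.π E (op k) = s k := by
  have key : ∀ i j (h : i ≤ j), s j ≫ E.map (homOfLE h).op = s i := by
    intro i j h
    induction j, h using Nat.le_induction with
    | base => exact (congrArg _ (E.map_id _)).trans (Category.comp_id _)
    | succ k hk ih =>
      rw [show (homOfLE (hk.trans (Nat.le_succ k))).op = (homOfLE (Nat.le_succ k)).op ≫ (homOfLE hk).op from rfl,
        E.map_comp, reassoc_of% (hs k), ih]
  refine ⟨limit.lift E { pt := b, π := { app := fun k => s k.unop, naturality := fun i j f => ?_ } },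
    fun k => limit.lift_π _ _⟩
  change 𝟙 b ≫ s j.unop = s i.unop ≫ E.map f
  rw [Category.id_comp]
  exact (key j.unop i.unop (leOfHom f.unop)).symm

/-- Acyclicity and surjectivity of transition maps at a family of objects. -/
structure Good (B : Set C) (E : ℕᵒᵖ ⥤ C) : Prop where
  /-- the levels are acyclic at `B` -/
  vanish : ∀ b ∈ B, ∀ k i, Subsingleton (Ext b (E.obj (op k)) (i + 1))
  /-- the transition maps are surjective at `B` -/
  surj : ∀ b ∈ B, ∀ (k : ℕ) (f : b ⟶ E.obj (op k)), ∃ g, g ≫ trn E k = f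

variable (G : C) (E : ℕᵒᵖ ⥤ C) (n : ℕ)

/-- The transition maps on `Ext`. -/
noncomputable abbrev extT (k : ℕ) : Ext G (E.obj (op (k + 1))) n →+ Ext G (E.obj (op k)) n :=
  (Ext.mk₀ (trn E k)).postcomp G (add_zero n)

/-- Stable images of the tower of `Ext` groups. -/
abbrev ExtML : Prop := TowerML (fun k => Ext G (E.obj (op k)) n) (extT G E n)

variable [HasLimitsOfShape ℕᵒᵖ C]

/-- The projections on `Ext`. -/
noncomputable abbrev extP (k : ℕ) : Ext G (limit E) n →+ Ext G (E.obj (op k)) n :=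
  (Ext.mk₀ (limit.π E (op k))).postcomp G (add_zero n)

variable {G E n}

theorem sub_comp' {X Y Z : C} {n m p : ℕ} (a b : Ext X Y n) (β : Ext Y Z m) (h : n + m = p) :
    (a - b).comp β h = a.comp β h - b.comp β h := by
  rw [sub_eq_add_neg, Ext.add_comp, Ext.neg_comp, ← sub_eq_add_neg]

theorem mk₀_comp_eq {X Y Z Y' : C} (f : X ⟶ Y) (g : Y ⟶ Z) (f' : X ⟶ Y') (g' : Y' ⟶ Z) (h : f ≫ g = f' ≫ g')
    (x : Ext G X n) :
    (x.comp (Ext.mk₀ f) (add_zero n)).comp (Ext.mk₀ g) (add_zero n) =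
      (x.comp (Ext.mk₀ f') (add_zero n)).comp (Ext.mk₀ g') (add_zero n) := by
  rw [Ext.comp_assoc_of_third_deg_zero, Ext.comp_assoc_of_third_deg_zero, Ext.mk₀_comp_mk₀, Ext.mk₀_comp_mk₀, h]

theorem eq_zero_of_comp_zero {b X : C} {z : Ext b X 0} {E : ℕᵒᵖ ⥤ C} (φ : X ⟶ limit E) (hφ : Mono φ)
    (hz : ∀ k, z.comp (Ext.mk₀ (φ ≫ limit.π E (op k))) (add_zero 0) = 0) : z = 0 := by
  obtain ⟨f, rfl⟩ := (Ext.mk₀_bijective b X).2 z
  rw [Ext.mk₀_eq_zero_iff, ← cancel_mono φ, zero_comp]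
  refine limit.hom_ext fun ⟨k⟩ => ?_
  rw [zero_comp, Category.assoc]
  simpa using hz k

section Embedding

variable [EnoughInjectives C]

open Groth.SiteCohomology.ModulesRLim (coTower toCoTower mono_toCoTower)

theorem exists_embedding (E : ℕᵒᵖ ⥤ C) : ∃ (I : ℕᵒᵖ ⥤ C) (ι : E ⟶ I), Mono ι ∧ (∀ k, Injective (I.obj (op k))) ∧
    Injective (limit I) ∧ ∀ k, ∃ s : I.obj (op k) ⟶ I.obj (op (k + 1)), s ≫ trn I k = 𝟙 _ := by
  classical
  let J : ℕ → C := fun n => Injective.under (E.obj (op n))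
  refine ⟨coTower J, toCoTower E J fun n => Injective.ι _, mono_toCoTower E J fun n => Injective.ι _,
    fun k => inferInstanceAs (Injective (∏ᶜ _)), ⟨fun {X Y} g f _ => ?_⟩, fun k => ?_⟩
  · let h : ∀ j : ℕ, Y ⟶ J j := fun j => Injective.factorThru
      (g ≫ limit.π (coTower J) (op j) ≫ Pi.π (fun m : Fin (j + 1) => J m) ⟨j, Nat.lt_succ_self j⟩) f
    let cn : Cone (coTower J) :=
      { pt := Y
        π :=
          { app := fun k => Pi.lift fun m : Fin (k.unop + 1) => h m.1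
            naturality := fun i j e => by
              apply Pi.hom_ext
              intro m
              simp [coTower] } }
    refine ⟨limit.lift (coTower J) cn, limit.hom_ext fun ⟨k⟩ => Pi.hom_ext _ _ fun m => ?_⟩
    have e : limit.lift (coTower J) cn ≫ limit.π _ (op k) = Pi.lift fun m : Fin (k + 1) => h m.1 := limit.lift_π _ _
    refine (congrArg (· ≫ Pi.π (fun m : Fin (k + 1) => J m) m) ((Category.assoc _ _ _).trans (congrArg (f ≫ ·) e))).trans ?_
    rw [Category.assoc, Pi.lift_π, Injective.comp_factorThru]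
    refine Eq.trans (congrArg (g ≫ ·) ?_) (Category.assoc _ _ _).symm
    refine (congrArg (· ≫ _) (limit.w (coTower J) (homOfLE (Nat.le_of_lt_succ m.2)).op).symm).trans ?_
    exact (Category.assoc _ _ _).trans (congrArg (limit.π (coTower J) (op k) ≫ ·) (Pi.lift_π _ _))
  · let s : (coTower J).obj (op k) ⟶ (coTower J).obj (op (k + 1)) := Pi.lift fun m : Fin (k + 1 + 1) =>
      if h : (m : ℕ) < k + 1 then Pi.π (fun i : Fin (k + 1) => J i) ⟨m, h⟩ else 0
    refine ⟨s, Pi.hom_ext _ _ fun m => ?_⟩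
    simp only [coTower, s, trn, Category.assoc, Pi.lift_π, Category.id_comp]
    exact dif_pos m.2

/-- The quotient of a tower by an embedding. -/
noncomputable abbrev seq {E I : ℕᵒᵖ ⥤ C} (ι : E ⟶ I) : ShortComplex (ℕᵒᵖ ⥤ C) :=
  ShortComplex.mk ι (cokernel.π ι) (cokernel.condition ι)

theorem comp_π_app {E I : ℕᵒᵖ ⥤ C} (ι : E ⟶ I) (k : ℕᵒᵖ) : ι.app k ≫ (cokernel.π ι).app k = 0 := by
  rw [← NatTrans.comp_app, cokernel.condition]
  rfl

/-- The short complex at a level. -/
noncomputable abbrev levelSC {E I : ℕᵒᵖ ⥤ C} (ι : E ⟶ I) (k : ℕ) : ShortComplex C :=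
  ShortComplex.mk (ι.app (op k)) ((cokernel.π ι).app (op k)) (comp_π_app ι (op k))

/-- The short complex of limits. -/
noncomputable abbrev limSC {E I : ℕᵒᵖ ⥤ C} (ι : E ⟶ I) : ShortComplex C :=
  ShortComplex.mk (limMap ι) (limMap (cokernel.π ι)) (limit.hom_ext fun k => by
    rw [Category.assoc, limMap_π, limMap_π_assoc, comp_π_app, comp_zero, zero_comp])

theorem shortExact_level {E I : ℕᵒᵖ ⥤ C} (ι : E ⟶ I) [Mono ι] (k : ℕ) : (levelSC ι k).ShortExact :=
  have h : (seq ι).ShortExact :=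
    { exact := ShortComplex.exact_of_g_is_cokernel _ (cokernelIsCokernel ι), mono_f := inferInstance,
      epi_g := inferInstanceAs (Epi (cokernel.π ι)) }
  h.map_of_exact ((evaluation ℕᵒᵖ C).obj (op k))

variable {B : Set C} {E I : ℕᵒᵖ ⥤ C} (ι : E ⟶ I) [Mono ι]

theorem exists_preimage (hE : Good B E) {b : C} (hb : b ∈ B) (k : ℕ) (g : b ⟶ (cokernel ι).obj (op k)) :
    ∃ i, i ≫ (cokernel.π ι).app (op k) = g := by
  have : Subsingleton (Ext b (levelSC ι k).X₁ (0 + 1)) := hE.vanish b hb k 0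
  obtain ⟨x, hx⟩ := Ext.covariant_sequence_exact₃ b (shortExact_level ι k) (Ext.mk₀ g) (rfl : 0 + 1 = 1)
    (Subsingleton.elim _ _)
  obtain ⟨i, rfl⟩ := (Ext.mk₀_bijective _ _).2 x
  exact ⟨i, (Ext.mk₀_bijective _ _).1 (by rw [← Ext.mk₀_comp_mk₀]; exact hx)⟩

variable (hI : ∀ k, Injective (I.obj (op k)))
  (hsec : ∀ k, ∃ s : I.obj (op k) ⟶ I.obj (op (k + 1)), s ≫ trn I k = 𝟙 _)

include hI hsec in
theorem good_cokernel (hE : Good B E) : Good B (cokernel ι) where
  vanish b hb k i := by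
    refine subsingleton_of_forall_eq 0 fun x => ?_
    have : Subsingleton (Ext b (levelSC ι k).X₁ (i + 1 + 1)) :=
      hE.vanish b hb k (i + 1)
    have : Injective (levelSC ι k).X₂ := hI k
    obtain ⟨x₂, rfl⟩ := Ext.covariant_sequence_exact₃ b (shortExact_level ι k) x (rfl : i + 1 + 1 = i + 1 + 1)
      (Subsingleton.elim _ _)
    rw [Ext.eq_zero_of_injective x₂, Ext.zero_comp]
  surj b hb k f := by
    obtain ⟨i, rfl⟩ := exists_preimage ι hE hb k f
    obtain ⟨s, hs⟩ := hsec k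
    refine ⟨i ≫ s ≫ (cokernel.π ι).app (op (k + 1)), ?_⟩
    rw [Category.assoc, Category.assoc, ← (cokernel.π ι).naturality, reassoc_of% hs]

variable (hB : ∀ {X Y : C} (f : X ⟶ Y), (∀ b ∈ B, ∀ g : b ⟶ Y, ∃ g', g' ≫ f = g) → Epi f)

omit hI in
include hB hsec in
theorem shortExact_lim [(lim : (ℕᵒᵖ ⥤ C) ⥤ C).PreservesZeroMorphisms] (hE : Good B E) :
    (limSC ι).ShortExact := by
  have : PreservesLimitsOfSize.{0, 0} (lim : (ℕᵒᵖ ⥤ C) ⥤ C) := constLimAdj.rightAdjoint_preservesLimits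
  have hm : Mono (limSC ι).f := inferInstanceAs (Mono ((lim : (ℕᵒᵖ ⥤ C) ⥤ C).map ι))
  refine { exact := ?_, mono_f := hm, epi_g := ?_ }
  · exact (ShortComplex.exact_of_g_is_cokernel (seq ι) (cokernelIsCokernel ι)).map_of_mono_of_preservesKernel
      (lim : (ℕᵒᵖ ⥤ C) ⥤ C) (inferInstanceAs (Mono ι)) inferInstance
  refine hB _ fun b hb g => ?_
  choose s hs using fun k => exists_preimage ι hE hb k (g ≫ limit.π _ (op k))
  have hd : ∀ k, (s (k + 1) ≫ trn I k - s k) ≫ (cokernel.π ι).app (op k) = 0 := fun k => by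
    rw [Preadditive.sub_comp, Category.assoc, (cokernel.π ι).naturality, reassoc_of% (hs (k + 1)), hs]
    exact sub_eq_zero.2 (congrArg (g ≫ ·) (limit.w (cokernel ι) (homOfLE (Nat.le_succ k)).op))
  have hl : ∀ k, ∃ d : b ⟶ E.obj (op k), d ≫ ι.app (op k) = s (k + 1) ≫ trn I k - s k := fun k => by
    have hS := shortExact_level ι k
    have := hS.mono_f
    exact ⟨hS.exact.lift _ (hd k), hS.exact.lift_f _ (hd k)⟩
  choose d hd' using hl
  obtain ⟨u, hu⟩ := exists_sub_eq_of_surjective (G := fun k => (b ⟶ E.obj (op k)))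
    (t := fun k => Preadditive.rightComp b (trn E k)) (fun k f => hE.surj b hb k f) d
  obtain ⟨l, hl⟩ := exists_lift (E := I) (fun k => s k - u k ≫ ι.app (op k)) fun k => by
    have h1 : u (k + 1) ≫ trn E k - u k = d k := hu k
    rw [Preadditive.sub_comp, Category.assoc, ← ι.naturality, ← Category.assoc,
      show u (k + 1) ≫ trn E k = u k + d k by rw [← h1]; abel, Preadditive.add_comp, hd']
    abel
  refine ⟨l, limit.hom_ext fun ⟨k⟩ => ?_⟩
  have h1 : (seq ι).g ≫ 𝟙 _ = cokernel.π ι := Category.comp_id _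
  change (l ≫ limMap (cokernel.π ι)) ≫ limit.π _ (op k) = g ≫ limit.π _ (op k)
  rw [Category.assoc, limMap_π, ← Category.assoc, hl, Preadditive.sub_comp, Category.assoc,
    show ι.app (op k) ≫ (cokernel.π ι).app (op k) = 0 by rw [← NatTrans.comp_app, cokernel.condition]; rfl,
    comp_zero, sub_zero, hs]

/-- The short complexes at successive levels. -/
noncomputable abbrev levelHom (k : ℕ) : levelSC ι (k + 1) ⟶ levelSC ι k where
  τ₁ := trn E k
  τ₂ := trn I k
  τ₃ := trn (cokernel ι) k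
  comm₁₂ := ι.naturality _
  comm₂₃ := (cokernel.π ι).naturality _

/-- The projection from the short complex of limits. -/
noncomputable abbrev limHom (k : ℕ) : limSC ι ⟶ levelSC ι k where
  τ₁ := limit.π E (op k)
  τ₂ := limit.π I (op k)
  τ₃ := limit.π (cokernel ι) (op k)
  comm₁₂ := (limMap_π ι (op k)).symm
  comm₂₃ := (limMap_π (cokernel.π ι) (op k)).symm

theorem extT_apply {G : C} {E : ℕᵒᵖ ⥤ C} {n : ℕ} (k : ℕ) (x : Ext G (E.obj (op (k + 1))) n) :
    extT G E n k x = x.comp (Ext.mk₀ (trn E k)) (add_zero n) := rfl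

end Embedding

theorem delta_naturality {S₁ S₂ : ShortComplex C} (h₁ : S₁.ShortExact) (h₂ : S₂.ShortExact) (f : S₁ ⟶ S₂)
    {m : ℕ} (x : Ext G S₁.X₃ m) :
    (x.comp h₁.extClass rfl).comp (Ext.mk₀ f.τ₁) (add_zero (m + 1)) =
      (x.comp (Ext.mk₀ f.τ₃) (add_zero m)).comp h₂.extClass rfl := by
  rw [Ext.comp_assoc_of_third_deg_zero, ShortComplex.ShortExact.extClass_naturality h₁ h₂ f]
  exact (Ext.comp_assoc x (Ext.mk₀ f.τ₃) h₂.extClass (add_zero m) (zero_add 1) (by omega)).symm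

variable [EnoughInjectives C] {B : Set C}
  (hB : ∀ {X Y : C} (f : X ⟶ Y), (∀ b ∈ B, ∀ g : b ⟶ Y, ∃ g', g' ≫ f = g) → Epi f)

include hB in
/-- `Ext` into the limit of a tower maps onto the limit of `Ext`. -/
theorem exists_of_compatible [(lim : (ℕᵒᵖ ⥤ C) ⥤ C).PreservesZeroMorphisms] :
    ∀ (n : ℕ) {E : ℕᵒᵖ ⥤ C} (_ : Good B E) (y : ∀ k, Ext G (E.obj (op k)) n)
      (_ : ∀ k, extT G E n k (y (k + 1)) = y k), ∃ x, ∀ k, extP G E n k x = y k
  | 0, E, _, y, hy => by
    choose s hs using fun k => (Ext.mk₀_bijective G (E.obj (op k))).2 (y k)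
    obtain ⟨l, hl⟩ := exists_lift s fun k => (Ext.mk₀_bijective _ _).1 (by
      rw [hs, ← hy, ← hs (k + 1), ← Ext.mk₀_comp_mk₀]; rfl)
    exact ⟨Ext.mk₀ l, fun k => by
      rw [← hs, ← hl k, ← Ext.mk₀_comp_mk₀]; rfl⟩
  | m + 1, E, hE, y, hy => by
    obtain ⟨I, ι, hι, hI, hIl, hsec⟩ := exists_embedding E
    have hS := shortExact_level ι
    have hy0 : ∀ k, ∃ z : Ext G ((cokernel ι).obj (op k)) m, z.comp (hS k).extClass rfl = y k := fun k => by
      have : Injective (levelSC ι k).X₂ := hI k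
      exact Ext.covariant_sequence_exact₁ G (hS k) (y k) (Ext.eq_zero_of_injective _) rfl
    choose z hz using hy0
    have hd : ∀ k, ∃ a : Ext G (I.obj (op k)) m,
        a.comp (Ext.mk₀ ((cokernel.π ι).app (op k))) (add_zero m) = extT G (cokernel ι) m k (z (k + 1)) - z k := by
      intro k
      refine Ext.covariant_sequence_exact₃ G (hS k) _ rfl ?_
      rw [sub_comp', hz]
      refine sub_eq_zero.2 ?_
      refine (delta_naturality (hS (k + 1)) (hS k) (levelHom ι k) (z (k + 1))).symm.trans ?_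
      rw [hz]
      exact hy k
    choose a ha using hd
    obtain ⟨u, hu⟩ := exists_sub_eq_of_surjective (G := fun k => Ext G (I.obj (op k)) m) (t := extT G I m)
      (fun k x => by
        obtain ⟨s, hs⟩ := hsec k
        refine ⟨x.comp (Ext.mk₀ s) (add_zero m), ?_⟩
        change (x.comp (Ext.mk₀ s) (add_zero m)).comp (Ext.mk₀ (trn I k)) (add_zero m) = x
        rw [Ext.comp_assoc_of_third_deg_zero, Ext.mk₀_comp_mk₀, hs, Ext.comp_mk₀_id]) a
    let z' : ∀ k, Ext G ((cokernel ι).obj (op k)) m := fun k =>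
      z k - (u k).comp (Ext.mk₀ ((cokernel.π ι).app (op k))) (add_zero m)
    obtain ⟨x', hx'⟩ := exists_of_compatible m (good_cokernel ι hI hsec hE) z' fun k => by
      have h1 := congrArg (fun t => t.comp (Ext.mk₀ ((cokernel.π ι).app (op k))) (add_zero m)) (hu k)
      simp only [sub_comp'] at h1
      rw [ha, extT_apply, mk₀_comp_eq _ _ _ _ ((cokernel.π ι).naturality (homOfLE (Nat.le_succ k)).op)] at h1
      simp only [z', extT, map_sub]
      change _ - ((u (k + 1)).comp (Ext.mk₀ ((cokernel.π ι).app (op (k + 1)))) (add_zero m)).comp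
        (Ext.mk₀ (trn (cokernel ι) k)) (add_zero m) = _
      rw [sub_eq_iff_eq_add] at h1
      rw [h1]
      abel
    refine ⟨x'.comp (shortExact_lim ι hsec hB hE).extClass rfl, fun k => ?_⟩
    refine (delta_naturality (shortExact_lim ι hsec hB hE) (hS k) (limHom ι k) x').trans ?_
    rw [show x'.comp (Ext.mk₀ (limHom ι k).τ₃) (add_zero m) = z' k from hx' k]
    simp only [z', sub_comp', hz]
    refine sub_eq_self.2 ?_
    rw [Ext.comp_assoc_of_second_deg_zero, (hS k).comp_extClass, Ext.comp_zero]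

include hB in
/-- One dimension shift. -/
theorem step [(lim : (ℕᵒᵖ ⥤ C) ⥤ C).PreservesZeroMorphisms]
    (m : ℕ) {E I : ℕᵒᵖ ⥤ C} {ι : E ⟶ I} [Mono ι] (hE : Good B E) (hML : ExtML G E m)
    (hI : ∀ k, Injective (I.obj (op k))) (hIl : Injective (limit I))
    (hsec : ∀ k, ∃ s : I.obj (op k) ⟶ I.obj (op (k + 1)), s ≫ trn I k = 𝟙 _)
    (x : Ext G (limit E) (m + 1)) (hx : ∀ k, extP G E (m + 1) k x = 0)
    (hz : ∀ x₃ : Ext G (limit (cokernel ι)) m, (∀ k, extP G (cokernel ι) m k x₃ = 0) → x₃ = 0) :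
    x = 0 := by
  have hS := shortExact_level ι
  have hL := shortExact_lim ι hsec hB hE
  have : Injective (limSC ι).X₂ := hIl
  obtain ⟨x', rfl⟩ := Ext.covariant_sequence_exact₁ G hL x (Ext.eq_zero_of_injective _) rfl
  have h1 : ∀ k, ∃ a : Ext G (I.obj (op k)) m,
      a.comp (Ext.mk₀ ((cokernel.π ι).app (op k))) (add_zero m) = extP G (cokernel ι) m k x' := fun k =>
    Ext.covariant_sequence_exact₃ G (hS k) _ rfl
      ((delta_naturality hL (hS k) (limHom ι k) x').symm.trans (hx k))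
  choose a ha using h1
  have h2 : ∀ k, ∃ e : Ext G (E.obj (op k)) m,
      e.comp (Ext.mk₀ (ι.app (op k))) (add_zero m) = extT G I m k (a (k + 1)) - a k := fun k => by
    refine Ext.covariant_sequence_exact₂ G (hS k) _ ?_
    change (extT G I m k (a (k + 1)) - a k).comp (Ext.mk₀ ((cokernel.π ι).app (op k))) (add_zero m) = 0
    rw [sub_comp', ha]
    refine sub_eq_zero.2 ?_
    refine (mk₀_comp_eq _ _ _ _ ((cokernel.π ι).naturality (homOfLE (Nat.le_succ k)).op) (a (k + 1))).trans ?_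
    rw [ha]
    exact mk₀_comp_eq (limit.π (cokernel ι) (op (k + 1))) _ (𝟙 _) (limit.π (cokernel ι) (op k))
      (by rw [Category.id_comp, limit.w]) x' |>.trans (by rw [Ext.comp_mk₀_id]; rfl)
  choose e he using h2
  obtain ⟨u, hu⟩ := hML.exists_sub_eq e
  let a' : ∀ k, Ext G (I.obj (op k)) m := fun k => a k - (u k).comp (Ext.mk₀ (ι.app (op k))) (add_zero m)
  have ha' : ∀ k, extT G I m k (a' (k + 1)) = a' k := fun k => by
    have h3 := congrArg (fun t => t.comp (Ext.mk₀ (ι.app (op k))) (add_zero m)) (hu k)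
    simp only [sub_comp'] at h3
    rw [he, extT_apply, mk₀_comp_eq _ _ _ _ (ι.naturality (homOfLE (Nat.le_succ k)).op)] at h3
    simp only [a', map_sub]
    change extT G I m k (a (k + 1)) - ((u (k + 1)).comp (Ext.mk₀ (ι.app (op (k + 1)))) (add_zero m)).comp
      (Ext.mk₀ (trn I k)) (add_zero m) = _
    rw [sub_eq_iff_eq_add] at h3
    rw [h3]
    abel
  have hA : ∃ A : Ext G (limit I) m, ∀ k, extP G I m k A = a' k := by
    cases m with
    | zero =>
      choose s hs using fun k => (Ext.mk₀_bijective G (I.obj (op k))).2 (a' k)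
      obtain ⟨l, hl⟩ := exists_lift s fun k => (Ext.mk₀_bijective _ _).1 (by
        rw [hs, ← ha', ← hs (k + 1), ← Ext.mk₀_comp_mk₀]; rfl)
      exact ⟨Ext.mk₀ l, fun k => by rw [← hs, ← hl k, ← Ext.mk₀_comp_mk₀]; rfl⟩
    | succ q => exact ⟨0, fun k => by
        have := hI k
        rw [Ext.eq_zero_of_injective (a' k), map_zero]⟩
  obtain ⟨A, hA⟩ := hA
  have h4 : x' - A.comp (Ext.mk₀ (limMap (cokernel.π ι))) (add_zero m) = 0 := by
    refine hz _ fun k => ?_
    rw [map_sub]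
    refine sub_eq_zero.2 ?_
    refine Eq.trans ?_ (mk₀_comp_eq _ _ _ _ (limMap_π (cokernel.π ι) (op k)).symm A)
    rw [show A.comp (Ext.mk₀ (limit.π I (op k))) (add_zero m) = a' k from hA k]
    simp only [a', sub_comp', ha]
    rw [Ext.comp_assoc_of_third_deg_zero, Ext.mk₀_comp_mk₀,
      show ι.app (op k) ≫ (cokernel.π ι).app (op k) = 0 by rw [← NatTrans.comp_app, cokernel.condition]; rfl,
      Ext.mk₀_zero, Ext.comp_zero, sub_zero]
  rw [sub_eq_zero.1 h4, Ext.comp_assoc_of_second_deg_zero, hL.comp_extClass, Ext.comp_zero]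

/-- Stable images pass to the quotient one degree down. -/
theorem ml_cokernel {E I : ℕᵒᵖ ⥤ C} (ι : E ⟶ I) [Mono ι] (hI : ∀ k, Injective (I.obj (op k)))
    (hsec : ∀ k, ∃ s : I.obj (op k) ⟶ I.obj (op (k + 1)), s ≫ trn I k = 𝟙 _)
    (m : ℕ) (hML : ExtML G E (m + 1)) : ExtML G (cokernel ι) m := by
  have hS := shortExact_level ι
  have hsurjI : ∀ k, Function.Surjective (extT G I m k) := fun k x => by
    obtain ⟨s, hs⟩ := hsec k
    refine ⟨x.comp (Ext.mk₀ s) (add_zero m), ?_⟩
    change (x.comp (Ext.mk₀ s) (add_zero m)).comp (Ext.mk₀ (trn I k)) (add_zero m) = x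
    rw [Ext.comp_assoc_of_third_deg_zero, Ext.mk₀_comp_mk₀, hs, Ext.comp_mk₀_id]
  let δ : ∀ k, Ext G ((cokernel ι).obj (op k)) m →+ Ext G (E.obj (op k)) (m + 1) := fun k =>
    (hS k).extClass.postcomp G rfl
  let π : ∀ k, Ext G (I.obj (op k)) m →+ Ext G ((cokernel ι).obj (op k)) m := fun k =>
    (Ext.mk₀ ((cokernel.π ι).app (op k))).postcomp G (add_zero m)
  intro i
  obtain ⟨j, hij, hj⟩ := hML i
  refine ⟨j, hij, fun k hik x => ?_⟩
  have hδ := c_naturality (G := fun k => Ext G ((cokernel ι).obj (op k)) m) (t := extT G (cokernel ι) m)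
    (H := fun k => Ext G (E.obj (op k)) (m + 1)) (s := extT G E (m + 1)) δ
    fun n x => (delta_naturality (hS (n + 1)) (hS n) (levelHom ι n) x).symm
  have hπ := c_naturality (G := fun k => Ext G (I.obj (op k)) m) (t := extT G I m)
    (H := fun k => Ext G ((cokernel ι).obj (op k)) m) (s := extT G (cokernel ι) m) π
    fun n x => mk₀_comp_eq _ _ _ _ ((cokernel.π ι).naturality (homOfLE (Nat.le_succ n)).op) x
  obtain ⟨y, hy⟩ := hj k hik (δ j x)
  have : Injective (levelSC ι k).X₂ := hI k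
  obtain ⟨x₃, hx₃⟩ := Ext.covariant_sequence_exact₁ G (hS k) y (Ext.eq_zero_of_injective _) rfl
  let a : Ext G ((cokernel ι).obj (op i)) m :=
    c (fun k => Ext G ((cokernel ι).obj (op k)) m) (extT G (cokernel ι) m) i j hij x
  let b : Ext G ((cokernel ι).obj (op i)) m :=
    c (fun k => Ext G ((cokernel ι).obj (op k)) m) (extT G (cokernel ι) m) i k hik x₃
  have hzero : δ i (a - b) = 0 := by
    rw [map_sub, sub_eq_zero]
    refine (hδ i j hij x).trans (hy.symm.trans ?_)
    refine Eq.trans ?_ (hδ i k hik x₃).symm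
    exact congrArg (c (fun k => Ext G (E.obj (op k)) (m + 1)) (extT G E (m + 1)) i k hik) hx₃.symm
  obtain ⟨w, hw⟩ := Ext.covariant_sequence_exact₃ G (hS i) (a - b) rfl hzero
  obtain ⟨w', rfl⟩ := c_surjective hsurjI i k hik w
  refine ⟨x₃ + π k w', ?_⟩
  rw [map_add, ← hπ i k hik w']
  exact (congrArg (b + ·) hw).trans (add_sub_cancel b a)

include hB in
/-- A class in `Ext` of a limit with zero images vanishes, given stable images one degree down. -/
theorem eq_zero_of_forall [(lim : (ℕᵒᵖ ⥤ C) ⥤ C).PreservesZeroMorphisms] :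
    ∀ (m : ℕ) {E : ℕᵒᵖ ⥤ C} (_ : Good B E) (_ : ExtML G E m) (x : Ext G (limit E) (m + 1))
      (_ : ∀ k, extP G E (m + 1) k x = 0), x = 0 := by
  intro m
  induction m with
  | zero =>
    intro E hE hML x hx
    obtain ⟨I, ι, hι, hI, hIl, hsec⟩ := exists_embedding E
    exact step hB 0 hE hML hI hIl hsec x hx fun x₃ h => by
      refine eq_zero_of_comp_zero (E := cokernel ι) (𝟙 (limit (cokernel ι))) inferInstance fun k => ?_
      rw [Category.id_comp]
      exact h k
  | succ m ih =>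
    intro E hE hML x hx
    obtain ⟨I, ι, hι, hI, hIl, hsec⟩ := exists_embedding E
    exact step hB (m + 1) hE hML hI hIl hsec x hx
      (ih (good_cokernel ι hI hsec hE) (ml_cokernel ι hI hsec m hML))
omit hB in
/-- A class in degree zero with zero images vanishes. -/
theorem eq_zero_of_forall_zero {E : ℕᵒᵖ ⥤ C} (x : Ext G (limit E) 0) (hx : ∀ k, extP G E 0 k x = 0) : x = 0 :=
  eq_zero_of_comp_zero (E := E) (𝟙 (limit E)) inferInstance fun k => by
    rw [Category.id_comp]
    exact hx k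

end Groth.AdicLinTop.Milnor
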