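import Groth.Agent.AdicLinTop.Milnor
import Groth.Agent.CohBase.Acyclic
import Mathlib.CategoryTheory.Sites.SheafCohomology.Basic

/-!
# The Milnor sequence for cohomology of a limit of a tower of abelian sheaves on a space
-/

set_option autoImplicit false

universe u

open CategoryTheory CategoryTheory.Limits CategoryTheory.Abelian Opposite TopologicalSpace

namespace Groth.AdicLinTop.MilnorSheaf

open Groth.CohBase

variable {X : TopCat.{u}}

theorem epi_of_lift (𝔅 : Set (Opens X)) (h𝔅 : Opens.IsBasis 𝔅) {F G : AbSheaf X} (f : F ⟶ G)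
    (h : ∀ b ∈ freeOpen '' 𝔅, ∀ g : b ⟶ G, ∃ g', g' ≫ f = g) : Epi f := by
  rw [← CategoryTheory.Sheaf.isLocallySurjective_iff_epi' AddCommGrpCat.{u}]
  constructor
  intro U t
  rw [Opens.mem_grothendieckTopology]
  intro x hx
  obtain ⟨V, hV, hxV, hVU⟩ := Opens.isBasis_iff_nbhd.1 h𝔅 hx
  obtain ⟨g, hg⟩ := h _ ⟨V, hV, rfl⟩ ((homFreeOpen V G).symm (G.obj.map (homOfLE hVU).op t))
  refine ⟨V, homOfLE hVU, ⟨homFreeOpen V F g, ?_⟩, hxV⟩
  refine (homFreeOpen_comp V f g).symm.trans ?_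
  rw [hg, AddEquiv.apply_symm_apply]

theorem good (𝔅 : Set (Opens X)) (E : ℕᵒᵖ ⥤ AbSheaf X)
    (hv : ∀ U ∈ 𝔅, ∀ k i, Subsingleton (CategoryTheory.Sheaf.H' (E.obj (op k)) (i + 1) U))
    (hs : ∀ U ∈ 𝔅, ∀ k, Function.Surjective ((Milnor.trn E k).hom.app (op U))) :
    Milnor.Good (freeOpen '' 𝔅) E where
  vanish := by
    rintro _ ⟨U, hU, rfl⟩ k i
    exact hv U hU k i
  surj := by
    rintro _ ⟨U, hU, rfl⟩ k f
    obtain ⟨s, hs⟩ := hs U hU k (homFreeOpen U _ f)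
    refine ⟨(homFreeOpen U _).symm s, (homFreeOpen U _).injective ?_⟩
    rw [homFreeOpen_comp, AddEquiv.apply_symm_apply]
    exact hs

section Limit

variable {E : ℕᵒᵖ ⥤ AbSheaf X} (𝔅 : Set (Opens X)) (h𝔅 : Opens.IsBasis 𝔅)
  (hv : ∀ U ∈ 𝔅, ∀ k i, Subsingleton (CategoryTheory.Sheaf.H' (E.obj (op k)) (i + 1) U))
  (hs : ∀ U ∈ 𝔅, ∀ k, Function.Surjective ((Milnor.trn E k).hom.app (op U)))
  {L : AbSheaf X} (π : ∀ k, L ⟶ E.obj (op k)) (hπ : ∀ k, π (k + 1) ≫ Milnor.trn E k = π k)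
  (hlim : ∀ U ∈ 𝔅, (∀ a : L.obj.obj (op U), (∀ k, (π k).hom.app (op U) a = 0) → a = 0) ∧
    ∀ y : ∀ k, (E.obj (op k)).obj.obj (op U),
      (∀ k, (Milnor.trn E k).hom.app (op U) (y (k + 1)) = y k) → ∃ a, ∀ k, (π k).hom.app (op U) a = y k)

include h𝔅 hπ hlim in
theorem exists_iso_limit : ∃ e : L ≅ limit E, ∀ k, e.hom ≫ limit.π E (op k) = π k := by
  obtain ⟨l, hl⟩ := Milnor.exists_lift (E := E) π hπ
  have hP : ∀ (V : Opens X) (g : freeOpen V ⟶ limit E), V ∈ 𝔅 → ∃ g', g' ≫ l = g := by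
    intro V g hV
    obtain ⟨a, ha⟩ := (hlim V hV).2 (fun k => homFreeOpen V _ (g ≫ limit.π _ (op k))) fun k => by
      rw [← homFreeOpen_comp, Category.assoc, limit.w]
    refine ⟨(homFreeOpen V L).symm a, limit.hom_ext fun ⟨k⟩ => (homFreeOpen V _).injective ?_⟩
    rw [Category.assoc, hl, homFreeOpen_comp, AddEquiv.apply_symm_apply]
    exact ha k
  have : Epi l := epi_of_lift 𝔅 h𝔅 l (by rintro _ ⟨V, hV, rfl⟩ g; exact hP V g hV)
  have : Mono l := by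
    refine Preadditive.mono_of_cancel_zero l fun {W} g hg => ?_
    refine CategoryTheory.Sheaf.hom_ext (NatTrans.ext (funext fun U => ?_))
    ext x
    refine TopCat.Sheaf.eq_of_locally_eq' L (fun V : {V // V ∈ 𝔅 ∧ V ≤ U.unop} => V.1) U.unop
      (fun V => homOfLE V.2.2) (fun y hy => ?_) _ _ fun V => ?_
    · obtain ⟨V, hV, hyV, hVU⟩ := Opens.isBasis_iff_nbhd.1 h𝔅 hy
      exact Opens.mem_iSup.2 ⟨⟨V, hV, hVU⟩, hyV⟩
    · refine (NatTrans.naturality_apply g.hom (homOfLE V.2.2).op x).symm.trans (Eq.trans ?_ (map_zero _).symm)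
      refine (hlim V.1 V.2.1).1 _ fun k => ?_
      have h0 : g ≫ π k = 0 := by rw [← hl k, reassoc_of% hg, zero_comp]
      exact congr(($h0).hom.app (op V.1) (W.obj.map (homOfLE V.2.2).op x))
  have : IsIso l := isIso_of_mono_of_epi l
  exact ⟨asIso l, hl⟩

variable {G : AbSheaf X} {n : ℕ}

include h𝔅 hv hs hπ hlim in
/-- `Ext` into a limit maps onto the limit of the `Ext` groups. -/
theorem exists_of_compatible (y : ∀ k, Ext G (E.obj (op k)) n)
    (hy : ∀ k, (y (k + 1)).comp (Ext.mk₀ (Milnor.trn E k)) (add_zero n) = y k) :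
    ∃ x : Ext G L n, ∀ k, x.comp (Ext.mk₀ (π k)) (add_zero n) = y k := by
  obtain ⟨e, he⟩ := exists_iso_limit 𝔅 h𝔅 π hπ hlim
  obtain ⟨x, hx⟩ := Milnor.exists_of_compatible (G := G) (epi_of_lift 𝔅 h𝔅) n (good 𝔅 E hv hs) y hy
  refine ⟨x.comp (Ext.mk₀ e.inv) (add_zero n), fun k => ?_⟩
  rw [Ext.comp_assoc_of_third_deg_zero, Ext.mk₀_comp_mk₀, ← he k, e.inv_hom_id_assoc]
  exact hx k

include h𝔅 hπ hlim in
/-- A class of a limit in degree zero with zero images vanishes. -/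
theorem eq_zero_of_forall_zero (x : Ext G L 0) (hx : ∀ k, x.comp (Ext.mk₀ (π k)) (add_zero 0) = 0) : x = 0 := by
  obtain ⟨e, he⟩ := exists_iso_limit 𝔅 h𝔅 π hπ hlim
  have h1 := Milnor.eq_zero_of_forall_zero (x.comp (Ext.mk₀ e.hom) (add_zero 0)) fun k => by
    change (x.comp (Ext.mk₀ e.hom) (add_zero 0)).comp (Ext.mk₀ (limit.π E (op k))) (add_zero 0) = 0
    rw [Ext.comp_assoc_of_third_deg_zero, Ext.mk₀_comp_mk₀, he k]
    exact hx k
  have h2 := congrArg (fun z => z.comp (Ext.mk₀ e.inv) (add_zero 0)) h1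
  simp only [Ext.comp_assoc_of_third_deg_zero, Ext.mk₀_comp_mk₀, e.hom_inv_id, Ext.comp_mk₀_id, Ext.zero_comp] at h2
  exact h2

include h𝔅 hv hs hπ hlim in
/-- A class of a limit with zero images vanishes, given stable images one degree down. -/
theorem eq_zero_of_forall (hML : Milnor.ExtML G E n) (x : Ext G L (n + 1))
    (hx : ∀ k, x.comp (Ext.mk₀ (π k)) (add_zero (n + 1)) = 0) : x = 0 := by
  obtain ⟨e, he⟩ := exists_iso_limit 𝔅 h𝔅 π hπ hlim
  have h1 := Milnor.eq_zero_of_forall (epi_of_lift 𝔅 h𝔅) n (good 𝔅 E hv hs) hML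
    (x.comp (Ext.mk₀ e.hom) (add_zero (n + 1))) fun k => by
      change (x.comp (Ext.mk₀ e.hom) (add_zero _)).comp (Ext.mk₀ (limit.π E (op k))) (add_zero _) = 0
      rw [Ext.comp_assoc_of_third_deg_zero, Ext.mk₀_comp_mk₀, he k]
      exact hx k
  have h2 := congrArg (fun z => z.comp (Ext.mk₀ e.inv) (add_zero (n + 1))) h1
  simp only [Ext.comp_assoc_of_third_deg_zero, Ext.mk₀_comp_mk₀, e.hom_inv_id, Ext.comp_mk₀_id, Ext.zero_comp] at h2
  exact h2

end Limit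

section Tower

variable {Y : ℕ → AbSheaf X} {t : ∀ k, Y (k + 1) ⟶ Y k}

theorem trn_ofOpSequence (k : ℕ) : Milnor.trn (Functor.ofOpSequence t) k = t k :=
  Functor.ofOpSequence_map_homOfLE_succ t k

variable (𝔅 : Set (Opens X)) (h𝔅 : Opens.IsBasis 𝔅)
  (hv : ∀ U ∈ 𝔅, ∀ k i, Subsingleton (CategoryTheory.Sheaf.H' (Y k) (i + 1) U))
  (hs : ∀ U ∈ 𝔅, ∀ k, Function.Surjective ((t k).hom.app (op U)))
  {L : AbSheaf X} (π : ∀ k, L ⟶ Y k) (hπ : ∀ k, π (k + 1) ≫ t k = π k)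
  (hlim : ∀ U ∈ 𝔅, (∀ a : L.obj.obj (op U), (∀ k, (π k).hom.app (op U) a = 0) → a = 0) ∧
    ∀ y : ∀ k, (Y k).obj.obj (op U), (∀ k, (t k).hom.app (op U) (y (k + 1)) = y k) →
      ∃ a, ∀ k, (π k).hom.app (op U) a = y k)
  {G : AbSheaf X} {n : ℕ}

include hlim in
theorem hlim_ofOpSequence : ∀ U ∈ 𝔅, (∀ a : L.obj.obj (op U), (∀ k, (π k).hom.app (op U) a = 0) → a = 0) ∧
    ∀ y : ∀ k, ((Functor.ofOpSequence t).obj (op k)).obj.obj (op U),
      (∀ k, (Milnor.trn (Functor.ofOpSequence t) k).hom.app (op U) (y (k + 1)) = y k) →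
        ∃ a, ∀ k, (π k).hom.app (op U) a = y k := fun U hU =>
  ⟨(hlim U hU).1, fun y hy => (hlim U hU).2 y fun k =>
    (congrArg (fun φ => φ.hom.app (op U) (y (k + 1))) (trn_ofOpSequence (t := t) k)).symm.trans (hy k)⟩

theorem hπ_ofOpSequence (hπ : ∀ k, π (k + 1) ≫ t k = π k) (k : ℕ) :
    π (k + 1) ≫ Milnor.trn (Functor.ofOpSequence t) k = π k :=
  (congrArg (π (k + 1) ≫ ·) (trn_ofOpSequence (t := t) k)).trans (hπ k)

theorem hs_ofOpSequence (hs : ∀ U ∈ 𝔅, ∀ k, Function.Surjective ((t k).hom.app (op U))) :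
    ∀ U ∈ 𝔅, ∀ k, Function.Surjective ((Milnor.trn (Functor.ofOpSequence t) k).hom.app (op U)) :=
  fun U hU k z => by
    obtain ⟨y, hy⟩ := hs U hU k z
    exact ⟨y, (congrArg (fun φ => φ.hom.app (op U) y) (trn_ofOpSequence (t := t) k)).trans hy⟩

include h𝔅 hv hs hπ hlim in
/-- `Ext` into a limit of a sequence maps onto the limit of the `Ext` groups. -/
theorem exists_of_compatible_seq (y : ∀ k, Ext G (Y k) n)
    (hy : ∀ k, (y (k + 1)).comp (Ext.mk₀ (t k)) (add_zero n) = y k) :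
    ∃ x : Ext G L n, ∀ k, x.comp (Ext.mk₀ (π k)) (add_zero n) = y k :=
  exists_of_compatible (E := Functor.ofOpSequence t) 𝔅 h𝔅 hv (hs_ofOpSequence 𝔅 hs) π (hπ_ofOpSequence π hπ)
    (hlim_ofOpSequence 𝔅 π hlim) y fun k =>
    (congrArg (fun φ => (y (k + 1)).comp (Ext.mk₀ φ) (add_zero n)) (trn_ofOpSequence (t := t) k)).trans (hy k)

include h𝔅 hπ hlim in
/-- A class of a limit of a sequence in degree zero with zero images vanishes. -/
theorem eq_zero_of_forall_zero_seq (x : Ext G L 0) (hx : ∀ k, x.comp (Ext.mk₀ (π k)) (add_zero 0) = 0) : x = 0 :=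
  eq_zero_of_forall_zero (E := Functor.ofOpSequence t) 𝔅 h𝔅 π (hπ_ofOpSequence π hπ) (hlim_ofOpSequence 𝔅 π hlim) x hx

/-- Stable images of the `Ext` groups of a sequence. -/
abbrev HML (G : AbSheaf X) (t : ∀ k, Y (k + 1) ⟶ Y k) (n : ℕ) : Prop :=
  Milnor.TowerML (fun k => Ext G (Y k) n) (fun k => (Ext.mk₀ (t k)).postcomp G (add_zero n))

theorem extML_ofOpSequence (h : HML G t n) : Milnor.ExtML G (Functor.ofOpSequence t) n := by
  have e : Milnor.extT G (Functor.ofOpSequence t) n = fun k => (Ext.mk₀ (t k)).postcomp G (add_zero n) :=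
    funext fun k => congrArg (fun φ => (Ext.mk₀ φ).postcomp G (add_zero n)) (trn_ofOpSequence (t := t) k)
  unfold Milnor.ExtML
  rw [e]
  exact h

include h𝔅 hv hs hπ hlim in
/-- A class of a limit of a sequence with zero images vanishes, given stable images one degree down. -/
theorem eq_zero_of_forall_seq (hML : HML G t n) (x : Ext G L (n + 1))
    (hx : ∀ k, x.comp (Ext.mk₀ (π k)) (add_zero (n + 1)) = 0) : x = 0 :=
  eq_zero_of_forall (E := Functor.ofOpSequence t) 𝔅 h𝔅 hv (hs_ofOpSequence 𝔅 hs) π (hπ_ofOpSequence π hπ)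
    (hlim_ofOpSequence 𝔅 π hlim) (extML_ofOpSequence hML) x hx

end Tower

end Groth.AdicLinTop.MilnorSheaf
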