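import Mathlib.Topology.Algebra.InfiniteSum.Nonarchimedean
import Mathlib.Topology.Algebra.InfiniteSum.NatInt
import Mathlib.Topology.Algebra.OpenSubgroup
import Mathlib.Topology.UniformSpace.Cauchy
import Mathlib.Tactic.Abel

/-!
Open mapping for complete non-archimedean groups with countably generated topology.
-/

set_option autoImplicit false

open Filter Topology Set

namespace Groth.AdicLinTop.OpenMapping

variable {G : Type*} [AddCommGroup G] [UniformSpace G] [IsUniformAddGroup G] [CompleteSpace G]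
  [T2Space G] [NonarchimedeanAddGroup G]
variable {H : Type*} [AddCommGroup H] [TopologicalSpace H] [IsTopologicalAddGroup H] [T2Space H]

theorem exists_antitone_openSubgroup (hc : (𝓝 (0 : G)).IsCountablyGenerated) :
    ∃ U : ℕ → OpenAddSubgroup G, Antitone U ∧
      ∀ s ∈ 𝓝 (0 : G), ∃ n, (U n : Set G) ⊆ s := by
  obtain ⟨s, hs⟩ := (𝓝 (0 : G)).exists_antitone_basis
  choose V hV using fun n => NonarchimedeanAddGroup.is_nonarchimedean (s n) (hs.mem n)
  refine ⟨fun n => (Finset.range (n + 1)).inf V, fun a b hab =>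
    Finset.inf_mono (Finset.range_subset_range.mpr (by omega)), fun t ht => ?_⟩
  obtain ⟨n, -, hn⟩ := hs.toHasBasis.mem_iff.mp ht
  exact ⟨n, subset_trans (SetLike.coe_subset_coe.mpr
    (Finset.inf_le (Finset.mem_range.mpr n.lt_succ_self))) ((hV n).trans hn)⟩

/-- Telescoping lift: a sequence of small preimages sums to a preimage of the limit. -/
theorem exists_preimage_of_steps (f : G →+ H) (hf : Continuous f) {U : ℕ → OpenAddSubgroup G}
    (hanti : Antitone U) (hsmall : ∀ s ∈ 𝓝 (0 : G), ∃ n, (U n : Set G) ⊆ s)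
    {k : ℕ} {g : ℕ → H} (hg : Tendsto g atTop (𝓝 0))
    (hstep : ∀ n, ∃ a ∈ U (k + n), f a = g n - g (n + 1)) :
    ∃ a ∈ U k, f a = g 0 := by
  choose a ha hfa using hstep
  have hs : Summable a := by
    refine NonarchimedeanAddGroup.summable_of_tendsto_cofinite_zero ?_
    rw [Nat.cofinite_eq_atTop]
    refine tendsto_def.mpr fun s hs => ?_
    obtain ⟨m, hm⟩ := hsmall s hs
    exact mem_atTop_sets.mpr ⟨m, fun n hn =>
      hm (hanti (hn.trans (Nat.le_add_left n k)) (ha n))⟩
  refine ⟨∑' n, a n, (U k).isClosed.mem_of_tendsto hs.hasSum.tendsto_sum_nat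
    (Eventually.of_forall fun n => sum_mem fun i _ => hanti (Nat.le_add_right k i) (ha i)), ?_⟩
  have h1 := ((hf.tendsto _).comp hs.hasSum.tendsto_sum_nat)
  refine tendsto_nhds_unique h1 ?_
  simp only [Function.comp_def, map_sum, hfa, Finset.sum_range_sub']
  simpa using hg.const_sub (g 0)

theorem exists_preimage_of_mem_closure (f : G →+ H) (hf : Continuous f)
    (hopen : ∀ U : OpenAddSubgroup G, closure (f '' U) ∈ 𝓝 (0 : H))
    {U : ℕ → OpenAddSubgroup G} (hanti : Antitone U)
    (hsmall : ∀ s ∈ 𝓝 (0 : G), ∃ n, (U n : Set G) ⊆ s) (k : ℕ) {y : H}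
    (hy : y ∈ closure (f '' (U k))) : ∃ a ∈ U k, f a = y := by
  have step : ∀ (n : ℕ) (z : H), z ∈ closure (f '' (U n)) →
      ∃ z', z' ∈ closure (f '' (U (n + 1))) ∧ ∃ a ∈ U n, f a = z - z' := by
    intro n z hz
    have h0 : (fun w => z - w) ⁻¹' closure (f '' (U (n + 1))) ∈ 𝓝 z := by
      apply (continuous_const.sub continuous_id).continuousAt.preimage_mem_nhds
      simpa using hopen (U (n + 1))
    obtain ⟨w, hw, a, ha, rfl⟩ := mem_closure_iff_nhds.mp hz _ h0
    exact ⟨z - f a, hw, a, ha, by abel⟩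
  choose! z hz hza using step
  let g : ℕ → H := fun n => Nat.rec y (fun n w => z (k + n) w) n
  have hg : ∀ n, g n ∈ closure (f '' (U (k + n))) := by
    intro n
    induction n with
    | zero => exact hy
    | succ m ih => exact hz _ _ ih
  refine exists_preimage_of_steps f hf hanti hsmall (k := k) (g := g) ?_ fun n => hza _ _ (hg n)
  refine (closed_nhds_basis (0 : H)).tendsto_right_iff.mpr fun s ⟨hs, hsc⟩ => ?_
  obtain ⟨m, hm⟩ := hsmall (f ⁻¹' s) (hf.continuousAt.preimage_mem_nhds (by simpa using hs))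
  filter_upwards [eventually_ge_atTop m] with n hn
  exact closure_minimal
    (image_subset_iff.mpr fun a ha => hm (hanti (hn.trans (Nat.le_add_left n k)) ha)) hsc (hg n)

theorem surjective_and_isOpenMap (f : G →+ H) (hf : Continuous f) (hd : DenseRange f)
    (hc : (𝓝 (0 : G)).IsCountablyGenerated)
    (hopen : ∀ U : OpenAddSubgroup G, closure (f '' U) ∈ 𝓝 (0 : H)) :
    Function.Surjective f ∧ IsOpenMap f := by
  obtain ⟨U, hanti, hsmall⟩ := exists_antitone_openSubgroup hc
  refine ⟨fun y => ?_, ?_⟩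
  · have h0 : (fun w => y - w) ⁻¹' closure (f '' (U 0)) ∈ 𝓝 y := by
      apply (continuous_const.sub continuous_id).continuousAt.preimage_mem_nhds
      simpa using hopen (U 0)
    obtain ⟨w, hw, a, rfl⟩ := mem_closure_iff_nhds.mp (hd y) _ h0
    obtain ⟨b, -, hb⟩ := exists_preimage_of_mem_closure f hf hopen hanti hsmall 0 hw
    exact ⟨a + b, by rw [map_add, hb]; exact add_sub_cancel _ _⟩
  · intro V hV
    rw [isOpen_iff_mem_nhds]
    rintro _ ⟨x, hx, rfl⟩
    have : (fun g => x + g) ⁻¹' V ∈ 𝓝 (0 : G) := by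
      apply (continuous_const_add x).continuousAt.preimage_mem_nhds
      simpa using hV.mem_nhds hx
    obtain ⟨n, hn⟩ := hsmall _ this
    have hnb : (fun w => w - f x) ⁻¹' closure (f '' (U n)) ∈ 𝓝 (f x) := by
      apply (continuous_id.sub continuous_const).continuousAt.preimage_mem_nhds
      simpa using hopen (U n)
    refine mem_of_superset hnb fun w hw => ?_
    obtain ⟨b, hb, hfb⟩ := exists_preimage_of_mem_closure f hf hopen hanti hsmall n hw
    exact ⟨x + b, hn hb, by rw [map_add, hfb]; exact add_sub_cancel _ _⟩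

end Groth.AdicLinTop.OpenMapping

namespace Groth.AdicLinTop.OpenMapping

/-- The target of an open surjection from a complete first countable group is complete. -/
theorem completeSpace_of_open {G : Type*} [AddCommGroup G] [UniformSpace G] [IsUniformAddGroup G]
    [CompleteSpace G] [T2Space G] [NonarchimedeanAddGroup G]
    {H : Type*} [AddCommGroup H] [UniformSpace H] [IsUniformAddGroup H] [T2Space H]
    (f : G →+ H) (hf : Continuous f) (hsurj : Function.Surjective f) (hopen : IsOpenMap f)
    (hc : (𝓝 (0 : G)).IsCountablyGenerated) : CompleteSpace H := by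
  obtain ⟨U, hanti, hsmall⟩ := exists_antitone_openSubgroup hc
  have himg : ∀ n, f '' (U n) ∈ 𝓝 (0 : H) := fun n =>
    (hopen _ (U n).isOpen).mem_nhds ⟨0, (U n).zero_mem, map_zero f⟩
  haveI : (𝓝 (0 : H)).IsCountablyGenerated := by
    have hb : (𝓝 (0 : H)).HasBasis (fun _ : ℕ => True) (fun n => f '' (U n)) := by
      refine ⟨fun s => ⟨fun hs => ?_, fun ⟨n, _, hn⟩ => mem_of_superset (himg n) hn⟩⟩
      obtain ⟨n, hn⟩ := hsmall (f ⁻¹' s) (hf.continuousAt.preimage_mem_nhds (by simpa using hs))
      exact ⟨n, trivial, image_subset_iff.mpr hn⟩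
    exact hb.isCountablyGenerated
  haveI := IsUniformAddGroup.uniformity_countably_generated (α := H)
  refine UniformSpace.complete_of_convergent_controlled_sequences
    (fun n => {p : H × H | p.2 - p.1 ∈ f '' (U n)}) (fun n => ?_) fun u hu => ?_
  · rw [uniformity_eq_comap_nhds_zero H]
    exact preimage_mem_comap (himg n)
  · have hd : ∀ n, ∃ a ∈ U n, f a = u (n + 1) - u n := fun n => hu n n (n + 1) le_rfl n.le_succ
    choose a ha hfa using hd
    have hs : Summable a := by
      refine NonarchimedeanAddGroup.summable_of_tendsto_cofinite_zero ?_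
      rw [Nat.cofinite_eq_atTop]
      refine tendsto_def.mpr fun s hs => ?_
      obtain ⟨m, hm⟩ := hsmall s hs
      exact mem_atTop_sets.mpr ⟨m, fun n hn => hm (hanti hn (ha n))⟩
    refine ⟨u 0 + f (∑' n, a n), ?_⟩
    have h1 := ((hf.tendsto _).comp hs.hasSum.tendsto_sum_nat).const_add (u 0)
    simpa only [Function.comp_def, map_sum, hfa, Finset.sum_range_sub u, add_sub_cancel] using h1

end Groth.AdicLinTop.OpenMapping
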