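import Mathlib.Topology.Algebra.GroupCompletion
import Mathlib.Topology.Algebra.LinearTopology
import Mathlib.Topology.Algebra.UniformMulAction
import Mathlib.Topology.Algebra.Nonarchimedean.Completion
import Mathlib.Topology.Algebra.Module.Basic
import Mathlib.Topology.Algebra.InfiniteSum.Module
import Mathlib.RingTheory.Finiteness.Ideal
import Mathlib.RingTheory.Finiteness.Basic
import Groth.Agent.AdicLinTop.OpenMapping

/-!
Completions of linearly topologized modules and their quotients; I-adic open submodules.
-/

set_option autoImplicit false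

open Filter Topology Set UniformSpace

namespace Groth.AdicLinTop.ModuleCompletion

section quotient

variable {R : Type*} [Ring R] {M : Type*} [AddCommGroup M] [Module R M] [UniformSpace M]
  [IsUniformAddGroup M] [IsLinearTopology R M] (N : Submodule R M)

theorem nonarchimedean_module (R : Type*) [Ring R] (M : Type*) [AddCommGroup M] [Module R M]
    [TopologicalSpace M] [IsTopologicalAddGroup M] [IsLinearTopology R M] :
    NonarchimedeanAddGroup M where
  is_nonarchimedean s hs := by
    obtain ⟨W, hW, hWs⟩ := (IsLinearTopology.hasBasis_open_submodule R).mem_iff.mp hs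
    exact ⟨⟨W.toAddSubgroup, hW⟩, hWs⟩

theorem ker_map_eq {Q : Type*} [AddCommGroup Q] [UniformSpace Q] [IsUniformAddGroup Q]
    (q : M →+ Q) (hq : Continuous q) (hqo : IsOpenMap q) (hker : ∀ m, q m = 0 ↔ m ∈ N) :
    (q.completion hq) ⁻¹' {0} =
      closure (range (fun n : N => ((n : M) : Completion M))) := by
  set F := q.completion hq
  refine Subset.antisymm (fun x hx => ?_) (closure_minimal ?_ ?_)
  · rw [mem_closure_iff_nhds]
    intro s hs
    have hs0 : (fun z => x + z) ⁻¹' s ∈ 𝓝 (0 : Completion M) := by
      apply (continuous_const_add x).continuousAt.preimage_mem_nhds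
      simpa using hs
    have hb := (IsLinearTopology.hasBasis_open_submodule R (M := M)).hasBasis_of_isDenseInducing
      (Completion.isDenseInducing_coe (α := M))
    rw [Completion.coe_zero] at hb
    obtain ⟨W, hW, hWs⟩ := hb.mem_iff.mp hs0
    let D : AddSubgroup (Completion M) :=
      (W.toAddSubgroup.map Completion.toCompl).topologicalClosure
    have hD : D ≤ AddSubgroup.comap F ((W.toAddSubgroup.map q).map
        Completion.toCompl).topologicalClosure := by
      intro d hd
      refine map_mem_closure (AddMonoidHom.continuous_completion q hq) hd ?_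
      rintro _ ⟨w, hw, rfl⟩
      exact ⟨q w, ⟨w, hw, rfl⟩, (AddMonoidHom.completion_coe q hq w).symm⟩
    have hDn : (D : Set (Completion M)) ∈ 𝓝 0 := hb.mem_of_mem hW
    obtain ⟨_, hm, m, rfl⟩ := mem_closure_iff_nhds.mp (Completion.denseRange_coe x)
      ((fun z => x - z) ⁻¹' D)
      ((continuous_const.sub continuous_id).continuousAt.preimage_mem_nhds (by simpa using hDn))
    have h1 : F (m : Completion M) ∈ ((W.toAddSubgroup.map q).map
        Completion.toCompl).topologicalClosure := by
      have h2 := AddSubgroup.mem_comap.mp (hD hm)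
      simp only at h2
      rw [map_sub, show F x = 0 from hx, zero_sub] at h2
      simpa using neg_mem h2
    rw [AddMonoidHom.completion_coe] at h1
    have hWq : IsOpen ((W.toAddSubgroup.map q : AddSubgroup _) : Set Q) :=
      hqo _ hW
    have h3 : q m ∈ W.toAddSubgroup.map q := by
      have : q m ∈ closure ((W.toAddSubgroup.map q : AddSubgroup _) : Set Q) := by
        rw [(Completion.isUniformInducing_coe _).isInducing.closure_eq_preimage_closure_image]
        exact h1
      rwa [(AddSubgroup.isClosed_of_isOpen _ hWq).closure_eq] at this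
    obtain ⟨w, hw, hwm⟩ := h3
    have hn : m - w ∈ N := by
      have : q (m - w) = 0 := by rw [map_sub, hwm, sub_self]
      exact (hker _).mp this
    refine ⟨((m - w : M) : Completion M), ?_, ⟨⟨m - w, hn⟩, rfl⟩⟩
    have h4 : -((x - (m : Completion M)) + (w : Completion M)) ∈ D :=
      neg_mem (add_mem hm (subset_closure ⟨w, hw, rfl⟩))
    have h5 : (((m - w : M)) : Completion M) - x ∈ D := by
      convert h4 using 1
      rw [Completion.coe_sub]
      abel
    have h6 : (((m - w : M)) : Completion M) - x ∈ (fun z => x + z) ⁻¹' s := hWs h5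
    simpa using h6
  · rintro _ ⟨n, rfl⟩
    simp only [mem_preimage, mem_singleton_iff, F]
    rw [AddMonoidHom.completion_coe]
    rw [show q (n : M) = 0 from (hker _).mpr n.2, Completion.coe_zero]
  · exact isClosed_singleton.preimage (AddMonoidHom.continuous_completion q hq)

theorem surjective_and_isOpenMap (R : Type*) [Ring R] {M : Type*} [AddCommGroup M] [Module R M]
    [UniformSpace M] [IsUniformAddGroup M] [IsLinearTopology R M]
    {Q : Type*} [AddCommGroup Q] [UniformSpace Q] [IsUniformAddGroup Q]
    (q : M →+ Q) (hq : Continuous q) (hqo : IsOpenMap q) (hqs : Function.Surjective q)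
    (hc : (𝓝 (0 : M)).IsCountablyGenerated) :
    Function.Surjective (q.completion hq) ∧ IsOpenMap (q.completion hq) := by
  haveI := nonarchimedean_module R M
  refine OpenMapping.surjective_and_isOpenMap _ (AddMonoidHom.continuous_completion q hq) ?_ ?_
    fun U => ?_
  · refine Completion.denseRange_coe.mono ?_
    rintro _ ⟨y, rfl⟩
    obtain ⟨m, rfl⟩ := hqs y
    exact ⟨m, AddMonoidHom.completion_coe q hq m⟩
  · obtain ⟨t, ht⟩ := (𝓝 (0 : M)).exists_antitone_basis
    have := ht.toHasBasis.hasBasis_of_isDenseInducing (Completion.isDenseInducing_coe (α := M))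
    rw [Completion.coe_zero] at this
    exact this.isCountablyGenerated
  · have h1 : q '' ((fun a : M => (a : Completion M)) ⁻¹' U) ∈ 𝓝 (0 : Q) := by
      refine (hqo _ (U.isOpen.preimage (Completion.continuous_coe M))).mem_nhds ⟨0, ?_, map_zero q⟩
      simpa [Completion.coe_zero] using U.zero_mem
    have h2 := (Completion.isDenseInducing_coe (α := Q)).closure_image_mem_nhds h1
    rw [Completion.coe_zero] at h2
    refine mem_of_superset h2 (closure_mono ?_)
    rintro _ ⟨_, ⟨m, hm, rfl⟩, rfl⟩
    exact ⟨_, hm, AddMonoidHom.completion_coe q hq m⟩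

end quotient

section adic

variable {R : Type*} [CommRing R] {M : Type*} [AddCommGroup M] [Module R M] [UniformSpace M]
  [IsUniformAddGroup M] [UniformContinuousConstSMul R M]

/-- The canonical map to the completion as a linear map. -/
noncomputable def coeLM : M →ₗ[R] Completion M where
  toFun := (↑)
  map_add' := Completion.coe_add
  map_smul' := Completion.coe_smul

variable (I : Ideal R) (M' : Submodule R M)

/-- The closure in the completion of `I^n M'`. -/
noncomputable def D (n : ℕ) : Submodule R (Completion M) :=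
  ((I ^ n • M').map (coeLM (R := R))).topologicalClosure

theorem powSmulMono {a b : ℕ} (h : a ≤ b) : I ^ b • M' ≤ I ^ a • M' :=
  Submodule.smul_mono (Ideal.pow_le_pow_right h) le_rfl

theorem smul_D_le (n : ℕ) : I ^ n • D I M' 0 ≤ D I M' n :=
  Submodule.smul_le.mpr fun a ha z hz =>
    map_mem_closure (continuous_const_smul a) hz (by
      rintro _ ⟨y, hy, rfl⟩
      refine ⟨a • y, Submodule.smul_mem_smul ha ?_, map_smul _ _ _⟩
      simpa using hy)

variable {I M'}

theorem hasBasis_D (hopen : ∀ n : ℕ, IsOpen ((I ^ n • M' : Submodule R M) : Set M))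
    (hbasis : ∀ U ∈ 𝓝 (0 : M), ∃ n : ℕ, ((I ^ n • M' : Submodule R M) : Set M) ⊆ U) :
    (𝓝 (0 : Completion M)).HasBasis (fun _ : ℕ => True) (fun n => (D I M' n : Set _)) := by
  have hb : (𝓝 (0 : M)).HasBasis (fun _ : ℕ => True)
      (fun n => ((I ^ n • M' : Submodule R M) : Set M)) :=
    ⟨fun U => ⟨fun hU => let ⟨n, hn⟩ := hbasis U hU; ⟨n, trivial, hn⟩,
      fun ⟨n, _, hn⟩ => mem_of_superset ((hopen n).mem_nhds (zero_mem _)) hn⟩⟩
  have := hb.hasBasis_of_isDenseInducing (Completion.isDenseInducing_coe (α := M))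
  rw [Completion.coe_zero] at this
  exact this

theorem exists_near (hopen : ∀ n : ℕ, IsOpen ((I ^ n • M' : Submodule R M) : Set M))
    (hbasis : ∀ U ∈ 𝓝 (0 : M), ∃ n : ℕ, ((I ^ n • M' : Submodule R M) : Set M) ⊆ U)
    {s : Set (Completion M)} {x : Completion M} (hx : x ∈ closure s) (n : ℕ) :
    ∃ y ∈ s, x - y ∈ D I M' n := by
  obtain ⟨y, hy, hys⟩ := mem_closure_iff_nhds.mp hx ((fun z => x - z) ⁻¹' (D I M' n : Set _))
    ((continuous_const.sub continuous_id).continuousAt.preimage_mem_nhds (by
      simpa using (hasBasis_D hopen hbasis).mem_of_mem (i := n) trivial))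
  exact ⟨y, hys, hy⟩

theorem D_le_smul (hI : I.FG) (hopen : ∀ n : ℕ, IsOpen ((I ^ n • M' : Submodule R M) : Set M))
    (hbasis : ∀ U ∈ 𝓝 (0 : M), ∃ n : ℕ, ((I ^ n • M' : Submodule R M) : Set M) ⊆ U) (n : ℕ) :
    D I M' n ≤ I ^ n • D I M' 0 := by
  classical
  haveI : NonarchimedeanAddGroup M :=
    { is_nonarchimedean := fun U hU => by
        obtain ⟨k, hk⟩ := hbasis U hU
        exact ⟨⟨(I ^ k • M').toAddSubgroup, hopen k⟩, hk⟩ }
  obtain ⟨r, g, hg⟩ := Submodule.fg_iff_exists_fin_generating_family.mp
    (Ideal.FG.pow hI : (I ^ n).FG)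
  intro x hx
  have step : ∀ k, ∀ z ∈ D I M' (n + k), ∃ z' ∈ D I M' (n + (k + 1)), ∃ a : Fin r → M,
      (∀ i, a i ∈ I ^ k • M') ∧ z - z' = ∑ i, g i • (a i : Completion M) := by
    intro k z hz
    obtain ⟨_, ⟨y, hy, rfl⟩, hyz⟩ := exists_near hopen hbasis hz (n + (k + 1))
    have hy' : ∀ y ∈ I ^ n • (I ^ k • M'), ∃ a : Fin r → M, (∀ i, a i ∈ I ^ k • M') ∧
        y = ∑ i, g i • a i := by
      intro y hy
      refine Submodule.smul_induction_on hy (fun c hc m hm => ?_) ?_
      · rw [← hg] at hc
        obtain ⟨b, rfl⟩ := (Submodule.mem_span_range_iff_exists_fun R).mp hc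
        exact ⟨fun i => b i • m, fun i => Submodule.smul_mem _ _ hm, by
          rw [Finset.sum_smul]
          exact Finset.sum_congr rfl fun i _ => by rw [smul_eq_mul, mul_comm, mul_smul]⟩
      · rintro y y' ⟨a, ha, rfl⟩ ⟨a', ha', rfl⟩
        exact ⟨a + a', fun i => add_mem (ha i) (ha' i), by
          simp [Finset.sum_add_distrib, smul_add]⟩
    obtain ⟨a, ha, hay⟩ := hy' y (by rwa [← Submodule.smul_assoc, smul_eq_mul, ← pow_add])
    refine ⟨_, hyz, a, ha, ?_⟩
    rw [sub_sub_cancel]
    change (coeLM (R := R) y) = _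
    rw [hay, map_sum]
    simp only [map_smul]
    rfl
  choose! f hfD a ha hfa using step
  let z : ℕ → Completion M := fun k => Nat.rec x (fun k w => f k w) k
  have hz : ∀ k, z k ∈ D I M' (n + k) := by
    intro k
    induction k with
    | zero => exact hx
    | succ m ih => exact hfD _ _ ih
  have hbD := hasBasis_D hopen hbasis
  have ht : Tendsto z atTop (𝓝 0) := by
    refine hbD.tendsto_right_iff.mpr fun m _ => ?_
    filter_upwards [eventually_ge_atTop m] with k hk
    exact closure_mono (Set.image_mono (powSmulMono I M'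
      (hk.trans (Nat.le_add_left k n)))) (hz k)
  have hsum : ∀ i, Summable (fun k => (a k (z k) i : Completion M)) := by
    intro i
    refine NonarchimedeanAddGroup.summable_of_tendsto_cofinite_zero ?_
    rw [Nat.cofinite_eq_atTop]
    refine hbD.tendsto_right_iff.mpr fun m _ => ?_
    filter_upwards [eventually_ge_atTop m] with k hk
    exact subset_closure ⟨_, powSmulMono I M' hk (ha k _ (hz k) i), rfl⟩
  have hval : ∀ i, (∑' k, (a k (z k) i : Completion M)) ∈ D I M' 0 := by
    intro i
    refine (Submodule.isClosed_topologicalClosure _).mem_of_tendsto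
      (hsum i).hasSum.tendsto_sum_nat (Eventually.of_forall fun m => sum_mem fun k _ => ?_)
    exact subset_closure ⟨_, powSmulMono I M' (Nat.zero_le k)
      (ha k _ (hz k) i), rfl⟩
  have h1 : HasSum (fun k => z k - z (k + 1))
      (∑ i, g i • ∑' k, (a k (z k) i : Completion M)) := by
    have := hasSum_sum (s := Finset.univ) fun i (_ : i ∈ Finset.univ) =>
      HasSum.const_smul (g i) (hsum i).hasSum
    simpa [← hfa _ _ (hz _), z] using this
  have h2 : x = ∑ i, g i • ∑' k, (a k (z k) i : Completion M) := by
    refine tendsto_nhds_unique ?_ h1.tendsto_sum_nat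
    simp_rw [Finset.sum_range_sub' z]
    simpa [z] using ht.const_sub (z 0)
  rw [h2]
  exact sum_mem fun i _ => Submodule.smul_mem_smul
    (hg ▸ Submodule.subset_span ⟨i, rfl⟩) (hval i)

end adic

end Groth.AdicLinTop.ModuleCompletion
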