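import Groth.Prelude.Def_W4c61motalbdualityCompl
import Mathlib.Algebra.Category.Grp.Injective
import Mathlib.Algebra.Module.Injective
import Mathlib.GroupTheory.Divisible
import Mathlib.GroupTheory.FiniteAbelian.Basic
import Mathlib.GroupTheory.Index
import Mathlib.GroupTheory.OrderOfElement
import Mathlib.Topology.Algebra.OpenSubgroup
import Mathlib.Topology.Separation.Profinite
import Mathlib.Algebra.Module.Rat

/-!
Abelian groups with a smallest subgroup, characters, completions along open finite index subgroups.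
-/

set_option autoImplicit false

open Topology Pointwise

namespace Groth.AdicLinTop.ProCompl

universe u v

section essential

variable {A : Type*} [AddCommGroup A]

theorem exists_maximal_not_mem (H₀ : AddSubgroup A) {a : A} (ha : a ∉ H₀) :
    ∃ H : AddSubgroup A, H₀ ≤ H ∧ a ∉ H ∧
      ∀ B : AddSubgroup (A ⧸ H), B ≠ ⊥ → (a : A ⧸ H) ∈ B := by
  obtain ⟨H, hle, hmax⟩ := zorn_le_nonempty₀ {K : AddSubgroup A | a ∉ K} (fun c hc hchain K hK => by
    refine ⟨sSup c, ?_, fun L hL => le_sSup hL⟩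
    intro hmem
    rw [AddSubgroup.mem_sSup_of_directedOn ⟨K, hK⟩ hchain.directedOn] at hmem
    obtain ⟨L, hL, haL⟩ := hmem
    exact hc hL haL) H₀ ha
  refine ⟨H, hle, hmax.1, fun B hB => ?_⟩
  by_contra hab
  refine hB (le_bot_iff.mp fun q hq => ?_)
  obtain ⟨x, rfl⟩ := QuotientAddGroup.mk_surjective q
  have h1 : H ≤ B.comap (QuotientAddGroup.mk' H) := fun y hy => by
    rw [AddSubgroup.mem_comap, QuotientAddGroup.mk'_apply, (QuotientAddGroup.eq_zero_iff y).mpr hy]
    exact B.zero_mem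
  exact AddSubgroup.mem_bot.mpr ((QuotientAddGroup.eq_zero_iff x).mpr (hmax.2 hab h1 hq))

theorem isOfFinAddOrder_of_essential {a : A} (ha : a ≠ 0)
    (h : ∀ B : AddSubgroup A, B ≠ ⊥ → a ∈ B) (x : A) : IsOfFinAddOrder x := by
  have hmem : ∀ y : A, y ≠ 0 → ∃ k : ℤ, k • y = a := fun y hy => by
    have := h (AddSubgroup.zmultiples y) (by simpa [AddSubgroup.zmultiples_eq_bot] using hy)
    exact AddSubgroup.mem_zmultiples_iff.mp this
  have haf : IsOfFinAddOrder a := by
    rw [isOfFinAddOrder_iff_zsmul_eq_zero]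
    by_cases h2 : (2 : ℤ) • a = 0
    · exact ⟨2, two_ne_zero, h2⟩
    obtain ⟨k, hk⟩ := hmem _ h2
    refine ⟨k * 2 - 1, by omega, ?_⟩
    rw [sub_smul, mul_smul, hk, one_smul, sub_self]
  rw [isOfFinAddOrder_iff_zsmul_eq_zero]
  by_cases hx : x = 0
  · exact ⟨1, one_ne_zero, by simp [hx]⟩
  obtain ⟨k, hk⟩ := hmem x hx
  obtain ⟨n, hn, hna⟩ := isOfFinAddOrder_iff_zsmul_eq_zero.mp haf
  have hk0 : k ≠ 0 := fun h0 => ha (by rw [← hk, h0, zero_smul])
  exact ⟨n * k, mul_ne_zero hn hk0, by rw [mul_smul, hk, hna]⟩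

theorem finite_torsion_of_essential {a : A} (ha : a ≠ 0)
    (h : ∀ B : AddSubgroup A, B ≠ ⊥ → a ∈ B) (n : ℕ) (hn : n ≠ 0) :
    {x : A | n • x = 0}.Finite := by
  induction n using Nat.recOnMul with
  | zero => exact absurd rfl hn
  | one => simp
  | prime p hp =>
    by_cases hall : ∀ x : A, p • x = 0 → x = 0
    · exact (Set.finite_singleton 0).subset fun x hx => hall x hx
    · push Not at hall
      obtain ⟨y, hy, hy0⟩ := hall
      haveI : Fact p.Prime := ⟨hp⟩
      have hoy : IsOfFinAddOrder y := isOfFinAddOrder_iff_nsmul_eq_zero.mpr ⟨p, hp.pos, hy⟩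
      haveI : Finite (AddSubgroup.zmultiples y) := hoy.finite_zmultiples
      have hcard : Nat.card (AddSubgroup.zmultiples y) = p := by
        rw [Nat.card_zmultiples, addOrderOf_eq_prime hy hy0]
      refine (Set.toFinite (AddSubgroup.zmultiples y : Set A)).subset fun x hx => ?_
      by_cases hx0 : x = 0
      · simp [hx0]
      have hax := h (AddSubgroup.zmultiples x) (by simpa [AddSubgroup.zmultiples_eq_bot] using hx0)
      have hay := h (AddSubgroup.zmultiples y) (by simpa [AddSubgroup.zmultiples_eq_bot] using hy0)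
      have hxa : x ∈ AddSubgroup.zmultiples a := by
        have hox : IsOfFinAddOrder x := isOfFinAddOrder_iff_nsmul_eq_zero.mpr ⟨p, hp.pos, hx⟩
        haveI : Finite (AddSubgroup.zmultiples x) := hox.finite_zmultiples
        have hcx : Nat.card (AddSubgroup.zmultiples x) = p := by
          rw [Nat.card_zmultiples, addOrderOf_eq_prime hx hx0]
        have hdvd : AddSubgroup.zmultiples a ≤ AddSubgroup.zmultiples x :=
          AddSubgroup.zmultiples_le_of_mem hax
        have h1 := AddSubgroup.card_dvd_of_le hdvd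
        rw [hcx] at h1
        rcases hp.eq_one_or_self_of_dvd _ h1 with h2 | h2
        · rw [Nat.card_zmultiples, AddMonoid.addOrderOf_eq_one_iff] at h2
          exact absurd h2 ha
        · rw [AddSubgroup.eq_of_le_of_card_ge hdvd (by rw [hcx, h2])]
          exact AddSubgroup.mem_zmultiples x
      exact AddSubgroup.zmultiples_le_of_mem hay hxa
  | mul c d hc hd =>
    rw [mul_ne_zero_iff] at hn
    have hfib : {x : A | (c * d) • x = 0} = (fun x => d • x) ⁻¹' {z : A | c • z = 0} := by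
      ext x; simp [mul_nsmul']
    rw [hfib]
    refine (Set.Finite.preimage' (hc hn.1) fun z _ => ?_)
    by_cases hz : ∃ x₀, d • x₀ = z
    · obtain ⟨x₀, rfl⟩ := hz
      refine ((hd hn.2).image (fun w => x₀ + w)).subset fun x hx => ⟨x - x₀, ?_, add_sub_cancel _ _⟩
      show d • (x - x₀) = 0
      rw [smul_sub, show d • x = d • x₀ from hx, sub_self]
    · exact Set.finite_empty.subset fun x hx => hz ⟨x, hx⟩

theorem exists_finiteIndex_not_mem_of_fg [AddGroup.FG A] {a : A} (H₀ : AddSubgroup A) (ha : a ∉ H₀) :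
    ∃ H : AddSubgroup A, H₀ ≤ H ∧ H.FiniteIndex ∧ a ∉ H := by
  obtain ⟨H, hle, haH, hess⟩ := exists_maximal_not_mem H₀ ha
  have ha' : (a : A ⧸ H) ≠ 0 := fun h => haH ((QuotientAddGroup.eq_zero_iff a).mp h)
  haveI : Finite (A ⧸ H) := AddCommGroup.finite_of_fg_isAddTorsion _
    (isOfFinAddOrder_of_essential ha' hess)
  exact ⟨H, hle, AddSubgroup.finiteIndex_of_finite_quotient, haH⟩

theorem exists_finiteIndex_not_mem_of_exponent {a : A} (H₀ : AddSubgroup A) (ha : a ∉ H₀)
    {n : ℕ} (hn : n ≠ 0) (hH : ∀ x, n • x ∈ H₀) :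
    ∃ H : AddSubgroup A, H₀ ≤ H ∧ H.FiniteIndex ∧ a ∉ H := by
  obtain ⟨H, hle, haH, hess⟩ := exists_maximal_not_mem H₀ ha
  have ha' : (a : A ⧸ H) ≠ 0 := fun h => haH ((QuotientAddGroup.eq_zero_iff a).mp h)
  haveI : Finite (A ⧸ H) := by
    refine Set.finite_univ_iff.mp ((finite_torsion_of_essential ha' hess n hn).subset fun q _ => ?_)
    obtain ⟨x, rfl⟩ := QuotientAddGroup.mk_surjective q
    show n • (x : A ⧸ H) = 0
    rw [← QuotientAddGroup.mk_nsmul]
    exact (QuotientAddGroup.eq_zero_iff _).mpr (hle (hH x))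
  exact ⟨H, hle, AddSubgroup.finiteIndex_of_finite_quotient, haH⟩

end essential

section characters

/-- A character of a subgroup extends to the group. -/
theorem exists_extension {A B : Type*} [AddCommGroup A] [AddCommGroup B] (i : A →+ B)
    (hi : Function.Injective i) {Q : Type} [AddCommGroup Q] [DivisibleBy Q ℤ] (χ : A →+ Q) :
    ∃ ψ : B →+ Q, ψ.comp i = χ := by
  obtain ⟨g, hg⟩ := Module.Baer.extension_property_addMonoidHom (Module.Baer.of_divisible Q) i hi χ
  exact ⟨g, hg⟩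

noncomputable instance : DivisibleBy (ℚ ⧸ AddSubgroup.zmultiples (1 : ℚ)) ℤ :=
  (QuotientAddGroup.mk_surjective (s := AddSubgroup.zmultiples (1 : ℚ))).divisibleBy _ fun _ _ => rfl

theorem exists_openSubgroup_subset {B : Type*} [AddCommGroup B] [TopologicalSpace B]
    [IsTopologicalAddGroup B] [T2Space B] [LocallyCompactSpace B] [TotallyDisconnectedSpace B]
    {s : Set B} (hs : s ∈ 𝓝 (0 : B)) : ∃ U : OpenAddSubgroup B, (U : Set B) ⊆ s := by
  obtain ⟨K, hK, hKs, hKc⟩ := local_compact_nhds hs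
  obtain ⟨C, hC, h0, hCK⟩ := loc_compact_Haus_tot_disc_of_zero_dim.mem_nhds_iff.mp hK
  have hCc : IsCompact C := hKc.of_isClosed_subset hC.isClosed hCK
  obtain ⟨V, hV, hCV⟩ := compact_open_separated_add_right hCc hC.isOpen subset_rfl
  let H : AddSubgroup B := AddSubgroup.closure (V ∩ -V)
  have hsub : (H : Set B) ⊆ C := by
    have key : ∀ x ∈ H, ∀ c ∈ C, c + x ∈ C ∧ c - x ∈ C := by
      intro x hx
      refine AddSubgroup.closure_induction (fun y hy c hc => ?_) ?_ ?_ ?_ hx
      · exact ⟨hCV (Set.add_mem_add hc hy.1),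
          by rw [sub_eq_add_neg]; exact hCV (Set.add_mem_add hc hy.2)⟩
      · intro c hc; simp [hc]
      · intro p q _ _ hp hq c hc
        exact ⟨by rw [← add_assoc]; exact (hq _ (hp c hc).1).1,
          by rw [← sub_sub]; exact (hq _ (hp c hc).2).2⟩
      · intro p _ hp c hc
        exact ⟨by rw [← sub_eq_add_neg]; exact (hp c hc).2, by rw [sub_neg_eq_add]; exact (hp c hc).1⟩
    intro x hx
    simpa using (key x hx 0 h0).1
  refine ⟨⟨H, H.isOpen_of_mem_nhds (g := 0) (Filter.mem_of_superset (Filter.inter_mem hV ?_)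
    AddSubgroup.subset_closure)⟩, hsub.trans (hCK.trans hKs)⟩
  exact neg_mem_nhds_zero B hV

theorem finiteIndex_ker {B : Type*} [AddCommGroup B] [TopologicalSpace B] [IsTopologicalAddGroup B]
    (hcg : ∃ K : Set B, IsCompact K ∧ AddSubgroup.closure K = ⊤)
    (χ : B →+ ℚ ⧸ AddSubgroup.zmultiples (1 : ℚ)) (hχ : IsOpen (χ.ker : Set B)) :
    χ.ker.FiniteIndex := by
  obtain ⟨K, hK, hgen⟩ := hcg
  haveI := QuotientAddGroup.discreteTopology (N := χ.ker) hχ
  have hfin : ((QuotientAddGroup.mk : B → B ⧸ χ.ker) '' K).Finite :=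
    (hK.image continuous_quotient_mk').finite_of_discrete
  haveI : AddGroup.FG (B ⧸ χ.ker) := by
    refine ⟨⟨hfin.toFinset, ?_⟩⟩
    rw [Set.Finite.coe_toFinset, show (QuotientAddGroup.mk : B → B ⧸ χ.ker) =
      ⇑(QuotientAddGroup.mk' χ.ker) from rfl, ← AddMonoidHom.map_closure, hgen,
      AddSubgroup.map_top_of_surjective _ (QuotientAddGroup.mk'_surjective _)]
  haveI : Finite (B ⧸ χ.ker) := AddCommGroup.finite_of_fg_isAddTorsion _ fun x => by
    obtain ⟨b, rfl⟩ := QuotientAddGroup.mk_surjective x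
    obtain ⟨q, hq⟩ := QuotientAddGroup.mk_surjective (χ b)
    refine isOfFinAddOrder_iff_nsmul_eq_zero.mpr ⟨q.den, q.den_pos, ?_⟩
    rw [← QuotientAddGroup.mk_nsmul, QuotientAddGroup.eq_zero_iff,
      AddMonoidHom.mem_ker, map_nsmul, ← hq, ← QuotientAddGroup.mk_nsmul,
      QuotientAddGroup.eq_zero_iff]
    exact ⟨q.num, by simp [nsmul_eq_mul]⟩
  exact AddSubgroup.finiteIndex_of_finite_quotient

theorem exists_extension_openKer {A B : Type*} [AddCommGroup A] [TopologicalSpace A]
    [IsTopologicalAddGroup A] [AddCommGroup B] [TopologicalSpace B] [IsTopologicalAddGroup B]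
    [T2Space B] [LocallyCompactSpace B] [TotallyDisconnectedSpace B]
    (i : A →+ B) (hind : IsInducing i)
    (χ : A →+ ℚ ⧸ AddSubgroup.zmultiples (1 : ℚ)) (hχ : IsOpen (χ.ker : Set A))
    (hinj : Function.Injective i) :
    ∃ ψ : B →+ ℚ ⧸ AddSubgroup.zmultiples (1 : ℚ), IsOpen (ψ.ker : Set B) ∧ ψ.comp i = χ := by
  have h0 : (χ.ker : Set A) ∈ 𝓝 (0 : A) := hχ.mem_nhds χ.ker.zero_mem
  rw [hind.nhds_eq_comap, map_zero] at h0
  obtain ⟨s, hs, hsub⟩ := h0
  obtain ⟨U, hU⟩ := exists_openSubgroup_subset hs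
  let q : B →+ B ⧸ (U : AddSubgroup B) := QuotientAddGroup.mk' _
  let j : A ⧸ (q.comp i).ker →+ B ⧸ (U : AddSubgroup B) := QuotientAddGroup.kerLift (q.comp i)
  have hle : (q.comp i).ker ≤ χ.ker := fun a ha => hsub (hU ((QuotientAddGroup.eq_zero_iff _).mp ha))
  obtain ⟨ψ, hψ⟩ := exists_extension j (QuotientAddGroup.kerLift_injective _)
    (QuotientAddGroup.lift _ χ hle)
  refine ⟨ψ.comp q, ?_, AddMonoidHom.ext fun a => ?_⟩
  · refine AddSubgroup.isOpen_mono (H₁ := (U : AddSubgroup B)) (fun b hb => ?_) U.isOpen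
    rw [AddMonoidHom.mem_ker, AddMonoidHom.comp_apply, show q b = 0 from
      (QuotientAddGroup.eq_zero_iff b).mpr hb, map_zero]
  · exact DFunLike.congr_fun hψ (a : A ⧸ (q.comp i).ker)

end characters

section completion

open W4c61motalbduality

variable {A : Type u} [AddCommGroup A] [TopologicalSpace A]

/-- Compactness: finitely satisfiable constraints are satisfiable in the completion. -/
theorem exists_of_constraints {ι : Type*} (U : ι → OpenFI A)
    (S : ∀ i, Set (A ⧸ (U i).toAddSubgroup))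
    (h : ∀ t : Finset ι, ∃ a : A, ∀ i ∈ t, (a : A ⧸ (U i).toAddSubgroup) ∈ S i) :
    ∃ x : FICompl A, ∀ i, x.1 (U i) ∈ S i := by
  letI : ∀ V : OpenFI A, TopologicalSpace (A ⧸ V.toAddSubgroup) := fun _ => ⊥
  haveI : ∀ V : OpenFI A, DiscreteTopology (A ⧸ V.toAddSubgroup) := fun _ => ⟨rfl⟩
  haveI : ∀ V : OpenFI A, Finite (A ⧸ V.toAddSubgroup) := fun V => by
    haveI := V.finiteIndex'
    infer_instance
  have hclosed : IsClosed {x : ∀ V : OpenFI A, A ⧸ V.toAddSubgroup | x ∈ FICompl A} := by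
    have : {x : ∀ V : OpenFI A, A ⧸ V.toAddSubgroup | x ∈ FICompl A} =
        ⋂ V : OpenFI A, ⋂ W : OpenFI A, ⋂ hVW : V.toAddSubgroup ≤ W.toAddSubgroup,
          {x | QuotientAddGroup.map V.toAddSubgroup W.toAddSubgroup (AddMonoidHom.id A) hVW (x V)
            = x W} := by
      ext x; simp [FICompl]
    rw [this]
    exact isClosed_iInter fun V => isClosed_iInter fun W => isClosed_iInter fun hVW =>
      isClosed_eq (continuous_of_discreteTopology.comp (continuous_apply V)) (continuous_apply W)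
  obtain ⟨x, hx, hx'⟩ := hclosed.isCompact.inter_iInter_nonempty
    (fun i => {x : ∀ V : OpenFI A, A ⧸ V.toAddSubgroup | x (U i) ∈ S i})
    (fun i => (isClosed_discrete _).preimage (continuous_apply _)) (fun t => by
      obtain ⟨a, ha⟩ := h t
      exact ⟨(toFICompl A a).1, (toFICompl A a).2, Set.mem_iInter₂.mpr fun i hi => ha i hi⟩)
  exact ⟨⟨x, hx⟩, fun i => Set.mem_iInter.mp hx' i⟩

theorem map_apply_of_mk {B : Type v} [AddCommGroup B] [TopologicalSpace B] (f : A →+ B)
    (hf : Continuous f) (x : FICompl A) (V : OpenFI B) (a : A)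
    (ha : x.1 (V.comap f hf) = (a : A ⧸ (V.comap f hf).toAddSubgroup)) :
    (FICompl.map f hf x).1 V = (f a : B ⧸ V.toAddSubgroup) := by
  show QuotientAddGroup.map (V.comap f hf).toAddSubgroup V.toAddSubgroup f _
    (x.1 (V.comap f hf)) = _
  rw [ha]
  rfl

theorem exists_le_finset [IsTopologicalAddGroup A] (t : Finset (OpenFI A)) :
    ∃ W : OpenFI A, ∀ V ∈ t, W.toAddSubgroup ≤ V.toAddSubgroup := by
  classical
  induction t using Finset.induction with
  | empty => exact ⟨⟨⊤, isOpen_univ, inferInstance⟩, by simp⟩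
  | @insert V t hV ih =>
    obtain ⟨W, hW⟩ := ih
    haveI := V.finiteIndex'
    haveI := W.finiteIndex'
    refine ⟨⟨V.toAddSubgroup ⊓ W.toAddSubgroup, V.isOpen'.inter W.isOpen', inferInstance⟩, ?_⟩
    intro X hX
    rcases Finset.mem_insert.mp hX with rfl | hX
    · exact inf_le_left
    · exact inf_le_right.trans (hW X hX)

end completion

end Groth.AdicLinTop.ProCompl
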