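import Mathlib.Topology.Algebra.Category.ProfiniteGrp.Completion

/-!
Component formula for the functorial map of profinite completions.
-/

universe u

open CategoryTheory ProfiniteGrp ProfiniteCompletion

namespace Groth.AdicLinTop.ProfiniteCompl

variable {G G' : GrpCat.{u}}

theorem continuous_component (H : FiniteIndexNormalSubgroup G) :
    Continuous (fun x : (completion G : ProfiniteGrp.{u}) => x.1 H) :=
  (continuous_apply H).comp continuous_subtype_val

theorem map_etaFn (f : G ⟶ G') (g : G) :
    (profiniteCompletion.map f).hom (etaFn G g) = etaFn G' (f g) := by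
  have := ConcreteCategory.congr_hom (lift_eta (f ≫ eta G')) g
  exact this

theorem map_component (f : G ⟶ G') (x : (completion G : ProfiniteGrp.{u}))
    (H : FiniteIndexNormalSubgroup G') :
    ((profiniteCompletion.map f).hom x).1 H =
      QuotientGroup.map (H.comap f.hom).toSubgroup H.toSubgroup f.hom (fun _ h => h)
        (x.1 (H.comap f.hom)) := by
  haveI : DiscreteTopology ((diagram G').obj H) := ⟨rfl⟩
  haveI : DiscreteTopology ((diagram G).obj (H.comap f.hom)) := ⟨rfl⟩
  refine congrFun ((denseRange G).equalizer ((continuous_component H).comp
    (profiniteCompletion.map f).hom.continuous_toFun) ((continuous_of_discreteTopology).comp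
    (continuous_component (H.comap f.hom))) (funext fun g => ?_)) x
  show ((profiniteCompletion.map f).hom (etaFn G g)).1 H = _
  rw [map_etaFn]
  rfl

end Groth.AdicLinTop.ProfiniteCompl
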