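import Groth.Agent.AdicLinTop.InverseLimit
import Mathlib.RingTheory.Ideal.Quotient.Operations
import Mathlib.Algebra.Module.Projective
import Mathlib.LinearAlgebra.FreeModule.Finite.Basic

/-!
Limits of systems of finite projective modules.
-/

set_option autoImplicit false

namespace Groth.AdicLinTop.InvLim

variable {A : Type*} [CommRing A]

/-- The map out of a free `A ⧸ J`-module with prescribed images of the basis. -/
noncomputable def ofImages {J : Ideal A} {P : Type*} [AddCommGroup P] [Module A P] {m : ℕ}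
    (c : Fin m → P) (hc : ∀ i, ∀ a ∈ J, a • c i = 0) : (Fin m → A ⧸ J) →ₗ[A] P :=
  ∑ i, (Submodule.liftQ J (LinearMap.toSpanSingleton A P (c i))
    (fun a ha => by simpa using hc i a ha)).comp (LinearMap.proj i)

theorem ofImages_mk {J : Ideal A} {P : Type*} [AddCommGroup P] [Module A P] {m : ℕ}
    (c : Fin m → P) (hc : ∀ i, ∀ a ∈ J, a • c i = 0) (x : Fin m → A) :
    ofImages c hc (fun i => Submodule.Quotient.mk (x i)) = ∑ i, x i • c i := by
  simp only [ofImages, LinearMap.sum_apply, LinearMap.comp_apply, LinearMap.proj_apply, Submodule.liftQ_apply,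
    LinearMap.toSpanSingleton_apply]

theorem linearMap_ext {J : Ideal A} {P : Type*} [AddCommGroup P] [Module A P] {m : ℕ}
    {g h : (Fin m → A ⧸ J) →ₗ[A] P}
    (heq : ∀ i, g (Pi.single i (Submodule.Quotient.mk 1)) = h (Pi.single i (Submodule.Quotient.mk 1))) :
    g = h := by
  refine LinearMap.pi_ext fun i x => ?_
  obtain ⟨a, rfl⟩ := Submodule.Quotient.mk_surjective J x
  have h1 : (Pi.single i (Submodule.Quotient.mk a) : Fin m → A ⧸ J) =
      a • Pi.single i (Submodule.Quotient.mk 1) := by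
    rw [← Pi.single_smul, ← Submodule.Quotient.mk_smul, smul_eq_mul, mul_one]
  rw [h1, map_smul, map_smul, heq]

/-- A summand of a free `A ⧸ J`-module lifts against surjections of modules killed by `J`. -/
theorem exists_lifting {J : Ideal A} {N P P' : Type*} [AddCommGroup N] [Module A N]
    [AddCommGroup P] [Module A P] [AddCommGroup P'] [Module A P'] {m : ℕ}
    (i : N →ₗ[A] (Fin m → A ⧸ J)) (r : (Fin m → A ⧸ J) →ₗ[A] N) (hri : r ∘ₗ i = LinearMap.id)
    (hP : ∀ a ∈ J, ∀ p : P, a • p = 0) (g : P →ₗ[A] P') (h : N →ₗ[A] P')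
    (hgh : ∀ x, h x ∈ LinearMap.range g) : ∃ t : N →ₗ[A] P, g ∘ₗ t = h := by
  choose c hc using fun j => hgh (r (Pi.single j (Submodule.Quotient.mk 1)))
  let L := ofImages c fun j a ha => hP a ha (c j)
  have hL : g ∘ₗ L = h ∘ₗ r := by
    refine linearMap_ext fun j => ?_
    rw [LinearMap.comp_apply, LinearMap.comp_apply, ← hc j]
    congr 1
    have h1 : (Pi.single j (Submodule.Quotient.mk 1) : Fin m → A ⧸ J) =
        fun k => Submodule.Quotient.mk ((Pi.single j (1 : A) : Fin m → A) k) := by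
      ext k
      by_cases hk : k = j <;> simp [hk]
    rw [h1, ofImages_mk]
    simp [Pi.single_apply]
  exact ⟨L ∘ₗ i, by rw [← LinearMap.comp_assoc, hL, LinearMap.comp_assoc, hri, LinearMap.comp_id]⟩

universe v

theorem projective_of_kers {I : Ideal A} [IsAdicComplete I A] {L : Type*} [AddCommGroup L] [Module A L]
    (M : ℕ → Type v) [∀ n, AddCommGroup (M n)] [∀ n, Module A (M n)]
    (f : ∀ n, M (n + 1) →ₗ[A] M n) (π : ∀ n, L →ₗ[A] M n) (hπ : ∀ n, f n ∘ₗ π (n + 1) = π n)
    (hinj : ∀ x : L, (∀ n, π n x = 0) → x = 0)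
    (hps : ∀ n, Function.Surjective (π n))
    (hker : ∀ n, LinearMap.ker (π n) = I ^ (n + 1) • (⊤ : Submodule A L))
    (hproj : ∀ n, ∃ (m : ℕ) (i : M n →ₗ[A] (Fin m → A ⧸ I ^ (n + 1))) (r : (Fin m → A ⧸ I ^ (n + 1)) →ₗ[A] M n),
      r ∘ₗ i = LinearMap.id)
    [Module.Finite A L] : Module.Projective A L := by
  obtain ⟨m, l, hl⟩ := Submodule.fg_iff_exists_fin_generating_family.mp
    (Module.Finite.fg_top (R := A) (M := L))
  let φ : (Fin m → A) →ₗ[A] L := Fintype.linearCombination A l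
  have hφ : ∀ x, φ x = ∑ i, x i • l i := fun x => Fintype.linearCombination_apply A l x
  let R : ℕ → Type _ := fun n => A ⧸ (I ^ (n + 1) • ⊤ : Submodule A A)
  have hkill : ∀ n, ∀ a ∈ (I ^ (n + 1) • ⊤ : Submodule A A), ∀ i, a • π n (l i) = 0 := by
    intro n a ha i
    rw [smul_eq_mul, Ideal.mul_top] at ha
    rw [← map_smul, ← LinearMap.mem_ker, hker]
    exact Submodule.smul_mem_smul ha Submodule.mem_top
  let φb : ∀ n, (Fin m → R n) →ₗ[A] M n := fun n =>
    ofImages (fun i => π n (l i)) fun i a ha => hkill n a ha i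
  have hφb : ∀ (n) (x : Fin m → A), φb n (fun i => Submodule.Quotient.mk (x i)) = π n (φ x) := by
    intro n x
    rw [hφ, map_sum]
    simp only [φb, ofImages_mk, map_smul]
  have hsurjφb : ∀ n, Function.Surjective (φb n) := fun n y => by
    obtain ⟨z, rfl⟩ := hps n y
    have hz : z ∈ Submodule.span A (Set.range l) := hl ▸ Submodule.mem_top
    obtain ⟨a, ha⟩ := (Submodule.mem_span_range_iff_exists_fun A).mp hz
    exact ⟨fun i => Submodule.Quotient.mk (a i), by rw [hφb, hφ, ha]⟩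
  let red : ∀ n, R (n + 1) →ₗ[A] R n := fun n =>
    Submodule.factor (Submodule.smul_mono (Ideal.pow_le_pow_right (Nat.le_succ _)) le_rfl)
  let redv : ∀ n, (Fin m → R (n + 1)) →ₗ[A] (Fin m → R n) := fun n =>
    LinearMap.pi fun i => red n ∘ₗ LinearMap.proj i
  have hlift' : ∀ n (u : Fin m → R n) (y : M (n + 1)), φb n u = f n y →
      ∃ w, redv n w = u ∧ φb (n + 1) w = y := by
    intro n u y huy
    choose x hx using fun i => Submodule.Quotient.mk_surjective _ (u i)
    obtain rfl : u = fun i => Submodule.Quotient.mk (x i) := funext fun i => (hx i).symm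
    obtain ⟨z, rfl⟩ := hps (n + 1) y
    rw [hφb, show f n (π (n + 1) z) = π n z from LinearMap.congr_fun (hπ n) z] at huy
    have hd : z - φ x ∈ I ^ (n + 1) • (⊤ : Submodule A L) := by
      rw [← hker, LinearMap.mem_ker, map_sub, huy, sub_self]
    rw [← hl] at hd
    obtain ⟨a, ha, hax⟩ := exists_coeff _ l hd
    refine ⟨fun i => Submodule.Quotient.mk (x i + a i), funext fun i => ?_, ?_⟩
    · show Submodule.Quotient.mk (x i + a i) = Submodule.Quotient.mk (x i)
      refine (Submodule.Quotient.eq _).mpr ?_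
      rw [add_sub_cancel_left, smul_eq_mul, Ideal.mul_top]
      exact ha i
    · have h1 : φ (fun i => x i + a i) = z := by
        simp only [hφ, add_smul, Finset.sum_add_distrib, hax]
        rw [← hφ]
        abel
      exact (hφb (n + 1) (fun i => x i + a i)).trans (congrArg _ h1)
  have hkillR : ∀ n, ∀ a ∈ I ^ (n + 1), ∀ q : Fin m → R n, a • q = 0 := fun n a ha q => by
    ext i
    obtain ⟨b, hb⟩ := Submodule.Quotient.mk_surjective _ (q i)
    rw [Pi.smul_apply, Pi.zero_apply, ← hb, ← Submodule.Quotient.mk_smul,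
      Submodule.Quotient.mk_eq_zero]
    exact Submodule.smul_mem_smul ha Submodule.mem_top
  have hs0 : ∃ s : M 0 →ₗ[A] (Fin m → R 0), φb 0 ∘ₗ s = LinearMap.id := by
    obtain ⟨k, i, r, hri⟩ := hproj 0
    exact exists_lifting i r hri (hkillR 0) (φb 0) LinearMap.id fun x => hsurjφb 0 x
  have hsucc : ∀ n (s : M n →ₗ[A] (Fin m → R n)), φb n ∘ₗ s = LinearMap.id →
      ∃ t : M (n + 1) →ₗ[A] (Fin m → R (n + 1)),
        redv n ∘ₗ t = s ∘ₗ f n ∧ φb (n + 1) ∘ₗ t = LinearMap.id := by
    intro n s hs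
    obtain ⟨k, i, r, hri⟩ := hproj (n + 1)
    obtain ⟨t, ht⟩ := exists_lifting i r hri (hkillR (n + 1)) ((redv n).prod (φb (n + 1)))
      ((s ∘ₗ f n).prod LinearMap.id) fun x => by
        obtain ⟨w, hw1, hw2⟩ := hlift' n (s (f n x)) x (by rw [← LinearMap.comp_apply, hs]; rfl)
        exact ⟨w, Prod.ext hw1 hw2⟩
    exact ⟨t, LinearMap.ext fun x => congrArg Prod.fst (LinearMap.congr_fun ht x),
      LinearMap.ext fun x => congrArg Prod.snd (LinearMap.congr_fun ht x)⟩
  choose s₀ hs₀ using hs0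
  choose nxt hn1 hn2 using hsucc
  let S : ∀ n, {s : M n →ₗ[A] (Fin m → R n) // φb n ∘ₗ s = LinearMap.id} := fun n =>
    Nat.rec ⟨s₀, hs₀⟩ (fun k sk => ⟨nxt k sk.1 sk.2, hn2 k sk.1 sk.2⟩) n
  have hS : ∀ n, redv n ∘ₗ (S (n + 1)).1 = (S n).1 ∘ₗ f n := fun n => hn1 n _ _
  let g : Fin m → ∀ n, L →ₗ[A] R n := fun i n => LinearMap.proj i ∘ₗ (S n).1 ∘ₗ π n
  have hg : ∀ i n, red n ∘ₗ g i (n + 1) = g i n := fun i n => LinearMap.ext fun x => by
    have h1 := congrFun (LinearMap.congr_fun (hS n) (π (n + 1) x)) i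
    rw [LinearMap.comp_apply (S n).1, ← LinearMap.comp_apply (f n), hπ] at h1
    exact h1
  have ha : StrictMono (fun n : ℕ => n + 1) := fun _ _ h => Nat.succ_lt_succ h
  let Φ : L →ₗ[A] (Fin m → A) := LinearMap.pi fun i =>
    IsAdicComplete.StrictMono.lift I ha (g i) (fun {n} => hg i n)
  have hΦ : φ ∘ₗ Φ = LinearMap.id := by
    refine LinearMap.ext fun x => sub_eq_zero.mp (hinj _ fun n => ?_)
    rw [map_sub, LinearMap.comp_apply, ← hφb, LinearMap.id_apply]
    have h1 : (fun i => (Submodule.Quotient.mk (Φ x i) : R n)) = (S n).1 (π n x) :=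
      funext fun i => IsAdicComplete.StrictMono.mk_lift I ha (g i) (fun {n} => hg i n) x
    rw [h1, ← LinearMap.comp_apply, (S n).2, LinearMap.id_apply, sub_self]
  exact Module.Projective.of_split Φ φ hΦ

end Groth.AdicLinTop.InvLim
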