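import Groth.Agent.AdicLinTop.FormalLim
import Groth.Agent.AdicLinTop.GradedSetup
import Groth.Agent.AdicLinTop.FormalLevels
import Groth.Agent.CohBase.GlobalSections

/-!
# Cohomology of a coherent formal module over the preimage of an affine formal open
-/

set_option autoImplicit false

universe u

open CategoryTheory CategoryTheory.Limits AlgebraicGeometry TopologicalSpace Opposite
open CategoryTheory.Abelian (Ext)

set_option backward.defeqAttrib.useBackward true
set_option backward.isDefEq.respectTransparency false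
set_option backward.isDefEq.respectTransparency.types false
set_option synthInstance.maxHeartbeats 400000

namespace Groth.AdicLinTop.ProperLevels

open Groth.AdicLinTop.SpacePres Groth.AdicLinTop.FormalAffine Groth.AdicLinTop.FormalReal
open Groth.AdicLinTop.FinitePush (pre shp)
open Groth.AdicLinTop.RestrAct Groth.AdicLinTop.FormalTower Groth.AdicLinTop.FormalLim

/-- Images in a sequence of abelian groups stabilise when those of an isomorphic tower of modules do. -/
theorem isML_of_tower {G : ℕ → AddCommGrpCat.{u}} (g : ∀ k, G (k + 1) ⟶ G k) {A : Type u} [CommRing A]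
    {H : ℕ → Type u} [∀ n, AddCommGroup (H n)] [∀ n, Module A (H n)] (π : ∀ m, H (m + 1) →ₗ[A] H m)
    (e : ∀ k, G k → H k) (he : ∀ k, Function.Bijective (e k))
    (hc : ∀ k x, e k (g k x) = π k (e (k + 1) x)) (s : ℕ)
    (hs : ∀ k m (h : k ≤ m), k + s ≤ m → ∀ x : H m,
      ∃ x' : H (m + 1), GrTower.dn π k (m + 1) (h.trans (Nat.le_succ m)) x' = GrTower.dn π k m h x) :
    ARSys.IsML (Functor.ofOpSequence g) := by
  have key : ∀ k m (h : k ≤ m) (x : G m),
      e k ((Functor.ofOpSequence g).map (homOfLE h).op x) = GrTower.dn π k m h (e m x) := by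
    intro k m h
    induction m, h using Nat.le_induction with
    | base =>
      intro x
      rw [GrTower.dn_self]
      exact congrArg (e k) (ConcreteCategory.congr_hom ((Functor.ofOpSequence g).map_id (op k)) x)
    | succ m hm ih =>
      intro x
      have h1 : (Functor.ofOpSequence g).map (homOfLE (hm.trans (Nat.le_succ m))).op =
          g m ≫ (Functor.ofOpSequence g).map (homOfLE hm).op := by
        rw [← homOfLE_comp hm (Nat.le_add_right m 1), op_comp, Functor.map_comp,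
          Functor.ofOpSequence_map_homOfLE_succ]
      refine (congrArg (e k) (ConcreteCategory.congr_hom h1 x)).trans ?_
      refine (ih (g m x)).trans ?_
      rw [GrTower.dn_succ π hm, hc]
  have hex : ∀ k m (h : k ≤ m), k + s ≤ m → ∀ m' (h' : m ≤ m') (x : H m),
      ∃ y : H m', GrTower.dn π k m' (h.trans h') y = GrTower.dn π k m h x := by
    intro k m h hm m' h' x
    induction m', h' using Nat.le_induction with
    | base => exact ⟨x, rfl⟩
    | succ m' hm' ih =>
      obtain ⟨y, hy⟩ := ih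
      obtain ⟨y', hy'⟩ := hs k m' (h.trans hm') (hm.trans hm') y
      exact ⟨y', hy'.trans hy⟩
  intro n
  refine ⟨s, fun s' hs' => le_antisymm ?_ ?_⟩
  · refine imageSubobject_le_of_range _ _ fun x => ?_
    refine ⟨(Functor.ofOpSequence g).map (homOfLE (Nat.add_le_add_left hs' n)).op x, (he n).1 ?_⟩
    exact (key n (n + s) (Nat.le_add_right n s) _).trans
      (((congrArg (GrTower.dn π n (n + s) (Nat.le_add_right n s))
        (key (n + s) (n + s') (Nat.add_le_add_left hs' n) x)).trans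
        (GrTower.dn_dn π (Nat.le_add_right n s) (Nat.add_le_add_left hs' n) (e (n + s') x))).trans
        (key n (n + s') (Nat.le_add_right n s') x).symm)
  · refine imageSubobject_le_of_range _ _ fun x => ?_
    obtain ⟨y, hy⟩ := hex n (n + s) (Nat.le_add_right n s) le_rfl (n + s') (Nat.add_le_add_left hs' n) (e (n + s) x)
    obtain ⟨z, rfl⟩ := (he (n + s')).2 y
    exact ⟨z, (he n).1 ((key _ _ _ z).trans (hy.trans (key _ _ _ x).symm))⟩

section Over

variable {𝔛 𝔜 : FSch.Sys.{u}} (f : 𝔛 ⟶ 𝔜) (h𝔛 : 𝔛.IsLocNoethFormal) (h𝔜 : 𝔜.IsLocNoethFormal)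
  (hf : FSch.IsProperHom f) {V : (𝔜.X 0).Opens} (hV : IsAffineOpen V)
  {𝔉 : FSch.ModF 𝔛 h𝔛.1} (h𝔉 : FSch.IsCohF 𝔛 h𝔛.1 𝔉)

include h𝔜 hV in
theorem exists_gens : ∃ (r : ℕ) (t : Fin r → RS h𝔜.1 V), idl h𝔜.1 V = Ideal.span (Set.range t) :=
  Submodule.fg_iff_exists_fin_generating_family.1 (FormalLevels.adic h𝔜 hV).2.2 |>.imp fun r ⟨t, ht⟩ => ⟨t, ht.symm⟩

/-- The tower of cohomology groups over the preimage. -/
abbrev HT (𝔉 : FSch.ModF 𝔛 h𝔛.1) (n k : ℕ) : Type u :=
  ExtTower.EH (Groth.CohBase.constZ (TopCat.of (pre f V))) n (σU h𝔛 𝔉 (pre f V) (shp f h𝔛 h𝔜 V)) k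

include hf hV h𝔉 in
theorem exists_finGen : ∃ (r : ℕ) (t : Fin r → RS h𝔜.1 V) (_ : idl h𝔜.1 V = Ideal.span (Set.range t))
    (ht : ∀ i, t i ∈ idl h𝔜.1 V),
    ExtTower.FinGen (Groth.CohBase.constZ (TopCat.of (pre f V))) (GradedSetup.D f h𝔛 h𝔜 h𝔉 ht) := by
  obtain ⟨r, t, hspan⟩ := exists_gens h𝔜 hV
  have ht : ∀ i, t i ∈ idl h𝔜.1 V := fun i => hspan ▸ Ideal.subset_span ⟨i, rfl⟩
  haveI := hf.2
  exact ⟨r, t, hspan, ht, GradedSetup.finGen f h𝔛 h𝔜 hf.1 hV h𝔉 hspan ht⟩

variable (n : ℕ)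

include hf hV h𝔜 in
/-- Over the preimage of an affine open classes are detected at the levels. -/
theorem eq_zero (h𝔉 : FSch.IsCohF 𝔛 h𝔛.1 𝔉)
    (x : Ext (Groth.CohBase.constZ (TopCat.of (pre f V))) (LU h𝔛 (pre f V) 𝔉) n)
    (h : ∀ k, x.comp (Ext.mk₀ (pp h𝔛 (pre f V) k)) (add_zero n) = 0) : x = 0 := by
  obtain ⟨r, t, hspan, ht, hF⟩ := exists_finGen f h𝔛 h𝔜 hf hV h𝔉
  haveI := FormalAffine.isNoetherianRing h𝔜 hV
  exact FormalLim.eq_zero_of_levels h𝔛 h𝔉 (pre f V) _ (fun i => GradedSetup.shp_mem_idl f h𝔛 h𝔜 (ht i)) hF n x h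

include hf hV in
/-- Over the preimage of an affine open the images in the tower of cohomology groups stabilise uniformly. -/
theorem exists_stable (h𝔉 : FSch.IsCohF 𝔛 h𝔛.1 𝔉) :
    ∃ (π : ∀ m, HT f h𝔛 h𝔜 (V := V) 𝔉 n (m + 1) →ₗ[RS h𝔜.1 V] HT f h𝔛 h𝔜 (V := V) 𝔉 n m) (s : ℕ),
      (∀ m x, ExtTower.toExt _ _ n (π m x) =
        (ExtTower.toExt _ _ n x).comp (Ext.mk₀ (pk h𝔛 𝔉 (pre f V) m)) (add_zero n)) ∧
      ∀ k m (h : k ≤ m), k + s ≤ m → ∀ x : HT f h𝔛 h𝔜 (V := V) 𝔉 n m,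
        ∃ x', GrTower.dn (A := RS h𝔜.1 V) (H := fun j => HT f h𝔛 h𝔜 (V := V) 𝔉 n j) π k (m + 1) (h.trans (Nat.le_succ m)) x' =
          GrTower.dn (A := RS h𝔜.1 V) (H := fun j => HT f h𝔛 h𝔜 (V := V) 𝔉 n j) π k m h x := by
  obtain ⟨r, t, hspan, ht, hF⟩ := exists_finGen f h𝔛 h𝔜 hf hV h𝔉
  haveI := FormalAffine.isNoetherianRing h𝔜 hV
  obtain ⟨s, hs⟩ := ExtTower.exists_delay (Groth.CohBase.constZ (TopCat.of (pre f V))) _ n hF
  exact ⟨_, s, fun m x => rfl, hs⟩

end Over

section Top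

variable {T : TopCat.{u}}

/-- Cohomology of the space as cohomology of the constant sheaf of the total open. -/
noncomputable def glob (F : Groth.CohBase.AbSheaf T) (n : ℕ) :
    Ext (Groth.CohBase.constZ T) F n →+
      Ext (Groth.CohBase.constZ (TopCat.of (⊤ : Opens T))) ((CohTop.restrFunctor (⊤ : Opens T)).obj F) n :=
  (resH ⊤ F n).comp
    (AddMonoidHom.mk' (fun x => (Ext.mk₀ (Groth.CohBase.freeOpenTopIso T).hom).comp x (zero_add n))
      fun x y => by simp)

theorem bijective_glob (F : Groth.CohBase.AbSheaf T) (n : ℕ) : Function.Bijective (glob F n) := by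
  refine (bijective_resH ⊤ F n).comp (Function.bijective_iff_has_inverse.2
    ⟨fun y => (Ext.mk₀ (Groth.CohBase.freeOpenTopIso T).inv).comp y (zero_add n), fun x => ?_, fun y => ?_⟩)
  · simp
  · exact (Ext.mk₀_comp_mk₀_assoc _ _ _).trans (by rw [Iso.hom_inv_id]; exact Ext.mk₀_id_comp _)

theorem glob_map {F G : Groth.CohBase.AbSheaf T} (φ : F ⟶ G) (n : ℕ) (x : Ext (Groth.CohBase.constZ T) F n) :
    glob G n (x.comp (Ext.mk₀ φ) (add_zero n)) =
      (glob F n x).comp (Ext.mk₀ ((CohTop.restrFunctor (⊤ : Opens T)).map φ)) (add_zero n) := by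
  refine Eq.trans (congrArg (resH ⊤ G n) (Ext.comp_assoc _ x _ (zero_add n) (add_zero n) (by simp)).symm) ?_
  exact resH_map ⊤ φ n _

end Top

end Groth.AdicLinTop.ProperLevels
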