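import Groth.Agent.FlatmorThree.FibreClosedImmersion
import Groth.Agent.Divisors.IdealComap
import Groth.Prelude.Def_FSch3
import Mathlib.RingTheory.Filtration

/-!
# Morphisms of proper schemes which are closed immersions or isomorphisms on completions
-/

set_option autoImplicit false

universe u

open CategoryTheory CategoryTheory.Limits AlgebraicGeometry TopologicalSpace

namespace Groth.AdicLinTop.ProperNear

variable {X Y : Scheme.{u}} (f : X ⟶ Y)

/-- Base change of `f` to a closed subscheme is the map of closed subschemes. -/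
theorem isPullback_subschemeMap (L : Y.IdealSheafData) (M : X.IdealSheafData) (e : L.comap f = M) :
    IsPullback M.subschemeι (Scheme.IdealSheafData.subschemeMap M L f
      (Scheme.IdealSheafData.le_map_iff_comap_le.mpr e.le)) f L.subschemeι :=
  isPullback_of_isClosedImmersion _ _ _ _
    (Scheme.IdealSheafData.subschemeMap_subschemeι _ _ _ _).symm
    (by rw [Scheme.IdealSheafData.ker_subschemeι, Scheme.IdealSheafData.ker_subschemeι, e])

/-- A property stable under base change passes from `f` near a closed subscheme to its base change. -/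
theorem snd_of_near (P : MorphismProperty Scheme.{u}) [P.IsStableUnderBaseChange]
    (W : Y.Opens) (h : P (f ∣_ W)) (L : Y.IdealSheafData) (hL : (L.support : Set Y) ⊆ W) :
    P (pullback.snd f L.subschemeι) := by
  have hle : Set.range L.subschemeι ⊆ Set.range W.ι := by
    rw [Scheme.IdealSheafData.range_subschemeι, Scheme.Opens.range_ι]
    exact hL
  exact Groth.FlatmorThree.FibreCI.snd_of_factor P f W.ι (IsOpenImmersion.lift W.ι L.subschemeι hle)
    L.subschemeι (IsOpenImmersion.lift_fac _ _ _) ((Groth.FlatmorThree.FibreCI.snd_ι_iff P f W).1 h)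

/-- A property stable under base change holds for `f` over `W` iff for maps of closed subschemes. -/
theorem subschemeMap_of_near (P : MorphismProperty Scheme.{u}) [P.IsStableUnderBaseChange]
    (W : Y.Opens) (h : P (f ∣_ W)) (L : Y.IdealSheafData) (hL : (L.support : Set Y) ⊆ W)
    (M : X.IdealSheafData) (e : L.comap f = M) :
    P (Scheme.IdealSheafData.subschemeMap M L f
      (Scheme.IdealSheafData.le_map_iff_comap_le.mpr e.le)) := by
  have hr : P.RespectsIso := MorphismProperty.IsStableUnderBaseChange.respectsIso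
  rw [← (isPullback_subschemeMap f L M e).isoPullback_hom_snd, P.cancel_left_of_respectsIso]
  exact snd_of_near f P W h L hL

/-- The spectrum of the residue field of a point of a closed subscheme factors through it. -/
theorem exists_lift_fromSpecResidueField (K : Y.IdealSheafData) {y : Y} (hy : y ∈ K.support) :
    ∃ c : Spec (Y.residueField y) ⟶ K.subscheme, c ≫ K.subschemeι = Y.fromSpecResidueField y := by
  obtain ⟨z, rfl⟩ : y ∈ Set.range K.subschemeι := by
    rw [Scheme.IdealSheafData.range_subschemeι]; exact hy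
  have hiso : IsIso (K.subschemeι.residueFieldMap z) := by
    refine (ConcreteCategory.isIso_iff_bijective _).2 ⟨RingHom.injective _, fun w => ?_⟩
    obtain ⟨w, rfl⟩ := IsLocalRing.residue_surjective w
    obtain ⟨v, rfl⟩ := K.subschemeι.stalkMap_surjective z w
    exact ⟨IsLocalRing.residue _ v, rfl⟩
  refine ⟨Spec.map (inv (K.subschemeι.residueFieldMap z)) ≫
    K.subscheme.fromSpecResidueField z, ?_⟩
  rw [Category.assoc, ← Scheme.Hom.SpecMap_residueFieldMap_fromSpecResidueField, ← Category.assoc,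
    ← Spec.map_comp, IsIso.hom_inv_id, Spec.map_id, Category.id_comp]

/-- `f` proper and a closed immersion over a closed subscheme is a closed immersion near it. -/
theorem exists_isClosedImmersion_restrict [IsProper f] (K : Y.IdealSheafData)
    (h : IsClosedImmersion (pullback.snd f K.subschemeι)) :
    ∃ W : Y.Opens, (K.support : Set Y) ⊆ W ∧ IsClosedImmersion (f ∣_ W) := by
  have key : ∀ y : K.support, ∃ U : Y.Opens, y.1 ∈ U ∧ IsClosedImmersion (f ∣_ U) := by
    rintro ⟨y, hy⟩
    obtain ⟨c, hc⟩ := exists_lift_fromSpecResidueField K hy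
    have hfib : IsClosedImmersion (f.fiberToSpecResidueField y) :=
      Groth.FlatmorThree.FibreCI.snd_of_factor @IsClosedImmersion f _ c _ hc h
    exact Groth.FlatmorThree.FibreCI.exists_of_universallyClosed f y hfib ⊤ trivial
      (IsZariskiLocalAtTarget.restrict (inferInstanceAs (UniversallyClosed f)) _)
  choose U hyU hU using key
  refine ⟨⨆ y, U y, fun y hy => Opens.mem_iSup.2 ⟨⟨y, hy⟩, hyU _⟩, ?_⟩
  refine (IsZariskiLocalAtTarget.iff_of_iSup_eq_top (P := @IsClosedImmersion)
    (fun y => (⨆ y, U y).ι ⁻¹ᵁ U y) ?_).2 fun y => ?_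
  · exact eq_top_iff.2 fun z _ => by
      obtain ⟨y, hy⟩ := Opens.mem_iSup.1 z.2
      exact Opens.mem_iSup.2 ⟨y, hy⟩
  · rw [MorphismProperty.arrow_mk_iso_iff (P := @IsClosedImmersion) (morphismRestrictRestrict _ _ _),
      Scheme.Hom.image_preimage_eq_opensRange_inf, Scheme.Opens.opensRange_ι,
      inf_eq_right.2 (le_iSup U y)]
    exact hU y

/-- A closed immersion near the support whose kernel lies in all powers of the ideal is an
isomorphism near the support. -/
theorem exists_isIso_restrict [IsLocallyNoetherian Y] [QuasiCompact f] (K : Y.IdealSheafData)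
    (W : Y.Opens) (hW : (K.support : Set Y) ⊆ W) (hcl : IsClosedImmersion (f ∣_ W))
    (hker : ∀ n : ℕ, f.ker ≤ K ^ (n + 1)) :
    ∃ V : Y.Opens, (K.support : Set Y) ⊆ V ∧ IsIso (f ∣_ V) := by
  classical
  have key : ∀ U : Y.affineOpens, U.1 ≤ W → ∃ g : Γ(Y, U.1), (∀ a ∈ f.ker.ideal U, g * a = 0) ∧
      ∀ y ∈ U.1, y ∈ K.support → y ∈ Y.basicOpen g := by
    intro U hUW
    have : IsNoetherianRing Γ(Y, U.1) := IsLocallyNoetherian.component_noetherian U
    obtain ⟨T, hT⟩ := (IsNoetherian.noetherian (f.ker.ideal U) : (f.ker.ideal U).FG)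
    have hr : ∀ a ∈ T, ∃ r ∈ K.ideal U, r * a = a := by
      intro a ha
      have hmem : a ∈ ⨅ i : ℕ, K.ideal U ^ i • (⊤ : Submodule Γ(Y, U.1) Γ(Y, U.1)) := by
        refine (Submodule.mem_iInf _).2 fun i => ?_
        rw [smul_eq_mul, Ideal.mul_top]
        rcases i with _ | n
        · simp
        have h1 := hker n U (hT.le (Submodule.subset_span ha))
        rwa [Scheme.IdealSheafData.ideal_pow, Pi.pow_apply] at h1
      obtain ⟨⟨r, hr⟩, hra⟩ := ((K.ideal U).mem_iInf_smul_pow_eq_bot_iff _).1 hmem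
      exact ⟨r, hr, hra⟩
    choose! r hr hra using hr
    refine ⟨∏ a ∈ T, (1 - r a), fun a ha => ?_, fun y hy hyK => ?_⟩
    · have hs : a ∈ Submodule.span Γ(Y, U.1) (T : Set Γ(Y, U.1)) := hT.ge ha
      induction hs using Submodule.span_induction with
      | mem t ht =>
        rw [← Finset.mul_prod_erase T _ ht, mul_comm (1 - r t), mul_assoc, sub_mul, one_mul,
          hra t ht, sub_self, mul_zero]
      | zero => rw [mul_zero]
      | add p q hp' hq' hp hq =>
        rw [mul_add, hp (hT.le hp'), hq (hT.le hq'), add_zero]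
      | smul c p hp' hp => rw [smul_eq_mul, mul_left_comm, hp (hT.le hp'), mul_zero]
    · rw [Scheme.mem_basicOpen Y _ y hy, map_prod]
      refine IsUnit.prod_iff.2 fun a ha => ?_
      rw [map_sub, map_one]
      refine IsLocalRing.isUnit_one_sub_self_of_mem_nonunits _ ?_
      intro hu
      have := (Scheme.IdealSheafData.mem_support_iff_of_mem (U := U) hy).1 hyK
      rw [Scheme.mem_zeroLocus_iff] at this
      exact this _ (hr a ha) ((Scheme.mem_basicOpen Y _ y hy).2 hu)
  choose g hg hgx using key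
  let D : {U : Y.affineOpens // U.1 ≤ W} → Y.Opens := fun U => Y.basicOpen (g U.1 U.2)
  refine ⟨⨆ U, D U, fun y hy => ?_, ?_⟩
  · obtain ⟨_, ⟨U, hU, rfl⟩, hyU, hUW⟩ :=
      Y.isBasis_affineOpens.exists_subset_of_mem_open (hW hy) W.2
    exact Opens.mem_iSup.2 ⟨⟨⟨U, hU⟩, hUW⟩, hgx _ hUW y hyU hy⟩
  refine (IsZariskiLocalAtTarget.iff_of_iSup_eq_top (P := MorphismProperty.isomorphisms Scheme.{u})
    (fun U => (⨆ U, D U).ι ⁻¹ᵁ D U) ?_).2 fun U => ?_
  · exact eq_top_iff.2 fun z _ => by
      obtain ⟨y, hy⟩ := Opens.mem_iSup.1 z.2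
      exact Opens.mem_iSup.2 ⟨y, hy⟩
  rw [MorphismProperty.arrow_mk_iso_iff (P := MorphismProperty.isomorphisms Scheme.{u})
      (morphismRestrictRestrict _ _ _),
    Scheme.Hom.image_preimage_eq_opensRange_inf, Scheme.Opens.opensRange_ι,
    inf_eq_right.2 (le_iSup D U)]
  have hDW : D U ≤ W := (Y.basicOpen_le _).trans U.2
  have : IsClosedImmersion (f ∣_ D U) := by
    rw [Groth.FlatmorThree.FibreCI.snd_ι_iff @IsClosedImmersion]
    exact Groth.FlatmorThree.FibreCI.snd_of_factor @IsClosedImmersion f W.ι (Y.homOfLE hDW)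
      (D U).ι (Scheme.homOfLE_ι _ _) ((Groth.FlatmorThree.FibreCI.snd_ι_iff _ f W).1 hcl)
  show IsIso (f ∣_ D U)
  rw [IsClosedImmersion.isIso_iff_ker_eq_bot]
  have hDaff : IsAffineOpen (D U) := U.1.2.basicOpen _
  have : IsAffine (D U).toScheme := hDaff
  refine Scheme.IdealSheafData.ext_of_isAffine ?_
  rw [Scheme.ker_morphismRestrict_ideal, Scheme.IdealSheafData.ideal_bot, Pi.bot_apply]
  refine le_bot_iff.1 ?_
  have hbot : f.ker.ideal ⟨D U, hDaff⟩ = ⊥ := by
    refine (f.ker.map_ideal_basicOpen U.1 (g U.1 U.2)).symm.trans ?_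
    rw [eq_bot_iff, Ideal.map_le_iff_le_comap]
    intro a ha
    rw [Ideal.mem_comap, Ideal.mem_bot]
    have hu : IsUnit ((Y.presheaf.map (homOfLE (Y.basicOpen_le (g U.1 U.2))).op).hom (g U.1 U.2)) :=
      RingedSpace.isUnit_res_basicOpen _ _
    rw [← hu.mul_right_eq_zero, ← map_mul, hg U.1 U.2 a ha, map_zero]
  have hle : f.ker.ideal ⟨(D U).ι ''ᵁ ⊤, (isAffineOpen_top _).image_of_isOpenImmersion _⟩ = ⊥ := by
    have heq : (⟨(D U).ι ''ᵁ ⊤, (isAffineOpen_top _).image_of_isOpenImmersion _⟩ : Y.affineOpens) =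
        ⟨D U, hDaff⟩ := Subtype.ext (Scheme.Opens.ι_image_top (D U))
    rw [heq]; exact hbot
  exact hle.le

end Groth.AdicLinTop.ProperNear
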