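import Groth.Agent.AdicLinTop.RpushDerived
import Groth.Agent.AdicLinTop.CoprodPush

/-!
# Higher direct images from compact formal schemes commute with filtered colimits
-/

set_option autoImplicit false

universe u

open CategoryTheory CategoryTheory.Limits AlgebraicGeometry TopologicalSpace Opposite
open CategoryTheory.Abelian (Ext)

set_option backward.defeqAttrib.useBackward true
set_option backward.isDefEq.respectTransparency false
set_option backward.isDefEq.respectTransparency.types false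
set_option synthInstance.maxHeartbeats 400000
set_option maxHeartbeats 1000000

namespace Groth.AdicLinTop.RpushFiltered

open Groth.SitesTopoi Groth.SitesTopoi.ModH Groth.AdicLinTop.SpacePres Groth.AdicLinTop.RestrAct Groth.AdicLinTop.ResSec
open Groth.AdicLinTop.RpushClass Groth.AdicLinTop.RpushDerived
open Groth.AdicLinTop.FinitePush (pre)
open Groth.AdicLinTop.ModHomology (rm_apm apm_comp_apply)

section Space

variable {X : TopCat.{u}} [NoetherianSpace X] [PrespectralSpace X] {O : Sheaf (Opens.grothendieckTopology X) CommRingCat.{u}}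
  {J : Type u} [SmallCategory J] [IsFiltered J] {D : J ⥤ ModSite.Mod O} {c : Cocone D} (hc : IsColimit c)
  (U : Opens X) (p : ℕ)

/-- The classes as a functor of the module. -/
noncomputable abbrev HF' : ModSite.Mod O ⥤ AddCommGrpCat.{u} :=
  SheafOfModules.toSheaf.{u} (ModSite.ringSh O) ⋙
    (Sheaf.cohomologyPresheafFunctor (Opens.grothendieckTopology X) p).flip.obj (op U)

theorem preserves_HF' : PreservesColimit D (HF' (O := O) U p) := by
  haveI := Groth.QCohMod.preservesColimitsOfShape_toSheaf (ModSite.ringSh O) J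
  haveI := Groth.FlatMor2.ColimCoh.preservesColimit_HU_space X U (NoetherianSpace.isCompact _)
    (fun _ _ _ _ _ _ _ _ => NoetherianSpace.isCompact _) p (D ⋙ SheafOfModules.toSheaf.{u} (ModSite.ringSh O))
  infer_instance

include hc in
/-- Classes of a filtered colimit come from a stage. -/
theorem exists_stage (x : Ext (Groth.CohBase.constZ (TopCat.of U)) (restrAb U c.pt) p) :
    ∃ (j : J) (x' : Ext (Groth.CohBase.constZ (TopCat.of U)) (restrAb U (D.obj j)) p),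
      x'.comp (Ext.mk₀ (restrMap U (c.ι.app j))) (add_zero p) = x := by
  haveI := preserves_HF' (D := D) U p
  obtain ⟨w, rfl⟩ := (bijective_resH U (ModSite.toAb c.pt) p).2 x
  obtain ⟨j, w', hw'⟩ := Concrete.isColimit_exists_rep _ (isColimitOfPreserves (HF' (O := O) U p) hc) w
  refine ⟨j, resH U (ModSite.toAb (D.obj j)) p w', ?_⟩
  rw [← hw']
  exact (resH_map U ((SheafOfModules.toSheaf.{u} (ModSite.ringSh O)).map (c.ι.app j)) p w').symm

include hc in
/-- Classes vanishing in a filtered colimit vanish at a stage. -/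
theorem exists_stage_zero {i : J} (x : Ext (Groth.CohBase.constZ (TopCat.of U)) (restrAb U (D.obj i)) p)
    (h : x.comp (Ext.mk₀ (restrMap U (c.ι.app i))) (add_zero p) = 0) :
    ∃ (j : J) (a : i ⟶ j), x.comp (Ext.mk₀ (restrMap U (D.map a))) (add_zero p) = 0 := by
  haveI := preserves_HF' (D := D) U p
  obtain ⟨w, rfl⟩ := (bijective_resH U (ModSite.toAb (D.obj i)) p).2 x
  have hw : ((HF' (O := O) U p).mapCocone c).ι.app i w = ((HF' (O := O) U p).mapCocone c).ι.app i 0 := by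
    refine (bijective_resH U (ModSite.toAb c.pt) p).1 ?_
    refine (resH_map U ((SheafOfModules.toSheaf.{u} (ModSite.ringSh O)).map (c.ι.app i)) p w).trans (h.trans ?_)
    rw [map_zero, map_zero]
  obtain ⟨j, a, ha⟩ := (Types.FilteredColimit.isColimit_eq_iff'
    (isColimitOfPreserves (forget AddCommGrpCat.{u}) (isColimitOfPreserves (HF' (O := O) U p) hc)) w 0).1 hw
  refine ⟨j, a, ?_⟩
  refine (resH_map U ((SheafOfModules.toSheaf.{u} (ModSite.ringSh O)).map (D.map a)) p w).symm.trans ?_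
  refine (congrArg (resH U (ModSite.toAb (D.obj j)) p) (ha.trans (map_zero ((HF' (O := O) U p).map (D.map a)).hom))).trans ?_
  exact map_zero _

end Space

section Stage

variable {X : TopCat.{u}} {O : Sheaf (Opens.grothendieckTopology X) CommRingCat.{u}}
  {J : Type u} [SmallCategory J] [IsFiltered J] {D : J ⥤ ModSite.Mod O} {c : Cocone D} (hc : IsColimit c)

include hc in
/-- Sections of a filtered colimit come locally from a stage. -/
theorem exists_local_stage {V : Opens X} (m : sc c.pt.val V) {y : X} (hy : y ∈ V) :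
    ∃ (V₁ : Opens X) (hV₁ : V₁ ≤ V), y ∈ V₁ ∧ ∃ (i : J) (η : sc (D.obj i).val V₁),
      apm (c.ι.app i).val V₁ η = rm _ hV₁ m := by
  obtain ⟨S, hS, hS'⟩ := FiltColim.exists_local_stage_fin (O := O) c hc V (fun _ : Fin 1 => m)
  obtain ⟨V₁, hV₁, hy₁, hSV⟩ := exists_nhd_of_mem hS hy
  obtain ⟨i, η, hη⟩ := hS' (homOfLE hV₁) hSV
  exact ⟨V₁, hV₁, hy₁, i, η 0, hη 0⟩

end Stage

variable {𝔛 𝔜 : FSch.Sys.{u}} (f : 𝔛 ⟶ 𝔜) (h𝔛 : 𝔛.IsLocNoethFormal) (h𝔜 : 𝔜.IsLocNoethFormal)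
  [HasInjectiveResolutions (FSch.ModF 𝔛 h𝔛.1)] (q : ℕ)

/-- Sections killed by a map come locally from classes killed by it. -/
theorem exists_local_killed {M N : FSch.ModF 𝔛 h𝔛.1} (g : M ⟶ N) {V : (𝔜.X 0).Opens}
    (η : sc ((FSch.RpushF f h𝔛.1 h𝔜.1 q).obj M).val V)
    (hη : apm ((FSch.RpushF f h𝔛.1 h𝔜.1 q).map g).val V η = 0) {y : 𝔜.X 0} (hy : y ∈ V) :
    ∃ (W : (𝔜.X 0).Opens) (hW : W ≤ V), y ∈ W ∧ ∃ x : E f h𝔛 M q W,
      Ψ f h𝔛 h𝔜 q M W x = rm _ hW η ∧
        x.comp (Ext.mk₀ (restrMap (T := (𝔛.X 0).toTopCat) (pre f W) g)) (add_zero q) = 0 := by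
  obtain ⟨W₀, hW₀, -, hy₀, x₀, hx₀⟩ := exists_local f h𝔛 h𝔜 q M V η hy
  let ρ := res₀ h𝔛 M
  let σ := res₀ h𝔛 N
  let φ : ρ.C ⟶ σ.C := InjectiveResolution.desc g (injectiveResolution N) (injectiveResolution M)
  have hφ : ρ.ι ≫ φ.f 0 = g ≫ σ.ι := InjectiveResolution.desc_commutes_zero g _ _
  obtain ⟨z, rfl⟩ := clsU_surjective (pre f W₀) ρ.flasque_res q x₀
  have hz : apm (φ.f q).val (pre f W₀) z.1 ∈ Cyc σ.res (pre f W₀) q := by
    rw [mem_cyc]
    show apm (σ.C.d q (q + 1)).val (pre f W₀) (apm (φ.f q).val (pre f W₀) z.1) = 0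
    rw [apm_comp_apply, φ.comm, ← apm_comp_apply]
    exact (congrArg _ (mem_cyc.1 z.2)).trans (map_zero _)
  have h0 : Ψ f h𝔛 h𝔜 q N W₀ (clsU σ.res (pre f W₀) q ⟨_, hz⟩) = 0 := by
    rw [clsU_map (pre f W₀) (resHom (ρ := ρ) (σ := σ) g φ hφ) q z ⟨_, hz⟩ rfl]
    refine (Ψ_map f h𝔛 h𝔜 q g W₀ _).trans ?_
    rw [hx₀, ← rm_apm, hη, map_zero]
  have h0' : Φ f h𝔜 σ q W₀ (clsU σ.res (pre f W₀) q ⟨_, hz⟩) = 0 :=
    injective_of_mono (eR f h𝔛 h𝔜 q N).inv W₀ (h0.trans (map_zero _).symm)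
  obtain ⟨W, hW, -, hyW, hbd⟩ := exists_bd f h𝔜 σ q W₀ ⟨_, hz⟩ h0' hy₀
  let z₁ : Cyc ρ.res (pre f W) q := ⟨_, rm_mem_cyc ((Opens.map _).map (homOfLE hW)).le z.2⟩
  refine ⟨W, hW.trans hW₀, hyW, clsU ρ.res (pre f W) q z₁, ?_, ?_⟩
  · rw [← rm_rm _ hW₀ hW, ← hx₀]
    refine Eq.trans ?_ (rm_apm (eR f h𝔛 h𝔜 q M).inv hW _).symm
    refine congrArg (apm (eR f h𝔛 h𝔜 q M).inv.val W) ?_
    refine (Φ_cls f h𝔜 ρ q W z₁).trans (Eq.trans ?_ (congrArg (rm _ hW) (Φ_cls f h𝔜 ρ q W₀ z)).symm)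
    exact (SecHom.rm_θ (K := K f h𝔜 ρ) hW _).symm
  · refine (clsU_map (pre f W) (resHom (ρ := ρ) (σ := σ) g φ hφ) q z₁ ⟨_, rm_mem_cyc _ hz⟩
      (rm_apm (φ.f q) _ z.1)).symm.trans ?_
    exact (clsU_eq_zero_iff (pre f W) σ.flasque_res q _).2 hbd

variable [CompactSpace (𝔛.X 0)]

/-- Higher direct images commute with filtered colimits. -/
theorem preservesColimit {J : Type u} [SmallCategory J] [IsFiltered J] (D : J ⥤ FSch.ModF 𝔛 h𝔛.1) :
    PreservesColimit D (FSch.RpushF f h𝔛.1 h𝔜.1 q) := by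
  haveI := h𝔛.2.2 0
  haveI : AlgebraicGeometry.IsNoetherian (𝔛.X 0) := AlgebraicGeometry.IsNoetherian.mk
  haveI : NoetherianSpace ↥(𝔛.X 0).toTopCat := inferInstanceAs (NoetherianSpace ↥(𝔛.X 0).carrier)
  haveI : PrespectralSpace ↥(𝔛.X 0).toTopCat := inferInstanceAs (PrespectralSpace ↥(𝔛.X 0))
  refine preservesColimit_of_preserves_colimit_cocone (colimit.isColimit D) ?_
  let F := FSch.RpushF f h𝔛.1 h𝔜.1 q
  let c := colimit.cocone D
  let κ : colimit (D ⋙ F) ⟶ F.obj c.pt := colimit.desc (D ⋙ F) (F.mapCocone c)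
  have hκ : ∀ j, colimit.ι (D ⋙ F) j ≫ κ = F.map (c.ι.app j) := fun j => colimit.ι_desc _ _
  haveI : Mono κ := mono_of_injective _ fun V a b hab => sub_eq_zero.1 (eq_zero_of_local fun y hy => by
    obtain ⟨V₁, hV₁, hy₁, i, η, hη⟩ : ∃ (V₁ : (𝔜.X 0).Opens) (hV₁ : V₁ ≤ V), y ∈ V₁ ∧
        ∃ (i : J) (η : sc ((D ⋙ F).obj i).val V₁), apm (colimit.ι (D ⋙ F) i).val V₁ η = rm _ hV₁ (a - b) := by
      haveI := Groth.QCohMod.preservesColimitsOfShape_toSheaf (ModSite.ringSh (𝔜.Osh h𝔜.1)) J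
      exact exists_local_stage (colimit.isColimit (D ⋙ F)) (a - b) hy
    have h0 : apm (F.map (c.ι.app i)).val V₁ η = 0 := by
      rw [← hκ, ← apm_comp_apply]
      refine (congrArg (apm κ.val V₁) hη).trans ?_
      rw [← rm_apm, map_sub, hab, sub_self, map_zero]
    obtain ⟨W, hW, hyW, x, hx, hx0⟩ := exists_local_killed f h𝔛 h𝔜 q (c.ι.app i) η h0 hy₁
    obtain ⟨j, g, hg⟩ := exists_stage_zero (X := (𝔛.X 0).toTopCat) (colimit.isColimit D) (pre f W) q x hx0
    refine ⟨W, hW.trans hV₁, hyW, ?_⟩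
    rw [← rm_rm _ hV₁ hW, ← hη, rm_apm]
    refine (congrArg (apm (colimit.ι (D ⋙ F) i).val W) hx.symm).trans ?_
    rw [← colimit.w (D ⋙ F) g, ← apm_comp_apply]
    have : apm ((D ⋙ F).map g).val W (Ψ f h𝔛 h𝔜 q (D.obj i) W x) = 0 := by
      refine (Ψ_map f h𝔛 h𝔜 q (D.map g) W x).symm.trans ?_
      rw [hg, map_zero]
    exact (congrArg (apm (colimit.ι (D ⋙ F) j).val W) this).trans (map_zero _))
  haveI : Epi κ := Preadditive.epi_of_cancel_zero _ fun {Z} g hg => mod_hom_ext fun V η => by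
    refine (eq_zero_of_local (m := apm g.val V η) fun y hy => ?_).trans (ModHomology.apm_zero_apply η).symm
    obtain ⟨W, hW, -, hyW, x, hx⟩ := exists_local f h𝔛 h𝔜 q c.pt V η hy
    obtain ⟨j, x', rfl⟩ := exists_stage (X := (𝔛.X 0).toTopCat) (colimit.isColimit D) (pre f W) q x
    refine ⟨W, hW, hyW, ?_⟩
    rw [rm_apm, ← hx]
    refine (congrArg (apm g.val W) (Ψ_map f h𝔛 h𝔜 q (c.ι.app j) W x')).trans ?_
    refine (apm_comp_apply (F.map (c.ι.app j)) g _).trans ?_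
    rw [← hκ, Category.assoc, hg, comp_zero]
    rfl
  have h : IsIso κ := isIso_of_mono_of_epi κ
  exact @IsColimit.ofPointIso _ _ _ _ _ (colimit.cocone (D ⋙ F)) (F.mapCocone c) (colimit.isColimit (D ⋙ F)) h

end Groth.AdicLinTop.RpushFiltered
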