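import Groth.Agent.AdicLinTop.ProperRpush
import Groth.Agent.AdicLinTop.RpushFiltered
import Groth.Agent.AdicLinTop.AffineGens
import Groth.Agent.AdicLinTop.IndExt
import Groth.Agent.AdicLinTop.IndQcoh

/-!
# Coherent modules and their filtered colimits under higher direct images along proper morphisms

Over a quasi-compact locally Noetherian formal scheme coherent modules and filtered colimits of coherent modules
form weak Serre classes; higher direct images along proper morphisms carry either class into itself.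
-/

set_option autoImplicit false

universe u

open CategoryTheory CategoryTheory.Limits AlgebraicGeometry TopologicalSpace Opposite

set_option backward.defeqAttrib.useBackward true
set_option backward.isDefEq.respectTransparency false
set_option backward.isDefEq.respectTransparency.types false
set_option synthInstance.maxHeartbeats 400000
set_option maxHeartbeats 1000000

namespace Groth.AdicLinTop.ProperRpushD

open Groth.SitesTopoi.ModH Groth.AdicLinTop.SpacePres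

variable {𝔛 𝔜 : FSch.Sys.{u}} (h𝔛 : 𝔛.IsLocNoethFormal) (h𝔜 : 𝔜.IsLocNoethFormal) [CompactSpace (𝔛.X 0)]

theorem ind_X₂ {S : ShortComplex (FSch.ModF 𝔛 h𝔛.1)} (hS : S.ShortExact)
    (hX : ObjectProperty.ind.{u} (IndCoh.cohP h𝔛) S.X₁) (hY : ObjectProperty.ind.{u} (IndCoh.cohP h𝔛) S.X₃) :
    ObjectProperty.ind.{u} (IndCoh.cohP h𝔛) S.X₂ := by
  haveI := hS.epi_g
  exact IndExt.ind_of_ext h𝔛 S.g ((ObjectProperty.ind.{u} (IndCoh.cohP h𝔛)).prop_of_iso
    (IsLimit.conePointUniqueUpToIso hS.fIsKernel (limit.isLimit _)) hX) hY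

/-- An extension of coherent modules is coherent. -/
theorem coh_X₂ {S : ShortComplex (FSch.ModF 𝔛 h𝔛.1)} (hS : S.ShortExact)
    (hX : IndCoh.cohP h𝔛 S.X₁) (hY : IndCoh.cohP h𝔛 S.X₃) : IndCoh.cohP h𝔛 S.X₂ := by
  haveI : SheafOfModules.IsQuasicoherent.{u} S.X₂ := IndQcoh.isQuasicoherent_of_ind h𝔛
    (ind_X₂ h𝔛 hS (ObjectProperty.le_ind _ _ hX) (ObjectProperty.le_ind _ _ hY))
  haveI := hS.epi_g
  haveI := hS.mono_f
  refine QuotFP.isFinitePresentation (IndCoh.goodBasis h𝔛) fun x => ?_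
  obtain ⟨U₁, n₁, m₁, hx₁, ⟨P₁⟩⟩ := SpacePres.exists_presData hX x
  obtain ⟨U₃, n₃, m₃, hx₃, ⟨P₃⟩⟩ := SpacePres.exists_presData hY x
  have hlift : ∀ j, ∃ (W : (𝔛.X 0).Opens) (h : W ≤ U₃), x ∈ W ∧ ∃ t, apm S.g.val W t = rm S.X₃ h (P₃.s j) :=
    fun j => by
      obtain ⟨R, hR, hR'⟩ := locSurj_of_epi S.g U₃ (P₃.s j)
      obtain ⟨W, h, hxW, hW⟩ := exists_nhd_of_mem hR hx₃
      exact ⟨W, h, hxW, hR' (homOfLE h) hW⟩
  choose W₀ h₀ hxW₀ t₀ ht₀ using hlift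
  let U : (𝔛.X 0).Opens := (U₁ ⊓ U₃) ⊓ Finset.univ.inf W₀
  have hxU : x ∈ U := ⟨⟨hx₁, hx₃⟩, by
    show x ∈ ((Finset.univ.inf W₀ : (𝔛.X 0).Opens) : Set (𝔛.X 0))
    rw [Opens.coe_finset_inf]
    simpa using hxW₀⟩
  have hU₁ : U ≤ U₁ := inf_le_left.trans inf_le_left
  have hU₃ : U ≤ U₃ := inf_le_left.trans inf_le_right
  have hU₀ : ∀ j, U ≤ W₀ j := fun j => inf_le_right.trans (Finset.inf_le (Finset.mem_univ j))
  let c : Fin n₁ ⊕ Fin n₃ → sc S.X₂.val U :=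
    Sum.elim (fun i => apm S.f.val U (rm S.X₁ hU₁ (P₁.s i))) fun j => rm S.X₂ (hU₀ j) (t₀ j)
  refine ⟨U, n₁ + n₃, hxU, ⟨⟨c ∘ finSumFinEquiv.symm, fun W hW t y hy => ?_⟩⟩⟩
  obtain ⟨W₁, hW₁, hy₁, a, ha⟩ := P₃.gen W (hW.trans hU₃) (apm S.g.val W t) y hy
  have h0 : apm S.g.val W₁ (rm S.X₂ hW₁ t - ∑ j, a j • rm S.X₂ ((hW₁.trans hW).trans (hU₀ j)) (t₀ j)) = 0 := by
    rw [map_sub, map_sum, sub_eq_zero, ← ModHomology.rm_apm, ha]
    refine Finset.sum_congr rfl fun j _ => ?_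
    rw [map_smul, ← ModHomology.rm_apm, ht₀, rm_rm]
  obtain ⟨W₂, hW₂, hy₂, z, hz⟩ := ModHomology.exists_lift_of_exact hS.exact _ h0 hy₁
  obtain ⟨W₃, hW₃, hy₃, b, hb⟩ := P₁.gen W₂ ((hW₂.trans hW₁).trans (hW.trans hU₁)) z y hy₂
  refine ⟨W₃, (hW₃.trans hW₂).trans hW₁, hy₃, Sum.elim b (fun j => rr (hW₃.trans hW₂) (a j)) ∘ finSumFinEquiv.symm, ?_⟩
  rw [← Equiv.sum_comp finSumFinEquiv]
  simp only [Function.comp_apply, Equiv.symm_apply_apply, Fintype.sum_sum_type, Sum.elim_inl, Sum.elim_inr, c]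
  have h := congrArg (apm S.f.val W₃) hb
  rw [← ModHomology.rm_apm, hz, map_sum] at h
  simp only [map_sub, map_sum, rm_smul, rm_rm, rr_rr, map_smul, ModHomology.rm_apm] at h ⊢
  rw [← h]
  abel

/-- Coherent modules form a weak Serre class. -/
theorem isWeakSerre_cohP : WSerre.IsWeakSerre (IndCoh.cohP h𝔛) where
  exists_zero := ⟨_, isZero_zero _, FPSmall.fp_of_isZero (O := 𝔛.Osh h𝔛.1) (isZero_zero _)⟩
  kernels_le := by
    rintro _ ⟨g, k, hk, hX, hY⟩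
    exact (IndCoh.cohP h𝔛).prop_of_iso (IsLimit.conePointUniqueUpToIso (kernelIsKernel g) hk)
      (CohKer.fp_kernel (IndCoh.goodBasis h𝔛) g hX hY)
  cokernels_le := by
    rintro _ ⟨g, k, hk, hX, hY⟩
    exact (IndCoh.cohP h𝔛).prop_of_iso (IsColimit.coconePointUniqueUpToIso (cokernelIsCokernel g) hk)
      (CohKer.fp_cokernel g hX hY)
  prop_X₂_of_shortExact := @fun S hS hX hY => coh_X₂ h𝔛 hS hX hY

/-- Filtered colimits of coherent modules form a weak Serre class. -/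
theorem isWeakSerre_ind : WSerre.IsWeakSerre (ObjectProperty.ind.{u} (IndCoh.cohP h𝔛)) where
  prop_X₂_of_shortExact := @fun S hS hX hY => ind_X₂ h𝔛 hS hX hY

variable (f : 𝔛 ⟶ 𝔜) (hf : FSch.IsProperHom f)

include hf in
/-- Higher direct images of coherent modules are coherent. -/
theorem coh_rightDerived [HasInjectiveResolutions (FSch.ModF 𝔛 h𝔛.1)] {F : FSch.ModF 𝔛 h𝔛.1}
    (hF : IndCoh.cohP h𝔛 F) (p : ℕ) :
    IndCoh.cohP h𝔜 (((FSch.homMor f h𝔛.1 h𝔜.1).push.rightDerived p).obj F) :=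
  ProperRpush.isCohF f h𝔛 h𝔜 p hf hF

include hf in
/-- Higher direct images of filtered colimits of coherent modules are filtered colimits of coherent modules. -/
theorem ind_rightDerived [HasInjectiveResolutions (FSch.ModF 𝔛 h𝔛.1)] {F : FSch.ModF 𝔛 h𝔛.1}
    (hF : ObjectProperty.ind.{u} (IndCoh.cohP h𝔛) F) (p : ℕ) :
    ObjectProperty.ind.{u} (IndCoh.cohP h𝔜) (((FSch.homMor f h𝔛.1 h𝔜.1).push.rightDerived p).obj F) := by
  obtain ⟨J, hJ, hJ', P, hP⟩ := hF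
  haveI := RpushFiltered.preservesColimit f h𝔛 h𝔜 p P.diag
  exact ⟨J, hJ, hJ',
    { diag := P.diag ⋙ FSch.RpushF f h𝔛.1 h𝔜.1 p
      ι := ((FSch.RpushF f h𝔛.1 h𝔜.1 p).mapCocone P.cocone).ι
      isColimit := isColimitOfPreserves (FSch.RpushF f h𝔛.1 h𝔜.1 p) P.isColimit },
    fun j => ProperRpush.isCohF f h𝔛 h𝔜 p hf (hP j)⟩

end Groth.AdicLinTop.ProperRpushD
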