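import Groth.Agent.AdicLinTop.ComplReal
import Groth.Agent.AdicLinTop.QcohRes
import Groth.Agent.QCohMod.PullbackSections
import Groth.Prelude.Def_FSch6

/-!
# Inverse images of systems of modules along a morphism of formal systems, on sections
-/

set_option autoImplicit false

universe u

open CategoryTheory CategoryTheory.Limits AlgebraicGeometry TopologicalSpace Opposite TensorProduct

namespace Groth.AdicLinTop.PullLevels

open Groth.AdicLinTop.FormalLevels Groth.AdicLinTop.FormalReal Groth.AdicLinTop.FormalAffine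
open Groth.AdicLinTop.FormalSpan
open Groth.QCohMod (res resFun res_res res_smul res_app res_self resFun_resFun sectionsAlg pullSecTensor
  pullSecTensor_tmul pullSecTensor_bijective res_pullSec_smul)
open Groth.PicAux (pullSec pullSec_smul res_pullSec pullSec_map pullSec_comp)

section Scheme

variable {X Y : Scheme.{u}} (f : Y ⟶ X) (M : X.Modules) [M.IsQuasicoherent] {U : X.Opens} {V : Y.Opens}
  (hU : IsAffineOpen U) (hV : IsAffineOpen V) (e : V ≤ f ⁻¹ᵁ U)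

include hU hV in
/-- Images of generators generate the sections of the inverse image. -/
theorem span_pull {ι : Type*} (m : ι → Γ(M, U)) (hm : Submodule.span Γ(X, U) (Set.range m) = ⊤) :
    Submodule.span Γ(Y, V) (Set.range fun i => res _ e (pullSec f M (m i))) = ⊤ := by
  letI := sectionsAlg f e
  refine eq_top_iff.2 fun t ht => ?_
  clear ht
  obtain ⟨z, rfl⟩ := (pullSecTensor_bijective f M e hU hV).2 t
  induction z using TensorProduct.induction_on with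
  | zero => rw [map_zero]; exact zero_mem _
  | add a b ha hb => rw [map_add]; exact add_mem ha hb
  | tmul b x =>
    rw [pullSecTensor_tmul]
    refine Submodule.smul_mem _ _ ?_
    obtain ⟨s, hs, c, rfl⟩ : ∃ (s : Finset ι), True ∧ ∃ c : ι → Γ(X, U), x = ∑ i ∈ s, c i • m i := by
      obtain ⟨c, hc⟩ := Finsupp.mem_span_range_iff_exists_finsupp.1 (hm ▸ Submodule.mem_top : x ∈ _)
      exact ⟨c.support, trivial, c, hc.symm⟩
    have h2 : res _ e (pullSec f M (∑ i ∈ s, c i • m i)) = ∑ i ∈ s, res _ e (pullSec f M (c i • m i)) :=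
      map_sum (AddMonoidHom.mk' (fun y : Γ(M, U) => res _ e (pullSec f M y)) fun a b =>
        (congrArg (res _ e) (map_add (((Scheme.Modules.pullbackPushforwardAdjunction f).unit.app M).app U).hom a b)).trans
          (map_add _ _ _)) _ _
    rw [h2]
    refine Submodule.sum_mem _ fun i _ => ?_
    rw [res_pullSec_smul]
    exact Submodule.smul_mem _ _ (Submodule.subset_span ⟨i, rfl⟩)

include hU hV in
/-- Relations in the inverse image come from relations. -/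
theorem rel_pull {ι : Type*} [Fintype ι] [DecidableEq ι] (m : ι → Γ(M, U))
    (hm : Submodule.span Γ(X, U) (Set.range m) = ⊤) (b : ι → Γ(Y, V))
    (hb : ∑ i, b i • res _ e (pullSec f M (m i)) = 0) :
    b ∈ Submodule.span Γ(Y, V)
      ((fun a : ι → Γ(X, U) => fun i => f.appLE U V e (a i)) '' {a | ∑ i, a i • m i = 0}) := by
  letI := sectionsAlg f e
  let φ : (ι → Γ(X, U)) →ₗ[Γ(X, U)] Γ(M, U) := Fintype.linearCombination Γ(X, U) m
  have hφ : Function.Surjective φ := by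
    rw [← LinearMap.range_eq_top, Fintype.range_linearCombination, hm]
  have hex := lTensor_exact Γ(Y, V) (LinearMap.exact_subtype_ker_map φ) hφ
  let z : Γ(Y, V) ⊗[Γ(X, U)] (ι → Γ(X, U)) := ∑ i, b i ⊗ₜ Pi.single i 1
  have hz : φ.lTensor Γ(Y, V) z = 0 := by
    refine (pullSecTensor_bijective f M e hU hV).1 ?_
    rw [map_zero, map_sum, map_sum]
    refine Eq.trans (Finset.sum_congr rfl fun i _ => ?_) hb
    rw [LinearMap.lTensor_tmul, pullSecTensor_tmul]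
    simp only [φ, Fintype.linearCombination_apply_single, one_smul]
  obtain ⟨w, hw⟩ := (hex z).1 hz
  let ψ := (TensorProduct.piScalarRight Γ(X, U) Γ(Y, V) Γ(Y, V) ι).toLinearMap
  have hψ : ψ z = b := by
    funext j
    simp only [z, ψ, map_sum, Finset.sum_apply, LinearEquiv.coe_coe, TensorProduct.piScalarRight_apply,
      TensorProduct.piScalarRightHom_tmul]
    rw [Finset.sum_eq_single j (fun i _ hij => by rw [Pi.single_eq_of_ne hij.symm, zero_smul])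
      (fun h => (h (Finset.mem_univ j)).elim), Pi.single_eq_same, one_smul]
  rw [← hψ, ← hw]
  clear hw hψ hz z
  induction w using TensorProduct.induction_on with
  | zero => rw [map_zero, map_zero]; exact zero_mem _
  | add x y hx hy => rw [map_add, map_add]; exact add_mem hx hy
  | tmul c a =>
    have : ψ (φ.ker.subtype.lTensor Γ(Y, V) (c ⊗ₜ a)) = c • fun i => f.appLE U V e (a.1 i) := by
      funext j
      simp only [ψ, LinearMap.lTensor_tmul, Submodule.subtype_apply, LinearEquiv.coe_coe,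
        TensorProduct.piScalarRight_apply, TensorProduct.piScalarRightHom_tmul, Pi.smul_apply]
      rw [smul_eq_mul, Algebra.smul_def, mul_comm]
      rfl
    rw [this]
    refine Submodule.smul_mem _ _ (Submodule.subset_span ⟨a.1, ?_, rfl⟩)
    exact (Fintype.linearCombination_apply Γ(X, U) m a.1).symm.trans (LinearMap.mem_ker.1 a.2)

end Scheme

/-- The transition of inverse images along a commutative square, on sections. -/
theorem square_res {A B C D : Scheme.{u}} (ι₁ : A ⟶ B) (q : B ⟶ D) (p : A ⟶ C) (ι₂ : C ⟶ D)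
    (e : ι₁ ≫ q = p ≫ ι₂) (M : D.Modules) {O : D.Opens} {B' : B.Opens} {C' : C.Opens} {A' : A.Opens}
    (hB : B' ≤ q ⁻¹ᵁ O) (hC : C' ≤ ι₂ ⁻¹ᵁ O) (hA₁ : A' ≤ ι₁ ⁻¹ᵁ B') (hA₂ : A' ≤ p ⁻¹ᵁ C') (m : Γ(M, O)) :
    ((Scheme.Modules.pullbackComp ι₁ q).app M ≪≫ (Scheme.Modules.pullbackCongr e).app M ≪≫
        (Scheme.Modules.pullbackComp p ι₂).symm.app M).hom.app A'
      (res _ hA₁ (pullSec ι₁ _ (res _ hB (pullSec q M m)))) =
      res _ hA₂ (pullSec p _ (res _ hC (pullSec ι₂ M m))) := by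
  have h₁ : A' ≤ (ι₁ ≫ q) ⁻¹ᵁ O := hA₁.trans (ι₁.preimage_mono hB)
  have h₂ : A' ≤ (p ≫ ι₂) ⁻¹ᵁ O := hA₂.trans (p.preimage_mono hC)
  refine (congrArg (fun z => ((Scheme.Modules.pullbackComp p ι₂).inv.app M).app A'
    (((Scheme.Modules.pullbackCongr e).hom.app M).app A' z))
    (ComplReal.pullbackComp_res ι₁ q M hB hA₁ h₁ m)).trans ?_
  refine (congrArg (fun z => ((Scheme.Modules.pullbackComp p ι₂).inv.app M).app A' z)
    (ComplReal.pullbackCongr_res e M h₁ h₂ m)).trans ?_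
  refine (congrArg (fun z => ((Scheme.Modules.pullbackComp p ι₂).inv.app M).app A' z)
    (ComplReal.pullbackComp_res p ι₂ M hC hA₂ h₂ m).symm).trans ?_
  exact congr(($(Iso.hom_inv_id_app (Scheme.Modules.pullbackComp p ι₂) M)).app A'
    (res _ hA₂ (pullSec p _ (res _ hC (pullSec ι₂ M m)))))

section Levels

variable {𝔛 𝔜 : FSch.Sys.{u}} (φ : 𝔛 ⟶ 𝔜) {h : 𝔛.IsFormal} {h' : 𝔜.IsFormal} (𝔐 : FSch.ModSys 𝔜)

theorem le_lvU (k : ℕ) {U : (𝔜.X 0).Opens} {V : (𝔛.X 0).Opens}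
    (e : V ≤ (φ : FSch.Hom 𝔛 𝔜).app 0 ⁻¹ᵁ U) :
    𝔛.lvU h k V ≤ (φ : FSch.Hom 𝔛 𝔜).app k ⁻¹ᵁ 𝔜.lvU h' k U :=
  (lvU_mono h k e).trans (FSch.Hom.lvU_preimage φ h h' k U).ge

/-- The image of a section of a level in the levelwise inverse image. -/
noncomputable def pev (k : ℕ) {U : (𝔜.X 0).Opens} {V : (𝔛.X 0).Opens}
    (e : V ≤ (φ : FSch.Hom 𝔛 𝔜).app 0 ⁻¹ᵁ U) (m : Γ(𝔐.F k, 𝔜.lvU h' k U)) :
    Γ((FSch.ModSys.pullback φ 𝔐).F k, 𝔛.lvU h k V) :=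
  res ((Scheme.Modules.pullback ((φ : FSch.Hom 𝔛 𝔜).app k)).obj (𝔐.F k)) (le_lvU φ k e)
    (pullSec ((φ : FSch.Hom 𝔛 𝔜).app k) (𝔐.F k) m)

theorem pev_res (k : ℕ) {U U' : (𝔜.X 0).Opens} {V V' : (𝔛.X 0).Opens}
    (e : V ≤ (φ : FSch.Hom 𝔛 𝔜).app 0 ⁻¹ᵁ U) (e' : V' ≤ (φ : FSch.Hom 𝔛 𝔜).app 0 ⁻¹ᵁ U')
    (eU : U' ≤ U) (eV : V' ≤ V) (m : Γ(𝔐.F k, 𝔜.lvU h' k U)) :
    pev (h := h) φ 𝔐 k e' (res (𝔐.F k) (lvU_mono h' k eU) m) =
      res ((FSch.ModSys.pullback φ 𝔐).F k) (lvU_mono h k eV) (pev (h := h) φ 𝔐 k e m) := by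
  refine (congrArg (res _ (le_lvU φ k e')) (res_pullSec ((φ : FSch.Hom 𝔛 𝔜).app k) (𝔐.F k) _ m).symm).trans ?_
  exact (res_res ((Scheme.Modules.pullback ((φ : FSch.Hom 𝔛 𝔜).app k)).obj (𝔐.F k))
    (((φ : FSch.Hom 𝔛 𝔜).app k).preimage_mono (lvU_mono h' k eU)) (le_lvU φ k e') _).trans
    (res_res ((Scheme.Modules.pullback ((φ : FSch.Hom 𝔛 𝔜).app k)).obj (𝔐.F k)) (le_lvU φ k e) _ _).symm

theorem pev_add (k : ℕ) {U : (𝔜.X 0).Opens} {V : (𝔛.X 0).Opens}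
    (e : V ≤ (φ : FSch.Hom 𝔛 𝔜).app 0 ⁻¹ᵁ U) (m m' : Γ(𝔐.F k, 𝔜.lvU h' k U)) :
    pev (h := h) φ 𝔐 k e (m + m') = pev (h := h) φ 𝔐 k e m + pev (h := h) φ 𝔐 k e m' :=
  (congrArg (res _ (le_lvU φ k e))
    (map_add (((Scheme.Modules.pullbackPushforwardAdjunction ((φ : FSch.Hom 𝔛 𝔜).app k)).unit.app (𝔐.F k)).app _).hom
      m m')).trans (map_add _ _ _)

theorem pev_smul (k : ℕ) {U : (𝔜.X 0).Opens} {V : (𝔛.X 0).Opens}
    (e : V ≤ (φ : FSch.Hom 𝔛 𝔜).app 0 ⁻¹ᵁ U) (a : Γ(𝔜.X k, 𝔜.lvU h' k U)) (m : Γ(𝔐.F k, 𝔜.lvU h' k U)) :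
    pev (h := h) φ 𝔐 k e (a • m) =
      ((φ : FSch.Hom 𝔛 𝔜).app k).appLE _ _ (le_lvU φ k e) a • pev (h := h) φ 𝔐 k e m :=
  res_pullSec_smul ((φ : FSch.Hom 𝔛 𝔜).app k) (𝔐.F k) (le_lvU φ k e) a m

/-- The transition of the levelwise inverse image on images of sections. -/
theorem trans_pev_aux (k : ℕ) (U : (𝔜.X 0).Opens) (m : Γ(𝔐.F (k + 1), 𝔜.lvU h' (k + 1) U)) :
    ((FSch.ModSys.pullback φ 𝔐).e k).hom.app (𝔛.ι k ⁻¹ᵁ 𝔛.lvU h (k + 1) ((φ : FSch.Hom 𝔛 𝔜).app 0 ⁻¹ᵁ U))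
        (pullSec (𝔛.ι k) ((FSch.ModSys.pullback φ 𝔐).F (k + 1)) (pev (h := h) φ 𝔐 (k + 1) le_rfl m)) =
      res ((FSch.ModSys.pullback φ 𝔐).F k) (𝔛.lvU_succ h k _).le
        (pev (h := h) φ 𝔐 k le_rfl (res (𝔐.F k) (𝔜.lvU_le h' k U)
          ((𝔐.e k).hom.app (𝔜.ι k ⁻¹ᵁ 𝔜.lvU h' (k + 1) U) (pullSec (𝔜.ι k) (𝔐.F (k + 1)) m)))) := by
  let V := (φ : FSch.Hom 𝔛 𝔜).app 0 ⁻¹ᵁ U
  have hA₂ : 𝔛.ι k ⁻¹ᵁ 𝔛.lvU h (k + 1) V ≤ (φ : FSch.Hom 𝔛 𝔜).app k ⁻¹ᵁ 𝔜.lvU h' k U :=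
    (𝔛.lvU_succ h k V).le.trans (le_lvU φ k le_rfl)
  have h1 := square_res (𝔛.ι k) ((φ : FSch.Hom 𝔛 𝔜).app (k + 1)) ((φ : FSch.Hom 𝔛 𝔜).app k) (𝔜.ι k)
    ((φ : FSch.Hom 𝔛 𝔜).comm k).symm (𝔐.F (k + 1)) (le_lvU φ (k + 1) (le_refl V)) (𝔜.lvU_le h' k U)
    (le_refl (𝔛.ι k ⁻¹ᵁ 𝔛.lvU h (k + 1) V)) hA₂ m
  rw [res_self] at h1
  refine (congrArg (fun z => ((Scheme.Modules.pullback ((φ : FSch.Hom 𝔛 𝔜).app k)).map (𝔐.e k).hom).app
    (𝔛.ι k ⁻¹ᵁ 𝔛.lvU h (k + 1) V) z) h1).trans ?_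
  refine (res_app ((Scheme.Modules.pullback ((φ : FSch.Hom 𝔛 𝔜).app k)).map (𝔐.e k).hom) hA₂ _).symm.trans ?_
  refine (congrArg (res _ hA₂) (pullSec_map ((φ : FSch.Hom 𝔛 𝔜).app k) (𝔐.e k).hom _)).trans ?_
  refine (congrArg (fun z => res ((Scheme.Modules.pullback ((φ : FSch.Hom 𝔛 𝔜).app k)).obj (𝔐.F k)) hA₂
    (pullSec ((φ : FSch.Hom 𝔛 𝔜).app k) (𝔐.F k) z)) (res_app (𝔐.e k).hom (𝔜.lvU_le h' k U) _).symm).trans ?_
  exact (res_res ((Scheme.Modules.pullback ((φ : FSch.Hom 𝔛 𝔜).app k)).obj (𝔐.F k)) (le_lvU φ k le_rfl)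
    (𝔛.lvU_succ h k V).le _).symm

theorem trans_pev (k : ℕ) (U : (𝔜.X 0).Opens) (m : Γ(𝔐.F (k + 1), 𝔜.lvU h' (k + 1) U)) :
    pushEquiv k _ _ (app (trans h (FSch.ModSys.pullback φ 𝔐) k) ((φ : FSch.Hom 𝔛 𝔜).app 0 ⁻¹ᵁ U)
      ((pushEquiv (k + 1) _ _).symm (pev (h := h) φ 𝔐 (k + 1) le_rfl m))) =
    pev (h := h) φ 𝔐 k le_rfl (pushEquiv k (𝔐.F k) U (app (trans h' 𝔐 k) U
      ((pushEquiv (k + 1) (𝔐.F (k + 1)) U).symm m))) := by
  rw [trans_apply, AddEquiv.apply_symm_apply, trans_apply, AddEquiv.apply_symm_apply, trans_pev_aux, res_res,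
    res_self]

end Levels

end Groth.AdicLinTop.PullLevels
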