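import Groth.Agent.AdicLinTop.IndCoh

/-!
# Quasi-coherent submodules of coherent modules on a locally Noetherian formal scheme
-/

set_option autoImplicit false

universe u

open CategoryTheory CategoryTheory.Limits AlgebraicGeometry TopologicalSpace Opposite

set_option backward.defeqAttrib.useBackward true
set_option backward.isDefEq.respectTransparency false
set_option backward.isDefEq.respectTransparency.types false
set_option synthInstance.maxHeartbeats 400000

namespace Groth.AdicLinTop.QcohSub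

open Groth.SitesTopoi.ModH Groth.Misc4.FreeOn Groth.AdicLinTop.SpacePres Groth.AdicLinTop.CohKer
open Groth.SitesTopoi Groth.AdicLinTop.FormalAffine Groth.AdicLinTop.QuotFP

section Generic

variable {T : Type u} [TopologicalSpace T] {O : Sheaf (Opens.grothendieckTopology T) CommRingCat.{u}}
  {G : ModSite.Mod O} {U : Opens T}

/-- Finitely many generators which locally span all generators generate. -/
theorem nonempty_genData_of_span (p : ((ModSite.restr O U).obj G).Presentation) {V : Opens T} (hV : V ≤ U)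
    {N : ℕ} (gs : Fin N → sc G.val V)
    (hgs : ∀ (b : p.generators.I) (W : Opens T) (hW : W ≤ V), ∀ y ∈ W, ∃ (W' : Opens T) (hW' : W' ≤ W),
      y ∈ W' ∧ ∃ c : Fin N → rsec O W', rm G (hW'.trans hW) (gv p hV b) = ∑ j, c j • rm G (hW'.trans hW) (gs j)) :
    Nonempty (GenData G V N) := by
  classical
  refine ⟨{ s := gs, gen := fun W hW t y hy => ?_ }⟩
  obtain ⟨W₁, hW₁, hy₁, s, a, ha⟩ := exists_gv_comb p (hW.trans hV) t hy
  let S : ∀ (W : Opens T) (hW : W ≤ V), Submodule (rsec O W) (sc G.val W) := fun W hW =>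
    Submodule.span _ (Set.range fun j => rm G hW (gs j))
  have hsum : ∀ s' : Finset p.generators.I, ∃ (W' : Opens T) (hW' : W' ≤ W₁), y ∈ W' ∧
      ∀ b ∈ s', rm G ((hW'.trans hW₁).trans hW) (gv p hV b) ∈ S W' ((hW'.trans hW₁).trans hW) := by
    intro s'
    induction s' using Finset.induction with
    | empty => exact ⟨W₁, le_rfl, hy₁, fun b hb => absurd hb (Finset.notMem_empty b)⟩
    | insert b s' _ ih =>
      obtain ⟨W', hW', hy', h'⟩ := ih
      obtain ⟨W'', hW'', hy'', w, hw⟩ := hgs b W' ((hW'.trans hW₁).trans hW) y hy'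
      refine ⟨W'', hW''.trans hW', hy'', fun c hc => ?_⟩
      rcases Finset.mem_insert.1 hc with rfl | hc
      · rw [hw]
        exact Submodule.sum_mem _ fun j _ => Submodule.smul_mem _ _ (Submodule.subset_span ⟨j, rfl⟩)
      · obtain ⟨w', hw'⟩ := (Submodule.mem_span_range_iff_exists_fun _).1 (h' c hc)
        have h := congrArg (rm G hW'') hw'
        simp only [map_sum, rm_smul, rm_rm] at h
        rw [← h]
        exact Submodule.sum_mem _ fun j _ => Submodule.smul_mem _ _ (Submodule.subset_span ⟨j, rfl⟩)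
  obtain ⟨W', hW', hy', hW's⟩ := hsum s
  have hmem : rm G (hW'.trans hW₁) t ∈ S W' ((hW'.trans hW₁).trans hW) := by
    rw [← rm_rm G hW₁ hW', ha, map_sum]
    refine Submodule.sum_mem _ fun b hb => ?_
    rw [rm_smul, rm_gv]
    refine Submodule.smul_mem _ _ ?_
    have := hW's b hb
    rw [rm_gv] at this
    exact this
  obtain ⟨c, hc⟩ := (Submodule.mem_span_range_iff_exists_fun _).1 hmem
  exact ⟨W', hW'.trans hW₁, hy', c, hc.symm⟩

end Generic

variable {𝔛 : FSch.Sys.{u}} (h𝔛 : 𝔛.IsLocNoethFormal) {F G : FSch.ModF 𝔛 h𝔛.1}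

section Span

variable (ι : G ⟶ F) {V W : (𝔛.X 0).Opens} {n N : ℕ} (D : Fin n → sc F.val V) (gs : Fin N → sc G.val V)

/-- Coefficient vectors of combinations of given sections. -/
noncomputable def combSub (hW : W ≤ V) :
    Submodule (rsec (𝔛.Osh h𝔛.1) W) (Fin n → rsec (𝔛.Osh h𝔛.1) W) where
  carrier := {v | ∃ c : Fin N → rsec (𝔛.Osh h𝔛.1) W,
    apm ι.val W (∑ j, c j • rm G hW (gs j)) = ∑ i, v i • rm F hW (D i)}
  add_mem' := by
    rintro v w ⟨c, e⟩ ⟨c', e'⟩
    exact ⟨c + c', by simp only [Pi.add_apply, add_smul, Finset.sum_add_distrib, map_add, e, e']⟩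
  zero_mem' := ⟨0, by simp⟩
  smul_mem' := by
    rintro r v ⟨c, e⟩
    refine ⟨fun j => r * c j, ?_⟩
    simp only [mul_smul, ← Finset.smul_sum, map_smul, e, Pi.smul_apply, smul_eq_mul]

lemma ext_le_combSub (hW : W ≤ V) {l : ℕ} (j : Fin N) (a : Fin l → Fin (n + 1) → RS h𝔛.1 V)
    (ha : ∀ q, ∑ i, a q i • Fin.append D (fun _ : Fin 1 => apm ι.val V (gs j)) i = 0) :
    AffineGlue.ext (resR h𝔛.1 hW)
        (Submodule.span (RS h𝔛.1 V) (Set.range fun q => fun i => a q (Fin.castAdd 1 i))) ≤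
      combSub h𝔛 ι D gs hW := by
  classical
  rw [AffineGlue.ext, Submodule.span_le]
  rintro _ ⟨v, hv, rfl⟩
  induction hv using Submodule.span_induction with
  | zero =>
    show resR h𝔛.1 hW ∘ (0 : Fin n → RS h𝔛.1 V) ∈ _
    rw [show resR h𝔛.1 hW ∘ (0 : Fin n → RS h𝔛.1 V) = 0 from funext fun i => map_zero _]
    exact Submodule.zero_mem _
  | add v w _ _ hv hw =>
    show resR h𝔛.1 hW ∘ (v + w) ∈ _
    rw [show resR h𝔛.1 hW ∘ (v + w) = resR h𝔛.1 hW ∘ v + resR h𝔛.1 hW ∘ w from funext fun i => map_add _ _ _]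
    exact Submodule.add_mem _ hv hw
  | smul r v _ hv =>
    show resR h𝔛.1 hW ∘ (r • v) ∈ _
    rw [show resR h𝔛.1 hW ∘ (r • v) = resR h𝔛.1 hW r • (resR h𝔛.1 hW ∘ v) from funext fun i => map_mul _ _ _]
    exact Submodule.smul_mem _ _ hv
  | mem v hv =>
    obtain ⟨q, rfl⟩ := hv
    refine ⟨Pi.single j (- rr hW (a q (Fin.natAdd n 0))), ?_⟩
    have h := congrArg (rm F hW) (ha q)
    simp only [Fin.sum_univ_add, Fin.append_left, Fin.append_right, Fin.sum_univ_one, map_add, map_sum,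
      rm_smul, map_zero] at h
    rw [Finset.sum_eq_single j (fun k _ hk => by rw [Pi.single_eq_of_ne hk, zero_smul])
      (fun hj => absurd (Finset.mem_univ j) hj), Pi.single_eq_same, map_smul, apm_rsm, neg_smul, eq_comm,
      eq_neg_iff_add_eq_zero]
    exact h

/-- Vectors over `V` whose restriction to `W` gives a combination. -/
noncomputable def combPre (hW : W ≤ V) : Submodule (RS h𝔛.1 V) (Fin n → RS h𝔛.1 V) where
  carrier := (fun v => resR h𝔛.1 hW ∘ v) ⁻¹' (combSub h𝔛 ι D gs hW : Set (Fin n → rsec (𝔛.Osh h𝔛.1) W))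
  add_mem' := fun {v w} hv hw => by
    have e : resR h𝔛.1 hW ∘ (v + w) = resR h𝔛.1 hW ∘ v + resR h𝔛.1 hW ∘ w := funext fun i => map_add _ _ _
    rw [Set.mem_preimage, SetLike.mem_coe, e]; exact (combSub h𝔛 ι D gs hW).add_mem hv hw
  zero_mem' := by
    have e : resR h𝔛.1 hW ∘ (0 : Fin n → RS h𝔛.1 V) = 0 := funext fun i => map_zero _
    rw [Set.mem_preimage, SetLike.mem_coe, e]; exact (combSub h𝔛 ι D gs hW).zero_mem
  smul_mem' := fun r v hv => by
    have e : resR h𝔛.1 hW ∘ (r • v) = resR h𝔛.1 hW r • (resR h𝔛.1 hW ∘ v) := funext fun i => map_mul _ _ _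
    rw [Set.mem_preimage, SetLike.mem_coe, e]; exact (combSub h𝔛 ι D gs hW).smul_mem _ hv

end Span

/-- Finitely many of the generators suffice. -/
theorem exists_finite_gens (hF : FSch.IsCohF 𝔛 h𝔛.1 F) (ι : G ⟶ F) [Mono ι] {V : (𝔛.X 0).Opens}
    (hV : IsAffineOpen V) {n : ℕ} (D : GenData (O := 𝔛.Osh h𝔛.1) F V n) {κ : Type u} (g : κ → sc G.val V) :
    ∃ s : Finset κ, ∀ (b : κ) (W : (𝔛.X 0).Opens) (hW : W ≤ V), ∀ y ∈ W,
      ∃ (W' : (𝔛.X 0).Opens) (hW' : W' ≤ W), y ∈ W' ∧ ∃ c : Fin s.card → rsec (𝔛.Osh h𝔛.1) W',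
        rm G (hW'.trans hW) (g b) = ∑ j, c j • rm G (hW'.trans hW) (g (s.equivFin.symm j).1) := by
  classical
  haveI := isNoetherianRing h𝔛 hV
  have hR : ∀ b, ∃ l, Nonempty (RelData (O := 𝔛.Osh h𝔛.1) (F := F)
      (Fin.append D.s fun _ : Fin 1 => apm ι.val V (g b)) l) := fun b =>
    AffineGlue.exists_relData_of_fp h𝔛 hV hF _
  choose L hL using hR
  let R := fun b => (hL b).some
  let M : κ → Submodule (RS h𝔛.1 V) (Fin n → RS h𝔛.1 V) := fun b =>
    Submodule.span _ (Set.range fun q => fun i => (R b).e q (Fin.castAdd 1 i))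
  obtain ⟨_, ⟨s₀, rfl⟩, hmax⟩ := set_has_maximal_iff_noetherian.2 (inferInstance : IsNoetherian (RS h𝔛.1 V)
    (Fin n → RS h𝔛.1 V)) (Set.range fun s : Finset κ => s.sup M) (Set.range_nonempty _)
  have hb : ∀ b, M b ≤ s₀.sup M := fun b => by
    have h1 : s₀.sup M ≤ (insert b s₀).sup M := Finset.sup_mono (Finset.subset_insert b s₀)
    have h2 : M b ≤ (insert b s₀).sup M := Finset.le_sup (Finset.mem_insert_self b s₀)
    exact h2.trans (le_of_eq (eq_of_le_of_not_lt h1 (hmax _ ⟨_, rfl⟩)).symm)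
  refine ⟨s₀, fun b W hW y hy => ?_⟩
  obtain ⟨W₁, hW₁, hy₁, c, hc⟩ := D.gen W hW (rm F hW (apm ι.val V (g b))) y hy
  obtain ⟨W₂, hW₂, hy₂, d, hd⟩ := (R b).rel W₁ (hW₁.trans hW) (Fin.append c fun _ => -1) (by
    simp only [Fin.sum_univ_add, Fin.append_left, Fin.append_right, Fin.sum_univ_one]
    rw [← hc, rm_rm, neg_smul, one_smul, add_neg_cancel]) y hy₁
  have hW₂V : W₂ ≤ V := (hW₂.trans hW₁).trans hW
  let gs : Fin s₀.card → sc G.val V := fun j => g (s₀.equivFin.symm j).1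
  have hle : s₀.sup M ≤ combPre h𝔛 ι D.s gs hW₂V := Finset.sup_le fun a ha v hv => by
    refine ext_le_combSub h𝔛 ι D.s gs hW₂V (s₀.equivFin ⟨a, ha⟩) (R a).e (fun q => ?_) (AffineGlue.mem_ext _ hv)
    simpa [gs] using (R a).zero q
  have hmem : ∀ q, resR h𝔛.1 hW₂V ∘ (fun i => (R b).e q (Fin.castAdd 1 i)) ∈ combSub h𝔛 ι D.s gs hW₂V :=
    fun q => hle (hb b (Submodule.subset_span ⟨q, rfl⟩))
  have e1 : (fun i => rr hW₂ (c i)) =
      ∑ q, d q • (resR h𝔛.1 hW₂V ∘ fun i => (R b).e q (Fin.castAdd 1 i)) := funext fun i => by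
    have h := hd (Fin.castAdd 1 i)
    simp only [Fin.append_left] at h
    simpa only [Finset.sum_apply, Pi.smul_apply, smul_eq_mul, Function.comp_apply] using h
  obtain ⟨w, hw⟩ := e1.symm ▸ Submodule.sum_mem _ fun q (_ : q ∈ Finset.univ) =>
    Submodule.smul_mem _ (d q) (hmem q)
  refine ⟨W₂, hW₂.trans hW₁, hy₂, w, injective_of_mono ι W₂ ?_⟩
  rw [hw, apm_rsm]
  have h := congrArg (rm F hW₂) hc
  simp only [map_sum, rm_smul, rm_rm] at h
  exact h

/-- Generators of a quasi-coherent submodule of a coherent module, near a point. -/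
theorem exists_genData (hF : FSch.IsCohF 𝔛 h𝔛.1 F) (ι : G ⟶ F) [Mono ι]
    [SheafOfModules.IsQuasicoherent.{u} G] (x : 𝔛.X 0) :
    ∃ (U : (𝔛.X 0).Opens) (N : ℕ), x ∈ U ∧ Nonempty (GenData (O := 𝔛.Osh h𝔛.1) G U N) := by
  classical
  obtain ⟨σ⟩ := SheafOfModules.IsQuasicoherent.nonempty_quasicoherentData (M := G)
  obtain ⟨k, hk⟩ : ∃ k, x ∈ σ.X k := by
    have := σ.coversTop
    rw [Opens.coversTop_iff] at this
    exact Opens.mem_iSup.mp ((this ▸ trivial : x ∈ iSup σ.X))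
  let p := σ.presentation k
  obtain ⟨U₂, n, m, hx₂, ⟨P⟩⟩ := exists_presData (O := 𝔛.Osh h𝔛.1) hF x
  obtain ⟨V, hV, hxV, hVV⟩ := (IndCoh.goodBasis h𝔛).exists_mem x (σ.X k ⊓ U₂) ⟨hk, hx₂⟩
  obtain ⟨s₀, hs₀⟩ := exists_finite_gens h𝔛 hF ι hV (P.toGenData.restrict (hVV.trans inf_le_right))
    (gv p (hVV.trans inf_le_left))
  exact ⟨V, s₀.card, hxV, nonempty_genData_of_span p (hVV.trans inf_le_left) _ hs₀⟩

/-- A quasi-coherent submodule of a coherent module is coherent. -/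
theorem isCohF_of_mono (hF : FSch.IsCohF 𝔛 h𝔛.1 F) (ι : G ⟶ F) [Mono ι]
    [SheafOfModules.IsQuasicoherent.{u} G] : FSch.IsCohF 𝔛 h𝔛.1 G :=
  fp_of_mono (IndCoh.goodBasis h𝔛) ι hF fun x => exists_genData h𝔛 hF ι x

end Groth.AdicLinTop.QcohSub
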