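import Groth.Agent.AdicLinTop.ModHomology

/-!
# Classes of cocycles of sections in the cohomology sheaves of a complex of modules
-/

set_option autoImplicit false

universe u

open CategoryTheory CategoryTheory.Limits TopologicalSpace Opposite

set_option backward.defeqAttrib.useBackward true
set_option backward.isDefEq.respectTransparency false
set_option backward.isDefEq.respectTransparency.types false
set_option synthInstance.maxHeartbeats 400000

namespace Groth.AdicLinTop.SecHom

open Groth.SitesTopoi.ModH Groth.AdicLinTop.SpacePres Groth.AdicLinTop.CohKer Groth.AdicLinTop.QcohLocal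
open Groth.AdicLinTop.ModHomology (rm_apm apm_comp_apply exists_lift_of_exact)

variable {T : Type u} [TopologicalSpace T] {O : Sheaf (Opens.grothendieckTopology T) CommRingCat.{u}}
  (K : CochainComplex (ModSite.Mod O) ℕ) (p : ℕ)

/-- Cocycles of sections. -/
noncomputable def Z (U : Opens T) : Submodule (rsec O U) (sc (K.X p).val U) :=
  LinearMap.ker (apm (K.d p (p + 1)).val U)

variable {K p}

theorem mem_Z {U : Opens T} {z : sc (K.X p).val U} : z ∈ Z K p U ↔ apm (K.d p (p + 1)).val U z = 0 := Iff.rfl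

theorem rm_mem_Z {U V : Opens T} (h : V ≤ U) {z : sc (K.X p).val U} (hz : z ∈ Z K p U) :
    rm (K.X p) h z ∈ Z K p V := by
  rw [mem_Z, ← rm_apm, mem_Z.1 hz, map_zero]

variable (K p)

theorem bijective_iCycles (U : Opens T) :
    Function.Bijective (fun k : sc (K.cycles p).val U => (⟨apm (K.iCycles p).val U k, by
      rw [mem_Z, apm_comp_apply, K.iCycles_d]
      rfl⟩ : Z K p U)) := by
  refine ⟨fun a b e => injective_of_mono (K.iCycles p) U (congrArg Subtype.val e), fun z => ?_⟩
  obtain ⟨k, hk⟩ := exists_kernel_sec (K.d p (p + 1)) z.1 (mem_Z.1 z.2)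
  refine ⟨apm (K.liftCycles (kernel.ι (K.d p (p + 1))) (p + 1) (CochainComplex.next ℕ p)
    (kernel.condition _)).val U k, Subtype.ext ?_⟩
  show apm _ U (apm _ U k) = z.1
  rw [apm_comp_apply, HomologicalComplex.liftCycles_i, hk]

/-- The section of the cycles of a cocycle. -/
noncomputable def cyc (U : Opens T) : Z K p U ≃ₗ[rsec O U] sc (K.cycles p).val U :=
  (LinearEquiv.ofBijective
    (LinearMap.codRestrict (Z K p U) (apm (K.iCycles p).val U) fun k => by
      rw [mem_Z, apm_comp_apply, K.iCycles_d]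
      rfl) (bijective_iCycles K p U)).symm

theorem iCycles_cyc (U : Opens T) (z : Z K p U) : apm (K.iCycles p).val U (cyc K p U z) = z.1 :=
  congrArg Subtype.val ((cyc K p U).symm_apply_apply z)

/-- The class of a cocycle. -/
noncomputable def θ (U : Opens T) : Z K p U →ₗ[rsec O U] sc (K.homology p).val U :=
  (apm (K.homologyπ p).val U).comp (cyc K p U).toLinearMap

variable {K p}

theorem θ_eq {U : Opens T} (z : Z K p U) {k : sc (K.cycles p).val U} (hk : apm (K.iCycles p).val U k = z.1) :
    θ K p U z = apm (K.homologyπ p).val U k :=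
  congrArg (apm (K.homologyπ p).val U) (injective_of_mono (K.iCycles p) U ((iCycles_cyc K p U z).trans hk.symm))

theorem rm_θ {U V : Opens T} (h : V ≤ U) (z : Z K p U) :
    rm (K.homology p) h (θ K p U z) = θ K p V ⟨rm (K.X p) h z.1, rm_mem_Z h z.2⟩ := by
  rw [θ_eq (U := V) ⟨_, rm_mem_Z h z.2⟩ (k := rm (K.cycles p) h (cyc K p U z))]
  · exact rm_apm (K.homologyπ p) h (cyc K p U z)
  · rw [← rm_apm, iCycles_cyc]

theorem θ_exists_local {U : Opens T} (η : sc (K.homology p).val U) {x : T} (hx : x ∈ U) :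
    ∃ (V : Opens T) (hV : V ≤ U) (z : Z K p V), x ∈ V ∧ θ K p V z = rm (K.homology p) hV η := by
  obtain ⟨V, hV, hxV, s, hs⟩ := exists_lifts (K.homologyπ p) hx (N := 1) fun _ => η
  refine ⟨V, hV, (cyc K p V).symm (s 0), hxV, ?_⟩
  rw [← hs 0]
  exact θ_eq _ (congrArg (fun k => apm (K.iCycles p).val V k) rfl)

theorem θ_d {U : Opens T} {a : ℕ} (w : sc (K.X a).val U) (z : Z K p U)
    (hw : apm (K.d a p).val U w = z.1) : θ K p U z = 0 := by
  rw [θ_eq z (k := apm (K.toCycles a p).val U w) (by rw [apm_comp_apply, K.toCycles_i, hw]),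
    apm_comp_apply, K.toCycles_comp_homologyπ]
  rfl

theorem θ_zero_local {U : Opens T} (z : Z K p U) (hz : θ K p U z = 0) {x : T} (hx : x ∈ U) :
    ∃ (V : Opens T) (hV : V ≤ U), x ∈ V ∧ ∃ w : sc (K.X ((ComplexShape.up ℕ).prev p)).val V,
      apm (K.d _ p).val V w = rm (K.X p) hV z.1 := by
  obtain ⟨V, hV, hxV, w, hw⟩ := exists_lift_of_exact
    (S := ShortComplex.mk (K.toCycles ((ComplexShape.up ℕ).prev p) p) (K.homologyπ p)
      (K.toCycles_comp_homologyπ _ _))
    (ShortComplex.exact_of_g_is_cokernel _ (K.homologyIsCokernel _ p rfl)) (cyc K p U z) hz hx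
  refine ⟨V, hV, hxV, w, ?_⟩
  rw [← iCycles_cyc K p U z, rm_apm, ← hw, apm_comp_apply, K.toCycles_i]

/-- Classes are natural. -/
theorem θ_map {L : CochainComplex (ModSite.Mod O) ℕ} (φ : K ⟶ L) {U : Opens T} (z : Z K p U) (z' : Z L p U)
    (h : z'.1 = apm (φ.f p).val U z.1) :
    apm (HomologicalComplex.homologyMap φ p).val U (θ K p U z) = θ L p U z' := by
  rw [θ_eq z' (k := apm (HomologicalComplex.cyclesMap φ p).val U (cyc K p U z))]
  · show apm _ U (apm (K.homologyπ p).val U _) = _
    rw [apm_comp_apply, apm_comp_apply, HomologicalComplex.homologyπ_naturality]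
    rfl
  · rw [apm_comp_apply, HomologicalComplex.cyclesMap_i, ← apm_comp_apply, iCycles_cyc, h]

end Groth.AdicLinTop.SecHom
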