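import Groth.Agent.AdicLinTop.RestrAct
import Groth.Agent.AdicLinTop.SecHom
import Groth.Agent.CohBase.ResClass
import Groth.Agent.CohBase.SecComplex
import Groth.Agent.SiteCohomology.Flasque

/-!
# Cohomology of an open subspace through the sections of a flasque resolution of modules
-/

set_option autoImplicit false

universe u

open CategoryTheory CategoryTheory.Limits TopologicalSpace Opposite
open CategoryTheory.Abelian (Ext)

set_option backward.defeqAttrib.useBackward true
set_option backward.isDefEq.respectTransparency false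
set_option backward.isDefEq.respectTransparency.types false
set_option synthInstance.maxHeartbeats 400000

namespace Groth.AdicLinTop.ResSec

open Groth.SitesTopoi.ModH Groth.AdicLinTop.SpacePres Groth.AdicLinTop.RestrAct Groth.CohBase Groth.LocCohZBase
open Groth.AdicLinTop.ModHomology (rm_apm apm_comp_apply)

variable {T : TopCat.{u}} {O : Sheaf (Opens.grothendieckTopology T) CommRingCat.{u}}

/-- A section, as a map out of the constant sheaf of the open. -/
noncomputable def atTop (M : ModSite.Mod O) (U : Opens T) :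
    sc M.val U →+ (constZ (TopCat.of U) ⟶ restrAb U M) :=
  (homConstZ (restrAb U M)).symm.toAddMonoidHom.comp (rm M (functor_top_le U))

theorem homConstZ_atTop (M : ModSite.Mod O) (U : Opens T) (x : sc M.val U) :
    homConstZ (restrAb U M) (atTop M U x) = rm M (functor_top_le U) x :=
  AddEquiv.apply_symm_apply _ _

theorem bijective_atTop (M : ModSite.Mod O) (U : Opens T) : Function.Bijective (atTop M U) :=
  (homConstZ (restrAb U M)).symm.bijective.comp (res_functor_top_bijective (V := U) (ModSite.toAb M))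

theorem atTop_comp {M N : ModSite.Mod O} (φ : M ⟶ N) (U : Opens T) (x : sc M.val U) :
    atTop M U x ≫ restrMap U φ = atTop N U (apm φ.val U x) := by
  refine (homConstZ (restrAb U N)).injective ?_
  rw [homConstZ_comp, homConstZ_atTop, homConstZ_atTop, rm_apm]
  rfl

theorem atTop_smul (M : ModSite.Mod O) (U : Opens T) (a : rsec O U) (x : sc M.val U) :
    atTop M U x ≫ smulHom U M a = atTop M U (a • x) := by
  refine (homConstZ (restrAb U M)).injective ?_
  rw [homConstZ_comp, homConstZ_atTop, homConstZ_atTop, rm_smul]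
  exact smulHom_app U M a ⊤ _

variable (R : Res (ModSite.Mod O)) (U : Opens T)

/-- All the terms are flasque. -/
def Flasque : Prop := ∀ (n : ℕ) {U V : Opens T} (h : V ≤ U), Function.Surjective (rm (R.A n) h)

/-- The resolution of the restriction. -/
noncomputable abbrev onU : Res (AbSheaf (TopCat.of U)) :=
  (R.mapExact (SheafOfModules.toSheaf.{u} (ModSite.ringSh O))).mapExact (CohTop.restrFunctor U)

/-- Cocycles of sections. -/
noncomputable def Cyc (p : ℕ) : Submodule (rsec O U) (sc (R.A p).val U) := LinearMap.ker (apm (R.d p).val U)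

/-- Coboundaries of sections. -/
noncomputable def Bd : ∀ p, Submodule (rsec O U) (sc (R.A p).val U)
  | 0 => ⊥
  | p + 1 => LinearMap.range (apm (R.d p).val U)

variable {R U}

theorem mem_cyc {p : ℕ} {z : sc (R.A p).val U} : z ∈ Cyc R U p ↔ apm (R.d p).val U z = 0 := Iff.rfl

theorem rm_mem_cyc {V : Opens T} (h : V ≤ U) {p : ℕ} {z : sc (R.A p).val U} (hz : z ∈ Cyc R U p) :
    rm (R.A p) h z ∈ Cyc R V p := by
  rw [mem_cyc, ← rm_apm, mem_cyc.1 hz, map_zero]

theorem rm_mem_bd {V : Opens T} (h : V ≤ U) : ∀ {p : ℕ} {z : sc (R.A p).val U},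
    z ∈ Bd R U p → rm (R.A p) h z ∈ Bd R V p
  | 0, z, hz => by rw [(Submodule.mem_bot _).1 hz, map_zero]; exact zero_mem _
  | p + 1, z, hz => by
    obtain ⟨w, rfl⟩ := hz
    exact ⟨rm (R.A p) h w, (rm_apm (R.d p) h w).symm⟩

variable (R U)

/-- The class of a cocycle. -/
noncomputable def clsU (p : ℕ) : Cyc R U p →+ Ext (constZ (TopCat.of U)) (restrAb U R.Y) p :=
  (Res.cls (constZ (TopCat.of U)) p (onU R U)).comp
    (AddMonoidHom.mk' (fun z => ⟨atTop (R.A p) U z.1, by
      show atTop (R.A p) U z.1 ≫ restrMap U (R.d p) = 0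
      rw [atTop_comp, mem_cyc.1 z.2, map_zero]⟩)
      (fun a b => Subtype.ext (map_add (atTop (R.A p) U) _ _)))

variable {R}

theorem subsingleton_terms (hR : Flasque R) (n q : ℕ) :
    Subsingleton (Ext (constZ (TopCat.of U)) ((onU R U).A n) (q + 1)) :=
  haveI : TopCat.Sheaf.IsFlasque (ModSite.toAb (R.A n)) :=
    (Groth.SiteCohomology.isFlasque_iff_surjective (ModSite.toAb (R.A n))).2 fun V V' i => hR n i.le
  haveI : Subsingleton (Ext (freeOpen U) (ModSite.toAb (R.A n)) (q + 1)) :=
    Groth.SiteCohomology.subsingleton_HU_succ_of_flasque (ModSite.toAb (R.A n)) U q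
  (Equiv.ofBijective _ (bijective_resH U (ModSite.toAb (R.A n)) (q + 1))).symm.subsingleton

theorem clsU_surjective (hR : Flasque R) (p : ℕ) : Function.Surjective (clsU R U p) := by
  intro e
  obtain ⟨c, hc⟩ := (Res.cls_spec (constZ (TopCat.of U)) p (onU R U)
    (fun n q _ => subsingleton_terms U hR n q)).1 e
  obtain ⟨z, hz⟩ := (bijective_atTop (R.A p) U).2 c.1
  refine ⟨⟨z, ?_⟩, Eq.trans ?_ hc⟩
  · rw [mem_cyc]
    refine (bijective_atTop (R.A (p + 1)) U).1 ?_
    rw [map_zero, ← atTop_comp, hz]
    exact c.2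
  · exact congrArg (Res.cls (constZ (TopCat.of U)) p (onU R U)) (Subtype.ext hz)

theorem clsU_eq_zero_iff (hR : Flasque R) :
    ∀ (p : ℕ) (z : Cyc R U p), clsU R U p z = 0 ↔ z.1 ∈ Bd R U p := by
  intro p z
  have hs := (Res.cls_spec (constZ (TopCat.of U)) p (onU R U) (fun n q _ => subsingleton_terms U hR n q)).2
  cases p with
  | zero =>
    refine ⟨fun h => (Submodule.mem_bot _).2 ((bijective_atTop (R.A 0) U).1 ?_), fun h => ?_⟩
    · rw [map_zero]
      exact AddSubgroup.mem_bot.1 (hs _ h)
    · rw [show z = 0 from Subtype.ext ((Submodule.mem_bot _).1 h), map_zero]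
  | succ p =>
    constructor
    · intro h
      obtain ⟨g, hg⟩ := hs _ h
      obtain ⟨w, rfl⟩ := (bijective_atTop (R.A p) U).2 g
      exact ⟨w, (bijective_atTop (R.A (p + 1)) U).1 ((atTop_comp (R.d p) U w).symm.trans hg)⟩
    · rintro ⟨w, hw⟩
      exact Res.cls_eq_zero_of_cobound _ _ (onU R U) _
        ((Groth.SiteCohomology.AcyclicRes.mem_cobound_succ _ _ _).2
          ⟨atTop (R.A p) U w, (atTop_comp (R.d p) U w).trans (congrArg (atTop (R.A (p + 1)) U) hw)⟩)

/-- Naturality of the class. -/
theorem clsU_map {R' : Res (ModSite.Mod O)} (φ : Res.Hom R R') (p : ℕ) (z : Cyc R U p) (z' : Cyc R' U p)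
    (h : z'.1 = apm (φ.f p).val U z.1) :
    clsU R' U p z' = (clsU R U p z).comp (Ext.mk₀ (restrMap U φ.f₀)) (add_zero p) := by
  refine Res.cls_map _ p ((φ.mapExact (SheafOfModules.toSheaf.{u} (ModSite.ringSh O))).mapExact
    (CohTop.restrFunctor U)) _ _ ?_
  show atTop (R'.A p) U z'.1 = atTop (R.A p) U z.1 ≫ restrMap U (φ.f p)
  rw [atTop_comp, h]

/-- The class is linear over the sections of the structure sheaf. -/
theorem clsU_smul (a : rsec O U) (p : ℕ) (z : Cyc R U p) :
    clsU R U p (a • z) = (clsU R U p z).comp (Ext.mk₀ (smulHom U R.Y a)) (add_zero p) := by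
  let ψ : Res.Hom (onU R U) (onU R U) :=
    { f₀ := smulHom U R.Y a
      f := fun n => smulHom U (R.A n) a
      comm₀ := (smulHom_naturality U R.ι a).symm
      comm := fun n => (smulHom_naturality U (R.d n) a).symm }
  refine Res.cls_map _ p ψ _ _ ?_
  show atTop (R.A p) U (a • z.1) = atTop (R.A p) U z.1 ≫ smulHom U (R.A p) a
  rw [atTop_smul]

end Groth.AdicLinTop.ResSec
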