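import Mathlib.RingTheory.Ideal.KrullsHeightTheorem
import Mathlib.RingTheory.Henselian
import Mathlib.RingTheory.Finiteness.Basic
import Mathlib.RingTheory.Ideal.Quotient.Operations
import Mathlib.RingTheory.Ideal.MinimalPrime.Noetherian
import Mathlib.RingTheory.AdicCompletion.Basic
import Mathlib.RingTheory.KrullDimension.Basic
import Mathlib.Algebra.Polynomial.Derivative

/-!
One-dimensional complete domains (rig-closed points).
-/

universe u v

namespace Groth.AdicLinTop.RigClosed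

/-- A Noetherian domain in which all nonzero primes contain a fixed nonzero element has all nonzero
primes maximal. -/
theorem isMaximal_of_forall_mem {D : Type u} [CommRing D] [IsDomain D] [IsNoetherianRing D] {s : D}
    (hs : s ≠ 0) (h : ∀ P : Ideal D, P.IsPrime → P ≠ ⊥ → s ∈ P) (P : Ideal D) [P.IsPrime]
    (hP : P ≠ ⊥) : P.IsMaximal := by
  classical
  obtain ⟨Q, hQ, hPQ⟩ := Ideal.exists_le_maximal P (Ideal.IsPrime.ne_top ‹_›)
  set S := (Ideal.span {s}).minimalPrimes with hS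
  have hSfin : S.Finite := Ideal.finite_minimalPrimes_of_isNoetherianRing D _
  have hne : ∀ T ∈ S, T ≠ ⊥ := fun T hT h0 =>
    hs (by simpa [h0] using hT.le (Ideal.mem_span_singleton_self s))
  have hQ0 : Q ≠ ⊥ := fun h0 => hP (le_bot_iff.mp (h0 ▸ hPQ))
  have hsQ : Ideal.span {s} ≤ Q := (Ideal.span_singleton_le_iff_mem _).mpr (h Q hQ.isPrime hQ0)
  obtain ⟨P₀, hP₀, -⟩ := Ideal.exists_minimalPrimes_le hsQ
  have hcov : (Q : Set D) ⊆ ⋃ T ∈ (↑hSfin.toFinset : Set (Ideal D)), (id T : Ideal D) := by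
    intro y hy
    rw [Set.mem_iUnion₂]
    by_cases hy0 : y = 0
    · exact ⟨P₀, Finset.mem_coe.mpr (hSfin.mem_toFinset.mpr hP₀), hy0 ▸ P₀.zero_mem⟩
    haveI := hQ.isPrime
    obtain ⟨P', hP', hP'Q⟩ := Ideal.exists_minimalPrimes_le
      ((Ideal.span_singleton_le_iff_mem Q).mpr hy)
    haveI := hP'.isPrime
    have hyP' : y ∈ P' := hP'.le (Ideal.mem_span_singleton_self y)
    have hP'0 : P' ≠ ⊥ := fun h0 => hy0 (by simpa [h0] using hyP')
    obtain ⟨P'', hP'', hle⟩ := Ideal.exists_minimalPrimes_le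
      ((Ideal.span_singleton_le_iff_mem P').mpr (h P' hP'.isPrime hP'0))
    haveI := hP''.isPrime
    refine ⟨P'', Finset.mem_coe.mpr (hSfin.mem_toFinset.mpr hP''), ?_⟩
    rcases hle.eq_or_lt with heq | hlt
    · exact heq ▸ hyP'
    · exfalso
      have h1 := Ideal.height_strict_mono_of_isPrime_of_isPrime hlt
      have h2 : P'.height ≤ 1 := Ideal.height_le_one_of_isPrincipal_of_mem_minimalPrimes _ P' hP'
      have h3 : P''.height = 0 := Order.lt_one_iff.mp (lt_of_lt_of_le h1 h2)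
      exact hne P'' hP'' (Ideal.height_eq_zero_iff_eq_bot.mp h3)
  obtain ⟨T, hT, hQT⟩ := (Ideal.subset_union_prime (f := id) ⊥ ⊥
    (fun i hi _ _ => (hSfin.mem_toFinset.mp hi).isPrime)).mp hcov
  have hT' : T ∈ S := hSfin.mem_toFinset.mp hT
  haveI := hT'.isPrime
  have hQeq : Q = T := hQ.eq_of_le hT'.isPrime.ne_top hQT
  rcases hPQ.eq_or_lt with heq | hlt
  · exact heq ▸ hQ
  · exfalso
    haveI := hQ.isPrime
    have h1 := Ideal.height_strict_mono_of_isPrime_of_isPrime hlt
    have h2 : Q.height ≤ 1 := hQeq ▸ Ideal.height_le_one_of_isPrincipal_of_mem_minimalPrimes _ T hT'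
    exact hP (Ideal.height_eq_zero_iff_eq_bot.mp (Order.lt_one_iff.mp (lt_of_lt_of_le h1 h2)))

/-- Complete rings stay complete for a larger ideal with a power in the given one. -/
theorem isAdicComplete_of_pow_le {R : Type u} [CommRing R] {I J : Ideal R} (hIJ : I ≤ J) {N : ℕ}
    (hN : J ^ N ≤ I) (M : Type v) [AddCommGroup M] [Module R M] [IsAdicComplete I M] :
    IsAdicComplete J M := by
  have hpow : ∀ m, (J ^ ((N + 1) * m) • ⊤ : Submodule R M) ≤ I ^ m • ⊤ := fun m =>
    Submodule.smul_mono_left ((Ideal.pow_le_pow_right (Nat.mul_le_mul_right m (Nat.le_succ N))).trans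
      (pow_mul J N m ▸ Ideal.pow_right_mono hN m))
  have hle : ∀ m, (I ^ m • ⊤ : Submodule R M) ≤ J ^ m • ⊤ := fun m =>
    Submodule.smul_mono_left (Ideal.pow_right_mono hIJ m)
  have hk : ∀ k, k ≤ (N + 1) * k := fun k => Nat.le_mul_of_pos_left k N.succ_pos
  refine { haus' := fun x hx => ?_, prec' := fun f hf => ?_ }
  · exact IsHausdorff.haus (I := I) inferInstance x fun m => SModEq.mono (hpow m) (hx _)
  · obtain ⟨L, hL⟩ := IsPrecomplete.prec (I := I) (M := M) inferInstance
      (f := fun m => f ((N + 1) * m)) fun {m n} h =>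
        SModEq.mono (hpow m) (hf (Nat.mul_le_mul_left _ h))
    exact ⟨L, fun k => (hf (hk k)).trans (SModEq.mono (hle k) (hL k))⟩

open Polynomial in
/-- A complete domain with finitely many maximal ideals has only one. -/
theorem maximal_unique {D : Type u} [CommRing D] [IsDomain D] (J : Ideal D) [IsAdicComplete J D]
    (hfin : {m : Ideal D | m.IsMaximal}.Finite)
    (hrad : ∀ y : D, (∀ m : Ideal D, m.IsMaximal → y ∈ m) → y ∈ J.radical)
    (m₁ m₂ : Ideal D) (h₁ : m₁.IsMaximal) (h₂ : m₂.IsMaximal) : m₁ = m₂ := by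
  classical
  by_contra hne
  have hco : m₁ ⊔ ⨅ m ∈ hfin.toFinset.erase m₁, m = ⊤ :=
    Ideal.sup_iInf_eq_top fun m hm => by
      rw [Finset.mem_erase, Set.Finite.mem_toFinset] at hm
      exact h₁.coprime_of_ne hm.2 (Ne.symm hm.1)
  obtain ⟨u, hu, v, hv, huv⟩ := Submodule.mem_sup.mp (hco ▸ Submodule.mem_top : (1 : D) ∈ _)
  have hvm : ∀ m : Ideal D, m.IsMaximal → m ≠ m₁ → v ∈ m := fun m hm hm1 => by
    rw [Submodule.mem_iInf] at hv
    have := hv m
    rw [Submodule.mem_iInf] at this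
    exact this (Finset.mem_erase.mpr ⟨hm1, hfin.mem_toFinset.mpr hm⟩)
  obtain ⟨N, hN⟩ := hrad (u * v) fun m hm => by
    by_cases hm1 : m = m₁
    · exact hm1 ▸ Ideal.mul_mem_right v _ hu
    · exact Ideal.mul_mem_left _ u (hvm m hm hm1)
  obtain ⟨a, b, hab⟩ : IsCoprime (u ^ (N + 1)) (v ^ (N + 1)) :=
    IsCoprime.pow ⟨1, 1, by rw [one_mul, one_mul, huv]⟩
  set e := a * u ^ (N + 1) with he
  have h1e : 1 - e = b * v ^ (N + 1) := by rw [he]; linear_combination -hab
  have heJ : e * (1 - e) ∈ J := by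
    rw [h1e, he, show a * u ^ (N + 1) * (b * v ^ (N + 1)) = a * b * (u * v) * (u * v) ^ N by ring]
    exact J.mul_mem_left _ hN
  have hmonic : (X ^ 2 - X : D[X]).Monic := by monicity!
  obtain ⟨r, hr, hre⟩ := HenselianRing.is_henselian (I := J) (X ^ 2 - X : D[X]) hmonic e (by
    simp only [eval_sub, eval_pow, eval_X]
    have : e ^ 2 - e = -(e * (1 - e)) := by ring
    rw [this]
    exact J.neg_mem heJ) (by
    refine IsUnit.of_mul_eq_one (Ideal.Quotient.mk J ((X ^ 2 - X : D[X]).derivative.eval e)) ?_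
    rw [← map_mul, ← map_one (Ideal.Quotient.mk J), Ideal.Quotient.eq]
    have h4 : (X ^ 2 - X : D[X]).derivative.eval e = 2 * e - 1 := by simp [derivative_pow]
    rw [h4, show (2 * e - 1) * (2 * e - 1) - 1 = -(4 * (e * (1 - e))) by ring]
    exact J.neg_mem (J.mul_mem_left _ heJ))
  have hr' : r * (r - 1) = 0 := by
    have := hr.eq_zero
    simp only [eval_sub, eval_pow, eval_X] at this
    linear_combination this
  have hJle : ∀ m : Ideal D, m.IsMaximal → J ≤ m := fun m hm =>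
    (IsAdicComplete.le_jacobson_bot J).trans (sInf_le ⟨bot_le, hm⟩)
  rcases mul_eq_zero.mp hr' with h0 | h0
  · rw [h0, zero_sub, neg_mem_iff] at hre
    refine h₂.ne_top ((Ideal.eq_top_iff_one _).mpr ?_)
    have h2e : 1 - e ∈ m₂ := by
      rw [h1e]
      exact Ideal.mul_mem_left _ _ (Ideal.pow_mem_of_mem _ (hvm m₂ h₂ (Ne.symm hne)) _ N.succ_pos)
    simpa using add_mem (hJle m₂ h₂ hre) h2e
  · rw [sub_eq_zero.mp h0] at hre
    refine h₁.ne_top ((Ideal.eq_top_iff_one _).mpr ?_)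
    simpa using add_mem (hJle m₁ h₁ hre)
      (show e ∈ m₁ from Ideal.mul_mem_left _ _ (Ideal.pow_mem_of_mem _ hu _ N.succ_pos))

theorem finite_quotient_of_eq {A : Type u} [CommRing A] {D : Type v} [CommRing D] [Algebra A D]
    {J : Ideal D} [Module.Finite A (D ⧸ J)] {N : Submodule A D}
    (h : J.restrictScalars A = N) : Module.Finite A (D ⧸ N) := by
  subst h
  exact Module.Finite.equiv (Submodule.Quotient.restrictScalarsEquiv A J).symm

end Groth.AdicLinTop.RigClosed
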