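import Groth.Agent.AdicLinTop.ResSec
import Groth.Agent.AdicLinTop.FinitePush
import Groth.Agent.SiteCohomology.ModulesInjective

/-!
# Cohomology of preimages maps to the sections of higher direct images between formal schemes
-/

set_option autoImplicit false

universe u

open CategoryTheory CategoryTheory.Limits AlgebraicGeometry TopologicalSpace Opposite
open CategoryTheory.Abelian (Ext)

set_option backward.defeqAttrib.useBackward true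
set_option backward.isDefEq.respectTransparency false
set_option backward.isDefEq.respectTransparency.types false
set_option synthInstance.maxHeartbeats 400000
set_option maxHeartbeats 1000000

namespace Groth.AdicLinTop.RpushClass

open Groth.SitesTopoi.ModH Groth.AdicLinTop.SpacePres Groth.AdicLinTop.RestrAct Groth.AdicLinTop.ResSec
open Groth.AdicLinTop.FinitePush (pre shp)
open Groth.AdicLinTop.ModHomology (rm_apm apm_comp_apply)
open Groth.CohBase (Res constZ)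
open Groth.SiteCohomology.AcyclicRes (IsResolution)

/-- A resolution by flasque modules, as a complex. -/
structure Rz {𝔛 : FSch.Sys.{u}} (h𝔛 : 𝔛.IsLocNoethFormal) (M : FSch.ModF 𝔛 h𝔛.1) where
  /-- the complex -/
  C : CochainComplex (FSch.ModF 𝔛 h𝔛.1) ℕ
  /-- the augmentation -/
  ι : M ⟶ C.X 0
  isRes : IsResolution (fun n => C.X n) (fun n => C.d n (n + 1)) ι
  flasque : ∀ (n : ℕ) {U V : (𝔛.X 0).Opens} (h : V ≤ U), Function.Surjective (rm (C.X n) h)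

variable {𝔛 𝔜 : FSch.Sys.{u}} {h𝔛 : 𝔛.IsLocNoethFormal}

/-- The underlying resolution. -/
@[reducible] noncomputable def Rz.res {M : FSch.ModF 𝔛 h𝔛.1} (ρ : Rz h𝔛 M) : Res (FSch.ModF 𝔛 h𝔛.1) where
  Y := M
  A n := ρ.C.X n
  d n := ρ.C.d n (n + 1)
  ι := ρ.ι
  isRes := ρ.isRes

theorem Rz.flasque_res {M : FSch.ModF 𝔛 h𝔛.1} (ρ : Rz h𝔛 M) : Flasque (T := (𝔛.X 0).toTopCat) ρ.res :=
  fun n _ _ h => ρ.flasque n h

/-- An injective resolution is flasque. -/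
noncomputable def ofInj {M : FSch.ModF 𝔛 h𝔛.1} (I : InjectiveResolution M) : Rz h𝔛 M where
  C := I.cocomplex
  ι := (Res.ofInjective I).ι
  isRes := (Res.ofInjective I).isRes
  flasque n U V h := fun x => by
    haveI : Injective (I.cocomplex.X n) := I.injective n
    haveI : Mono (homOfLE h) := ⟨fun _ _ _ => Subsingleton.elim _ _⟩
    exact Groth.SiteCohomology.surjective_map_of_injective_module (ModSite.ringSh (𝔛.Osh h𝔛.1))
      (I.cocomplex.X n) (homOfLE h) x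

variable (f : 𝔛 ⟶ 𝔜) (h𝔜 : 𝔜.IsLocNoethFormal)

/-- The direct image of a resolution. -/
noncomputable abbrev K {M : FSch.ModF 𝔛 h𝔛.1} (ρ : Rz h𝔛 M) : CochainComplex (FSch.ModF 𝔜 h𝔜.1) ℕ :=
  ((FSch.pushF f h𝔛.1 h𝔜.1).mapHomologicalComplex (ComplexShape.up ℕ)).obj ρ.C

variable {M N : FSch.ModF 𝔛 h𝔛.1} (ρ : Rz h𝔛 M) (σ : Rz h𝔛 N) (p : ℕ) (V : (𝔜.X 0).Opens)

/-- The classes over a preimage. -/
noncomputable abbrev E (h𝔛 : 𝔛.IsLocNoethFormal) (M : FSch.ModF 𝔛 h𝔛.1) (p : ℕ) (V : (𝔜.X 0).Opens) : Type u :=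
  Ext (constZ (TopCat.of (pre f V))) (restrAb (T := (𝔛.X 0).toTopCat) (pre f V) M) p

theorem mem_Z_iff (z : sc (ρ.C.X p).val (pre f V)) :
    (show sc ((K f h𝔜 ρ).X p).val V from z) ∈ SecHom.Z (K f h𝔜 ρ) p V ↔ z ∈ Cyc ρ.res (pre f V) p := Iff.rfl

/-- Cocycles over a preimage are cocycles of the direct image. -/
noncomputable def toZ : Cyc ρ.res (pre f V) p →+ SecHom.Z (K f h𝔜 ρ) p V where
  toFun z := ⟨(show sc ((K f h𝔜 ρ).X p).val V from z.1), z.2⟩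
  map_zero' := rfl
  map_add' _ _ := rfl

theorem θ_toZ_eq_zero (z : Cyc ρ.res (pre f V) p) (hz : z.1 ∈ Bd ρ.res (pre f V) p) :
    SecHom.θ (K f h𝔜 ρ) p V (toZ f h𝔜 ρ p V z) = 0 := by
  cases p with
  | zero =>
    rw [show z = 0 from Subtype.ext ((Submodule.mem_bot _).1 hz), map_zero, map_zero]
  | succ p =>
    obtain ⟨w, hw⟩ := hz
    exact SecHom.θ_d (K := K f h𝔜 ρ) (a := p) (show sc ((K f h𝔜 ρ).X p).val V from w) _ hw

/-- The comparison map. -/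
noncomputable def Φ : E f h𝔛 M p V →+ sc ((K f h𝔜 ρ).homology p).val V :=
  (clsU ρ.res (pre f V) p).liftOfSurjective (clsU_surjective (pre f V) ρ.flasque_res p)
    ⟨(SecHom.θ (K f h𝔜 ρ) p V).toAddMonoidHom.comp (toZ f h𝔜 ρ p V), fun z hz =>
      θ_toZ_eq_zero f h𝔜 ρ p V z ((clsU_eq_zero_iff (pre f V) ρ.flasque_res p z).1 hz)⟩

theorem Φ_cls (z : Cyc ρ.res (pre f V) p) :
    Φ f h𝔜 ρ p V (clsU ρ.res (pre f V) p z) = SecHom.θ (K f h𝔜 ρ) p V (toZ f h𝔜 ρ p V z) :=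
  AddMonoidHom.liftOfRightInverse_comp_apply _ _ _ _ z

/-- Sections come locally from classes. -/
theorem exists_local (η : sc ((K f h𝔜 ρ).homology p).val V) {y : 𝔜.X 0} (hy : y ∈ V) :
    ∃ (W : (𝔜.X 0).Opens) (hW : W ≤ V), IsAffineOpen W ∧ y ∈ W ∧
      ∃ x : E f h𝔛 M p W, Φ f h𝔜 ρ p W x = rm _ hW η := by
  obtain ⟨W₀, hW₀, z, hy₀, hz⟩ := SecHom.θ_exists_local (K := K f h𝔜 ρ) η hy
  obtain ⟨_, ⟨W, hWa, rfl⟩, hyW, hWW⟩ := (𝔜.X 0).isBasis_affineOpens.exists_subset_of_mem_open hy₀ W₀.2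
  refine ⟨W, le_trans hWW hW₀, hWa, hyW,
    clsU ρ.res (pre f W) p ⟨_, SecHom.rm_mem_Z (K := K f h𝔜 ρ) hWW z.2⟩, ?_⟩
  rw [Φ_cls, ← rm_rm _ hW₀ hWW, ← hz]
  exact (SecHom.rm_θ (K := K f h𝔜 ρ) hWW z).symm

/-- A vanishing image is locally a coboundary. -/
theorem exists_bd (z : Cyc ρ.res (pre f V) p) (hz : Φ f h𝔜 ρ p V (clsU ρ.res (pre f V) p z) = 0)
    {y : 𝔜.X 0} (hy : y ∈ V) :
    ∃ (W : (𝔜.X 0).Opens) (hW : W ≤ V), IsAffineOpen W ∧ y ∈ W ∧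
      rm (ρ.C.X p) ((Opens.map _).map (homOfLE hW)).le z.1 ∈ Bd ρ.res (pre f W) p := by
  rw [Φ_cls] at hz
  obtain ⟨W₀, hW₀, hy₀, w, hw⟩ := SecHom.θ_zero_local _ hz hy
  obtain ⟨_, ⟨W, hWa, rfl⟩, hyW, hWW⟩ := (𝔜.X 0).isBasis_affineOpens.exists_subset_of_mem_open hy₀ W₀.2
  refine ⟨W, le_trans hWW hW₀, hWa, hyW, ?_⟩
  have key : rm ((K f h𝔜 ρ).X p) (le_trans hWW hW₀) (toZ f h𝔜 ρ p V z).1 =
      apm ((K f h𝔜 ρ).d _ p).val W (rm _ hWW w) := by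
    rw [← rm_rm _ hW₀ hWW, ← hw, rm_apm]
  cases p with
  | zero =>
    refine (Submodule.mem_bot _).2 (key.trans ?_)
    rw [(K f h𝔜 ρ).shape _ 0 (by simp)]
    rfl
  | succ p =>
    have gen : ∀ i, i = p → ∀ v : sc ((K f h𝔜 ρ).X i).val W,
        (show sc (ρ.C.X (p + 1)).val (pre f W) from apm ((K f h𝔜 ρ).d i (p + 1)).val W v) ∈
          Bd ρ.res (pre f W) (p + 1) := by
      rintro i rfl v
      exact ⟨v, rfl⟩
    exact key ▸ gen _ (CochainComplex.prev_nat_succ p) _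

/-- The chain map on direct images. -/
noncomputable abbrev Kmap (φ : ρ.C ⟶ σ.C) : K f h𝔜 ρ ⟶ K f h𝔜 σ :=
  ((FSch.pushF f h𝔛.1 h𝔜.1).mapHomologicalComplex (ComplexShape.up ℕ)).map φ

variable {ρ σ}

/-- A chain map over a map of modules is a map of resolutions. -/
@[reducible] noncomputable def resHom (g : M ⟶ N) (φ : ρ.C ⟶ σ.C) (h : ρ.ι ≫ φ.f 0 = g ≫ σ.ι) :
    Res.Hom ρ.res σ.res where
  f₀ := g
  f n := φ.f n
  comm₀ := h
  comm n := (φ.comm n (n + 1)).symm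

/-- Naturality of the comparison. -/
theorem Φ_map (g : M ⟶ N) (φ : ρ.C ⟶ σ.C) (h : ρ.ι ≫ φ.f 0 = g ≫ σ.ι) (x : E f h𝔛 M p V) :
    Φ f h𝔜 σ p V (x.comp (Ext.mk₀ (restrMap (T := (𝔛.X 0).toTopCat) (pre f V) g)) (add_zero p)) =
      apm (HomologicalComplex.homologyMap (Kmap f h𝔜 ρ σ φ) p).val V (Φ f h𝔜 ρ p V x) := by
  obtain ⟨z, rfl⟩ := clsU_surjective (pre f V) ρ.flasque_res p x
  have hz : apm (φ.f p).val (pre f V) z.1 ∈ Cyc σ.res (pre f V) p := by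
    rw [mem_cyc]
    show apm (σ.C.d p (p + 1)).val (pre f V) (apm (φ.f p).val (pre f V) z.1) = 0
    rw [apm_comp_apply, φ.comm, ← apm_comp_apply]
    exact (congrArg _ (mem_cyc.1 z.2)).trans (map_zero _)
  refine ((congrArg (Φ f h𝔜 σ p V) (clsU_map (pre f V) (resHom g φ h) p z ⟨_, hz⟩ rfl).symm).trans
    (Φ_cls f h𝔜 σ p V ⟨_, hz⟩)).trans ?_
  refine Eq.trans ?_ (congrArg (apm (HomologicalComplex.homologyMap (Kmap f h𝔜 ρ σ φ) p).val V)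
    (Φ_cls f h𝔜 ρ p V z)).symm
  exact (SecHom.θ_map (Kmap f h𝔜 ρ σ φ) (toZ f h𝔜 ρ p V z) (toZ f h𝔜 σ p V ⟨_, hz⟩) rfl).symm

variable (ρ)

/-- Linearity of the comparison. -/
theorem Φ_smul (a : FormalAffine.RS h𝔜.1 V) (x : E f h𝔛 M p V) :
    Φ f h𝔜 ρ p V (x.comp (Ext.mk₀ (smulHom (T := (𝔛.X 0).toTopCat) (pre f V) M (shp f h𝔛 h𝔜 V a))) (add_zero p)) =
      a • Φ f h𝔜 ρ p V x := by
  obtain ⟨z, rfl⟩ := clsU_surjective (pre f V) ρ.flasque_res p x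
  refine ((congrArg (Φ f h𝔜 ρ p V) (clsU_smul (R := ρ.res) (pre f V) (shp f h𝔛 h𝔜 V a) p z).symm).trans
    (Φ_cls f h𝔜 ρ p V _)).trans ?_
  refine Eq.trans ?_ (congrArg (a • ·) (Φ_cls f h𝔜 ρ p V z)).symm
  exact (LinearMap.map_smul (SecHom.θ (K f h𝔜 ρ) p V) a (toZ f h𝔜 ρ p V z))

end Groth.AdicLinTop.RpushClass
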