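import Groth.Agent.AdicLinTop.CoprodPushD
import Groth.Agent.Misc4.RFBounded
import Groth.Agent.Misc4.RlimTrunc

/-!
# Cohomology sheaves of unbounded direct images between Noetherian formal schemes

If the higher direct images of a class of quasi-coherent modules lie in a weak Serre class, then so do the cohomology
sheaves of direct images of complexes with cohomology in the class.
-/

set_option autoImplicit false

universe u

open CategoryTheory CategoryTheory.Limits AlgebraicGeometry TopologicalSpace Opposite DerivedCategory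

attribute [local instance] HasDerivedCategory.standard

set_option backward.defeqAttrib.useBackward true
set_option backward.isDefEq.respectTransparency false
set_option backward.isDefEq.respectTransparency.types false
set_option synthInstance.maxHeartbeats 400000
set_option maxHeartbeats 1000000

namespace Groth.AdicLinTop.RpushCohIn

variable {𝔛 𝔜 : FSch.Sys.{u}} (h𝔛 : 𝔛.IsLocNoethFormal) [CompactSpace (𝔛.X 0)]
  (h𝔜 : 𝔜.IsFormal) [CompactSpace (𝔜.X 0)] (f : 𝔛 ⟶ 𝔜)
  [SiteCmp.HasRpushD (FSch.homMor f h𝔛.1 h𝔜)]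

/-- Direct images of complexes with cohomology in the class have cohomology in the target class. -/
theorem cohIn_RpushD (A : ObjectProperty (FSch.ModF 𝔛 h𝔛.1)) [WSerre.IsWeakSerre A]
    (hA : ∀ F, A F → AffineGens.affGen h𝔛 F)
    (A' : ObjectProperty (FSch.ModF 𝔜 h𝔜)) [WSerre.IsWeakSerre A']
    (h3 : ∀ F, A F → ∀ p : ℕ, A' (((FSch.homMor f h𝔛.1 h𝔜).push.rightDerived p).obj F))
    (X : DerivedCategory (FSch.ModF 𝔛 h𝔛.1)) (hX : ∀ q : ℤ, A (SiteCmp.HMod X q)) (i : ℤ) :
    A' (SiteCmp.HMod ((SiteCmp.RpushD (FSch.homMor f h𝔛.1 h𝔜)).obj X) i) := by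
  obtain ⟨N, hN⟩ := CoprodPushD.exists_trunc_bound h𝔛 h𝔜 f
  let n := ((N : ℤ) - i).toNat
  have hn : (N : ℤ) - n ≤ i := by lia
  let R := SiteCmp.RpushD (FSch.homMor f h𝔛.1 h𝔜)
  let β := (SiteCmp.pushKh (FSch.homMor f h𝔛.1 h𝔜)).totalRightDerivedUnit DerivedCategory.Qh
    (HomotopyCategory.quasiIso (FSch.ModF 𝔛 h𝔛.1) (ComplexShape.up ℤ))
  haveI := hN X (fun q => hA _ (hX q)) n i hn
  haveI : (CohCx.truncTower X n).IsGE (-(n : ℤ)) := inferInstanceAs (TStructure.t.IsGE _ _)
  have htr : WSerre.cohIn A (CohCx.truncTower X n) := fun q => by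
    by_cases hq : -(n : ℤ) ≤ q
    · have := Groth.Misc4.RlimTrunc.isIso_homology_toTrunc X n q hq
      exact A.prop_of_iso (asIso ((homologyFunctor _ q).map (CohCx.toTruncTower X n))) (hX q)
    · exact A.prop_of_isZero ((CohCx.truncTower X n).isZero_of_isGE (-(n : ℤ)) q (by lia))
  exact A'.prop_of_iso (asIso ((homologyFunctor (FSch.ModF 𝔜 h𝔜) i).map (R.map (CohCx.toTruncTower X n)))).symm
    (Groth.Misc4.RFBounded.cohIn_obj (FSch.homMor f h𝔛.1 h𝔜).push R β A A' h3 _ (-(n : ℤ)) htr i)

end Groth.AdicLinTop.RpushCohIn
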