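import Groth.Agent.AdicLinTop.RpushLevel

/-!
# Sections of higher direct images between formal schemes as cohomology of preimages
-/

set_option autoImplicit false

universe u

open CategoryTheory CategoryTheory.Limits AlgebraicGeometry TopologicalSpace Opposite
open CategoryTheory.Abelian (Ext)

set_option backward.defeqAttrib.useBackward true
set_option backward.isDefEq.respectTransparency false
set_option backward.isDefEq.respectTransparency.types false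
set_option synthInstance.maxHeartbeats 400000
set_option maxHeartbeats 1000000

namespace Groth.AdicLinTop.RpushDerived

open Groth.SitesTopoi.ModH Groth.AdicLinTop.SpacePres Groth.AdicLinTop.RestrAct
open Groth.AdicLinTop.RpushClass Groth.AdicLinTop.RpushLevel
open Groth.AdicLinTop.FormalAffine (RS idl)
open Groth.AdicLinTop.FinitePush (pre shp)
open Groth.AdicLinTop.ModHomology (rm_apm apm_comp_apply)

variable {𝔛 𝔜 : FSch.Sys.{u}} (f : 𝔛 ⟶ 𝔜) (h𝔛 : 𝔛.IsLocNoethFormal) (h𝔜 : 𝔜.IsLocNoethFormal)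
  [HasInjectiveResolutions (FSch.ModF 𝔛 h𝔛.1)] (q : ℕ)

/-- The chosen resolution. -/
noncomputable abbrev res₀ (M : FSch.ModF 𝔛 h𝔛.1) : Rz h𝔛 M := ofInj (injectiveResolution M)

/-- Higher direct images as homology of the direct image of the chosen resolution. -/
noncomputable abbrev eR (M : FSch.ModF 𝔛 h𝔛.1) :
    (FSch.RpushF f h𝔛.1 h𝔜.1 q).obj M ≅ (K f h𝔜 (res₀ h𝔛 M)).homology q :=
  (injectiveResolution M).isoRightDerivedObj (FSch.pushF f h𝔛.1 h𝔜.1) q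

/-- Cohomology of a preimage maps to sections of the higher direct image. -/
noncomputable def Ψ (M : FSch.ModF 𝔛 h𝔛.1) (V : (𝔜.X 0).Opens) :
    E f h𝔛 M q V →+ sc ((FSch.RpushF f h𝔛.1 h𝔜.1 q).obj M).val V :=
  (apm (eR f h𝔛 h𝔜 q M).inv.val V).toAddMonoidHom.comp (Φ f h𝔜 (res₀ h𝔛 M) q V)

theorem Ψ_map {M N : FSch.ModF 𝔛 h𝔛.1} (g : M ⟶ N) (V : (𝔜.X 0).Opens) (x : E f h𝔛 M q V) :
    Ψ f h𝔛 h𝔜 q N V (x.comp (Ext.mk₀ (restrMap (T := (𝔛.X 0).toTopCat) (pre f V) g)) (add_zero q)) =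
      apm ((FSch.RpushF f h𝔛.1 h𝔜.1 q).map g).val V (Ψ f h𝔛 h𝔜 q M V x) := by
  let I := injectiveResolution M
  let J := injectiveResolution N
  let φ : I.cocomplex ⟶ J.cocomplex := InjectiveResolution.desc g J I
  have hφ : I.ι.f 0 ≫ φ.f 0 = g ≫ J.ι.f 0 := InjectiveResolution.desc_commutes_zero g J I
  have h : (res₀ h𝔛 M).ι ≫ φ.f 0 = g ≫ (res₀ h𝔛 N).ι := hφ
  refine (congrArg (apm (eR f h𝔛 h𝔜 q N).inv.val V) (Φ_map f h𝔜 (ρ := res₀ h𝔛 M) (σ := res₀ h𝔛 N) q V g φ h x)).trans ?_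
  have e := InjectiveResolution.isoRightDerivedObj_inv_naturality g I J φ hφ (FSch.pushF f h𝔛.1 h𝔜.1) q
  exact (congrArg (fun w : _ ⟶ (FSch.RpushF f h𝔛.1 h𝔜.1 q).obj N =>
    apm (SheafOfModules.Hom.val w) V (Φ f h𝔜 (res₀ h𝔛 M) q V x)) e).symm

theorem Ψ_smul (M : FSch.ModF 𝔛 h𝔛.1) (V : (𝔜.X 0).Opens) (a : RS h𝔜.1 V) (x : E f h𝔛 M q V) :
    Ψ f h𝔛 h𝔜 q M V (x.comp (Ext.mk₀ (smulHom (T := (𝔛.X 0).toTopCat) (pre f V) M (shp f h𝔛 h𝔜 V a))) (add_zero q)) =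
      a • Ψ f h𝔛 h𝔜 q M V x :=
  (congrArg (apm (eR f h𝔛 h𝔜 q M).inv.val V) (Φ_smul f h𝔜 (res₀ h𝔛 M) q V a x)).trans
    ((apm (eR f h𝔛 h𝔜 q M).inv.val V).map_smul a _)

/-- Sections come locally from classes. -/
theorem exists_local (M : FSch.ModF 𝔛 h𝔛.1) (V : (𝔜.X 0).Opens)
    (η : sc ((FSch.RpushF f h𝔛.1 h𝔜.1 q).obj M).val V) {y : 𝔜.X 0} (hy : y ∈ V) :
    ∃ (W : (𝔜.X 0).Opens) (hW : W ≤ V), IsAffineOpen W ∧ y ∈ W ∧
      ∃ x : E f h𝔛 M q W, Ψ f h𝔛 h𝔜 q M W x = rm _ hW η := by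
  obtain ⟨W, hW, hWa, hyW, x, hx⟩ :=
    RpushClass.exists_local f h𝔜 (res₀ h𝔛 M) q V (apm (eR f h𝔛 h𝔜 q M).hom.val V η) hy
  refine ⟨W, hW, hWa, hyW, x, (congrArg (apm (eR f h𝔛 h𝔜 q M).inv.val W) hx).trans ?_⟩
  rw [← rm_apm, apm_comp_apply, Iso.hom_inv_id]
  rfl

variable [IsProper ((f : FSch.Hom 𝔛 𝔜).app 0)] (k : ℕ) (G : (𝔛.X k).Modules) [G.IsQuasicoherent]

/-- At a level sections over affine opens are the cohomology of the preimages. -/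
theorem bijective_Ψ_push {V : (𝔜.X 0).Opens} (hV : IsAffineOpen V) :
    Function.Bijective (Ψ f h𝔛 h𝔜 q ((FormalReal.push h𝔛.1 k).obj G) V) := by
  haveI := TorsPushCoh.isProper_app h𝔛 f h𝔜 k
  let J := injectiveResolution ((FormalReal.push h𝔛.1 k).obj G)
  let ρ := ρk h𝔛 k (injectiveResolution G)
  haveI : Mono ρ.ι := ρ.isRes.mono
  obtain ⟨φ, hφ⟩ := Groth.CohBase.FlatBC.exists_desc (𝟙 _) J ρ.C ρ.ι ρ.isRes.zero₀ ρ.isRes.exact₀ ρ.isRes.exact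
  have hb := bijective_of_comparison f h𝔜 (ρ := ρ) (σ := res₀ h𝔛 _) (p := q) φ hφ
    (fun V hV => bijective_Φ_ρk h𝔛 f h𝔜 k (injectiveResolution G) q hV) V hV
  let e := eR f h𝔛 h𝔜 q ((FormalReal.push h𝔛.1 k).obj G)
  have hi : Function.Bijective (apm e.inv.val V) := ⟨injective_of_mono e.inv V, fun η => ⟨apm e.hom.val V η, by
    rw [apm_comp_apply, Iso.hom_inv_id]
    rfl⟩⟩
  exact hi.comp hb

/-- Higher direct images from a level live on the level and are quasi-coherent. -/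
theorem exists_iso_push : ∃ (H : (𝔜.X k).Modules) (_ : H.IsQuasicoherent),
    Nonempty ((FSch.RpushF f h𝔛.1 h𝔜.1 q).obj ((FormalReal.push h𝔛.1 k).obj G) ≅ (FormalReal.push h𝔜.1 k).obj H) := by
  haveI := TorsPushCoh.isProper_app h𝔛 f h𝔜 k
  let I := injectiveResolution G
  let ρ := ρk h𝔛 k I
  haveI : Mono ρ.ι := ρ.isRes.mono
  obtain ⟨φ, hφ⟩ := Groth.CohBase.FlatBC.exists_desc (𝟙 _)
    (injectiveResolution ((FormalReal.push h𝔛.1 k).obj G)) ρ.C ρ.ι ρ.isRes.zero₀ ρ.isRes.exact₀ ρ.isRes.exact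
  obtain ⟨e, -⟩ := exists_iso h𝔛 f h𝔜 k I q
  haveI := isIso_of_comparison f h𝔜 (ρ := ρ) (σ := res₀ h𝔛 _) (p := q) φ hφ
    (fun V hV => bijective_Φ_ρk h𝔛 f h𝔜 k I q hV)
  exact ⟨_, Groth.CohBase.isQCoh_homology_pushCx ((f : FSch.Hom 𝔛 𝔜).app k) I q, ⟨eR f h𝔛 h𝔜 q _ ≪≫
    (asIso (HomologicalComplex.homologyMap (Kmap f h𝔜 ρ (res₀ h𝔛 _) φ) q)).symm ≪≫ e⟩⟩

theorem localizes_push : LevelPush.Localizes h𝔜 ((FSch.RpushF f h𝔛.1 h𝔜.1 q).obj ((FormalReal.push h𝔛.1 k).obj G)) := by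
  obtain ⟨H, hH, ⟨e⟩⟩ := exists_iso_push f h𝔛 h𝔜 q k G
  exact localizes_of_iso h𝔜 e (LevelPush.localizes_push_level h𝔜 k H)

theorem smul_push_eq_zero {V : (𝔜.X 0).Opens} (hV : IsAffineOpen V) {a : RS h𝔜.1 V} (ha : a ∈ idl h𝔜.1 V ^ (k + 1))
    (s : sc ((FSch.RpushF f h𝔛.1 h𝔜.1 q).obj ((FormalReal.push h𝔛.1 k).obj G)).val V) : a • s = 0 := by
  obtain ⟨H, hH, ⟨e⟩⟩ := exists_iso_push f h𝔛 h𝔜 q k G
  exact smul_push_iso_eq_zero h𝔜 k e hV ha s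

end Groth.AdicLinTop.RpushDerived
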