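import Groth.Agent.AdicLinTop.TorsRpush
import Groth.Agent.S0856

/-!
# Higher direct images of coherent torsion modules along pseudo-proper morphisms

They are coherent: such a module lives on a level, and there injective modules are flasque.
-/

set_option autoImplicit false

universe u

open CategoryTheory CategoryTheory.Limits AlgebraicGeometry TopologicalSpace Opposite

set_option backward.defeqAttrib.useBackward true
set_option backward.isDefEq.respectTransparency false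
set_option backward.isDefEq.respectTransparency.types false
set_option synthInstance.maxHeartbeats 400000
set_option maxHeartbeats 1000000

namespace Groth.AdicLinTop.TorsRpushCoh

open Groth.SitesTopoi.ModH Groth.AdicLinTop.SpacePres Groth.AdicLinTop.FormalAffine Groth.AdicLinTop.FinitePush
open Groth.AdicLinTop.LevelPush
open Groth.AdicLinTop.FormalReal (projR)
open Groth.QCohMod (res resFun res_res res_smul res_self)

variable {𝔛 𝔜 : FSch.Sys.{u}} (f : 𝔛 ⟶ 𝔜) (h𝔛 : 𝔛.IsLocNoethFormal) (h𝔜 : 𝔜.IsLocNoethFormal) (N : ℕ)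

/-- The comparison of the two ways to push from a level. -/
noncomputable def toComp :
    FormalReal.push h𝔛.1 N ⋙ FSch.pushF f h𝔛.1 h𝔜.1 ⟶
      Scheme.Modules.pushforward ((f : FSch.Hom 𝔛 𝔜).app N) ⋙ FormalReal.push h𝔜.1 N where
  app G := ⟨PresheafOfModules.homMk
    { app := fun U => AddCommGrpCat.ofHom
        (show Γ(G, 𝔛.lvU h𝔛.1 N (pre f U.unop)) →+ Γ(G, (f : FSch.Hom 𝔛 𝔜).app N ⁻¹ᵁ 𝔜.lvU h𝔜.1 N U.unop) from
          res G (FSch.Hom.lvU_preimage f h𝔛.1 h𝔜.1 N U.unop).le)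
      naturality := fun U V i => by
        ext x
        exact (res_res G _ _ _).trans (res_res G _ _ _).symm }
    fun U r x => by
      show res G _ (projR N (pre f U.unop) (shp f h𝔛 h𝔜 U.unop r) •
          (show Γ(G, 𝔛.lvU h𝔛.1 N (pre f U.unop)) from x)) =
        ((f : FSch.Hom 𝔛 𝔜).app N).app _ (projR N U.unop r) •
          (show Γ(G, (f : FSch.Hom 𝔛 𝔜).app N ⁻¹ᵁ 𝔜.lvU h𝔜.1 N U.unop) from res G _ x)
      rw [res_smul, projR_shp]
      refine congrArg (· • _) ?_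
      show resFun (𝔛.X N) _ ((((f : FSch.Hom 𝔛 𝔜).app N).appLE _ _ _).hom _) = _
      rw [← CommRingCat.comp_apply, Scheme.Hom.appLE_map, Scheme.Hom.app_eq_appLE]⟩
  naturality G G' φ := by
    refine mod_hom_ext fun U x => ?_
    exact Groth.QCohMod.res_app φ (FSch.Hom.lvU_preimage f h𝔛.1 h𝔜.1 N U).le x

theorem isIso_toComp : IsIso (toComp f h𝔛 h𝔜 N) := by
  haveI : ∀ G, IsIso ((toComp f h𝔛 h𝔜 N).app G) := fun G => by
    have hb : ∀ U : (𝔜.X 0).Opens, Function.Bijective (apm ((toComp f h𝔛 h𝔜 N).app G).val U) := fun U => by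
      have e := FSch.Hom.lvU_preimage f h𝔛.1 h𝔜.1 N U
      refine ⟨fun a b h => ?_, fun y => ⟨res G e.ge y, ?_⟩⟩
      · have h2 := congrArg (res G e.ge) (show res G e.le a = res G e.le b from h)
        rwa [res_res, res_res, res_self, res_self] at h2
      · show res G e.le (res G e.ge y) = y
        rw [res_res, res_self]
    haveI : Mono ((toComp f h𝔛 h𝔜 N).app G) := mono_of_injective _ fun W => (hb W).1
    haveI : Epi ((toComp f h𝔛 h𝔜 N).app G) := ⟨fun g g' h => mod_hom_ext fun W z => by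
      obtain ⟨y, rfl⟩ := (hb W).2 z
      exact congrArg (fun φ => apm (SheafOfModules.Hom.val φ) W y) h⟩
    exact isIso_of_mono_of_epi _
  exact NatIso.isIso_of_isIso_app _

theorem additive_push : (FormalReal.push h𝔛.1 N).Additive := ⟨fun {X Y a b} => rfl⟩

/-- The direct image from a level is exact. -/
theorem preservesFiniteLimits_push : PreservesFiniteLimits (FormalReal.push h𝔛.1 N) :=
  (FSch.levelMor 𝔛 h𝔛.1 N).adj.rightAdjoint_preservesLimits.{0, 0}.preservesFiniteLimits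

theorem preservesFiniteColimits_push : PreservesFiniteColimits (FormalReal.push h𝔛.1 N) := by
  haveI : PreservesColimitsOfSize.{u, u} (FormalReal.push h𝔛.1 N) :=
    ⟨fun {J} _ => TorsFlasque.preservesColimits_push h𝔛 N J⟩
  haveI : PreservesColimitsOfSize.{0, 0} (FormalReal.push h𝔛.1 N) := preservesColimitsOfSize_shrink.{0, u, 0, u} _
  exact PreservesColimitsOfSize.preservesFiniteColimits _

variable [CompactSpace (𝔛.X 0)]

/-- Higher direct images of coherent torsion modules along pseudo-proper morphisms are coherent. -/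
theorem isCohF_rightDerived [IsProper ((f : FSch.Hom 𝔛 𝔜).app 0)] (M : FSch.ModF 𝔛 h𝔛.1)
    (hQ : FTors.IsQCT 𝔛 h𝔛.1 M) (hM : FSch.IsCohF 𝔛 h𝔛.1 M) (p : ℕ) :
    FSch.IsCohF 𝔜 h𝔜.1 (((FSch.pushF f h𝔛.1 h𝔜.1).rightDerived p).obj M) := by
  obtain ⟨N, hN⟩ := TorsPushCoh.exists_killed_all h𝔛 hM hQ.1
  let G := FormalPull.pullk h𝔛.1 M N
  have hG : Coh.IsCoh G := FormalCoh.isCoh_sys h𝔛 hM N
  haveI : IsIso ((FSch.levelMor 𝔛 h𝔛.1 N).adj.unit.app M) := by
    have hb := TorsPushCoh.ηk_bijective h𝔛 hM hN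
    haveI : Mono ((FSch.levelMor 𝔛 h𝔛.1 N).adj.unit.app M) := mono_of_injective _ fun W => (hb W).1
    haveI : Epi ((FSch.levelMor 𝔛 h𝔛.1 N).adj.unit.app M) := ⟨fun g g' h => mod_hom_ext fun W z => by
      obtain ⟨y, hy⟩ := (hb W).2 z
      rw [← show apm ((FSch.levelMor 𝔛 h𝔛.1 N).adj.unit.app M).val W y = z from hy]
      exact congrArg (fun φ : M ⟶ _ => apm (SheafOfModules.Hom.val φ) W y) h⟩
    exact isIso_of_mono_of_epi _
  let fN := (f : FSch.Hom 𝔛 𝔜).app N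
  haveI : IsProper fN := TorsPushCoh.isProper_app h𝔛 f h𝔜 N
  haveI := h𝔜.2.2 N
  let P := FormalReal.push h𝔛.1 N
  let P' := FormalReal.push h𝔜.1 N
  haveI := additive_push h𝔛 N
  haveI := additive_push h𝔜 N
  haveI := preservesFiniteLimits_push h𝔛 N
  haveI := preservesFiniteColimits_push h𝔛 N
  haveI := preservesFiniteLimits_push h𝔜 N
  haveI := preservesFiniteColimits_push h𝔜 N
  let F := FSch.pushF f h𝔛.1 h𝔜.1
  haveI : PreservesFiniteLimits F :=
    (FSch.homMor f h𝔛.1 h𝔜.1).adj.rightAdjoint_preservesLimits.{0, 0}.preservesFiniteLimits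
  let R : InjectiveResolution G := injectiveResolution G
  let A := (P.mapHomologicalComplex (ComplexShape.up ℕ)).obj R.cocomplex
  haveI : Mono (R.ι.f 0) := inferInstance
  obtain ⟨i⟩ := Groth.LocCohZBase.nonempty_homology_iso_of_acyclic F p A (P.obj G) (P.map (R.ι.f 0))
    ((P.map_comp _ _).symm.trans ((congrArg P.map R.ι_f_zero_comp_complex_d).trans (P.map_zero _ _)))
    (P.map_mono _) (R.exact₀.map P)
    (fun m => by
      rw [HomologicalComplex.exactAt_iff' _ m (m + 1) (m + 2) (by simp) (by simp)]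
      exact (R.exact_succ m).map P)
    (fun m j => TorsRpush.isZero_rightDerived_of_surjective h𝔛 f h𝔜.1 _
      (fun {U V} h => by
        haveI : Injective (R.cocomplex.X m) := R.injective m
        exact @Groth.Agent.S0856.result _ _ _ (𝔛.X N).ringCatSheaf (R.cocomplex.X m) (R.injective m) _ _
          (homOfLE (lvU_mono h𝔛.1 N h)) inferInstance) j)
  haveI := isIso_toComp f h𝔛 h𝔜 N
  let B := ((Scheme.Modules.pushforward fN).mapHomologicalComplex (ComplexShape.up ℕ)).obj R.cocomplex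
  let e1 : (((P ⋙ F).mapHomologicalComplex (ComplexShape.up ℕ)).obj R.cocomplex).homology p ≅
      P'.obj (((Scheme.Modules.pushforward fN).rightDerived p).obj G) :=
    (HomologicalComplex.homologyFunctor (FSch.ModF 𝔜 h𝔜.1) (ComplexShape.up ℕ) p).mapIso
      ((NatIso.mapHomologicalComplex (asIso (toComp f h𝔛 h𝔜 N)) (ComplexShape.up ℕ)).app R.cocomplex) ≪≫
    ShortComplex.mapHomologyIso (B.sc p) P' ≪≫
    P'.mapIso (R.isoRightDerivedObj (Scheme.Modules.pushforward fN) p).symm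
  exact (IndCoh.cohP (𝔛 := 𝔜) h𝔜).prop_of_iso
    (e1.symm ≪≫ i ≪≫ (F.rightDerived p).mapIso (asIso ((FSch.levelMor 𝔛 h𝔛.1 N).adj.unit.app M)).symm)
    (isCohF_push_level h𝔜 N _ (Groth.CohFin.isCoh_rightDerived_of_proper Groth.CohFin.projFinite fN p G hG))

omit [CompactSpace (𝔛.X 0)]

/-- Coherent quasi-coherent torsion modules. -/
def cohQCT : ObjectProperty (FSch.ModF 𝔛 h𝔛.1) := fun F => FTors.IsQCT 𝔛 h𝔛.1 F ∧ FSch.IsCohF 𝔛 h𝔛.1 F

/-- Coherent quasi-coherent torsion modules form a weak Serre class. -/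
theorem isWeakSerre_cohQCT : WSerre.IsWeakSerre (cohQCT h𝔛) where
  exists_zero := ⟨_, isZero_zero _,
    haveI := TorsColim.isWeakSerre_isQCT h𝔛
    ⟨(FTors.IsQCT 𝔛 h𝔛.1).prop_of_isZero (isZero_zero _),
      FPSmall.fp_of_isZero (O := 𝔛.Osh h𝔛.1) (isZero_zero _)⟩⟩
  kernels_le := by
    haveI := TorsColim.isWeakSerre_isQCT h𝔛
    rintro _ ⟨g, k, hk, hX, hY⟩
    exact ⟨(FTors.IsQCT 𝔛 h𝔛.1).prop_of_isLimit_kernelFork hk hX.1 hY.1,
      (IndCoh.cohP h𝔛).prop_of_iso (IsLimit.conePointUniqueUpToIso (kernelIsKernel g) hk)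
        (CohKer.fp_kernel (IndCoh.goodBasis h𝔛) g hX.2 hY.2)⟩
  cokernels_le := by
    haveI := TorsColim.isWeakSerre_isQCT h𝔛
    rintro _ ⟨g, k, hk, hX, hY⟩
    exact ⟨(FTors.IsQCT 𝔛 h𝔛.1).prop_of_isColimit_cokernelCofork hk hX.1 hY.1,
      (IndCoh.cohP h𝔛).prop_of_iso (IsColimit.coconePointUniqueUpToIso (cokernelIsCokernel g) hk)
        (CohKer.fp_cokernel g hX.2 hY.2)⟩
  prop_X₂_of_shortExact := @fun S hS hX hY => by
    haveI := TorsColim.isWeakSerre_isQCT h𝔛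
    have h2 := (FTors.IsQCT 𝔛 h𝔛.1).prop_X₂_of_shortExact hS hX.1 hY.1
    refine ⟨h2, ?_⟩
    haveI : SheafOfModules.IsQuasicoherent.{u} S.X₂ := h2.2
    haveI := hS.epi_g
    haveI := hS.mono_f
    refine QuotFP.isFinitePresentation (IndCoh.goodBasis h𝔛) fun x => ?_
    obtain ⟨U₁, n₁, m₁, hx₁, ⟨P₁⟩⟩ := SpacePres.exists_presData hX.2 x
    obtain ⟨U₃, n₃, m₃, hx₃, ⟨P₃⟩⟩ := SpacePres.exists_presData hY.2 x
    have hlift : ∀ j, ∃ (W : (𝔛.X 0).Opens) (h : W ≤ U₃), x ∈ W ∧ ∃ t, apm S.g.val W t = rm S.X₃ h (P₃.s j) :=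
      fun j => by
        obtain ⟨R, hR, hR'⟩ := locSurj_of_epi S.g U₃ (P₃.s j)
        obtain ⟨W, h, hxW, hW⟩ := exists_nhd_of_mem hR hx₃
        exact ⟨W, h, hxW, hR' (homOfLE h) hW⟩
    choose W₀ h₀ hxW₀ t₀ ht₀ using hlift
    let U : (𝔛.X 0).Opens := (U₁ ⊓ U₃) ⊓ Finset.univ.inf W₀
    have hxU : x ∈ U := ⟨⟨hx₁, hx₃⟩, by
      show x ∈ ((Finset.univ.inf W₀ : (𝔛.X 0).Opens) : Set (𝔛.X 0))
      rw [Opens.coe_finset_inf]
      simpa using hxW₀⟩
    have hU₁ : U ≤ U₁ := inf_le_left.trans inf_le_left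
    have hU₃ : U ≤ U₃ := inf_le_left.trans inf_le_right
    have hU₀ : ∀ j, U ≤ W₀ j := fun j => inf_le_right.trans (Finset.inf_le (Finset.mem_univ j))
    let c : Fin n₁ ⊕ Fin n₃ → sc S.X₂.val U :=
      Sum.elim (fun i => apm S.f.val U (rm S.X₁ hU₁ (P₁.s i))) fun j => rm S.X₂ (hU₀ j) (t₀ j)
    refine ⟨U, n₁ + n₃, hxU, ⟨⟨c ∘ finSumFinEquiv.symm, fun W hW t y hy => ?_⟩⟩⟩
    obtain ⟨W₁, hW₁, hy₁, a, ha⟩ := P₃.gen W (hW.trans hU₃) (apm S.g.val W t) y hy
    have h0 : apm S.g.val W₁ (rm S.X₂ hW₁ t - ∑ j, a j • rm S.X₂ ((hW₁.trans hW).trans (hU₀ j)) (t₀ j)) = 0 := by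
      rw [map_sub, map_sum, sub_eq_zero, ← ModHomology.rm_apm, ha]
      refine Finset.sum_congr rfl fun j _ => ?_
      rw [map_smul, ← ModHomology.rm_apm, ht₀, rm_rm]
    obtain ⟨W₂, hW₂, hy₂, z, hz⟩ := ModHomology.exists_lift_of_exact hS.exact _ h0 hy₁
    obtain ⟨W₃, hW₃, hy₃, b, hb⟩ := P₁.gen W₂ ((hW₂.trans hW₁).trans (hW.trans hU₁)) z y hy₂
    refine ⟨W₃, (hW₃.trans hW₂).trans hW₁, hy₃, Sum.elim b (fun j => rr (hW₃.trans hW₂) (a j)) ∘ finSumFinEquiv.symm, ?_⟩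
    rw [← Equiv.sum_comp finSumFinEquiv]
    simp only [Function.comp_apply, Equiv.symm_apply_apply, Fintype.sum_sum_type, Sum.elim_inl, Sum.elim_inr, c]
    have h := congrArg (apm S.f.val W₃) hb
    rw [← ModHomology.rm_apm, hz, map_sum] at h
    simp only [map_sub, map_sum, rm_smul, rm_rm, rr_rr, map_smul, ModHomology.rm_apm] at h ⊢
    rw [← h]
    abel

end Groth.AdicLinTop.TorsRpushCoh
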