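import Groth.Agent.AdicLinTop.RpushClass
import Groth.Agent.AdicLinTop.TorsRpushCoh
import Groth.Agent.CohBase.RpushAb
import Groth.Agent.CohBase.FlatBC.Exact

/-!
# Higher direct images of quasi-coherent modules living on a level

Over affine opens their sections are the cohomology of the preimages, and they live on the same level.
-/

set_option autoImplicit false

universe u

open CategoryTheory CategoryTheory.Limits AlgebraicGeometry TopologicalSpace Opposite
open CategoryTheory.Abelian (Ext)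

set_option backward.defeqAttrib.useBackward true
set_option backward.isDefEq.respectTransparency false
set_option backward.isDefEq.respectTransparency.types false
set_option synthInstance.maxHeartbeats 400000
set_option maxHeartbeats 1000000

namespace Groth.AdicLinTop.RpushLevel

open Groth.SitesTopoi.ModH Groth.AdicLinTop.SpacePres Groth.AdicLinTop.RestrAct Groth.AdicLinTop.ResSec
open Groth.AdicLinTop.RpushClass Groth.AdicLinTop.TorsRpushCoh
open Groth.AdicLinTop.FormalAffine (RS resR idl lvU_mono)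
open Groth.AdicLinTop.FinitePush (pre shp)
open Groth.AdicLinTop.ModHomology (rm_apm apm_comp_apply)
open Groth.CohBase (Res)

section Gen

variable {C D : Type*} [Category C] [Category D] [Abelian C] [Abelian D]

/-- An exact functor respects the projections onto homology. -/
theorem homologyπ_mapHomologyIso (S : ShortComplex C) (F : C ⥤ D) [F.PreservesZeroMorphisms]
    [F.PreservesLeftHomologyOf S] :
    (S.map F).homologyπ ≫ (S.mapHomologyIso F).hom = (S.mapCyclesIso F).hom ≫ F.map S.homologyπ := by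
  rw [ShortComplex.LeftHomologyData.mapHomologyIso_eq S.leftHomologyData,
    ShortComplex.LeftHomologyData.mapCyclesIso_eq S.leftHomologyData]
  simp only [Iso.trans_hom, Functor.mapIso_hom, Iso.symm_hom,
    ShortComplex.LeftHomologyData.homologyπ_comp_homologyIso_hom_assoc, Category.assoc]
  refine congrArg _ ?_
  rw [ShortComplex.LeftHomologyData.map_π, ← F.map_comp, ← F.map_comp]
  refine congrArg F.map ?_
  rw [ShortComplex.LeftHomologyData.π_comp_homologyIso_inv]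

end Gen

variable {𝔛 𝔜 : FSch.Sys.{u}} {h𝔛 : 𝔛.IsLocNoethFormal} (f : 𝔛 ⟶ 𝔜) (h𝔜 : 𝔜.IsLocNoethFormal)

theorem comp_restrMap_id {M : FSch.ModF 𝔛 h𝔛.1} (U : (𝔛.X 0).Opens) {Z : Groth.CohBase.AbSheaf (TopCat.of U)} {p : ℕ}
    (x : Ext Z (restrAb (T := (𝔛.X 0).toTopCat) U M) p) :
    x.comp (Ext.mk₀ (restrMap (T := (𝔛.X 0).toTopCat) U (𝟙 M))) (add_zero p) = x := by
  have e : restrMap (T := (𝔛.X 0).toTopCat) U (𝟙 M) = 𝟙 _ := by
    simp only [restrMap, CategoryTheory.Functor.map_id]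
  rw [e]
  exact Ext.comp_mk₀_id x

section Transfer

variable {M : FSch.ModF 𝔛 h𝔛.1} {ρ σ : Rz h𝔛 M} {p : ℕ}

/-- A comparison of resolutions of the same module transports bijectivity over affine opens. -/
theorem isIso_of_comparison (φ : ρ.C ⟶ σ.C) (hφ : ρ.ι ≫ φ.f 0 = 𝟙 M ≫ σ.ι)
    (hρ : ∀ V : (𝔜.X 0).Opens, IsAffineOpen V → Function.Bijective (Φ f h𝔜 ρ p V)) :
    IsIso (HomologicalComplex.homologyMap (Kmap f h𝔜 ρ σ φ) p) := by
  let c := HomologicalComplex.homologyMap (Kmap f h𝔜 ρ σ φ) p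
  have hid : ∀ V : (𝔜.X 0).Opens, ∀ x : E f h𝔛 M p V,
      apm c.val V (Φ f h𝔜 ρ p V x) = Φ f h𝔜 σ p V x := fun V x => by
    exact (Φ_map f h𝔜 p V (𝟙 M) φ hφ x).symm.trans (congrArg _ (comp_restrMap_id (h𝔛 := h𝔛) (pre f V) x))
  have hinj : ∀ (W : (𝔜.X 0).Opens), IsAffineOpen W → ∀ η, apm c.val W η = 0 → η = 0 := by
    intro W hW η hη
    obtain ⟨x, rfl⟩ := (hρ W hW).2 η
    obtain ⟨z, rfl⟩ := clsU_surjective (pre f W) ρ.flasque_res p x
    have hz : apm (φ.f p).val (pre f W) z.1 ∈ Cyc σ.res (pre f W) p := by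
      rw [mem_cyc]
      show apm (σ.C.d p (p + 1)).val (pre f W) (apm (φ.f p).val (pre f W) z.1) = 0
      rw [apm_comp_apply, φ.comm, ← apm_comp_apply]
      exact (congrArg _ (mem_cyc.1 z.2)).trans (map_zero _)
    have hcls : ∀ (U : (𝔛.X 0).Opens) (z : Cyc ρ.res U p) (z' : Cyc σ.res U p),
        z'.1 = apm (φ.f p).val U z.1 → clsU σ.res U p z' = clsU ρ.res U p z := fun U z z' h => by
      exact (clsU_map U (resHom (𝟙 M) φ hφ) p z z' h).trans (comp_restrMap_id (h𝔛 := h𝔛) U _)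
    have h0 : Φ f h𝔜 σ p W (clsU σ.res (pre f W) p ⟨_, hz⟩) = 0 := by
      rw [hcls (pre f W) z ⟨_, hz⟩ rfl, ← hid]
      exact hη
    refine eq_zero_of_local fun y hy => ?_
    obtain ⟨W', hW', -, hyW', hbd⟩ := exists_bd f h𝔜 σ p W ⟨_, hz⟩ h0 hy
    refine ⟨W', hW', hyW', ?_⟩
    let z₁ : Cyc ρ.res (pre f W') p := ⟨_, rm_mem_cyc ((Opens.map _).map (homOfLE hW')).le z.2⟩
    have hb : clsU ρ.res (pre f W') p z₁ = 0 := by
      refine (hcls (pre f W') z₁ ⟨_, rm_mem_cyc _ hz⟩ (rm_apm (φ.f p) _ z.1)).symm.trans ?_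
      exact (clsU_eq_zero_iff (pre f W') σ.flasque_res p _).2 hbd
    refine Eq.trans ?_ ((congrArg (Φ f h𝔜 ρ p W') hb).trans (map_zero _))
    rw [Φ_cls, Φ_cls]
    exact SecHom.rm_θ (K := K f h𝔜 ρ) hW' _
  haveI : Mono c := mono_of_injective _ fun W a b hab => sub_eq_zero.1 (eq_zero_of_local fun y hy => by
    obtain ⟨_, ⟨W', hW'a, rfl⟩, hyW', hW'⟩ := (𝔜.X 0).isBasis_affineOpens.exists_subset_of_mem_open hy W.2
    exact ⟨W', hW', hyW', hinj W' hW'a _ (by rw [← rm_apm, map_sub, hab, sub_self, map_zero])⟩)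
  haveI : Epi c := Preadditive.epi_of_cancel_zero _ fun {R} g hg => mod_hom_ext fun W η => by
    refine (eq_zero_of_local (m := apm g.val W η) fun y hy => ?_).trans (ModHomology.apm_zero_apply η).symm
    obtain ⟨W', hW', -, hyW', x, hx⟩ := exists_local f h𝔜 σ p W η hy
    refine ⟨W', hW', hyW', ?_⟩
    rw [rm_apm, ← hx, ← hid, apm_comp_apply, hg]
    rfl
  exact isIso_of_mono_of_epi c

/-- Transport of bijectivity. -/
theorem bijective_of_comparison (φ : ρ.C ⟶ σ.C) (hφ : ρ.ι ≫ φ.f 0 = 𝟙 M ≫ σ.ι)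
    (hρ : ∀ V : (𝔜.X 0).Opens, IsAffineOpen V → Function.Bijective (Φ f h𝔜 ρ p V)) (V : (𝔜.X 0).Opens)
    (hV : IsAffineOpen V) : Function.Bijective (Φ f h𝔜 σ p V) := by
  haveI := isIso_of_comparison f h𝔜 φ hφ hρ
  let c := HomologicalComplex.homologyMap (Kmap f h𝔜 ρ σ φ) p
  have hc : Function.Bijective (apm c.val V) := by
    refine ⟨injective_of_mono c V, fun η => ⟨apm (inv c).val V η, ?_⟩⟩
    rw [apm_comp_apply, IsIso.inv_hom_id]
    rfl
  have e : (Φ f h𝔜 σ p V : E f h𝔛 M p V → _) = apm c.val V ∘ Φ f h𝔜 ρ p V := funext fun x => by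
    exact Eq.trans (congrArg (Φ f h𝔜 σ p V) (comp_restrMap_id (h𝔛 := h𝔛) (pre f V) x).symm) (Φ_map f h𝔜 p V (𝟙 M) φ hφ x)
  rw [e]
  exact hc.comp (hρ V hV)

end Transfer

section Level

variable (h𝔛) (k : ℕ) {G : (𝔛.X k).Modules} (I : InjectiveResolution G)

/-- The resolution on a level, pushed to the formal scheme. -/
noncomputable def ρk : Rz h𝔛 ((FormalReal.push h𝔛.1 k).obj G) where
  C := haveI := additive_push h𝔛 k; ((FormalReal.push h𝔛.1 k).mapHomologicalComplex (ComplexShape.up ℕ)).obj I.cocomplex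
  ι := (FormalReal.push h𝔛.1 k).map (Res.ofInjective I).ι
  isRes := by
    haveI := additive_push h𝔛 k
    haveI := preservesFiniteLimits_push h𝔛 k
    haveI := preservesFiniteColimits_push h𝔛 k
    exact ((Res.ofInjective I).mapExact (FormalReal.push h𝔛.1 k)).isRes
  flasque n U V h := fun x => by
    obtain ⟨y, hy⟩ := Groth.CohBase.flasque_ofInjective I n (𝔛.lvU h𝔛.1 k U) (𝔛.lvU h𝔛.1 k V)
      (lvU_mono h𝔛.1 k h) x
    exact ⟨y, hy⟩

variable [IsProper ((f : FSch.Hom 𝔛 𝔜).app k)] [G.IsQuasicoherent] (p : ℕ)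

/-- The complex of the level. -/
noncomputable abbrev Bk : CochainComplex (𝔜.X k).Modules ℕ := Groth.CohBase.pushCx ((f : FSch.Hom 𝔛 𝔜).app k) I

/-- The comparison with the homology on the level. -/
theorem exists_iso : ∃ e : (K f h𝔜 (ρk h𝔛 k I)).homology p ≅ (FormalReal.push h𝔜.1 k).obj ((Bk f k I).homology p),
    ∀ (V : (𝔜.X 0).Opens) (z : Cyc (ρk h𝔛 k I).res (pre f V) p)
      (z' : (Res.ofInjective I).Cyc (((f : FSch.Hom 𝔛 𝔜).app k) ⁻¹ᵁ 𝔜.lvU h𝔜.1 k V) p),
      z'.1 = Groth.QCohMod.res (I.cocomplex.X p) (FSch.Hom.lvU_preimage f h𝔛.1 h𝔜.1 k V).le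
        (show Γ(I.cocomplex.X p, 𝔛.lvU h𝔛.1 k (pre f V)) from z.1) →
      FormalReal.pushEquiv k _ V (apm e.hom.val V (Φ f h𝔜 (ρk h𝔛 k I) p V (clsU (ρk h𝔛 k I).res (pre f V) p z))) =
        Groth.CohBase.θH ((f : FSch.Hom 𝔛 𝔜).app k) I p (𝔜.lvU h𝔜.1 k V) z' := by
  haveI := additive_push h𝔜 k
  haveI := additive_push h𝔛 k
  haveI := preservesFiniteLimits_push h𝔜 k
  haveI := preservesFiniteColimits_push h𝔜 k
  haveI := isIso_toComp f h𝔛 h𝔜 k
  let P' := FormalReal.push h𝔜.1 k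
  let χ : K f h𝔜 (ρk h𝔛 k I) ≅ (P'.mapHomologicalComplex (ComplexShape.up ℕ)).obj (Bk f k I) :=
    (NatIso.mapHomologicalComplex (asIso (toComp f h𝔛 h𝔜 k)) (ComplexShape.up ℕ)).app I.cocomplex
  let μ := ((Bk f k I).sc p).mapHomologyIso P'
  refine ⟨(HomologicalComplex.homologyFunctor _ _ p).mapIso χ ≪≫ μ, fun V z z' hz' => ?_⟩
  have hw : (show sc ((P'.mapHomologicalComplex (ComplexShape.up ℕ)).obj (Bk f k I) |>.X p).val V from z'.1) ∈
      SecHom.Z ((P'.mapHomologicalComplex (ComplexShape.up ℕ)).obj (Bk f k I)) p V := z'.2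
  rw [Φ_cls]
  show FormalReal.pushEquiv k _ V (apm μ.hom.val V (apm (HomologicalComplex.homologyMap χ.hom p).val V _)) = _
  rw [SecHom.θ_map χ.hom _ ⟨_, hw⟩ (by exact hz')]
  let c := (Groth.CohBase.cycSecEquiv (Bk f k I) p (𝔜.lvU h𝔜.1 k V)).symm
    ((Groth.CohBase.pushCyc ((f : FSch.Hom 𝔛 𝔜).app k) I p (𝔜.lvU h𝔜.1 k V)) z')
  rw [SecHom.θ_eq ⟨_, hw⟩ (k := apm (((Bk f k I).sc p).mapCyclesIso P').inv.val V
    ((FormalReal.pushEquiv k ((Bk f k I).cycles p) V).symm c))]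
  · refine (congrArg (fun w => FormalReal.pushEquiv k _ V (apm (SheafOfModules.Hom.val w) V
      ((FormalReal.pushEquiv k ((Bk f k I).cycles p) V).symm c)))
      (show ((((Bk f k I).sc p).mapCyclesIso P').inv ≫ (((Bk f k I).sc p).map P').homologyπ) ≫ μ.hom =
        P'.map ((Bk f k I).homologyπ p) by
        rw [Category.assoc, homologyπ_mapHomologyIso, Iso.inv_hom_id_assoc]
        rfl)).trans ?_
    rfl
  · refine (congrArg (fun w => apm (SheafOfModules.Hom.val w) V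
      ((FormalReal.pushEquiv k ((Bk f k I).cycles p) V).symm c))
      (show (((Bk f k I).sc p).mapCyclesIso P').inv ≫ (((Bk f k I).sc p).map P').iCycles =
        P'.map ((Bk f k I).iCycles p) by
        rw [← ShortComplex.mapCyclesIso_hom_iCycles, Iso.inv_hom_id_assoc]
        rfl)).trans ?_
    exact congrArg Subtype.val ((Groth.CohBase.cycSecEquiv (Bk f k I) p (𝔜.lvU h𝔜.1 k V)).apply_symm_apply
      ((Groth.CohBase.pushCyc ((f : FSch.Hom 𝔛 𝔜).app k) I p (𝔜.lvU h𝔜.1 k V)) z'))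

/-- Over affine opens the comparison at a level is bijective. -/
theorem bijective_Φ_ρk {V : (𝔜.X 0).Opens} (hV : IsAffineOpen V) :
    Function.Bijective (Φ f h𝔜 (ρk h𝔛 k I) p V) := by
  obtain ⟨e, he⟩ := exists_iso h𝔛 f h𝔜 k I p
  have hV' := FormalLevels.isAffineOpen_lvU h𝔜.1 hV k
  have eq := FSch.Hom.lvU_preimage f h𝔛.1 h𝔜.1 k V
  refine ⟨(injective_iff_map_eq_zero _).2 fun x hx => ?_, fun η => ?_⟩
  · obtain ⟨z, rfl⟩ := clsU_surjective (pre f V) (ρk h𝔛 k I).flasque_res p x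
    let z' : (Res.ofInjective I).Cyc (((f : FSch.Hom 𝔛 𝔜).app k) ⁻¹ᵁ 𝔜.lvU h𝔜.1 k V) p :=
      ⟨_, Res.res_mem_cyc eq.le (show (show Γ(I.cocomplex.X p, 𝔛.lvU h𝔛.1 k (pre f V)) from z.1) ∈
        (Res.ofInjective I).Cyc (𝔛.lvU h𝔛.1 k (pre f V)) p from z.2)⟩
    have h0 : Groth.CohBase.θH ((f : FSch.Hom 𝔛 𝔜).app k) I p (𝔜.lvU h𝔜.1 k V) z' = 0 := by
      rw [← he V z z' rfl, hx, map_zero]
      rfl
    have hbd := Res.res_mem_bd eq.ge (Groth.CohBase.θH_ker ((f : FSch.Hom 𝔛 𝔜).app k) I p hV' z' h0)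
    rw [Groth.QCohMod.res_res, Groth.QCohMod.res_self] at hbd
    refine (clsU_eq_zero_iff (pre f V) (ρk h𝔛 k I).flasque_res p z).2 ?_
    cases p with
    | zero =>
      refine (Submodule.mem_bot _).2 ?_
      exact Res.mem_bd_zero.1 hbd
    | succ p => exact hbd
  · obtain ⟨z', hz'⟩ := Groth.CohBase.θH_surjective ((f : FSch.Hom 𝔛 𝔜).app k) I p hV'
      (FormalReal.pushEquiv k _ V (apm e.hom.val V η))
    let z : Cyc (ρk h𝔛 k I).res (pre f V) p := ⟨_, (show (Groth.QCohMod.res (I.cocomplex.X p) eq.ge z'.1) ∈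
      (Res.ofInjective I).Cyc (𝔛.lvU h𝔛.1 k (pre f V)) p from Res.res_mem_cyc eq.ge z'.2)⟩
    refine ⟨clsU (ρk h𝔛 k I).res (pre f V) p z, injective_of_mono e.hom V
      ((FormalReal.pushEquiv k _ V).injective ?_)⟩
    rw [← hz']
    exact he V z z' (((Groth.QCohMod.res_res (I.cocomplex.X p) eq.ge eq.le z'.1).trans
      (Groth.QCohMod.res_self _ _)).symm)

omit [IsProper ((f : FSch.Hom 𝔛 𝔜).app k)] [G.IsQuasicoherent] in
/-- Sections of a module living on a level are killed by a power of the ideal of definition. -/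
theorem smul_push_iso_eq_zero {N : FSch.ModF 𝔜 h𝔜.1} {H : (𝔜.X k).Modules}
    (e : N ≅ (FormalReal.push h𝔜.1 k).obj H) {V : (𝔜.X 0).Opens} (hV : IsAffineOpen V) {a : RS h𝔜.1 V}
    (ha : a ∈ idl h𝔜.1 V ^ (k + 1)) (s : sc N.val V) : a • s = 0 := by
  refine injective_of_mono e.hom V ?_
  rw [map_zero, map_smul]
  exact FormalReal.smul_push_eq_zero k H V ((FormalAffine.mem_pow_iff h𝔜 hV k a).1 ha) _

end Level

/-- Transport of localisation along an isomorphism. -/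
theorem localizes_of_iso {N N' : FSch.ModF 𝔜 h𝔜.1} (e : N ≅ N') (h : LevelPush.Localizes h𝔜 N') :
    LevelPush.Localizes h𝔜 N where
  killed U s := by
    obtain ⟨n, hn⟩ := h.killed U (apm e.hom.val U s)
    refine ⟨n, fun {W} g a ha => injective_of_mono e.hom W ?_⟩
    rw [map_zero]
    refine ((apm e.hom.val W).map_smul a _).trans (Eq.trans (congrArg (a • ·) ?_) (hn g a ha))
    exact (rm_apm e.hom g.le s).symm
  ext U hU q z := by
    obtain ⟨r, y, hy⟩ := h.ext U hU q (apm e.hom.val _ z)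
    refine ⟨r, apm e.inv.val U y, injective_of_mono e.hom _ ?_⟩
    rw [map_smul, hy, rm_apm, apm_comp_apply, e.inv_hom_id]
    rfl
  pow U hU q x hx := by
    obtain ⟨r, hr⟩ := h.pow U hU q (apm e.hom.val U x) (by rw [rm_apm, hx, map_zero])
    refine ⟨r, injective_of_mono e.hom U ?_⟩
    rw [map_zero, map_smul, hr]

end Groth.AdicLinTop.RpushLevel
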