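import Groth.Agent.AdicLinTop.RpushDerived
import Groth.Agent.AdicLinTop.ProperLevels

/-!
# The higher direct image of a coherent formal module and those of its levels, over affine opens
-/

set_option autoImplicit false

universe u

open CategoryTheory CategoryTheory.Limits AlgebraicGeometry TopologicalSpace Opposite
open CategoryTheory.Abelian (Ext)

set_option backward.defeqAttrib.useBackward true
set_option backward.isDefEq.respectTransparency false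
set_option backward.isDefEq.respectTransparency.types false
set_option synthInstance.maxHeartbeats 400000
set_option maxHeartbeats 1000000

namespace Groth.AdicLinTop.RpushLimit

open Groth.SitesTopoi.ModH Groth.AdicLinTop.SpacePres Groth.AdicLinTop.RestrAct Groth.AdicLinTop.FormalTower
open Groth.AdicLinTop.RpushClass Groth.AdicLinTop.FormalLim Groth.AdicLinTop.RpushDerived
open Groth.AdicLinTop.FormalAffine (RS idl)
open Groth.AdicLinTop.FinitePush (pre shp)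
open Groth.AdicLinTop.ModHomology (rm_apm apm_comp_apply)

section Transfer

variable {A : Type u} [CommRing A] {R : Type u} [AddCommGroup R] [Module A R] {G H : ℕ → Type u}
  [∀ k, AddCommGroup (G k)] [∀ k, Module A (G k)] [∀ k, AddCommGroup (H k)] [∀ k, Module A (H k)]
  {τ : ∀ k, G (k + 1) →ₗ[A] G k} {π : ∀ k, H (k + 1) →ₗ[A] H k} (e : ∀ k, H k →ₗ[A] G k)
  (he : ∀ k, Function.Bijective (e k)) (hc : ∀ k x, τ k (e (k + 1) x) = e k (π k x))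
  {p : ∀ k, R →ₗ[A] G k} (hp : ∀ k x, τ k (p (k + 1) x) = p k x)
  (hinj : ∀ x, (∀ k, p k x = 0) → x = 0)
  (hsurj : ∀ g : ∀ k, G k, (∀ k, τ k (g (k + 1)) = g k) → ∃ x, ∀ k, p k x = g k)

include hc in
theorem dn_e {k m : ℕ} (h : k ≤ m) (x : H m) : GrTower.dn τ k m h (e m x) = e k (GrTower.dn π k m h x) := by
  induction m, h using Nat.le_induction with
  | base => simp
  | succ m hm ih => rw [GrTower.dn_succ τ hm, hc, ih, GrTower.dn_succ π hm]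

include he hc hsurj in
/-- Stable images consist of images of the limit. -/
theorem exists_lift_of_delay {s : ℕ}
    (hs : ∀ k m (h : k ≤ m), k + s ≤ m → ∀ x : H m,
      ∃ x' : H (m + 1), GrTower.dn π k (m + 1) (h.trans (Nat.le_succ m)) x' = GrTower.dn π k m h x)
    (k : ℕ) (g : G (k + s)) : ∃ x : R, p k x = GrTower.dn τ k (k + s) (Nat.le_add_right k s) g := by
  obtain ⟨w, rfl⟩ := (he (k + s)).2 g
  obtain ⟨z, hz, hzk⟩ := GrTower.exists_mem_lim_of_delay π hs k w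
  obtain ⟨x, hx⟩ := hsurj (fun j => e j (z j)) fun j => (hc j _).trans (congrArg (e j) (hz j))
  exact ⟨x, by rw [hx, hzk, dn_e e hc]⟩

include he hc hp hinj hsurj in
/-- A finitely generated limit with good filtration. -/
theorem exists_span_of_lim (J : Ideal A) {c b : ℕ} {y : Fin b → ∀ k, H k} (hy : ∀ l, y l ∈ GrTower.lim π)
    (hspan : GrTower.lim π ≤ Submodule.span A (Set.range y))
    (hfil : ∀ j, GrTower.fil π (c + j) ≤ J ^ j • Submodule.span A (Set.range y)) :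
    ∃ (b : ℕ) (y : Fin b → R) (c : ℕ), (⊤ : Submodule A R) ≤ Submodule.span A (Set.range y) ∧
      ∀ j x, p (c + j) x = 0 → x ∈ J ^ j • Submodule.span A (Set.range y) := by
  choose y' hy' using fun l => hsurj (fun j => e j (y l j)) fun j => (hc j _).trans (congrArg (e j) (hy l j))
  let P : R →ₗ[A] (∀ k, G k) := LinearMap.pi p
  let Q : (∀ k, H k) →ₗ[A] (∀ k, G k) := LinearMap.pi fun k => (e k).comp (LinearMap.proj k)
  have hP : Function.Injective P := (injective_iff_map_eq_zero P).2 fun x hx => hinj x fun k => congrFun hx k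
  have hlift : ∀ x : R, ∃ z ∈ GrTower.lim π, Q z = P x := fun x => by
    choose z hz using fun k => (he k).2 (p k x)
    exact ⟨z, fun k => (he k).1 (by rw [← hc, hz, hz, hp]), funext hz⟩
  have himg : (Submodule.span A (Set.range y')).map P = (Submodule.span A (Set.range y)).map Q := by
    rw [Submodule.map_span, Submodule.map_span, ← Set.range_comp, ← Set.range_comp]
    exact congrArg (fun w => Submodule.span A (Set.range w)) (funext fun l => funext (hy' l))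
  have key : ∀ (N : Submodule A R) (M : Submodule A (∀ k, H k)), N.map P = M.map Q → ∀ x z, Q z = P x → z ∈ M → x ∈ N :=
    fun N M hNM x z hzx hz => by
      obtain ⟨x', hx', e'⟩ := hNM.ge (Submodule.mem_map_of_mem hz)
      exact hP (e'.trans hzx) ▸ hx'
  refine ⟨b, y', c + 1, fun x _ => ?_, fun j x hx => ?_⟩
  · obtain ⟨z, hz, hzx⟩ := hlift x
    exact key _ _ himg x z hzx (hspan hz)
  · obtain ⟨z, hz, hzx⟩ := hlift x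
    refine key _ (J ^ j • Submodule.span A (Set.range y)) (by rw [Submodule.map_smul'', Submodule.map_smul'', himg])
      x z hzx (hfil j ⟨hz, fun i hi => (he i).1 ((congrFun hzx i).trans ?_)⟩)
    rw [map_zero]
    have hdn : ∀ m (h : i ≤ m), GrTower.dn τ i m h (p m x) = p i x := fun m h =>
      GrTower.dn_lim τ (x := fun k => p k x) (fun k => hp k x) h
    exact (hdn (c + 1 + j) (by omega)).symm.trans (by rw [hx, map_zero])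

end Transfer

variable {𝔛 𝔜 : FSch.Sys.{u}} (f : 𝔛 ⟶ 𝔜) (h𝔛 : 𝔛.IsLocNoethFormal) (h𝔜 : 𝔜.IsLocNoethFormal)
  [HasInjectiveResolutions (FSch.ModF 𝔛 h𝔛.1)] (q : ℕ) (hf : FSch.IsProperHom f)
  {𝔉 : FSch.ModF 𝔛 h𝔛.1} (h𝔉 : FSch.IsCohF 𝔛 h𝔛.1 𝔉)

/-- The higher direct image. -/
noncomputable abbrev R0 (𝔉 : FSch.ModF 𝔛 h𝔛.1) : FSch.ModF 𝔜 h𝔜.1 := (FSch.RpushF f h𝔛.1 h𝔜.1 q).obj 𝔉

/-- The higher direct images of the levels. -/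
noncomputable abbrev G0 (𝔉 : FSch.ModF 𝔛 h𝔛.1) (k : ℕ) : FSch.ModF 𝔜 h𝔜.1 :=
  (FSch.RpushF f h𝔛.1 h𝔜.1 q).obj (levM h𝔛 𝔉 k)

/-- The transitions. -/
noncomputable abbrev τ0 (𝔉 : FSch.ModF 𝔛 h𝔛.1) (k : ℕ) : G0 f h𝔛 h𝔜 q 𝔉 (k + 1) ⟶ G0 f h𝔛 h𝔜 q 𝔉 k :=
  (FSch.RpushF f h𝔛.1 h𝔜.1 q).map (FSch.levelTrans 𝔛 h𝔛.1 𝔉 k)

/-- The projections. -/
noncomputable abbrev p0 (𝔉 : FSch.ModF 𝔛 h𝔛.1) (k : ℕ) : R0 f h𝔛 h𝔜 q 𝔉 ⟶ G0 f h𝔛 h𝔜 q 𝔉 k :=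
  (FSch.RpushF f h𝔛.1 h𝔜.1 q).map ((FSch.levelMor 𝔛 h𝔛.1 k).adj.unit.app 𝔉)

theorem p0_τ0 (k : ℕ) : p0 f h𝔛 h𝔜 q 𝔉 (k + 1) ≫ τ0 f h𝔛 h𝔜 q 𝔉 k = p0 f h𝔛 h𝔜 q 𝔉 k := by
  rw [p0, p0, τ0, ← Functor.map_comp, FSch.unit_levelTrans]

variable {V : (𝔜.X 0).Opens}

include hf h𝔉 in
theorem bijective_Ψ_level (hV : IsAffineOpen V) (k : ℕ) :
    Function.Bijective (Ψ f h𝔛 h𝔜 q (levM h𝔛 𝔉 k) V) := by
  haveI := hf.2
  haveI : SheafOfModules.IsQuasicoherent.{u} ((FSch.levelMor 𝔛 h𝔛.1 k).pull.obj 𝔉) := (FormalCoh.isCoh_sys h𝔛 h𝔉 k).1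
  exact bijective_Ψ_push f h𝔛 h𝔜 q k ((FSch.levelMor 𝔛 h𝔛.1 k).pull.obj 𝔉) hV

include hf h𝔉 in
theorem sec_eq_zero (V : (𝔜.X 0).Opens) (η : sc (R0 f h𝔛 h𝔜 q 𝔉).val V)
    (h : ∀ k, apm (p0 f h𝔛 h𝔜 q 𝔉 k).val V η = 0) : η = 0 := by
  refine eq_zero_of_local fun y hy => ?_
  obtain ⟨W, hW, hWa, hyW, x, hx⟩ := exists_local f h𝔛 h𝔜 q 𝔉 V η hy
  refine ⟨W, hW, hyW, ?_⟩
  have h0 : x = 0 := ProperLevels.eq_zero f h𝔛 h𝔜 hf hWa q h𝔉 x fun k =>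
    (bijective_Ψ_level f h𝔛 h𝔜 q hf h𝔉 hWa k).1 (by
      rw [map_zero]
      refine (Ψ_map f h𝔛 h𝔜 q ((FSch.levelMor 𝔛 h𝔛.1 k).adj.unit.app 𝔉) W x).trans ?_
      refine (congrArg (apm (p0 f h𝔛 h𝔜 q 𝔉 k).val W) hx).trans ?_
      rw [← rm_apm, h, map_zero])
  rw [← hx, h0, map_zero]

include hf h𝔉 in
theorem exists_class_of_compatible (hV : IsAffineOpen V) (g : ∀ k, sc (G0 f h𝔛 h𝔜 q 𝔉 k).val V)
    (hg : ∀ k, apm (τ0 f h𝔛 h𝔜 q 𝔉 k).val V (g (k + 1)) = g k) :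
    ∃ η : sc (R0 f h𝔛 h𝔜 q 𝔉).val V, ∀ k, apm (p0 f h𝔛 h𝔜 q 𝔉 k).val V η = g k := by
  choose z hz using fun k => (bijective_Ψ_level f h𝔛 h𝔜 q hf h𝔉 hV k).2 (g k)
  obtain ⟨x, hx⟩ := FormalLim.exists_class h𝔛 h𝔉 (pre f V) _ q z fun k =>
    (bijective_Ψ_level f h𝔛 h𝔜 q hf h𝔉 hV k).1 (by
      refine (Ψ_map f h𝔛 h𝔜 q (FSch.levelTrans 𝔛 h𝔛.1 𝔉 k) V (z (k + 1))).trans ?_
      rw [hz k]
      exact (congrArg (apm (τ0 f h𝔛 h𝔜 q 𝔉 k).val V) (hz (k + 1))).trans (hg k))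
  refine ⟨Ψ f h𝔛 h𝔜 q 𝔉 V x, fun k => ?_⟩
  exact ((Ψ_map f h𝔛 h𝔜 q ((FSch.levelMor 𝔛 h𝔛.1 k).adj.unit.app 𝔉) V x).symm.trans
    (congrArg (Ψ f h𝔛 h𝔜 q (levM h𝔛 𝔉 k) V) (hx k))).trans (hz k)

/-- The comparison at a level as a linear map. -/
noncomputable def eΨ (V : (𝔜.X 0).Opens) (k : ℕ) :
    ProperLevels.HT f h𝔛 h𝔜 (V := V) 𝔉 q k →ₗ[RS h𝔜.1 V] sc (G0 f h𝔛 h𝔜 q 𝔉 k).val V where
  toFun x := Ψ f h𝔛 h𝔜 q (levM h𝔛 𝔉 k) V (ExtTower.toExt _ _ q x)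
  map_add' x y := map_add (Ψ f h𝔛 h𝔜 q (levM h𝔛 𝔉 k) V) _ _
  map_smul' a x := Ψ_smul f h𝔛 h𝔜 q (levM h𝔛 𝔉 k) V a (ExtTower.toExt _ _ q x)

include hf h𝔉 in
/-- The facts over an affine open. -/
theorem affine_facts (hV : IsAffineOpen V) :
    (∃ s, ∀ k (g : sc (G0 f h𝔛 h𝔜 q 𝔉 (k + s)).val V), ∃ η : sc (R0 f h𝔛 h𝔜 q 𝔉).val V,
      apm (p0 f h𝔛 h𝔜 q 𝔉 k).val V η =
        GrTower.dn (A := RS h𝔜.1 V) (H := fun j => sc (G0 f h𝔛 h𝔜 q 𝔉 j).val V)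
          (fun j => apm (τ0 f h𝔛 h𝔜 q 𝔉 j).val V) k (k + s) (Nat.le_add_right k s) g) ∧
    ∃ (b : ℕ) (y : Fin b → sc (R0 f h𝔛 h𝔜 q 𝔉).val V) (c : ℕ),
      (⊤ : Submodule (RS h𝔜.1 V) _) ≤ Submodule.span _ (Set.range y) ∧
      ∀ j η, apm (p0 f h𝔛 h𝔜 q 𝔉 (c + j)).val V η = 0 →
        η ∈ idl h𝔜.1 V ^ j • Submodule.span (RS h𝔜.1 V) (Set.range y) := by
  obtain ⟨r, t, hspan, ht, hF⟩ := ProperLevels.exists_finGen f h𝔛 h𝔜 hf hV h𝔉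
  haveI := FormalAffine.isNoetherianRing h𝔜 hV
  haveI : IsAdicComplete (Ideal.span (Set.range t)) (RS h𝔜.1 V) := hspan ▸ (FormalLevels.adic h𝔜 hV).1
  let D := GradedSetup.D f h𝔛 h𝔜 h𝔉 ht
  obtain ⟨s, hs⟩ := ExtTower.exists_delay (Groth.CohBase.constZ (TopCat.of (pre f V))) D q hF
  obtain ⟨c, b, y, hy, hsp, hfil⟩ := ExtTower.exists_span (Groth.CohBase.constZ (TopCat.of (pre f V))) D q hF
  have he : ∀ k, Function.Bijective (eΨ f h𝔛 h𝔜 q (𝔉 := 𝔉) V k) := fun k => bijective_Ψ_level f h𝔛 h𝔜 q hf h𝔉 hV k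
  have hc : ∀ k x, apm (τ0 f h𝔛 h𝔜 q 𝔉 k).val V (eΨ f h𝔛 h𝔜 q (𝔉 := 𝔉) V (k + 1) x) =
      eΨ f h𝔛 h𝔜 q (𝔉 := 𝔉) V k (ExtTower.Hπ (Groth.CohBase.constZ (TopCat.of (pre f V))) D q k x) := fun k x =>
    (Ψ_map f h𝔛 h𝔜 q (FSch.levelTrans 𝔛 h𝔛.1 𝔉 k) V (ExtTower.toExt _ _ q x)).symm
  refine ⟨⟨s, fun k g => exists_lift_of_delay (eΨ f h𝔛 h𝔜 q (𝔉 := 𝔉) V) he hc
    (p := fun j => apm (p0 f h𝔛 h𝔜 q 𝔉 j).val V)
    (exists_class_of_compatible f h𝔛 h𝔜 q hf h𝔉 hV) hs k g⟩, ?_⟩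
  obtain ⟨b', y', c', h1, h2⟩ := exists_span_of_lim (eΨ f h𝔛 h𝔜 q (𝔉 := 𝔉) V) he hc
    (p := fun j => apm (p0 f h𝔛 h𝔜 q 𝔉 j).val V)
    (fun k x => by rw [apm_comp_apply, p0_τ0]) (sec_eq_zero f h𝔛 h𝔜 q hf h𝔉 V)
    (exists_class_of_compatible f h𝔛 h𝔜 q hf h𝔉 hV) (Ideal.span (Set.range t)) hy hsp hfil
  exact ⟨b', y', c', h1, hspan ▸ h2⟩

end Groth.AdicLinTop.RpushLimit
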