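import Groth.Agent.AdicLinTop.ComplReal

/-!
# Left exactness of sections of modules on formal schemes
-/

set_option autoImplicit false

universe u

open CategoryTheory CategoryTheory.Limits AlgebraicGeometry TopologicalSpace Opposite

namespace Groth.AdicLinTop.SectionsExact

open Groth.AdicLinTop.FormalReal

variable {𝔛 : FSch.Sys.{u}} {h : 𝔛.IsFormal}

theorem injective_app {M N : FSch.ModF 𝔛 h} (φ : M ⟶ N) [Mono φ] (U : (𝔛.X 0).Opens) :
    Function.Injective (app φ U) := by
  have : Mono ((SheafOfModules.evaluation _ (op U)).map φ) := inferInstance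
  exact (ModuleCat.mono_iff_injective _).1 this

theorem exists_app_eq {S : ShortComplex (FSch.ModF 𝔛 h)} (hS : S.Exact) [Mono S.f] (U : (𝔛.X 0).Opens)
    {y : Sec S.X₂ U} (hy : app S.g U y = 0) : ∃ x, app S.f U x = y :=
  (ShortComplex.moduleCat_exact_iff _).1
    (hS.map_of_mono_of_preservesKernel (SheafOfModules.evaluation _ (op U)) inferInstance inferInstance) y hy

end Groth.AdicLinTop.SectionsExact
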