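import Groth.Agent.AdicLinTop.SpacePres
import Mathlib.Topology.Sheaves.SheafCondition.UniqueGluing

/-!
# Morphisms out of a module presented over an open into a module supported over that open

A module `N` is local at `U` if restricting sections from `V` to `V ⊓ U` is bijective for all `V`.
Morphisms from `M` into such `N` are given by images of generators of `M` over `U` killing the relations.
-/

set_option autoImplicit false

universe u

open CategoryTheory Opposite TopologicalSpace

namespace Groth.AdicLinTop.SpaceGlue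

open Groth.SitesTopoi.ModH Groth.AdicLinTop.SpacePres

variable {T : Type u} [TopologicalSpace T] {O : Sheaf (Opens.grothendieckTopology T) CommRingCat.{u}}
  {M N : ModSite.Mod O} {U : Opens T} {n m : ℕ}

/-- Sections of `N` are determined by their restrictions inside `U`. -/
def IsLocalAt (N : ModSite.Mod O) (U : Opens T) : Prop :=
  ∀ V : Opens T, Function.Bijective (rm N (inf_le_left : V ⊓ U ≤ V))

theorem eq_of_local {V : Opens T} {y y' : sc N.val V}
    (h : ∀ x ∈ V, ∃ (W : Opens T) (hW : W ≤ V), x ∈ W ∧ rm N hW y = rm N hW y') : y = y' := by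
  refine sub_eq_zero.1 (eq_zero_of_local fun x hx => ?_)
  obtain ⟨W, hW, hxW, e⟩ := h x hx
  exact ⟨W, hW, hxW, by rw [map_sub, e, sub_self]⟩

theorem ext_local (hN : IsLocalAt N U) {V : Opens T} {y y' : sc N.val V}
    (h : ∀ x ∈ V ⊓ U, ∃ (W : Opens T) (hW : W ≤ V), x ∈ W ∧ W ≤ U ∧ rm N hW y = rm N hW y') : y = y' := by
  refine (hN V).1 (eq_of_local fun x hx => ?_)
  obtain ⟨W, hW, hxW, hWU, e⟩ := h x hx
  exact ⟨W, le_inf hW hWU, hxW, by simpa only [rm_rm] using e⟩

/-- The combination of the restrictions of a family of sections. -/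
noncomputable def comb (s : Fin n → sc M.val U) {W : Opens T} (hW : W ≤ U) (a : Fin n → rsec O W) : sc M.val W :=
  ∑ i, a i • rm M hW (s i)

theorem rm_comb (s : Fin n → sc M.val U) {W W' : Opens T} (hW : W ≤ U) (e : W' ≤ W) (a : Fin n → rsec O W) :
    rm M e (comb s hW a) = comb s (e.trans hW) (fun i => rr e (a i)) := by
  rw [comb, map_sum]
  exact Finset.sum_congr rfl fun i _ => by rw [rm_smul, rm_rm]

theorem app_comb (φ : M ⟶ N) (s : Fin n → sc M.val U) {W : Opens T} (hW : W ≤ U) (a : Fin n → rsec O W) :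
    apm φ.val W (comb s hW a) = comb (fun i => apm φ.val U (s i)) hW a := by
  rw [comb, map_sum]
  exact Finset.sum_congr rfl fun i _ => by rw [map_smul]; exact congrArg _ (apm_rsm _ _ _)

/-- Morphisms into a module local at `U` agreeing on generators over `U` are equal. -/
theorem hom_ext_gen (P : GenData M U n) (hN : IsLocalAt N U) {φ ψ : M ⟶ N}
    (h : ∀ i, apm φ.val U (P.s i) = apm ψ.val U (P.s i)) : φ = ψ := by
  refine SheafOfModules.hom_ext (pm_hom_ext fun V x => ext_local hN fun p hp => ?_)
  obtain ⟨W, hW, hpW, a, ha⟩ := P.gen (V ⊓ U) inf_le_right (rm M inf_le_left x) p hp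
  refine ⟨W, hW.trans inf_le_left, hpW, hW.trans inf_le_right, ?_⟩
  rw [← apm_rsm, ← apm_rsm, show rsm M.val (homOfLE (hW.trans inf_le_left)) x = rm M hW (rm M inf_le_left x) from
    (rm_rm M _ _ x).symm, ha]
  show apm φ.val W (comb P.s _ a) = apm ψ.val W (comb P.s _ a)
  rw [app_comb, app_comb]
  exact congrArg (fun t => comb t _ a) (funext h)

section Ext

variable (P : PresData M U n m) (hN : IsLocalAt N U) (t : Fin n → sc N.val U)
  (ht : ∀ j, ∑ i, P.r j i • t i = 0)

/-- `y` is the value at `x` of the morphism sending the generators to `t`. -/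
def IsVal {V : Opens T} (x : sc M.val V) (y : sc N.val V) : Prop :=
  ∀ (W : Opens T) (hWV : W ≤ V) (hWU : W ≤ U) (a : Fin n → rsec O W),
    rm M hWV x = comb P.s hWU a → rm N hWV y = comb t hWU a

include ht in
theorem comb_congr {W : Opens T} (hW : W ≤ U) {a a' : Fin n → rsec O W}
    (e : comb P.s hW a = comb P.s hW a') : comb t hW a = comb t hW a' := by
  have h0 : ∑ i, (a i - a' i) • rm M hW (P.s i) = 0 := by
    simp only [sub_smul, Finset.sum_sub_distrib]
    exact sub_eq_zero.2 e
  refine eq_of_local fun x hx => ?_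
  obtain ⟨V, hV, hxV, c, hc⟩ := P.rel W hW _ h0 x hx
  refine ⟨V, hV, hxV, sub_eq_zero.1 ?_⟩
  have key : ∀ j, ∑ i, rr (hV.trans hW) (P.r j i) • rm N (hV.trans hW) (t i) = 0 := fun j => by
    have := congrArg (rm N (hV.trans hW)) (ht j)
    simpa only [map_sum, rm_smul, map_zero] using this
  calc rm N hV (comb t hW a) - rm N hV (comb t hW a')
      = ∑ i, rr hV (a i - a' i) • rm N (hV.trans hW) (t i) := by
        rw [rm_comb, rm_comb, comb, comb, ← Finset.sum_sub_distrib]
        exact Finset.sum_congr rfl fun i _ => by rw [map_sub, sub_smul]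
    _ = ∑ i, ∑ j, c j • (rr (hV.trans hW) (P.r j i) • rm N (hV.trans hW) (t i)) := by
        refine Finset.sum_congr rfl fun i _ => ?_
        rw [hc i, Finset.sum_smul]
        exact Finset.sum_congr rfl fun j _ => mul_smul _ _ _
    _ = 0 := by
        rw [Finset.sum_comm]
        refine Finset.sum_eq_zero fun j _ => ?_
        rw [← Finset.smul_sum, key j, smul_zero]

include hN in
theorem isVal_unique {V : Opens T} {x : sc M.val V} {y y' : sc N.val V} (h : IsVal P t x y) (h' : IsVal P t x y') :
    y = y' := by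
  refine ext_local hN fun p hp => ?_
  obtain ⟨W, hW, hpW, a, ha⟩ := P.gen (V ⊓ U) inf_le_right (rm M inf_le_left x) p hp
  have ha' : rm M (hW.trans inf_le_left) x = comb P.s (hW.trans inf_le_right) a := (rm_rm M _ _ x).symm.trans ha
  exact ⟨W, hW.trans inf_le_left, hpW, hW.trans inf_le_right, (h W _ _ a ha').trans (h' W _ _ a ha').symm⟩

include hN ht in
theorem exists_isVal {V : Opens T} (x : sc M.val V) : ∃ y, IsVal P t x y := by
  choose W hW hpW a ha using fun p : ↥(V ⊓ U) => P.gen (V ⊓ U) inf_le_right (rm M inf_le_left x) p.1 p.2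
  have hWV : ∀ p, W p ≤ V := fun p => (hW p).trans inf_le_left
  have hWU : ∀ p, W p ≤ U := fun p => (hW p).trans inf_le_right
  have ha' : ∀ p, rm M (hWV p) x = comb P.s (hWU p) (a p) := fun p => (rm_rm M _ _ x).symm.trans (ha p)
  have compat : ∀ p q, rm N (inf_le_left : W p ⊓ W q ≤ W p) (comb t (hWU p) (a p)) =
      rm N (inf_le_right : W p ⊓ W q ≤ W q) (comb t (hWU q) (a q)) := fun p q => by
    rw [rm_comb, rm_comb]
    refine comb_congr P t ht _ ?_
    rw [← rm_comb P.s (hWU p), ← rm_comb P.s (hWU q), ← ha', ← ha', rm_rm, rm_rm]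
  obtain ⟨y0, hy0, -⟩ := TopCat.Sheaf.existsUnique_gluing'
    (⟨N.val.presheaf, N.isSheaf⟩ : TopCat.Sheaf AddCommGrpCat.{u} (TopCat.of T)) W (V ⊓ U)
    (fun p => homOfLE (hW p)) (fun p hp => Opens.mem_iSup.2 ⟨⟨p, hp⟩, hpW ⟨p, hp⟩⟩)
    (fun p => (comb t (hWU p) (a p) : sc N.val (W p))) (by exact compat)
  have hy0 : ∀ p, rm N (hW p) y0 = comb t (hWU p) (a p) := hy0
  obtain ⟨y, rfl⟩ := (hN V).2 y0
  refine ⟨y, fun W' hW'V hW'U b hb => eq_of_local fun p hp => ?_⟩
  let q : ↥(V ⊓ U) := ⟨p, hW'V hp, hW'U hp⟩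
  refine ⟨W' ⊓ W q, inf_le_left, ⟨hp, hpW q⟩, ?_⟩
  rw [rm_rm, rm_comb, show rm N ((inf_le_left : W' ⊓ W q ≤ W').trans hW'V) y =
    rm N (inf_le_right : W' ⊓ W q ≤ W q) (rm N (hW q) (rm N inf_le_left y)) by rw [rm_rm, rm_rm], hy0, rm_comb]
  refine comb_congr P t ht _ ?_
  rw [← rm_comb P.s (hWU q), ← rm_comb P.s hW'U, ← hb, ← ha', rm_rm, rm_rm]

/-- The value of the morphism sending the generators to given sections. -/
noncomputable def val {V : Opens T} (x : sc M.val V) : sc N.val V :=
  (exists_isVal P hN t ht x).choose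

theorem val_spec {V : Opens T} (x : sc M.val V) : IsVal P t x (val P hN t ht x) :=
  (exists_isVal P hN t ht x).choose_spec

theorem val_rm {V V' : Opens T} (e : V' ≤ V) (x : sc M.val V) :
    val P hN t ht (rm M e x) = rm N e (val P hN t ht x) :=
  isVal_unique P hN t (val_spec P hN t ht (rm M e x)) fun W hWV hWU a h => by
    rw [rm_rm]
    exact val_spec P hN t ht x W _ _ a ((rm_rm M _ _ x).symm.trans h)

theorem val_add {V : Opens T} (x x' : sc M.val V) :
    val P hN t ht (x + x') = val P hN t ht x + val P hN t ht x' :=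
  isVal_unique P hN t (val_spec P hN t ht (x + x')) fun W hWV hWU a e => by
    refine eq_of_local fun p hp => ?_
    obtain ⟨W', hW', hpW', b, hb⟩ := P.gen W hWU (rm M hWV x) p hp
    refine ⟨W', hW', hpW', ?_⟩
    have hxb : rm M (hW'.trans hWV) x = comb P.s (hW'.trans hWU) b := (rm_rm M _ _ x).symm.trans hb
    have hx'b : rm M (hW'.trans hWV) x' = comb P.s (hW'.trans hWU) ((fun i => rr hW' (a i)) - b) := by
      have e' := congrArg (rm M hW') e
      rw [map_add, map_add, rm_rm, rm_rm, hxb, rm_comb] at e'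
      simp only [comb, Pi.sub_apply, sub_smul, Finset.sum_sub_distrib] at e' ⊢
      exact eq_sub_of_add_eq' e'
    rw [map_add, map_add, rm_rm, rm_rm, rm_comb,
      val_spec P hN t ht x W' _ _ b hxb, val_spec P hN t ht x' W' _ _ _ hx'b]
    simp only [comb, Pi.sub_apply, sub_smul, Finset.sum_sub_distrib]
    exact add_sub_cancel _ _

theorem val_smul {V : Opens T} (c : rsec O V) (x : sc M.val V) :
    val P hN t ht (c • x) = c • val P hN t ht x :=
  isVal_unique P hN t (val_spec P hN t ht (c • x)) fun W hWV hWU a e => by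
    refine eq_of_local fun p hp => ?_
    obtain ⟨W', hW', hpW', b, hb⟩ := P.gen W hWU (rm M hWV x) p hp
    refine ⟨W', hW', hpW', ?_⟩
    have hxb : rm M (hW'.trans hWV) x = comb P.s (hW'.trans hWU) b := (rm_rm M _ _ x).symm.trans hb
    have hs : comb P.s (hW'.trans hWU) (fun i => rr hW' (a i)) =
        comb P.s (hW'.trans hWU) (fun i => rr (hW'.trans hWV) c * b i) := by
      have e' := congrArg (rm M hW') e
      rw [rm_rm, rm_comb] at e'
      refine e'.symm.trans ((rm_smul M (hW'.trans hWV) c x).trans ?_)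
      rw [hxb, comb, Finset.smul_sum]
      exact Finset.sum_congr rfl fun i _ => (mul_smul _ _ _).symm
    rw [rm_rm, rm_comb, comb_congr P t ht _ hs, rm_smul, val_spec P hN t ht x W' _ _ b hxb, comb, comb,
      Finset.smul_sum]
    exact Finset.sum_congr rfl fun i _ => (mul_smul _ _ _).symm

/-- The morphism sending the generators to given sections. -/
noncomputable def extHom : M ⟶ N :=
  ⟨PresheafOfModules.homMk
    { app := fun V => AddCommGrpCat.ofHom (AddMonoidHom.mk'
        (fun x => val P hN t ht (V := V.unop) x) (val_add P hN t ht))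
      naturality := fun V V' i => by
        ext x
        exact val_rm P hN t ht i.unop.le x }
    fun V c x => val_smul P hN t ht c x⟩

theorem extHom_s (i : Fin n) : apm (extHom P hN t ht).val U (P.s i) = t i := by
  classical
  have key : comb P.s (le_refl U) (fun l => if l = i then 1 else 0) = P.s i ∧
      comb t (le_refl U) (fun l => if l = i then 1 else 0) = t i := by
    simp [comb, rm_self]
  have h := val_spec P hN t ht (P.s i) U le_rfl le_rfl _
    ((rm_self M _).trans key.1.symm)
  rw [rm_self] at h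
  exact h.trans key.2

include hN ht in
/-- There is exactly one morphism with given values on the generators. -/
theorem existsUnique_hom : ∃! φ : M ⟶ N, ∀ i, apm φ.val U (P.s i) = t i :=
  ⟨extHom P hN t ht, extHom_s P hN t ht,
    fun _ hφ => hom_ext_gen P.toGenData hN fun i => (hφ i).trans (extHom_s P hN t ht i).symm⟩

end Ext

end Groth.AdicLinTop.SpaceGlue
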