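import Groth.Agent.AdicLinTop.CompletionMap
import Groth.Agent.S4347
import Groth.Agent.Calg1.Completion
import Groth.Agent.S3869
import Mathlib.RingTheory.Flat.EquationalCriterion
import Mathlib.RingTheory.Flat.FaithfullyFlat.Algebra

/-!
Flatness and Noetherianness of the stalk ring of a formal spectrum.
-/

universe u

namespace Groth.AdicLinTop.StalkFlat

/-- A ring is flat over a subring covered by images of flat maps. -/
theorem flat_subring {C : Type u} [CommRing C] (R : Subring C)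
    (h : ∀ (l : ℕ) (r : Fin l → R), ∃ (B : Type u) (_ : CommRing B) (φ : B →+* C),
      φ.Flat ∧ (∀ x, φ x ∈ R) ∧ ∃ y : Fin l → B, ∀ i, φ (y i) = r i) :
    Module.Flat R C := by
  refine Module.Flat.iff_forall_isTrivialRelation.mpr fun {l r c} hrc => ?_
  obtain ⟨B, _, φ, hflat, hR, y, hy⟩ := h l r
  letI := φ.toAlgebra
  haveI : Module.Flat B C := hflat
  have hrc' : ∑ i, y i • c i = 0 := by
    rw [← hrc]
    refine Finset.sum_congr rfl fun i _ => ?_
    show φ (y i) * c i = (r i : C) * c i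
    rw [hy]
  obtain ⟨k, a, z, hz, ha⟩ := Module.Flat.isTrivialRelation_of_sum_smul_eq_zero (R := B) (M := C) hrc'
  refine ⟨k, fun i j => ⟨φ (a i j), hR _⟩, z, fun i => hz i, fun j => Subtype.ext ?_⟩
  have h' := congrArg φ (ha j)
  rw [map_sum, map_zero] at h'
  simp only [map_mul, hy] at h'
  simpa using h'

variable (A : Type u) [CommRing A] [IsNoetherianRing A] (J 𝔭 : Ideal A) [𝔭.IsPrime]

theorem flat_cAwayToAtPrime (f : A) (hf : f ∉ 𝔭) : (FSch.cAwayToAtPrime A J 𝔭 f hf).Flat :=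
  Groth.Agent.S4347.result A J (Submonoid.powers f) 𝔭.primeCompl
    ((Submonoid.powers_le (P := 𝔭.primeCompl)).mpr hf) _
    (CompletionMap.awayToAtPrime_comp A 𝔭 f hf) (FSch.map_awayToAtPrime_le A J 𝔭 f hf)

theorem exists_common {l : ℕ} (r : Fin l → FSch.stalkSubring A J 𝔭) :
    ∃ (f : A) (hf : f ∉ 𝔭) (y : Fin l → FSch.cAway A J f),
      ∀ i, FSch.cAwayToAtPrime A J 𝔭 f hf (y i) = (r i : FSch.cAtPrime A J 𝔭) := by
  classical
  choose f hf y hy using fun i => (CompletionMap.mem_stalkSubring_iff A J 𝔭).mp (r i).2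
  have hprod : ∏ i, f i ∉ 𝔭 := fun h => by
    obtain ⟨i, -, hi⟩ := (Ideal.IsPrime.prod_mem_iff).mp h
    exact hf i hi
  choose τ hτ _ _ using fun i => CompletionMap.exists_transition A J 𝔭 (f i) (∏ i, f i) (hf i) hprod
    (Finset.dvd_prod_of_mem f (Finset.mem_univ i))
  exact ⟨∏ i, f i, hprod, fun i => τ i (y i), fun i => (RingHom.congr_fun (hτ i) (y i)).trans (hy i)⟩

theorem flat_stalk : Module.Flat (FSch.stalkSubring A J 𝔭) (FSch.cAtPrime A J 𝔭) := by
  refine flat_subring _ fun l r => ?_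
  obtain ⟨f, hf, y, hy⟩ := exists_common A J 𝔭 r
  exact ⟨FSch.cAway A J f, inferInstance, FSch.cAwayToAtPrime A J 𝔭 f hf,
    flat_cAwayToAtPrime A J 𝔭 f hf,
    fun x => (CompletionMap.mem_stalkSubring_iff A J 𝔭).mpr ⟨f, hf, x, rfl⟩, y, hy⟩

theorem faithfullyFlat_stalk (hJ : J ≤ 𝔭) :
    Module.FaithfullyFlat (FSch.stalkSubring A J 𝔭) (FSch.cAtPrime A J 𝔭) := by
  haveI := flat_stalk A J 𝔭
  haveI : IsLocalRing (FSch.cAtPrime A J 𝔭) :=
    CompletionMap.isLocalRing _ (CompletionMap.map_ne_top A J 𝔭 hJ)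
  obtain ⟨h1, h2⟩ := Groth.Agent.S3869.result A J 𝔭 hJ
  haveI := h1
  haveI : IsLocalHom (algebraMap (FSch.stalkSubring A J 𝔭) (FSch.cAtPrime A J 𝔭)) := h2
  exact Module.FaithfullyFlat.of_flat_of_isLocalHom

theorem isNoetherianRing_cAtPrime : IsNoetherianRing (FSch.cAtPrime A J 𝔭) := by
  haveI : IsNoetherianRing (Localization.AtPrime 𝔭) :=
    IsLocalization.isNoetherianRing 𝔭.primeCompl _ inferInstance
  exact Groth.Calg1.isNoetherianRing_adicCompletion _ (IsNoetherian.noetherian _)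

theorem isNoetherianRing_stalk (hJ : J ≤ 𝔭) : IsNoetherianRing (FSch.stalkSubring A J 𝔭) := by
  haveI := faithfullyFlat_stalk A J 𝔭 hJ
  rw [isNoetherianRing_iff, isNoetherian_iff']
  have : WellFoundedGT (Ideal (FSch.cAtPrime A J 𝔭)) :=
    isNoetherian_iff'.mp (isNoetherianRing_iff.mp (isNoetherianRing_cAtPrime A J 𝔭))
  have hmono : StrictMono (fun I : Ideal (FSch.stalkSubring A J 𝔭) =>
      I.map (algebraMap (FSch.stalkSubring A J 𝔭) (FSch.cAtPrime A J 𝔭))) := fun I J h =>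
    lt_of_le_of_ne (Ideal.map_mono h.le) fun e => h.ne (Ideal.map_injective_of_faithfullyFlat e)
  exact hmono.wellFoundedGT

end Groth.AdicLinTop.StalkFlat
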