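import Groth.Prelude.Def_W4stk3formalspacesTaut
import Groth.Agent.AdicLinTop.Basic
import Mathlib.Topology.DenseEmbedding

/-!
Closures of extended ideals, taut maps, weakly pre-adic rings, completions.
-/

set_option autoImplicit false

open Filter Topology

namespace Groth.AdicLinTop

section closure

variable {A : Type*} [CommRing A] [TopologicalSpace A] [IsTopologicalRing A]
variable {B : Type*} [CommRing B] [TopologicalSpace B] [IsTopologicalRing B]

theorem le_closure (I : Ideal A) : I ≤ I.closure := fun _ hx => subset_closure hx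

theorem closure_le_of_isOpen {I U : Ideal A} (hU : IsOpen (U : Set A)) (h : I ≤ U) :
    I.closure ≤ U := closure_minimal h (isClosed_of_isOpen hU)

theorem closure_mono {I J : Ideal A} (h : I ≤ J) : I.closure ≤ J.closure :=
  _root_.closure_mono (SetLike.coe_subset_coe.mpr h)

theorem closure_closure_ideal (I : Ideal A) : I.closure.closure = I.closure :=
  Ideal.closure_eq_of_isClosed _ (by simp)

theorem closure_mul_le (I J : Ideal A) : I.closure * J.closure ≤ (I * J).closure :=
  Ideal.mul_le.mpr fun _ hx _ hy =>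
    map_mem_closure₂ continuous_mul hx hy fun _ ha _ hb => Ideal.mul_mem_mul ha hb

theorem closure_pow_le (I : Ideal A) (n : ℕ) : I.closure ^ n ≤ (I ^ n).closure := by
  induction n with
  | zero => simpa using le_closure (⊤ : Ideal A)
  | succ k ih =>
    rw [pow_succ, pow_succ]
    exact (Ideal.mul_mono_left ih).trans (closure_mul_le _ _)

theorem map_closure_le {φ : A →+* B} (hφ : Continuous φ) (I : Ideal A) :
    I.closure.map φ ≤ (I.map φ).closure :=
  Ideal.map_le_iff_le_comap.mpr fun _ hx =>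
    map_mem_closure hφ hx fun _ ha => Ideal.mem_map_of_mem φ ha

theorem closure_map_closure {φ : A →+* B} (hφ : Continuous φ) (I : Ideal A) :
    (I.closure.map φ).closure = (I.map φ).closure := by
  apply le_antisymm
  · rw [← closure_closure_ideal (I.map φ)]
    exact closure_mono (map_closure_le hφ I)
  · exact closure_mono (Ideal.map_mono (le_closure I))

theorem isOpen_comap {φ : A →+* B} (hφ : Continuous φ) {J : Ideal B} (hJ : IsOpen (J : Set B)) :
    IsOpen ((J.comap φ : Ideal A) : Set A) :=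
  hJ.preimage hφ

/-- For dense image, the closure of the image of an ideal is the closure of the extended ideal. -/
theorem closure_map_eq_closure_image {φ : A →+* B} (hd : DenseRange φ)
    (I : Ideal A) : closure ((I.map φ : Ideal B) : Set B) = closure (φ '' (I : Set A)) := by
  refine subset_antisymm (closure_minimal ?_ isClosed_closure)
    (_root_.closure_mono fun _ ⟨a, ha, h⟩ => h ▸ Ideal.mem_map_of_mem φ ha)
  intro x hx
  rw [SetLike.mem_coe, Ideal.map, Ideal.span] at hx
  induction hx using Submodule.span_induction with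
  | mem y hy => exact subset_closure hy
  | zero => exact subset_closure ⟨0, I.zero_mem, map_zero φ⟩
  | add y z _ _ hy hz =>
    refine map_mem_closure₂ continuous_add hy hz ?_
    rintro _ ⟨a, ha, rfl⟩ _ ⟨b, hb, rfl⟩
    exact ⟨a + b, I.add_mem ha hb, map_add φ a b⟩
  | smul b y _ hy =>
    refine map_mem_closure₂ continuous_mul (hd b) hy ?_
    rintro _ ⟨r, rfl⟩ _ ⟨a, ha, rfl⟩
    exact ⟨r * a, I.mul_mem_left r ha, map_mul φ r a⟩

end closure

section approx

variable {B : Type*} [CommRing B] [UniformSpace B] [IsUniformAddGroup B] [IsTopologicalRing B]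
  [IsLinearTopology B B] [CompleteSpace B] [T2Space B]

/-- Successive approximation: if `L k ≤ K k * N ⊔ L (k+1)` with `L k`, `K k` tending to zero and
`N` finitely generated, then `L 0 ≤ N`. -/
theorem le_of_approx {N : Ideal B} (hN : N.FG) {K L : ℕ → Ideal B}
    (hK : ∀ U ∈ 𝓝 (0 : B), ∃ m, ∀ k, m ≤ k → (K k : Set B) ⊆ U)
    (hL : ∀ U ∈ 𝓝 (0 : B), ∃ m, ∀ k, m ≤ k → (L k : Set B) ⊆ U)
    (hstep : ∀ k, L k ≤ K k * N ⊔ L (k + 1)) : L 0 ≤ N := by
  intro x hx
  have step : ∀ k, ∀ z : L k, ∃ z' : L (k + 1), (z : B) - z' ∈ K k * N := by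
    intro k z
    obtain ⟨a, ha, b, hb, hab⟩ := Submodule.mem_sup.mp (hstep k z.2)
    exact ⟨⟨b, hb⟩, by rw [← hab]; simpa using ha⟩
  choose f hf using step
  obtain ⟨g, hg0, hgL, hgy⟩ : ∃ g : ℕ → B, g 0 = x ∧ (∀ k, g k ∈ L k) ∧
      ∀ k, g k - g (k + 1) ∈ K k * N :=
    ⟨fun k => Subtype.val (Nat.rec (motive := fun k => L k) ⟨x, hx⟩ f k), rfl,
      fun k => SetLike.coe_mem _, fun k => hf k _⟩
  have ht : Tendsto g atTop (𝓝 0) := by
    refine tendsto_def.mpr fun U hU => ?_
    obtain ⟨m, hm⟩ := hL U hU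
    exact mem_atTop_sets.mpr ⟨m, fun k hk => hm k hk (hgL k)⟩
  have hs : Summable (fun k => g k - g (k + 1)) := by
    refine summable_of_tendsto_zero (tendsto_def.mpr fun U hU => ?_)
    obtain ⟨m, hm⟩ := hK U hU
    exact mem_atTop_sets.mpr ⟨m, fun k hk => hm k hk (Ideal.mul_le_left (hgy k))⟩
  refine mem_of_hasSum hN hK hgy ((hs.hasSum_iff_tendsto_nat).mpr ?_)
  simp_rw [Finset.sum_range_sub' g]
  simpa [hg0] using ht.const_sub (g 0)

/-- A finitely generated ideal with open closures of powers forming a basis defines the topology. -/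
theorem isAdic_of_fg {I : Ideal B} (hfg : I.FG)
    (hopen : ∀ n : ℕ, IsOpen (closure ((I ^ n : Ideal B) : Set B)))
    (hbasis : ∀ U ∈ 𝓝 (0 : B), ∃ n : ℕ, closure ((I ^ n : Ideal B) : Set B) ⊆ U) :
    IsAdic I := by
  have key : ∀ n, (I ^ n).closure ≤ I ^ n := by
    intro n
    refine le_of_eq_of_le (by simp) (le_of_approx (Ideal.FG.pow hfg : (I ^ n).FG)
      (K := fun k => I ^ k) (L := fun k => (I ^ (n + k)).closure) ?_ ?_ ?_)
    · intro U hU
      obtain ⟨m, hm⟩ := hbasis U hU
      exact ⟨m, fun k hk x hx => hm (subset_closure (Ideal.pow_le_pow_right hk hx))⟩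
    · intro U hU
      obtain ⟨m, hm⟩ := hbasis U hU
      exact ⟨m, fun k hk x hx =>
        hm (closure_mono (Ideal.pow_le_pow_right (hk.trans (Nat.le_add_left k n))) hx)⟩
    · intro k x hx
      rw [← pow_add, add_comm k n]
      have := mem_closure_iff.mp hx ((I ^ (n + (k + 1))).closure) (hopen _)
      exact this
  rw [isAdic_iff]
  refine ⟨fun n => ?_, fun s hs => ?_⟩
  · have h := hopen n
    rwa [← Ideal.coe_closure, le_antisymm (key n) (le_closure _)] at h
  · obtain ⟨n, hn⟩ := hbasis s hs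
    exact ⟨n, subset_closure.trans hn⟩

end approx

section taut

variable {A : Type*} [CommRing A] [TopologicalSpace A] [IsTopologicalRing A]
variable {B : Type*} [CommRing B] [TopologicalSpace B] [IsTopologicalRing B]

theorem isTaut_mk [IsLinearTopology B B] {φ : A →+* B} (hφ : Continuous φ)
    (h : ∀ I : Ideal A, IsOpen (I : Set A) → IsOpen (closure ((I.map φ : Ideal B) : Set B))) :
    LinTop.IsTaut φ := by
  refine ⟨hφ, h, fun U hU => ?_⟩
  obtain ⟨W, hW, hWU⟩ := exists_open_ideal_subset hU
  exact ⟨W.comap φ, isOpen_comap hφ hW,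
    (closure_le_of_isOpen hW Ideal.map_comap_le : (W.comap φ |>.map φ).closure ≤ W) |>
      fun h => (SetLike.coe_subset_coe.mpr h).trans hWU⟩

omit [IsTopologicalRing A] in
theorem topNilp_of_forall_open [IsLinearTopology A A] {x : A} [IsTopologicalRing A]
    (h : ∀ U : Ideal A, IsOpen (U : Set A) → ∀ᶠ n in atTop, x ^ n ∈ U) :
    IsTopologicallyNilpotent x := by
  refine tendsto_def.mpr fun s hs => ?_
  obtain ⟨U, hU, hUs⟩ := exists_open_ideal_subset hs
  exact (h U hU).mono fun n hn => hUs hn

theorem isClosed_topologicalNilradical [IsLinearTopology A A] :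
    IsClosed ((topologicalNilradical A : Ideal A) : Set A) := by
  refine isClosed_of_closure_subset fun x hx => ?_
  refine topNilp_of_forall_open fun U hU => ?_
  obtain ⟨a, ha, b, hb, rfl⟩ := Submodule.mem_sup.mp (mem_closure_iff.mp hx U hU)
  filter_upwards [(show IsTopologicallyNilpotent a from ha).eventually_mem (hU.mem_nhds U.zero_mem)]
    with n hn
  rw [SetLike.mem_coe, ← Ideal.Quotient.eq_zero_iff_mem] at hn
  rw [← Ideal.Quotient.eq_zero_iff_mem] at hb ⊢
  rwa [map_pow, map_add, hb, add_zero, ← map_pow]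

theorem topNilp_of_mem_closure_map [IsLinearTopology B B] {φ : A →+* B} (hφ : Continuous φ)
    {I : Ideal A} (hI : ∀ f ∈ I, IsTopologicallyNilpotent f) {g : B} (hg : g ∈ (I.map φ).closure) :
    IsTopologicallyNilpotent g := by
  have h : I.map φ ≤ topologicalNilradical B :=
    Ideal.map_le_iff_le_comap.mpr fun f hf => IsTopologicallyNilpotent.map hφ (hI f hf)
  exact closure_minimal (SetLike.coe_subset_coe.mpr h) isClosed_topologicalNilradical hg

theorem weakIdd_closure_map [IsLinearTopology B B] {φ : A →+* B} (hφ : LinTop.IsTaut φ)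
    {I : Ideal A} (hI : LinTop.IsWeakIdealOfDefinition A I) :
    LinTop.IsWeakIdealOfDefinition B (I.map φ).closure :=
  ⟨hφ.2.1 I hI.1, fun _ hg => topNilp_of_mem_closure_map hφ.1 hI.2 hg⟩

theorem idd_closure_map {φ : A →+* B} (hφ : LinTop.IsTaut φ) {I : Ideal A}
    (hI : LinTop.IsIdealOfDefinition A I) :
    LinTop.IsIdealOfDefinition B (I.map φ).closure := by
  refine ⟨hφ.2.1 I hI.1, fun U hU => ?_⟩
  obtain ⟨I', hI', hU'⟩ := hφ.2.2 U hU
  obtain ⟨n, hn, hle⟩ := exists_pow_le hI hI'
  refine ⟨n, hn, fun x hx => hU' ?_⟩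
  have := closure_pow_le (I.map φ) n hx
  rw [← Ideal.map_pow] at this
  exact closure_mono (Ideal.map_mono hle) this

/-- Weak pre-adicness transports along taut maps. -/
theorem weaklyPreadic_map [IsLinearTopology B B] {φ : A →+* B} (hφ : LinTop.IsTaut φ)
    (I : Ideal A) (hopen : ∀ n : ℕ, IsOpen (closure ((I ^ n : Ideal A) : Set A)))
    (hbasis : ∀ U ∈ 𝓝 (0 : A), ∃ n : ℕ, closure ((I ^ n : Ideal A) : Set A) ⊆ U) :
    LinTop.IsWeaklyPreadic B := by
  refine ⟨‹_›, I.map φ, fun n => ?_, fun U hU => ?_⟩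
  · rw [← Ideal.coe_closure, ← Ideal.map_pow, ← closure_map_closure hφ.1]
    exact hφ.2.1 (I ^ n).closure (hopen n)
  · obtain ⟨W, hW, hWU⟩ := exists_open_ideal_subset hU
    obtain ⟨n, hn⟩ := hbasis _ ((isOpen_comap hφ.1 hW).mem_nhds (W.comap φ).zero_mem)
    refine ⟨n, (SetLike.coe_subset_coe.mpr (closure_le_of_isOpen hW ?_) :
      ((I.map φ ^ n).closure : Set B) ⊆ W).trans hWU⟩
    rw [← Ideal.map_pow]
    exact Ideal.map_le_iff_le_comap.mpr fun x hx => hn (subset_closure hx)

omit [IsTopologicalRing A] in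
theorem isLinearTopology_of_isAdic {I : Ideal A} (hI : IsAdic I) : IsLinearTopology A A :=
  IsLinearTopology.mk_of_hasBasis _ hI.hasBasis_nhds_zero

/-- Basic consequences of weak pre-adicness. -/
theorem idd_closure_of_weaklyPreadic {I : Ideal A}
    (hopen : ∀ n : ℕ, IsOpen (closure ((I ^ n : Ideal A) : Set A)))
    (hbasis : ∀ U ∈ 𝓝 (0 : A), ∃ n : ℕ, closure ((I ^ n : Ideal A) : Set A) ⊆ U) :
    LinTop.IsIdealOfDefinition A I.closure := by
  refine ⟨by simpa using hopen 1, fun U hU => ?_⟩
  obtain ⟨n, hn⟩ := hbasis U hU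
  exact ⟨n + 1, n.succ_pos, fun x hx =>
    hn (closure_mono (Ideal.pow_le_pow_right n.le_succ) (closure_pow_le I (n + 1) hx))⟩

theorem isOpen_closure_pow_of_idd {I : Ideal A}
    (hopen : ∀ n : ℕ, IsOpen (closure ((I ^ n : Ideal A) : Set A)))
    (hbasis : ∀ U ∈ 𝓝 (0 : A), ∃ n : ℕ, closure ((I ^ n : Ideal A) : Set A) ⊆ U)
    {J : Ideal A} (hJ : LinTop.IsIdealOfDefinition A J) (n : ℕ) :
    IsOpen (closure ((J ^ n : Ideal A) : Set A)) := by
  obtain ⟨m, hm⟩ := hbasis _ (hJ.1.mem_nhds J.zero_mem)
  refine isOpen_of_le (J := (J ^ n).closure) (I := (I ^ (m * n)).closure) (hopen _) (closure_mono ?_)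
  rw [pow_mul]
  exact Ideal.pow_right_mono (fun x hx => hm (subset_closure hx)) n

end taut

section ffdescent

variable {A : Type*} [CommRing A] [TopologicalSpace A] [IsTopologicalRing A]
variable {B : Type*} [CommRing B] [TopologicalSpace B] [IsTopologicalRing B]

omit [IsTopologicalRing A] in
theorem mem_of_map_mem {φ : A →+* B} (hφ : LinTop.IsTautFFlat φ) {I : Ideal A}
    (hI : IsOpen (I : Set A)) {x : A} (hx : φ x ∈ (I.map φ).closure) : x ∈ I := by
  have h := RingHom.FaithfullyFlat.injective (hφ.2 I hI)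
  rw [← Ideal.Quotient.eq_zero_iff_mem]
  apply h
  rw [map_zero, LinTop.descentMap, Ideal.quotientMap_mk, Ideal.Quotient.eq_zero_iff_mem]
  exact hx

theorem isTautFFlat_idd {φ : A →+* B} (hφ : LinTop.IsTautFFlat φ)
    [IsLinearTopology A A] {J : Ideal B} (hJ : LinTop.IsIdealOfDefinition B J) :
    LinTop.IsIdealOfDefinition A (J.comap φ) := by
  refine ⟨isOpen_comap hφ.1.1 hJ.1, fun U hU => ?_⟩
  obtain ⟨W, hW, hWU⟩ := exists_open_ideal_subset hU
  obtain ⟨n, hn, hle⟩ := exists_pow_le hJ (U := (W.map φ).closure) (hφ.1.2.1 W hW)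
  exact ⟨n, hn, fun x hx => hWU (mem_of_map_mem hφ hW (hle (Ideal.le_comap_pow φ n hx)))⟩

end ffdescent

section completion

open UniformSpace

variable (A : Type*) [CommRing A] [UniformSpace A] [IsUniformAddGroup A] [IsTopologicalRing A]
  [IsLinearTopology A A]

theorem hasBasis_completion :
    (𝓝 (0 : Completion A)).HasBasis (fun I : Ideal A => IsOpen (I : Set A))
      (fun I => ((I.map (Completion.coeRingHom : A →+* Completion A)).closure :
        Set (Completion A))) := by
  have h := (IsLinearTopology.hasBasis_open_submodule (R := A) (M := A)).hasBasis_of_isDenseInducing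
    (Completion.isDenseInducing_coe (α := A))
  rw [Completion.coe_zero] at h
  refine h.congr (fun I => Iff.rfl) fun I _ => ?_
  rw [Ideal.coe_closure]
  exact (closure_map_eq_closure_image (φ := (Completion.coeRingHom : A →+* Completion A))
    Completion.denseRange_coe I).symm

theorem isLinearTopology_completion : IsLinearTopology (Completion A) (Completion A) :=
  IsLinearTopology.mk_of_hasBasis _ (hasBasis_completion A)

theorem isTaut_coe :
    LinTop.IsTaut (Completion.coeRingHom : A →+* Completion A) := by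
  haveI := isLinearTopology_completion A
  refine isTaut_mk Completion.continuous_coeRingHom fun I hI => ?_
  exact isOpen_of_mem_nhds (I := (I.map Completion.coeRingHom).closure)
    ((hasBasis_completion A).mem_of_mem hI)

end completion

end Groth.AdicLinTop
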