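import Groth.Agent.QCohMod.SupportPullback
import Groth.Agent.QCohMod.Coherent
import Groth.Agent.LocFree.Rank
import Groth.Agent.LocFree.FP
import Groth.Agent.PropsBasic.LocFree
import Groth.Agent.Ega4Algebra2.RegularImmersion
import Mathlib.RingTheory.Filtration

/-!
# Local freeness detected on thickenings
-/

set_option autoImplicit false
set_option linter.style.haveILetI false

universe u

open CategoryTheory Limits AlgebraicGeometry Opposite TopologicalSpace TensorProduct

namespace Groth.AdicLinTop.ThickeningFree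

/-- A finite module over a Noetherian local ring which is free of rank `r` modulo ideals shrinking to
zero is free of rank `r`. -/
theorem nonempty_basis_of_quotients {O : Type u} [CommRing O] [IsLocalRing O] [IsNoetherianRing O]
    {G : Type u} [AddCommGroup G] [Module O G] [Module.Finite O G] (r : ℕ)
    (B : ℕ → Type u) [∀ n, CommRing (B n)] [∀ n, IsLocalRing (B n)] [∀ n, Algebra O (B n)]
    (hsurj : ∀ n, Function.Surjective (algebraMap O (B n)))
    (hker : ∀ n, RingHom.ker (algebraMap O (B n)) ≤ IsLocalRing.maximalIdeal O ^ (n + 1))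
    (hb : ∀ n, Nonempty (Module.Basis (Fin r) (B n) (B n ⊗[O] G))) :
    Nonempty (Module.Basis (Fin r) O G) := by
  have hloc : ∀ n, IsLocalHom (algebraMap O (B n)) := fun n =>
    .of_surjective _ (hsurj n)
  have hmk : ∀ n (t : B n ⊗[O] G), ∃ m : G, (1 : B n) ⊗ₜ m = t := fun n =>
    TensorProduct.mk_surjective O G (B n) (hsurj n)
  obtain ⟨b₀⟩ := hb 0
  choose g hg using fun j => hmk 0 (b₀ j)
  have hspan : Submodule.span O (Set.range g) = ⊤ := by
    refine Submodule.Quotient.subsingleton_iff.1 ?_
    have := hloc 0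
    refine Groth.QCohMod.subsingleton_of_tensor_localHom (A := O) (B := B 0)
      (M := G ⧸ Submodule.span O (Set.range g)) ⟨fun p q => ?_⟩
    suffices H : ∀ p : B 0 ⊗[O] (G ⧸ Submodule.span O (Set.range g)), p = 0 by rw [H p, H q]
    intro p
    obtain ⟨q, rfl⟩ := TensorProduct.mk_surjective O _ (B 0) (hsurj 0) p
    obtain ⟨m, rfl⟩ := Submodule.Quotient.mk_surjective _ q
    let L := (Submodule.span O (Set.range g)).mkQ.baseChange (B 0)
    show L ((1 : B 0) ⊗ₜ m) = 0
    rw [← b₀.sum_repr ((1 : B 0) ⊗ₜ m), map_sum]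
    refine Finset.sum_eq_zero fun j _ => ?_
    rw [map_smul, ← hg j, LinearMap.baseChange_tmul, Submodule.mkQ_apply,
      (Submodule.Quotient.mk_eq_zero (Submodule.span O (Set.range g))).2
        (Submodule.subset_span (Set.mem_range_self j)), tmul_zero, smul_zero]
  have hli : LinearIndependent O g := by
    rw [Fintype.linearIndependent_iff]
    intro c hc j
    have h0 : c j ∈ ⨅ n : ℕ, IsLocalRing.maximalIdeal O ^ n := by
      refine (Submodule.mem_iInf _).2 fun k => ?_
      rcases k with _ | n
      · simp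
      refine hker n ?_
      obtain ⟨b⟩ := hb n
      let v : Fin r → B n ⊗[O] G := fun i => (1 : B n) ⊗ₜ g i
      let f : B n ⊗[O] G →ₗ[B n] B n ⊗[O] G := b.constr (B n) v
      have hf : Function.Surjective f := by
        intro t
        obtain ⟨m, rfl⟩ := hmk n t
        have hm : m ∈ Submodule.span O (Set.range g) := hspan ▸ trivial
        obtain ⟨d, rfl⟩ := (Submodule.mem_span_range_iff_exists_fun O).1 hm
        refine ⟨∑ i, algebraMap O (B n) (d i) • b i, ?_⟩
        rw [map_sum, tmul_sum]
        refine Finset.sum_congr rfl fun i _ => ?_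
        rw [map_smul, Module.Basis.constr_basis, algebraMap_smul, tmul_smul]
      have : Module.Finite (B n) (B n ⊗[O] G) := .of_basis b
      have hinj := OrzechProperty.injective_of_surjective_endomorphism f hf
      have h1 : ∑ i, algebraMap O (B n) (c i) • b i = 0 := by
        refine hinj ?_
        rw [map_zero, map_sum]
        calc ∑ i, f (algebraMap O (B n) (c i) • b i) = ∑ i, (1 : B n) ⊗ₜ[O] (c i • g i) :=
              Finset.sum_congr rfl fun i _ => by
                rw [map_smul, Module.Basis.constr_basis, algebraMap_smul, tmul_smul]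
          _ = 0 := by rw [← tmul_sum, hc, tmul_zero]
      exact Fintype.linearIndependent_iff.1 b.linearIndependent _ h1 j
    rw [Ideal.iInf_pow_eq_bot_of_isLocalRing _ (IsLocalRing.maximalIdeal.isMaximal O).ne_top] at h0
    exact h0
  exact ⟨Module.Basis.mk hli hspan.ge⟩

variable {X : Scheme.{u}}

/-- Stalks at points of the support of a module free of rank `r` on every thickening. -/
theorem nonempty_stalk_basis [IsLocallyNoetherian X] (F : X.Modules) (hF : Coh.IsCoh F)
    (J : X.IdealSheafData) (r : ℕ)
    (h : ∀ n : ℕ, FlatMod.IsFinLocFreeOfRank r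
      ((Scheme.Modules.pullback (J ^ (n + 1)).subschemeι).obj F))
    (x : X) (hx : x ∈ J.support) :
    Nonempty (Module.Basis (Fin r) (X.presheaf.stalk x) (F.presheaf.stalk x)) := by
  have : F.IsQuasicoherent := hF.1
  have hfin := Groth.QCohMod.finite_stalk F hF.2 x
  let i := fun n => (J ^ (n + 1)).subschemeι
  have hz : ∀ n, ∃ z, i n z = x := fun n => by
    show x ∈ Set.range (J ^ (n + 1)).subschemeι
    rw [Scheme.IdealSheafData.range_subschemeι, Scheme.IdealSheafData.support_pow_succ]
    exact hx
  choose z hz using hz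
  let φ : ∀ n, X.presheaf.stalk x →+* (J ^ (n + 1)).subscheme.presheaf.stalk (z n) := fun n =>
    ((X.presheaf.stalkCongr (.of_eq (hz n).symm)).hom ≫ (i n).stalkMap (z n)).hom
  letI : ∀ n, Algebra (X.presheaf.stalk x) ((J ^ (n + 1)).subscheme.presheaf.stalk (z n)) :=
    fun n => (φ n).toAlgebra
  have key : ∀ (n : ℕ) (y : X) (hy : i n (z n) = y) (a : y ∈ J.support),
      letI := (((X.presheaf.stalkCongr (.of_eq hy.symm)).hom ≫ (i n).stalkMap (z n)).hom).toAlgebra
      Function.Surjective (algebraMap (X.presheaf.stalk y)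
          ((J ^ (n + 1)).subscheme.presheaf.stalk (z n))) ∧
      RingHom.ker (algebraMap (X.presheaf.stalk y)
          ((J ^ (n + 1)).subscheme.presheaf.stalk (z n))) ≤
        IsLocalRing.maximalIdeal (X.presheaf.stalk y) ^ (n + 1) ∧
      Nonempty (Module.Basis (Fin r) ((J ^ (n + 1)).subscheme.presheaf.stalk (z n))
        ((J ^ (n + 1)).subscheme.presheaf.stalk (z n) ⊗[X.presheaf.stalk y]
          F.presheaf.stalk y)) := by
    intro n y hy hyJ
    subst hy
    have he : (X.presheaf.stalkCongr (Inseparable.of_eq (rfl : i n (z n) = i n (z n)).symm)).hom ≫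
        (i n).stalkMap (z n) = (i n).stalkMap (z n) := by
      simp [TopCat.Presheaf.stalkCongr]
    rw [he]
    refine ⟨(i n).stalkMap_surjective (z n), ?_, ?_⟩
    · obtain ⟨U, hU, hxU⟩ := Groth.QCohMod.exists_affine_mem (i n (z n))
      refine (Groth.Ega4b.ker_stalkMap_eq_map (i n) hU (z n) hxU).trans_le ?_
      rw [Scheme.IdealSheafData.ker_subschemeι, Scheme.IdealSheafData.ideal_pow, Pi.pow_apply,
        Ideal.map_pow]
      refine Ideal.pow_right_mono ?_ _
      rw [Ideal.map_le_iff_le_comap]
      intro s hs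
      rw [Ideal.mem_comap, IsLocalRing.mem_maximalIdeal, mem_nonunits_iff]
      intro hunit
      have := (Scheme.IdealSheafData.mem_support_iff_of_mem (U := ⟨U, hU⟩) hxU).1 hyJ
      rw [Scheme.mem_zeroLocus_iff] at this
      exact this s hs ((X.mem_basicOpen s _ hxU).2 hunit)
    · let _ := Groth.QCohMod.stalkAlg (i n) (z n)
      have : ((Scheme.Modules.pullback (i n)).obj F).IsQuasicoherent :=
        Groth.KTheory.LocFree.isQCoh (Groth.LocFree.isFinLocFree_of_rank (h n))
      obtain ⟨U, s, hxU, hs⟩ := Groth.LocFree.isFinLocFreeOfRank_iff.1 (h n) (z n)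
      obtain ⟨b⟩ := Groth.LocFree.nonempty_stalk_basis hs hxU
      exact ⟨b.map (Groth.QCohMod.pullStalkEquiv (i n) F (z n)).symm⟩
  refine nonempty_basis_of_quotients r (fun n => (J ^ (n + 1)).subscheme.presheaf.stalk (z n))
    (fun n => (key n x (hz n) hx).1) (fun n => (key n x (hz n) hx).2.1)
    (fun n => (key n x (hz n) hx).2.2)

/-- A coherent module on a Noetherian scheme free of rank `r` at all closed points. -/
theorem isFinLocFreeOfRank_of_closedPoints [IsLocallyNoetherian X] [CompactSpace X]
    (F : X.Modules) (hF : Coh.IsCoh F) (r : ℕ)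
    (h : ∀ x : X, IsClosed ({x} : Set X) →
      Nonempty (Module.Basis (Fin r) (X.presheaf.stalk x) (F.presheaf.stalk x))) :
    FlatMod.IsFinLocFreeOfRank r F := by
  have : F.IsQuasicoherent := hF.1
  have hFP : CohB1.IsFP F := by
    refine Groth.LocFree.isFP_of_affine_cover F fun x => ?_
    obtain ⟨U, hU, hx⟩ := Groth.QCohMod.exists_affine_mem x
    have : IsNoetherianRing Γ(X, U) := IsLocallyNoetherian.component_noetherian ⟨U, hU⟩
    have := Groth.QCohMod.finite_sections F hF.2 hU
    exact ⟨U, hU, hx, Module.finitePresentation_of_finite _ _⟩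
  intro y
  obtain ⟨x, hxy, hx⟩ := (isClosed_closure (s := ({y} : Set X))).exists_closed_singleton
    ⟨y, subset_closure rfl⟩
  obtain ⟨b⟩ := h x hx
  obtain ⟨D, n, hxD, ⟨e⟩⟩ := Groth.PropsBasic.LocFree.exists_free_nhd F hFP x (.of_basis b)
  obtain ⟨s, hs⟩ := Groth.LocFree.exists_basis_of_iso e
  have hn : n = r := by
    rw [← Groth.LocFree.finrank_stalk_of_basis hs hxD, Module.finrank_eq_card_basis b,
      Fintype.card_fin]
  subst hn
  refine ⟨D, ?_, ⟨e⟩⟩
  exact (specializes_iff_mem_closure.2 hxy).mem_open D.2 hxD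

end Groth.AdicLinTop.ThickeningFree
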