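import Groth.Agent.AdicLinTop.TopFinHom
import Groth.Agent.AdicLinTop.ComplRing
import Groth.Agent.TopFinType.Local

/-!
# The structure sheaf of a formal spectrum of topologically finite type over a basic open
-/

set_option autoImplicit false

universe u

open CategoryTheory CategoryTheory.Limits AlgebraicGeometry TopologicalSpace Opposite

namespace Groth.AdicLinTop.TopFinBasic

open Groth.AdicLinTop.FormalReal Groth.AdicLinTop.FormalAffine Groth.AdicLinTop.ComplReal Groth.AdicLinTop.ComplSections
open Groth.AdicLinTop.TopFinHom Groth.AdicLinTop.ComplRing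
open Groth.QCohMod (resFun)

theorem finiteType_away {R S T : Type u} [CommRing R] [CommRing S] [CommRing T] (ρ : R →+* S) {J : Ideal S}
    (hρ : ((Ideal.Quotient.mk J).comp ρ).FiniteType) (g : S) {S' : Type u} [CommRing S'] [Algebra S S']
    [IsLocalization.Away g S'] (ψ : S' →+* T) (hψ : Function.Surjective ψ)
    (hJ : ∀ a ∈ J, ψ (algebraMap S S' a) = 0) : (ψ.comp ((algebraMap S S').comp ρ)).FiniteType := by
  let q : S ⧸ J →+* T := Ideal.Quotient.lift J (ψ.comp (algebraMap S S')) hJ
  have hq : q.FiniteType := by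
    letI : Algebra (S ⧸ J) T := q.toAlgebra
    refine Algebra.FiniteType.of_surjective (Polynomial.aeval (R := S ⧸ J) (ψ (IsLocalization.Away.invSelf g))) ?_
    intro t
    obtain ⟨z, rfl⟩ := hψ t
    obtain ⟨n, a, ha⟩ := IsLocalization.Away.surj g z
    refine ⟨Polynomial.C (Ideal.Quotient.mk J a) * Polynomial.X ^ n, ?_⟩
    rw [map_mul, map_pow, Polynomial.aeval_C, Polynomial.aeval_X]
    show ψ (algebraMap S S' a) * ψ (IsLocalization.Away.invSelf g) ^ n = ψ z
    rw [← map_pow, ← map_mul, ← ha, mul_assoc, ← mul_pow, IsLocalization.Away.mul_invSelf, one_pow, mul_one]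
  exact hq.comp hρ

variable {R : Type u} [CommRing R] {I : Ideal R} {A : Type u} [CommRing A] [Algebra R A]
  (h : (FSch.completionAlong (Spec (CommRingCat.of A)) (ideal I A)).IsFormal)

/-- The base ring as functions on the spectrum. -/
noncomputable abbrev base (I : Ideal R) (A : Type u) [CommRing A] [Algebra R A] :
    R →+* Γ(Spec (CommRingCat.of A), ⊤) :=
  (Scheme.ΓSpecIso (CommRingCat.of A)).inv.hom.comp (algebraMap R A)

/-- The base ring as functions on the formal spectrum over a basic open. -/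
noncomputable abbrev baseAt (g : Γ(Spec (CommRingCat.of A), ⊤)) :
    R →+* RS h (op0 (ideal I A) ((Spec (CommRingCat.of A)).basicOpen g)) :=
  (sharp h _).comp ((resFun (Spec (CommRingCat.of A)) ((Spec (CommRingCat.of A)).basicOpen_le g)).comp (base I A))

theorem ideal_top_eq : (ideal I A).ideal ⟨⊤, isAffineOpen_top _⟩ = I.map (base I A) := by
  rw [Thickenings.idealSpec_ideal_top, Ideal.map_map]

theorem map_baseAt (g : Γ(Spec (CommRingCat.of A), ⊤)) :
    I.map (baseAt h g) = defIdeal ((isAffineOpen_top _).basicOpen g) h := by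
  rw [← Ideal.map_map, ← Ideal.map_map, ← ideal_top_eq, defIdeal]
  exact congrArg (Ideal.map _) (Scheme.IdealSheafData.map_ideal (ideal I A)
    (U := ⟨_, (isAffineOpen_top _).basicOpen g⟩) (V := ⟨⊤, isAffineOpen_top _⟩) ((Spec _).basicOpen_le g))

theorem fg_basicOpen (hR : AdicRing.IsBase R I) (g : Γ(Spec (CommRingCat.of A), ⊤)) :
    ((ideal I A).ideal ⟨_, (isAffineOpen_top _).basicOpen g⟩).FG := by
  rw [← Scheme.IdealSheafData.map_ideal (ideal I A)
    (U := ⟨_, (isAffineOpen_top _).basicOpen g⟩) (V := ⟨⊤, isAffineOpen_top _⟩) ((Spec _).basicOpen_le g)]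
  exact (fg_ideal_top hR).map _

theorem finiteType_base (hR : AdicRing.IsBase R I) (hA : AdicRing.TopFiniteType R I A) :
    ((Ideal.Quotient.mk ((ideal I A).ideal ⟨⊤, isAffineOpen_top _⟩)).comp (base I A)).FiniteType := by
  have h0 : ((Ideal.Quotient.mk (I.map (algebraMap R A))).comp (algebraMap R A)).FiniteType := by
    rw [← Ideal.Quotient.algebraMap_eq, ← IsScalarTower.algebraMap_eq]
    exact RingHom.finiteType_algebraMap.2 (Groth.TopFinType.finiteType_quotient (TopFinCompl.fg_ideal hR) hA)
  let σ := (Scheme.ΓSpecIso (CommRingCat.of A)).symm.commRingCatIsoToRingEquiv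
  let e := Ideal.quotientEquiv (I.map (algebraMap R A)) ((ideal I A).ideal ⟨⊤, isAffineOpen_top _⟩) σ
    (Thickenings.idealSpec_ideal_top _)
  exact RingHom.finiteType_respectsIso.1 _ e h0

/-- The functions over a basic open form an algebra topologically of finite type. -/
theorem topFiniteType_RS (hR : AdicRing.IsBase R I) (hA : AdicRing.TopFiniteType R I A)
    (g : Γ(Spec (CommRingCat.of A), ⊤)) :
    letI := (baseAt h g).toAlgebra
    AdicRing.TopFiniteType R I (RS h (op0 (ideal I A) ((Spec (CommRingCat.of A)).basicOpen g))) := by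
  letI := (baseAt h g).toAlgebra
  have hW := (isAffineOpen_top (Spec (CommRingCat.of A))).basicOpen g
  haveI : IsAdicComplete (I.map (baseAt h g)) (RS h (op0 (ideal I A) ((Spec (CommRingCat.of A)).basicOpen g))) := by
    rw [map_baseAt h g]
    exact isAdicComplete_RS hW (fg_basicOpen hR g)
  refine Groth.Agent.S2293.result R I (TopFinCompl.fg_ideal hR) _ ?_
  refine RingHom.FiniteType.of_comp_finiteType (f := Ideal.Quotient.mk I) ?_
  show (((Ideal.quotientMap (I.map (baseAt h g)) (baseAt h g) Ideal.le_comap_map).comp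
    (Ideal.Quotient.mk I))).FiniteType
  rw [show (Ideal.quotientMap (I.map (baseAt h g)) (baseAt h g) Ideal.le_comap_map).comp (Ideal.Quotient.mk I) =
    (Ideal.Quotient.mk (I.map (baseAt h g))).comp (baseAt h g) from RingHom.ext fun r => rfl]
  haveI : IsLocalization.Away g Γ(Spec (CommRingCat.of A), (Spec (CommRingCat.of A)).basicOpen g) :=
    IsAffineOpen.isLocalization_basicOpen (isAffineOpen_top _) g
  refine finiteType_away (base I A) (finiteType_base hR hA) g
    (S' := Γ(Spec (CommRingCat.of A), (Spec (CommRingCat.of A)).basicOpen g))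
    ((Ideal.Quotient.mk (I.map (baseAt h g))).comp (sharp h _)) (fun t => ?_) (fun a ha => ?_)
  · obtain ⟨b, rfl⟩ := Ideal.Quotient.mk_surjective t
    obtain ⟨r, hr⟩ := projR_surjective (h := h) hW 0 (projR 0 _ b)
    refine ⟨r, Ideal.Quotient.eq.2 ?_⟩
    rw [map_baseAt h g, ← pow_one (defIdeal hW h), mem_defIdeal_pow hW (fg_basicOpen hR g) 0]
    exact (map_sub _ _ _).trans (sub_eq_zero.2 hr)
  · refine Ideal.Quotient.eq_zero_iff_mem.2 ?_
    rw [map_baseAt h g]
    refine Ideal.mem_map_of_mem _ ?_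
    rw [← Scheme.IdealSheafData.map_ideal (ideal I A) (U := ⟨_, hW⟩) (V := ⟨⊤, isAffineOpen_top _⟩)
      ((Spec _).basicOpen_le g)]
    exact Ideal.mem_map_of_mem _ ha

/-- Finitely generated submodules of finite free modules over such rings are closed. -/
theorem mem_of_forall_mem_sup (hR : AdicRing.IsBase R I) (hA : AdicRing.TopFiniteType R I A)
    (g : Γ(Spec (CommRingCat.of A), ⊤)) {M : Type u} [AddCommGroup M]
    [Module (RS h (op0 (ideal I A) ((Spec (CommRingCat.of A)).basicOpen g))) M]
    [Module.Finite (RS h (op0 (ideal I A) ((Spec (CommRingCat.of A)).basicOpen g))) M]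
    (N : Submodule (RS h (op0 (ideal I A) ((Spec (CommRingCat.of A)).basicOpen g))) M) {m : M}
    (hm : ∀ k, m ∈ N ⊔ defIdeal ((isAffineOpen_top _).basicOpen g) h ^ (k + 1) • ⊤) : m ∈ N := by
  letI := (baseAt h g).toAlgebra
  have hc := TopFinCompl.isAdicComplete hR (topFiniteType_RS h hR hA g) (M ⧸ N)
  rw [RingHom.algebraMap_toAlgebra, map_baseAt h g] at hc
  rw [← Submodule.Quotient.mk_eq_zero]
  refine hc.haus' _ fun k => SModEq.zero.2 ?_
  obtain ⟨a, ha, b, hb, rfl⟩ := Submodule.mem_sup.1 (hm k)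
  rw [Submodule.Quotient.mk_add, (Submodule.Quotient.mk_eq_zero N).2 ha, zero_add]
  have h1 : N.mkQ b ∈ (defIdeal ((isAffineOpen_top _).basicOpen g) h ^ (k + 1) • (⊤ : Submodule _ M)).map N.mkQ :=
    Submodule.mem_map_of_mem hb
  rw [Submodule.map_smul''] at h1
  exact Submodule.smul_mono (Ideal.pow_le_pow_right (Nat.le_succ k)) le_top h1

end Groth.AdicLinTop.TopFinBasic
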