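import Groth.Agent.AdicLinTop.FormalCoh
import Groth.Agent.PropsBasic.FPSections
import Groth.Agent.LocFree.FP

/-!
# Inverse images to the levels of finitely presented modules on an arbitrary formal system
-/

set_option autoImplicit false

universe u

open CategoryTheory CategoryTheory.Limits AlgebraicGeometry TopologicalSpace Opposite

namespace Groth.AdicLinTop.TopFinLevels

open Groth.AdicLinTop.FormalLevels Groth.AdicLinTop.FormalReal Groth.AdicLinTop.FormalAffine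
open Groth.AdicLinTop.FormalSpan Groth.AdicLinTop.FormalPull Groth.AdicLinTop.FormalCoh
open Groth.QCohMod (res resFun)

variable {𝔛 : FSch.Sys.{u}} {h : 𝔛.IsFormal} {𝔉 : FSch.ModF 𝔛 h}

/-- Affine opens carrying a presentation. -/
def Pres (𝔉 : FSch.ModF 𝔛 h) (V : (𝔛.X 0).Opens) : Prop :=
  IsAffineOpen V ∧ ∃ n m, Nonempty (SpacePres.PresData (O := 𝔛.Osh h) 𝔉 V n m)

theorem exists_pres (h𝔉 : FSch.IsCohF 𝔛 h 𝔉) (U : (𝔛.X 0).Opens) (x : 𝔛.X 0) (hx : x ∈ U) :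
    ∃ V, Pres 𝔉 V ∧ x ∈ V ∧ V ≤ U := by
  obtain ⟨W, n, m, hxW, ⟨P⟩⟩ := SpacePres.exists_presData h𝔉 x
  obtain ⟨_, ⟨V, hV, rfl⟩, hxV, hVW⟩ :=
    (𝔛.X 0).isBasis_affineOpens.exists_subset_of_mem_open (show x ∈ U ⊓ W from ⟨hx, hxW⟩) (U ⊓ W).2
  have hVW : V ≤ U ⊓ W := hVW
  exact ⟨V, ⟨hV, n, m, ⟨P.restrict (hVW.trans inf_le_right)⟩⟩, hxV, hVW.trans inf_le_left⟩

theorem exists_level_pres (h𝔉 : FSch.IsCohF 𝔛 h 𝔉) (k : ℕ) (z : 𝔛.X k) :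
    ∃ V, Pres 𝔉 V ∧ z ∈ 𝔛.lvU h k V := by
  obtain ⟨V, hV, hzV, -⟩ := exists_pres h𝔉 ⊤ (𝔛.gInv h k z) trivial
  exact ⟨V, hV, hzV⟩

theorem isQuasicoherent_pullk (h𝔉 : FSch.IsCohF 𝔛 h 𝔉) (k : ℕ) : (pullk h 𝔉 k).IsQuasicoherent := by
  refine Groth.QCohMod.isQCoh_of_forall_exists _ fun z => ?_
  obtain ⟨V, ⟨hV, n, m, ⟨P⟩⟩, hz⟩ := exists_level_pres h𝔉 k z
  exact ⟨_, hz, (pullk_spec P hV).1.1⟩

theorem finitePresentation_pullk {V : (𝔛.X 0).Opens} (hV : Pres 𝔉 V) (k : ℕ) :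
    Module.FinitePresentation Γ(𝔛.X k, 𝔛.lvU h k V) Γ(pullk h 𝔉 k, 𝔛.lvU h k V) := by
  classical
  obtain ⟨hVa, n, m, ⟨P⟩⟩ := hV
  obtain ⟨hs, hr⟩ := spec_lev P hVa k
  let φ := Fintype.linearCombination Γ(𝔛.X k, 𝔛.lvU h k V) (fun i => ηk h 𝔉 k V (P.s i))
  refine Module.finitePresentation_of_surjective φ (fun y => (hs y).imp fun c hc => hc.symm) ?_
  have hker : LinearMap.ker φ = relk P := by
    refine le_antisymm (fun c hc => hr c hc) (Submodule.span_le.2 ?_)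
    rintro _ ⟨j, rfl⟩
    show ∑ i, projR k V (P.r j i) • ηk h 𝔉 k V (P.s i) = 0
    simp only [← ηk_smul, ← ηk_sum]
    exact (congrArg (ηk h 𝔉 k V) (P.zero j)).trans ηk_zero
  rw [hker]
  exact Submodule.fg_def.2 ⟨_, Set.finite_range _, rfl⟩

theorem isFP_pullk (h𝔉 : FSch.IsCohF 𝔛 h 𝔉) (k : ℕ) : CohB1.IsFP (pullk h 𝔉 k) := by
  have := isQuasicoherent_pullk h𝔉 k
  refine Groth.LocFree.isFP_of_affine_cover _ fun z => ?_
  obtain ⟨V, hV, hz⟩ := exists_level_pres h𝔉 k z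
  exact ⟨_, isAffineOpen_lvU h hV.1 k, hz, finitePresentation_pullk hV k⟩

theorem isCoh_sys (h𝔉 : FSch.IsCohF 𝔛 h 𝔉) : (sys h 𝔉).IsCoh := fun k => by
  haveI := isQuasicoherent_pullk h𝔉 k
  refine ⟨isQuasicoherent_pullk h𝔉 k, Groth.QCohMod.isFT_of_affine_cover (pullk h 𝔉 k) fun z => ?_⟩
  obtain ⟨V, hV, hz⟩ := exists_level_pres h𝔉 k z
  have := finitePresentation_pullk hV k
  exact ⟨_, isAffineOpen_lvU h hV.1 k, hz, inferInstance⟩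

theorem finitePresentation_pullk_affine (h𝔉 : FSch.IsCohF 𝔛 h 𝔉) (k : ℕ) {U : (𝔛.X k).Opens} (hU : IsAffineOpen U) :
    Module.FinitePresentation Γ(𝔛.X k, U) Γ(pullk h 𝔉 k, U) :=
  haveI := isQuasicoherent_pullk h𝔉 k
  Groth.PropsBasic.FPSections.finitePresentation_sections _ (isFP_pullk h𝔉 k) hU

end Groth.AdicLinTop.TopFinLevels
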