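import Groth.Agent.AdicLinTop.TopFinBasic
import Groth.Agent.AdicLinTop.TopFinLevels
import Groth.Agent.AdicLinTop.ComplSpan
import Groth.Agent.AdicLinTop.TildeSys

/-!
# Finitely presented modules on formal spectra of topologically finitely presented algebras
-/

set_option autoImplicit false

universe u

open CategoryTheory CategoryTheory.Limits AlgebraicGeometry TopologicalSpace Opposite

namespace Groth.AdicLinTop.TopFinCoh

open Groth.AdicLinTop.FormalLevels Groth.AdicLinTop.FormalReal Groth.AdicLinTop.FormalAffine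
open Groth.AdicLinTop.FormalSpan Groth.AdicLinTop.FormalPull Groth.AdicLinTop.FormalCoh
open Groth.AdicLinTop.ComplReal Groth.AdicLinTop.ComplSections Groth.AdicLinTop.ComplAffine
open Groth.AdicLinTop.ComplRing Groth.AdicLinTop.TopFinHom Groth.AdicLinTop.TopFinBasic

variable {R : Type u} [CommRing R] {I : Ideal R} {A : Type u} [CommRing A] [Algebra R A]
  {h : (FSch.completionAlong (Spec (CommRingCat.of A)) (ideal I A)).IsFormal}
  {𝔉 : FSch.ModF (FSch.completionAlong (Spec (CommRingCat.of A)) (ideal I A)) h}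

/-- A basic open carrying a presentation. -/
def PresBasic (𝔉 : FSch.ModF (FSch.completionAlong (Spec (CommRingCat.of A)) (ideal I A)) h)
    (V : ((FSch.completionAlong (Spec (CommRingCat.of A)) (ideal I A)).X 0).Opens) : Prop :=
  ∃ g : Γ(Spec (CommRingCat.of A), ⊤), op0 (ideal I A) ((Spec (CommRingCat.of A)).basicOpen g) = V ∧
    ∃ n m, Nonempty (SpacePres.PresData
      (O := (FSch.completionAlong (Spec (CommRingCat.of A)) (ideal I A)).Osh h) 𝔉 V n m)

theorem exists_presBasic (h𝔉 : FSch.IsCohF _ h 𝔉)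
    (U : ((FSch.completionAlong (Spec (CommRingCat.of A)) (ideal I A)).X 0).Opens)
    (x : (FSch.completionAlong (Spec (CommRingCat.of A)) (ideal I A)).X 0) (hx : x ∈ U) :
    ∃ V, PresBasic 𝔉 V ∧ x ∈ V ∧ V ≤ U := by
  obtain ⟨W, n, m, hxW, ⟨P⟩⟩ := SpacePres.exists_presData h𝔉 x
  obtain ⟨_, ⟨g, rfl⟩, hxV, hVW⟩ := exists_basic (U ⊓ W) x ⟨hx, hxW⟩
  exact ⟨_, ⟨g, rfl, n, m, ⟨P.restrict (hVW.trans inf_le_right)⟩⟩, hxV, hVW.trans inf_le_left⟩

theorem eq_zero_of_ηk (hR : AdicRing.IsBase R I) (hA : AdicRing.TopFiniteType R I A) (h𝔉 : FSch.IsCohF _ h 𝔉)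
    {U : ((FSch.completionAlong (Spec (CommRingCat.of A)) (ideal I A)).X 0).Opens} (x : Sec 𝔉 U)
    (hx : ∀ k, ηk h 𝔉 k U x = 0) : x = 0 := by
  classical
  refine SpacePres.eq_zero_of_local fun p hp => ?_
  obtain ⟨V₀, ⟨g₀, -, n, m, ⟨P₀⟩⟩, hpV₀, hV₀U⟩ := exists_presBasic h𝔉 U p hp
  obtain ⟨W, hW, hpW, a₀, ha₀⟩ := P₀.gen V₀ le_rfl (rs 𝔉 hV₀U x) p hpV₀
  obtain ⟨_, ⟨g, rfl⟩, hpV, hVW⟩ := exists_basic W p hpW
  let V := op0 (ideal I A) ((Spec (CommRingCat.of A)).basicOpen g)
  have hDg := (isAffineOpen_top (Spec (CommRingCat.of A))).basicOpen g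
  have hV : IsAffineOpen V := isAffineOpen_op0 hDg
  let P := P₀.restrict (hVW.trans hW)
  let a : Fin n → RS h V := fun i => resR h hVW (a₀ i)
  have hxa : rs 𝔉 ((hVW.trans hW).trans hV₀U) x = ∑ i, a i • (show Sec 𝔉 V from P.s i) := by
    rw [← rs_rs 𝔉 hV₀U (hVW.trans hW), ← rs_rs 𝔉 hW hVW]
    refine (congrArg (rs 𝔉 hVW) ha₀).trans ((map_sum _ _ _).trans (Finset.sum_congr rfl fun i _ => ?_))
    exact (rs_smul 𝔉 hVW (a₀ i) _).trans (congrArg (resR h hVW (a₀ i) • ·) (rs_rs 𝔉 _ hVW (P₀.s i)))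
  refine ⟨V, (hVW.trans hW).trans hV₀U, hpV, ?_⟩
  show rs 𝔉 _ x = 0
  let S : Submodule (RS h V) (Fin n → RS h V) := Submodule.span _ (Set.range fun j i => P.r j i)
  have haS : a ∈ S := by
    refine TopFinBasic.mem_of_forall_mem_sup h hR hA g S fun k => ?_
    have h0 : ∑ i, projR k V (a i) • ηk h 𝔉 k V (P.s i) = 0 := by
      have e := congrArg (ηk h 𝔉 k V) hxa
      rw [ηk_sum, ηk_rs, hx k, map_zero] at e
      exact (Finset.sum_congr rfl fun i _ => (ηk_smul (a i) _).symm).trans e.symm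
    obtain ⟨c, hc⟩ := (Submodule.mem_span_range_iff_exists_fun _).1 ((spec_lev P hV k).2 _ h0)
    choose d hd using fun j => projR_surjective (h := h) hDg k (c j)
    refine Submodule.mem_sup.2 ⟨∑ j, sharp h _ (d j) • (fun i => P.r j i),
      Submodule.sum_mem _ fun j _ => Submodule.smul_mem _ _ (Submodule.subset_span ⟨j, rfl⟩),
      a - ∑ j, sharp h _ (d j) • (fun i => P.r j i), mem_smul_top_of_apply_mem _ fun i => ?_, add_sub_cancel _ _⟩
    rw [mem_defIdeal_pow hDg (fg_basicOpen hR g) k, Pi.sub_apply, Finset.sum_apply]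
    refine (map_sub (((FSch.completionAlong _ (ideal I A)).OshProj h k).hom.app (op V)).hom _ _).trans
      (sub_eq_zero.2 ?_)
    refine (congrFun hc i).symm.trans ((Finset.sum_apply i _ _).trans ?_)
    refine Eq.trans (Finset.sum_congr rfl fun j _ => ?_)
      (map_sum (((FSch.completionAlong _ (ideal I A)).OshProj h k).hom.app (op V)).hom _ _).symm
    show c j * projR k V (P.r j i) = projR k V (sharp h _ (d j) * P.r j i)
    rw [← hd j]
    exact (map_mul _ _ _).symm
  obtain ⟨b, hb⟩ := (Submodule.mem_span_range_iff_exists_fun _).1 haS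
  rw [hxa, ← hb]
  simp only [Finset.sum_apply, Pi.smul_apply, smul_eq_mul, Finset.sum_smul, mul_smul]
  rw [Finset.sum_comm]
  refine Finset.sum_eq_zero fun j _ => ?_
  rw [← Finset.smul_sum]
  exact (congrArg (b j • ·) (P.zero j)).trans (smul_zero _)

variable {G : (Spec (CommRingCat.of A)).Modules} (Φ : sys h 𝔉 ≅ FSch.complMod (ideal I A) G)

/-- The comparison with the completion of a module giving the system. -/
noncomputable abbrev comparison : 𝔉 ⟶ (FSch.complMod (ideal I A) G).realMod h :=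
  ηmap h 𝔉 ≫ FSch.ModSys.realModMap h Φ.hom

theorem lev_comparison (k : ℕ) (U : ((FSch.completionAlong (Spec (CommRingCat.of A)) (ideal I A)).X 0).Opens)
    (x : Sec 𝔉 U) : lev h (FSch.complMod (ideal I A) G) k U (app (comparison Φ) U x) =
      (Φ.hom.app k).app _ (ηk h 𝔉 k U x) := by
  rw [app_comp, lev_map, lev_ηmap]

theorem bijective_app (k : ℕ) (U : ((FSch.completionAlong (Spec (CommRingCat.of A)) (ideal I A)).X k).Opens) :
    Function.Bijective ((Φ.hom.app k).app U) := by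
  have h1 : ∀ x, (Φ.inv.app k).app U ((Φ.hom.app k).app U x) = x := fun x =>
    congr(($(congrArg (fun t => FSch.ModSys.Hom.app t k) Φ.hom_inv_id)).app U x)
  have h2 : ∀ x, (Φ.hom.app k).app U ((Φ.inv.app k).app U x) = x := fun x =>
    congr(($(congrArg (fun t => FSch.ModSys.Hom.app t k) Φ.inv_hom_id)).app U x)
  exact ⟨Function.LeftInverse.injective h1, Function.RightInverse.surjective h2⟩

theorem comparison_injective (hR : AdicRing.IsBase R I) (hA : AdicRing.TopFiniteType R I A)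
    (h𝔉 : FSch.IsCohF _ h 𝔉) (U : ((FSch.completionAlong (Spec (CommRingCat.of A)) (ideal I A)).X 0).Opens) :
    Function.Injective (app (comparison Φ) U) :=
  (injective_iff_map_eq_zero _).2 fun x hx => eq_zero_of_ηk hR hA h𝔉 x fun k => (bijective_app Φ k _).1 (by
    rw [← lev_comparison, hx, lev, map_zero, map_zero]
    exact (map_zero _).symm)

theorem comparison_surjective (hR : AdicRing.IsBase R I) [G.IsQuasicoherent]
    {V : ((FSch.completionAlong (Spec (CommRingCat.of A)) (ideal I A)).X 0).Opens} (hV : PresBasic 𝔉 V) :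
    Function.Surjective (app (comparison Φ) V) := by
  obtain ⟨g, rfl, n, m, ⟨P⟩⟩ := hV
  have hDg := (isAffineOpen_top (Spec (CommRingCat.of A))).basicOpen g
  have hspan := ComplSpan.span_eq_top hDg (fg_basicOpen hR g) (fun i => app (comparison Φ) _ (P.s i)) fun z => by
    obtain ⟨w, rfl⟩ := (bijective_app Φ 0 _).2 z
    obtain ⟨c, rfl⟩ := (spec_lev P (isAffineOpen_op0 hDg) 0).1 w
    refine ⟨c, (map_sum _ _ _).trans (Finset.sum_congr rfl fun i _ => ?_)⟩
    rw [lev_comparison]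
    exact (Φ.hom.app 0).app_smul _ _
  intro y
  obtain ⟨a, rfl⟩ := (Submodule.mem_span_range_iff_exists_fun _).1 (hspan ▸ Submodule.mem_top : y ∈ _)
  exact ⟨∑ i, a i • P.s i, (map_sum _ _ _).trans (Finset.sum_congr rfl fun i _ => map_smul _ _ _)⟩

theorem isIso_comparison (hR : AdicRing.IsBase R I) (hA : AdicRing.TopFiniteType R I A)
    (h𝔉 : FSch.IsCohF _ h 𝔉) [G.IsQuasicoherent] : IsIso (comparison Φ) := by
  have hom_ext : ∀ {M N : FSch.ModF (FSch.completionAlong (Spec (CommRingCat.of A)) (ideal I A)) h} (a b : M ⟶ N),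
      (∀ V, PresBasic 𝔉 V → ∀ x, app a V x = app b V x) → a = b := fun {M N} a b hab =>
    SheafOfModules.hom_ext (PresheafOfModules.hom_ext fun U => by
      ext x
      refine SpaceGlue.eq_of_local fun p hp => ?_
      obtain ⟨V, hV, hpV, hVU⟩ := exists_presBasic h𝔉 U.unop p hp
      exact ⟨V, hVU, hpV, (rs_app a hVU x).symm.trans ((hab V hV _).trans (rs_app b hVU x))⟩)
  have : Mono (comparison Φ) :=
    ⟨fun a b e => hom_ext a b fun V _ x => comparison_injective Φ hR hA h𝔉 V (by rw [← app_comp, ← app_comp, e])⟩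
  have : Epi (comparison Φ) :=
    ⟨fun a b e => hom_ext a b fun V hV y => by
      obtain ⟨x, rfl⟩ := comparison_surjective Φ hR hV y
      rw [← app_comp, ← app_comp, e]⟩
  exact isIso_of_mono_of_epi _

/-- A finite module over an algebra topologically of finite type is finitely presented if its reductions are. -/
theorem finitePresentation_of_quotients (hR : AdicRing.IsBase R I) (hA : AdicRing.TopFiniteType R I A)
    (M : Type u) [AddCommGroup M] [Module A M] [Module.Finite A M]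
    (hq : ∀ k : ℕ, Module.FinitePresentation A
      (M ⧸ (I.map (algebraMap R A)) ^ (k + 1) • (⊤ : Submodule A M))) : Module.FinitePresentation A M := by
  classical
  obtain ⟨n, φ, hφ⟩ := Module.Finite.exists_fin' A M
  refine Module.finitePresentation_of_surjective φ hφ ?_
  set J := I.map (algebraMap R A) with hJ
  let K := LinearMap.ker φ
  obtain ⟨c, hc⟩ := TopFinCompl.arBound hR hA K.subtype K.injective_subtype
  have hker : LinearMap.ker ((J ^ (c + 1) • (⊤ : Submodule A M)).mkQ ∘ₗ φ) = K ⊔ J ^ (c + 1) • ⊤ := by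
    rw [LinearMap.ker_comp, Submodule.ker_mkQ, ← LinearMap.range_eq_top.2 hφ, LinearMap.range_eq_map,
      ← Submodule.map_smul'', Submodule.comap_map_eq, sup_comm]
  haveI := hq c
  obtain ⟨S, hS⟩ := hker ▸ Module.FinitePresentation.fg_ker ((J ^ (c + 1) • (⊤ : Submodule A M)).mkQ ∘ₗ φ)
    ((Submodule.mkQ_surjective _).comp hφ)
  have hdec : ∀ s : S, ∃ v ∈ K, (s : Fin n → A) - v ∈ J ^ (c + 1) • (⊤ : Submodule A (Fin n → A)) := fun s => by
    obtain ⟨v, hv, w, hw, e⟩ := Submodule.mem_sup.1 (hS ▸ Submodule.subset_span s.2 : (s : Fin n → A) ∈ K ⊔ _)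
    exact ⟨v, hv, by rw [← e, add_sub_cancel_left]; exact hw⟩
  choose v hv hvs using hdec
  let K' : Submodule A (Fin n → A) := Submodule.span A (Set.range v)
  have hK'K : K' ≤ K := Submodule.span_le.2 (by rintro _ ⟨s, rfl⟩; exact hv s)
  have h1 : K ≤ K' ⊔ J • K := by
    intro x hx
    have hx' : x ∈ K' ⊔ J ^ (c + 1) • (⊤ : Submodule A (Fin n → A)) := by
      refine (Submodule.span_le.2 fun s hs => ?_) (hS ▸ Submodule.mem_sup_left hx : x ∈ Submodule.span A _)
      exact Submodule.mem_sup.2 ⟨v ⟨s, hs⟩, Submodule.subset_span ⟨_, rfl⟩, s - v ⟨s, hs⟩, hvs ⟨s, hs⟩,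
        add_sub_cancel _ _⟩
    obtain ⟨y, hy, z, hz, rfl⟩ := Submodule.mem_sup.1 hx'
    have hzK : z ∈ K := (Submodule.add_mem_iff_right K (hK'K hy)).1 hx
    have h2 : (⟨z, hzK⟩ : K) ∈ J ^ 1 • (⊤ : Submodule A K) := hc 1 ⟨z, hzK⟩ (by rwa [add_comm 1 c])
    refine Submodule.mem_sup.2 ⟨y, hy, z, ?_, rfl⟩
    have h3 := Submodule.mem_map_of_mem (f := K.subtype) h2
    rwa [Submodule.map_smul'', Submodule.map_top, Submodule.range_subtype, pow_one] at h3
  have h2 : ∀ j, K ≤ K' ⊔ J ^ j • K := by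
    intro j
    induction j with
    | zero => rw [pow_zero, Submodule.one_smul]; exact le_sup_right
    | succ j ih =>
      refine h1.trans (sup_le le_sup_left ((Submodule.smul_mono le_rfl ih).trans ?_))
      rw [Submodule.smul_sup, ← Submodule.smul_assoc, smul_eq_mul, ← pow_succ']
      exact sup_le_sup Submodule.smul_le_right le_rfl
  suffices hKK' : K ≤ K' by
    rw [show LinearMap.ker φ = K' from le_antisymm hKK' hK'K]
    exact Submodule.fg_def.2 ⟨_, Set.finite_range v, rfl⟩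
  intro x hx
  have hcq := TopFinCompl.isAdicComplete hR hA ((Fin n → A) ⧸ K')
  rw [← Submodule.Quotient.mk_eq_zero]
  refine hcq.haus' _ fun j => SModEq.zero.2 ?_
  obtain ⟨y, hy, z, hz, rfl⟩ := Submodule.mem_sup.1 (h2 j hx)
  rw [Submodule.Quotient.mk_add, (Submodule.Quotient.mk_eq_zero K').2 hy, zero_add]
  have h3 : K'.mkQ z ∈ (J ^ j • (⊤ : Submodule A (Fin n → A))).map K'.mkQ :=
    Submodule.mem_map_of_mem (Submodule.smul_mono le_rfl le_top hz)
  rwa [Submodule.map_smul'', Submodule.map_top, Submodule.range_mkQ] at h3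

theorem finitePresentation_pushΓ {A : Type u} [CommRing A] {Z : Scheme.{u}} (i : Z ⟶ Spec (CommRingCat.of A))
    [IsClosedImmersion i] {K : Ideal A} (hK : i.ker = FSch.idealSpec A K) (hfg : K.FG) (G : Z.Modules)
    (hG : Module.FinitePresentation Γ(Z, i ⁻¹ᵁ ⊤) Γ(G, i ⁻¹ᵁ ⊤)) :
    Module.FinitePresentation A ((TildeSys.pushΓ i).obj G) := by
  let ρ : A →+* Γ(Z, i ⁻¹ᵁ ⊤) := (i.app ⊤).hom.comp (Scheme.ΓSpecIso (CommRingCat.of A)).inv.hom
  letI : Algebra A Γ(Z, i ⁻¹ᵁ ⊤) := ρ.toAlgebra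
  letI : Module A Γ(G, i ⁻¹ᵁ ⊤) := Module.compHom _ ρ
  haveI : IsScalarTower A Γ(Z, i ⁻¹ᵁ ⊤) Γ(G, i ⁻¹ᵁ ⊤) := IsScalarTower.of_algebraMap_smul fun a x => rfl
  haveI : Module.FinitePresentation A Γ(Z, i ⁻¹ᵁ ⊤) := by
    refine Module.finitePresentation_of_surjective (Algebra.linearMap A _) ?_ ?_
    · intro y
      obtain ⟨r, rfl⟩ := i.app_surjective ⊤ (isAffineOpen_top _) y
      obtain ⟨a, rfl⟩ := (Scheme.ΓSpecIso (CommRingCat.of A)).symm.commRingCatIsoToRingEquiv.surjective r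
      exact ⟨a, rfl⟩
    · have e : LinearMap.ker (Algebra.linearMap A Γ(Z, i ⁻¹ᵁ ⊤)) = K := by
        ext a
        exact (TildeSys.app_eq_zero_iff i hK _).trans
          (Ideal.apply_mem_of_equiv_iff (f := (Scheme.ΓSpecIso (CommRingCat.of A)).symm.commRingCatIsoToRingEquiv))
      rw [e]
      exact hfg
  haveI := Module.FinitePresentation.trans A Γ(G, i ⁻¹ᵁ ⊤) Γ(Z, i ⁻¹ᵁ ⊤)
  let e : Γ(G, i ⁻¹ᵁ ⊤) ≃ₗ[A] (TildeSys.pushΓ i).obj G :=
    { toFun := fun x => x
      map_add' := fun _ _ => rfl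
      map_smul' := fun a x => (TildeSys.smul_def i G a x).symm
      invFun := fun x => x
      left_inv := fun _ => rfl
      right_inv := fun _ => rfl }
  exact Module.FinitePresentation.of_equiv e

end Groth.AdicLinTop.TopFinCoh
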