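import Groth.Agent.AdicLinTop.ComplAffine
import Groth.Agent.AdicLinTop.SysExamples
import Groth.Agent.PropsBasic2.TildeExact
import Groth.Agent.S11528
import Groth.Agent.S11529
import Groth.Prelude.Def_FSch5

/-!
# Modules on formal spectra of topologically finite type algebras
-/

set_option autoImplicit false

universe u

open CategoryTheory CategoryTheory.Limits AlgebraicGeometry TopologicalSpace Opposite

namespace Groth.AdicLinTop.TopFinCompl

open Groth.AdicLinTop.FormalReal Groth.AdicLinTop.ComplReal Groth.AdicLinTop.ComplSections Groth.AdicLinTop.ComplAffine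
open Groth.AdicLinTop.ArtinReesLoc

section Algebra

variable {R : Type u} [CommRing R] {I : Ideal R} (hR : AdicRing.IsBase R I) {A : Type u} [CommRing A] [Algebra R A]
  (hA : AdicRing.TopFiniteType R I A)

include hR in
theorem fg_ideal : I.FG := by
  rcases hR.2 with ⟨hN, -⟩ | ⟨-, -, -, t, -, ht⟩
  · exact (isNoetherianRing_iff_ideal_fg R).1 hN I
  · exact ht ▸ ⟨{t}, by simp⟩

include hR hA in
theorem arBound {M N : Type u} [AddCommGroup M] [Module A M] [AddCommGroup N] [Module A N] [Module.Finite A N]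
    (g : M →ₗ[A] N) (hg : Function.Injective g) : ARBound (I.map (algebraMap R A)) g := by
  letI : Module R N := Module.compHom N (algebraMap R A)
  haveI : IsScalarTower R A N := ⟨fun r a n => by
    rw [Algebra.smul_def, mul_smul]
    rfl⟩
  obtain ⟨c, hc⟩ := Groth.Agent.S11528.result R I hR A hA N (LinearMap.range g)
  refine ⟨c, fun k m hm => ?_⟩
  have h1 : g m ∈ I ^ (k + c) • (⊤ : Submodule R N) := by
    rw [← Submodule.restrictScalars_top R A N, ← Ideal.smul_restrictScalars, Submodule.restrictScalars_mem,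
      Ideal.map_pow]
    exact hm
  have h2 := hc k ⟨h1, m, rfl⟩
  rw [← Ideal.smul_restrictScalars, Submodule.restrictScalars_mem, Ideal.map_pow, ← Submodule.map_top g,
    ← Submodule.map_smul''] at h2
  obtain ⟨m', hm', e⟩ := h2
  rwa [← show m' = m from hg e]

include hR hA in
theorem isAdicComplete (M : Type u) [AddCommGroup M] [Module A M] [Module.Finite A M] :
    IsAdicComplete (I.map (algebraMap R A)) M := by
  letI : Module R M := Module.compHom M (algebraMap R A)
  haveI : IsScalarTower R A M := ⟨fun r a n => by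
    rw [Algebra.smul_def, mul_smul]
    rfl⟩
  have hc := Groth.Agent.S11529.result R I hR A hA M
  have e : ∀ n, ((I.map (algebraMap R A)) ^ n • (⊤ : Submodule A M)).restrictScalars R = I ^ n • (⊤ : Submodule R M) :=
    fun n => by rw [← Ideal.map_pow, Ideal.smul_restrictScalars, Submodule.restrictScalars_top]
  have hm : ∀ n (x y : M), x ≡ y [SMOD (I.map (algebraMap R A)) ^ n • (⊤ : Submodule A M)] ↔
      x ≡ y [SMOD I ^ n • (⊤ : Submodule R M)] := fun n x y => by
    rw [SModEq.sub_mem, SModEq.sub_mem, ← e n, Submodule.restrictScalars_mem]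
  exact { haus' := fun x hx => hc.haus' x fun n => (hm n _ _).1 (hx n)
          prec' := fun f hf => (hc.prec' f fun {m n} hmn => (hm m _ _).1 (hf hmn)).imp fun L hL n => (hm n _ _).2 (hL n) }

end Algebra

section Bridge

variable {A : Type u} [CommRing A] (J : Ideal A)

/-- A module as the global sections of its sheaf. -/
noncomputable def toTop (M : ModuleCat.{u} A) (m : M) : Γ(tilde (R := CommRingCat.of A) M, ⊤) :=
  (tilde.toOpen (R := CommRingCat.of A) M ⊤).hom m

theorem toTop_bijective (M : ModuleCat.{u} A) : Function.Bijective (toTop M) :=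
  ConcreteCategory.bijective_of_isIso (tilde.isoTop (R := CommRingCat.of A) M).hom

theorem toTop_add (M : ModuleCat.{u} A) (m m' : M) : toTop M (m + m') = toTop M m + toTop M m' :=
  map_add (tilde.toOpen (R := CommRingCat.of A) M ⊤).hom m m'

theorem toTop_smul (M : ModuleCat.{u} A) (a : A) (m : M) :
    toTop M (a • m) = (Scheme.ΓSpecIso (CommRingCat.of A)).inv.hom a • toTop M m :=
  map_smul (tilde.toOpen (R := CommRingCat.of A) M ⊤).hom a m

theorem map_toTop {M N : ModuleCat.{u} A} (u : M ⟶ N) (m : M) :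
    ((tilde.functor (CommRingCat.of A)).map u).app ⊤ (toTop M m) = toTop N (u.hom m) :=
  congr($(tilde.toOpen_map_app (R := CommRingCat.of A) u ⊤) m)

theorem mem_ideal_top (n : ℕ) (a : A) :
    (Scheme.ΓSpecIso (CommRingCat.of A)).inv.hom a ∈
      (FSch.idealSpec A J).ideal ⟨⊤, isAffineOpen_top _⟩ ^ n ↔ a ∈ J ^ n := by
  rw [Thickenings.idealSpec_ideal_top, ← Ideal.map_pow]
  exact Ideal.apply_mem_of_equiv_iff
    (f := (Scheme.ΓSpecIso (CommRingCat.of A)).symm.commRingCatIsoToRingEquiv)

theorem exists_of_mem_ideal_top (n : ℕ) {a : Γ(Spec (CommRingCat.of A), ⊤)}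
    (ha : a ∈ (FSch.idealSpec A J).ideal ⟨⊤, isAffineOpen_top _⟩ ^ n) :
    ∃ b ∈ J ^ n, (Scheme.ΓSpecIso (CommRingCat.of A)).inv.hom b = a := by
  refine ⟨(Scheme.ΓSpecIso (CommRingCat.of A)).hom.hom a, (mem_ideal_top J n _).1 ?_,
    (Scheme.ΓSpecIso (CommRingCat.of A)).commRingCatIsoToRingEquiv.symm_apply_apply a⟩
  rwa [show (Scheme.ΓSpecIso (CommRingCat.of A)).inv.hom ((Scheme.ΓSpecIso (CommRingCat.of A)).hom.hom a) = a from
    (Scheme.ΓSpecIso (CommRingCat.of A)).commRingCatIsoToRingEquiv.symm_apply_apply a]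

theorem map_smul_top (M : ModuleCat.{u} A) (n : ℕ) (m : M) :
    toTop M m ∈ (FSch.idealSpec A J).ideal ⟨⊤, isAffineOpen_top _⟩ ^ n •
        (⊤ : Submodule Γ(Spec (CommRingCat.of A), ⊤) Γ(tilde (R := CommRingCat.of A) M, ⊤)) ↔
      m ∈ J ^ n • (⊤ : Submodule A M) := by
  constructor
  · intro hm
    have key : ∀ z ∈ (FSch.idealSpec A J).ideal ⟨⊤, isAffineOpen_top _⟩ ^ n •
        (⊤ : Submodule Γ(Spec (CommRingCat.of A), ⊤) Γ(tilde (R := CommRingCat.of A) M, ⊤)),
        ∀ m, toTop M m = z → m ∈ J ^ n • (⊤ : Submodule A M) := by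
      intro z hz
      refine Submodule.smul_induction_on hz (fun a ha y _ m e => ?_) fun p q hp hq m e => ?_
      · obtain ⟨a₀, ha₀, rfl⟩ := exists_of_mem_ideal_top J n ha
        obtain ⟨y₀, rfl⟩ := (toTop_bijective M).2 y
        rw [← toTop_smul] at e
        rw [(toTop_bijective M).1 e]
        exact Submodule.smul_mem_smul ha₀ trivial
      · obtain ⟨p₀, rfl⟩ := (toTop_bijective M).2 p
        obtain ⟨q₀, rfl⟩ := (toTop_bijective M).2 q
        rw [← toTop_add] at e
        rw [(toTop_bijective M).1 e]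
        exact add_mem (hp p₀ rfl) (hq q₀ rfl)
    exact key _ hm m rfl
  · intro hm
    refine Submodule.smul_induction_on hm (fun a ha y _ => ?_) fun p q hp hq => ?_
    · rw [toTop_smul]
      exact Submodule.smul_mem_smul ((mem_ideal_top J n a).2 ha) trivial
    · rw [toTop_add]
      exact add_mem hp hq

theorem arBound_top {M N : ModuleCat.{u} A} (u : M ⟶ N) (hu : ARBound J u.hom) :
    ARBound ((FSch.idealSpec A J).ideal ⟨⊤, isAffineOpen_top _⟩)
      (QCohMod.appₗ ((tilde.functor (CommRingCat.of A)).map u) (⊤ : (Spec (CommRingCat.of A)).Opens)) := by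
  obtain ⟨c, hc⟩ := hu
  refine ⟨c, fun k y hy => ?_⟩
  obtain ⟨m, rfl⟩ := (toTop_bijective M).2 y
  refine (map_smul_top J M k m).2 (hc k m ((map_smul_top J N (k + c) _).1 ?_))
  rw [← map_toTop]
  exact hy

theorem isAdicComplete_top (M : ModuleCat.{u} A) (hM : IsAdicComplete J M) :
    IsAdicComplete ((FSch.idealSpec A J).ideal ⟨⊤, isAffineOpen_top _⟩)
      Γ(tilde (R := CommRingCat.of A) M, ⊤) := by
  have hsub : ∀ m m' : M, toTop M (m - m') = toTop M m - toTop M m' := fun m m' =>
    map_sub (tilde.toOpen (R := CommRingCat.of A) M ⊤).hom m m'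
  have hm : ∀ n (m m' : M), toTop M m ≡ toTop M m'
      [SMOD (FSch.idealSpec A J).ideal ⟨⊤, isAffineOpen_top _⟩ ^ n •
        (⊤ : Submodule Γ(Spec (CommRingCat.of A), ⊤) Γ(tilde (R := CommRingCat.of A) M, ⊤))] ↔
      m ≡ m' [SMOD J ^ n • (⊤ : Submodule A M)] := fun n m m' => by
    rw [SModEq.sub_mem, SModEq.sub_mem, ← hsub, map_smul_top]
  have h0 : toTop M 0 = 0 := map_zero (tilde.toOpen (R := CommRingCat.of A) M ⊤).hom
  exact
    { haus' := fun x hx => by
        obtain ⟨m, rfl⟩ := (toTop_bijective M).2 x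
        rw [hM.haus' m fun n => (hm n m 0).1 (h0.symm ▸ hx n), h0]
      prec' := fun f hf => by
        choose g hg using fun n => (toTop_bijective M).2 (f n)
        obtain ⟨L, hL⟩ := hM.prec' g fun {m n} hmn => (hm m _ _).1 (by rw [hg, hg]; exact hf hmn)
        exact ⟨toTop M L, fun n => by rw [← hg]; exact (hm n _ _).2 (hL n)⟩ }

end Bridge

end Groth.AdicLinTop.TopFinCompl
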