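import Groth.Agent.AdicLinTop.TopFinCompl

/-!
# Global sections and morphisms of completed modules on formal spectra of topologically finite type
-/

set_option autoImplicit false

universe u

open CategoryTheory CategoryTheory.Limits AlgebraicGeometry TopologicalSpace Opposite

namespace Groth.AdicLinTop.TopFinHom

open Groth.AdicLinTop.FormalReal Groth.AdicLinTop.ComplReal Groth.AdicLinTop.ComplSections Groth.AdicLinTop.ComplAffine
open Groth.AdicLinTop.FormalLevels Groth.AdicLinTop.FormalAffine Groth.AdicLinTop.TopFinCompl

variable {R : Type u} [CommRing R] {I : Ideal R} {A : Type u} [CommRing A] [Algebra R A]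

/-- Abbreviation for the completion ideal. -/
noncomputable abbrev ideal (I : Ideal R) (A : Type u) [CommRing A] [Algebra R A] :
    (Spec (CommRingCat.of A)).IdealSheafData :=
  FSch.idealSpec A (I.map (algebraMap R A))

variable (h : (FSch.completionAlong (Spec (CommRingCat.of A)) (ideal I A)).IsFormal)

/-- The sheaf on the formal spectrum of a module. -/
noncomputable abbrev triangle (M : ModuleCat.{u} A) : FSch.ModF _ h :=
  (FSch.complMod (ideal I A) (tilde (R := CommRingCat.of A) M)).realMod h

/-- A module as global sections of its sheaf on the formal spectrum. -/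
noncomputable def canTop (M : ModuleCat.{u} A) (m : M) : Sec (triangle h M) (op0 (ideal I A) ⊤) :=
  can h (tilde (R := CommRingCat.of A) M) ⊤ (toTop M m)

/-- The map of sheaves on the formal spectrum of a linear map. -/
noncomputable abbrev triangleMap {M N : ModuleCat.{u} A} (u : M ⟶ N) : triangle h M ⟶ triangle h N :=
  FSch.ModSys.realModMap h (FSch.complModMap (ideal I A) ((tilde.functor (CommRingCat.of A)).map u))

theorem canTop_add (M : ModuleCat.{u} A) (m m' : M) : canTop h M (m + m') = canTop h M m + canTop h M m' :=
  (congrArg (can h _ ⊤) (toTop_add M m m')).trans (can_add _ _ _)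

theorem canTop_smul (M : ModuleCat.{u} A) (a : A) (m : M) :
    canTop h M (a • m) = sharp h ⊤ ((Scheme.ΓSpecIso (CommRingCat.of A)).inv.hom a) • canTop h M m :=
  (congrArg (can h _ ⊤) (toTop_smul M a m)).trans (can_smul _ _ _)

theorem app_canTop {M N : ModuleCat.{u} A} (u : M ⟶ N) (m : M) :
    app (triangleMap h u) (op0 (ideal I A) ⊤) (canTop h M m) = canTop h N (u.hom m) :=
  (capp_can ((tilde.functor (CommRingCat.of A)).map u) ⊤ (toTop M m)).trans (congrArg (can h _ ⊤) (map_toTop u m))

theorem canTop_bijective (hR : AdicRing.IsBase R I) (hA : AdicRing.TopFiniteType R I A) (M : ModuleCat.{u} A)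
    [Module.Finite A M] : Function.Bijective (canTop h M) :=
  (can_bijective (F := tilde (R := CommRingCat.of A) M) (isAffineOpen_top _)
    (isAdicComplete_top _ M (isAdicComplete hR hA M))).comp (toTop_bijective M)

theorem fg_ideal_top (hR : AdicRing.IsBase R I) :
    ((ideal I A).ideal ⟨⊤, isAffineOpen_top _⟩).FG := by
  rw [Thickenings.idealSpec_ideal_top]
  exact ((fg_ideal hR).map _).map _

theorem triangleMap_injective (hR : AdicRing.IsBase R I) (hA : AdicRing.TopFiniteType R I A) {M N : ModuleCat.{u} A}
    [Module.Finite A N] : Function.Injective (triangleMap h (M := M) (N := N)) := fun u v e =>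
  ModuleCat.hom_ext (LinearMap.ext fun m => (canTop_bijective h hR hA N).1
    ((app_canTop h u m).symm.trans ((congrArg (fun φ => app φ _ (canTop h M m)) e).trans (app_canTop h v m))))

theorem triangleMap_surjective (hR : AdicRing.IsBase R I) (hA : AdicRing.TopFiniteType R I A) {M N : ModuleCat.{u} A}
    [Module.Finite A N] : Function.Surjective (triangleMap h (M := M) (N := N)) := by
  intro φ
  choose ψ hψ using fun m => (canTop_bijective h hR hA N).2 (app φ _ (canTop h M m))
  have hadd : ∀ m m', ψ (m + m') = ψ m + ψ m' := fun m m' => (canTop_bijective h hR hA N).1 (by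
    rw [canTop_add, hψ, hψ, hψ, canTop_add, map_add])
  have hsmul : ∀ (a : A) m, ψ (a • m) = a • ψ m := fun a m => (canTop_bijective h hR hA N).1 (by
    rw [canTop_smul, hψ, hψ, canTop_smul, map_smul])
  refine ⟨ModuleCat.ofHom { toFun := ψ, map_add' := hadd, map_smul' := hsmul },
    hom_ext_can (F := tilde (R := CommRingCat.of A) M) (G := tilde (R := CommRingCat.of A) N)
      (fg_ideal_top hR) _ _ fun x => ?_⟩
  obtain ⟨m, rfl⟩ := (toTop_bijective M).2 x
  exact (app_canTop h _ m).trans (hψ m)

end Groth.AdicLinTop.TopFinHom
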