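import Groth.Agent.AdicLinTop.TorsExt
import Groth.Agent.AdicLinTop.ModHomology

/-!
# Acyclicity for the torsion functor

For a complex, bounded or not, of modules with the extension property and with torsion cohomology, the inclusion of
the torsion subcomplex is a quasi-isomorphism.
-/

set_option autoImplicit false

universe u

open CategoryTheory CategoryTheory.Limits AlgebraicGeometry TopologicalSpace Opposite

set_option backward.defeqAttrib.useBackward true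
set_option backward.isDefEq.respectTransparency false
set_option backward.isDefEq.respectTransparency.types false
set_option synthInstance.maxHeartbeats 400000
set_option maxHeartbeats 1000000

namespace Groth.AdicLinTop.TorsAcyclic

open Groth.SitesTopoi.ModH Groth.AdicLinTop.SpacePres Groth.AdicLinTop.CohKer Groth.AdicLinTop.QcohLocal
open Groth.AdicLinTop.FormalAffine Groth.AdicLinTop.AffineGlue Groth.AdicLinTop.TorsAff
open Groth.AdicLinTop.TorsExt Groth.AdicLinTop.ModHomology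

variable {𝔛 : FSch.Sys.{u}} (h𝔛 : 𝔛.IsLocNoethFormal) {G : FSch.ModF 𝔛 h𝔛.1} {V W : (𝔛.X 0).Opens}

/-- Cohomology classes are locally killed by an open ideal. -/
def TorsCoh (K : CochainComplex (FSch.ModF 𝔛 h𝔛.1) ℤ) : Prop :=
  ∀ (a b c : ℤ), a + 1 = b → b + 1 = c → ∀ (W : (𝔛.X 0).Opens) (z : sc (K.X b).val W),
    apm (K.d b c).val W z = 0 → ∀ x ∈ W, ∃ (W' : (𝔛.X 0).Opens) (h : W' ≤ W), x ∈ W' ∧ ∃ n : ℕ,
      ∀ r ∈ (FTors.openIdealFam 𝔛 h𝔛.1).ideal n W', ∀ y ∈ W', ∃ (W'' : (𝔛.X 0).Opens) (h' : W'' ≤ W'),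
        y ∈ W'' ∧ ∃ w : sc (K.X a).val W'', apm (K.d a b).val W'' w = rr h' r • rm (K.X b) (h'.trans h) z

/-- A complex with torsion cohomology sheaves, on sections. -/
theorem torsCoh_of_isTorsF (K : CochainComplex (FSch.ModF 𝔛 h𝔛.1) ℤ)
    (hK : ∀ b, FTors.IsTorsF 𝔛 h𝔛.1 (K.homology b)) : TorsCoh h𝔛 K := by
  intro a b c hab hbc W z hz x hx
  obtain ⟨k, hk⟩ := exists_cycle K b c hbc z hz
  obtain ⟨W', h, hxW', n, hn⟩ := exists_nhd_of_mem (hK b W (apm (K.homologyπ b).val W k)) hx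
  refine ⟨W', h, hxW', n, fun r hr y hy => ?_⟩
  have h1 : r • rm (K.homology b) le_rfl (rm (K.homology b) h (apm (K.homologyπ b).val W k)) = 0 := hn (𝟙 W') r hr
  rw [rm_self, rm_apm, ← map_smul] at h1
  obtain ⟨W'', h', hyW'', w, hw⟩ := exists_boundary K a b hab _ h1 hy
  refine ⟨W'', h', hyW'', w, hw.trans ?_⟩
  rw [map_smul, rm_smul, ← rm_apm, rm_rm, hk]

/-- Powers of a section of the ideal of definition kill classes. -/
theorem exists_pow_boundary {K : CochainComplex (FSch.ModF 𝔛 h𝔛.1) ℤ} (hT : TorsCoh h𝔛 K) (hV : IsAffineOpen V)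
    {t : RS h𝔛.1 V} (ht : t ∈ idl h𝔛.1 V) {a b c : ℤ} (hab : a + 1 = b) (hbc : b + 1 = c) (hW : W ≤ V)
    (z : sc (K.X b).val W) (hz : apm (K.d b c).val W z = 0) {x : 𝔛.X 0} (hx : x ∈ W) :
    ∃ (W' : (𝔛.X 0).Opens) (h : W' ≤ W), x ∈ W' ∧ ∃ (q : ℕ) (w : sc (K.X a).val W'),
      apm (K.d a b).val W' w = rr (h.trans hW) t ^ q • rm (K.X b) h z := by
  obtain ⟨W₁, h₁, hx₁, n, hn⟩ := hT a b c hab hbc W z hz x hx
  obtain ⟨W₂, hW₂, hx₂, h₂⟩ := (IndCoh.goodBasis h𝔛).exists_mem x W₁ hx₁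
  have hmem : rr (h₁.trans hW) (t ^ (n + 1)) ∈ (FTors.openIdealFam 𝔛 h𝔛.1).ideal n W₁ :=
    (FTors.openIdealFam 𝔛 h𝔛.1).map_mem n (homOfLE (h₁.trans hW))
      ((mem_pow_iff h𝔛 hV n _).1 (Ideal.pow_mem_pow ht _))
  obtain ⟨W₃, h₃, hx₃, w, hw⟩ := hn _ hmem x hx₁
  refine ⟨W₃, h₃.trans h₁, hx₃, n + 1, w, ?_⟩
  rw [hw, rr_rr, map_pow]

/-- Torsion for a larger ideal. -/
theorem Tk.mono' {J J' : Ideal (RS h𝔛.1 V)} (hJ : J ≤ J') {hW : W ≤ V} {s : sc G.val W}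
    (hs : Tk h𝔛 J' hW s) : Tk h𝔛 J hW s := fun x hx => by
  obtain ⟨W₁, h₁, hx₁, n, hn⟩ := hs x hx
  exact ⟨W₁, h₁, hx₁, n, fun a ha => hn a (Ideal.pow_right_mono hJ n ha)⟩

/-- Torsion for a sum. -/
theorem Tk.sup_span {J : Ideal (RS h𝔛.1 V)} (t : RS h𝔛.1 V) {hW : W ≤ V} {s : sc G.val W}
    (hs : Tk h𝔛 J hW s) {m : ℕ} (hm : rr hW t ^ m • s = 0) : Tk h𝔛 (J ⊔ Ideal.span {t}) hW s := fun x hx => by
  obtain ⟨W₁, h₁, hx₁, n, hn⟩ := hs x hx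
  refine ⟨W₁, h₁, hx₁, n + m, fun a ha => ?_⟩
  obtain ⟨b, hb, c, hc, rfl⟩ := Submodule.mem_sup.1
    ((Ideal.sup_pow_add_le_pow_sup_pow (I := J) (J := Ideal.span {t})) ha)
  rw [Ideal.span_singleton_pow, Ideal.mem_span_singleton'] at hc
  obtain ⟨d, rfl⟩ := hc
  have h2 := congrArg (rm G h₁) hm
  simp only [rm_smul, map_pow, rr_rr, map_zero] at h2
  rw [map_add, add_smul, hn b hb, zero_add, map_mul, mul_smul, map_pow, h2, smul_zero]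

variable {J : Ideal (RS h𝔛.1 V)}

/-- Powers become stable. -/
theorem exists_bound (hW : IsAffineOpen W) (t : RS h𝔛.1 W) :
    ∃ r, ∀ (j : ℕ) (v : RS h𝔛.1 W), v * t ^ (j + r) = 0 → v * t ^ r = 0 := by
  haveI := isNoetherianRing h𝔛 hW
  let f : ℕ →o Submodule (RS h𝔛.1 W) (RS h𝔛.1 W) :=
    ⟨fun j => LinearMap.ker (LinearMap.mulRight (RS h𝔛.1 W) (t ^ j)), fun i j hij v hv => by
      simp only [LinearMap.mem_ker, LinearMap.mulRight_apply] at hv ⊢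
      rw [← Nat.add_sub_cancel' hij, pow_add, ← mul_assoc, hv, zero_mul]⟩
  obtain ⟨r, hr⟩ := monotone_stabilizes_iff_noetherian.2 (inferInstance : IsNoetherian (RS h𝔛.1 W) (RS h𝔛.1 W)) f
  refine ⟨r, fun j v hv => ?_⟩
  have h : v ∈ f (j + r) := by
    simp only [f, OrderHom.coe_mk, LinearMap.mem_ker, LinearMap.mulRight_apply]
    exact hv
  rw [← hr (j + r) (Nat.le_add_left r j)] at h
  simp only [f, OrderHom.coe_mk, LinearMap.mem_ker, LinearMap.mulRight_apply] at h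
  exact h

/-- Division by a power up to torsion. -/
theorem exists_div (hG : ExtP h𝔛 G) (hW : W ≤ V) (t : RS h𝔛.1 V) (q : ℕ) (z : sc G.val W)
    (hz : Tk h𝔛 J hW z) {x : 𝔛.X 0} (hx : x ∈ W) :
    ∃ (W' : (𝔛.X 0).Opens) (h : W' ≤ W), x ∈ W' ∧ ∃ (r : ℕ) (z' : sc G.val W'),
      Tk h𝔛 J (h.trans hW) z' ∧ rr (h.trans hW) t ^ (q + r) • z' = rr (h.trans hW) t ^ r • rm G h z := by
  obtain ⟨W₁, hW₁, hx₁, h₁⟩ := (IndCoh.goodBasis h𝔛).exists_mem x W hx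
  let t₁ := rr (h₁.trans hW) t
  obtain ⟨r, hr⟩ := exists_bound h𝔛 hW₁ t₁
  obtain ⟨W₂, h₂, hx₂, y, hy, hyT⟩ := exists_ext_tors h𝔛 hG J (h₁.trans hW) hW₁ (ι := Unit) (k := 1)
    (fun _ _ => t₁ ^ (q + r)) (fun _ => t₁ ^ r • rm G h₁ z) (fun v hv => by
      have h := hv 0
      simp only [Finset.univ_unique, Finset.sum_singleton] at h ⊢
      rw [smul_smul, hr q (v default) h, zero_smul]) (fun _ => (hz.res h₁).smul _) hx₁
  refine ⟨W₂, h₂.trans h₁, hx₂, r, y 0, hyT 0, ?_⟩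
  have h := hy ()
  simp only [Fin.sum_univ_one, rm_smul, rm_rm, map_pow, t₁, rr_rr] at h
  exact h.symm

variable (K : CochainComplex (FSch.ModF 𝔛 h𝔛.1) ℤ)

/-- A torsion cocycle which is a coboundary is locally the coboundary of a torsion section. -/
def InjJ (J : Ideal (RS h𝔛.1 V)) : Prop :=
  ∀ (a b : ℤ), a + 1 = b → ∀ (W : (𝔛.X 0).Opens) (hW : W ≤ V) (z : sc (K.X b).val W), Tk h𝔛 J hW z →
    ∀ y : sc (K.X a).val W, apm (K.d a b).val W y = z → ∀ x ∈ W, ∃ (W' : (𝔛.X 0).Opens) (h : W' ≤ W), x ∈ W' ∧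
      ∃ y' : sc (K.X a).val W', Tk h𝔛 J (h.trans hW) y' ∧ apm (K.d a b).val W' y' = rm (K.X b) h z

/-- Every cocycle is locally cohomologous to a torsion one. -/
def SurjJ (J : Ideal (RS h𝔛.1 V)) : Prop :=
  ∀ (a b c : ℤ), a + 1 = b → b + 1 = c → ∀ (W : (𝔛.X 0).Opens) (hW : W ≤ V) (z : sc (K.X b).val W),
    apm (K.d b c).val W z = 0 → ∀ x ∈ W, ∃ (W' : (𝔛.X 0).Opens) (h : W' ≤ W), x ∈ W' ∧
      ∃ (z' : sc (K.X b).val W') (y : sc (K.X a).val W'), Tk h𝔛 J (h.trans hW) z' ∧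
        apm (K.d b c).val W' z' = 0 ∧ rm (K.X b) h z = z' + apm (K.d a b).val W' y

variable {K} (hK : ∀ i, ExtP h𝔛 (K.X i)) (hT : TorsCoh h𝔛 K) (hV : IsAffineOpen V)

theorem injJ_bot : InjJ h𝔛 K (⊥ : Ideal (RS h𝔛.1 V)) := fun a b _ W hW z _ y hy x hx =>
  ⟨W, le_rfl, hx, y, fun p hp => ⟨W, le_rfl, hp, 1, fun r hr => by
    rw [pow_one, Ideal.mem_bot] at hr
    rw [hr, map_zero, zero_smul]⟩, by rw [hy, rm_self]⟩

theorem surjJ_bot : SurjJ h𝔛 K (⊥ : Ideal (RS h𝔛.1 V)) := fun a b c _ _ W hW z hz x hx =>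
  ⟨W, le_rfl, hx, z, 0, fun p hp => ⟨W, le_rfl, hp, 1, fun r hr => by
    rw [pow_one, Ideal.mem_bot] at hr
    rw [hr, map_zero, zero_smul]⟩, hz, by rw [rm_self, map_zero, add_zero]⟩

include hK hT hV

theorem injJ_step {t : RS h𝔛.1 V} (ht : t ∈ idl h𝔛.1 V) (hI : InjJ h𝔛 K J) :
    InjJ h𝔛 K (J ⊔ Ideal.span {t}) := by
  intro a b hab W hW z hz y hy x hx
  obtain ⟨W₁, h₁, hx₁, y₁, hy₁T, hy₁⟩ := hI a b hab W hW z (Tk.mono' h𝔛 le_sup_left hz) y hy x hx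
  obtain ⟨W₂, h₂, hx₂, q, hq⟩ := (hz.res h₁) x hx₁
  have htz : rr ((h₂.trans h₁).trans hW) t ^ q • rm (K.X b) (h₂.trans h₁) z = 0 := by
    have h := hq (t ^ q) (Ideal.pow_mem_pow (Ideal.mem_sup_right (Ideal.mem_span_singleton_self t)) q)
    rw [rm_rm, map_pow] at h
    exact h
  have hu : apm (K.d a b).val W₂ (rr ((h₂.trans h₁).trans hW) t ^ q • rm (K.X a) h₂ y₁) = 0 := by
    rw [map_smul, ← rm_apm, hy₁, rm_rm, htz]
  obtain ⟨W₃, h₃, hx₃, q', w, hw⟩ := exists_pow_boundary h𝔛 hT hV ht (sub_add_cancel a 1) hab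
    ((h₂.trans h₁).trans hW) _ hu hx₂
  have hle₃ := (h₃.trans h₂).trans h₁
  have hw' : apm (K.d (a - 1) a).val W₃ w = rr (hle₃.trans hW) t ^ (q + q') • rm (K.X a) (h₃.trans h₂) y₁ := by
    rw [hw, rm_smul, map_pow, rr_rr, rm_rm, smul_smul, ← pow_add, add_comm]
  obtain ⟨W₄, h₄, hx₄, w₁, hw₁T, hw₁⟩ := hI (a - 1) a (sub_add_cancel a 1) W₃ (hle₃.trans hW) _
    ((hy₁T.res (h₃.trans h₂)).smul _) w hw' x hx₃
  obtain ⟨W₅, h₅, hx₅, r, w₂, hw₂T, hw₂⟩ := exists_div h𝔛 (hK (a - 1)) _ t (q + q') w₁ hw₁T hx₄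
  have hle₅ := ((h₅.trans h₄).trans hle₃)
  let y₂ := rm (K.X a) (((h₅.trans h₄).trans h₃).trans h₂) y₁ - apm (K.d (a - 1) a).val W₅ w₂
  have hy₂ : rr (hle₅.trans hW) t ^ (q + q' + r) • y₂ = 0 := by
    rw [smul_sub, sub_eq_zero, ← map_smul (apm (K.d (a - 1) a).val W₅), hw₂, map_smul, ← rm_apm, hw₁, rm_rm,
      rm_smul, map_pow, rr_rr, rm_rm, smul_smul, ← pow_add, add_comm r]
  refine ⟨W₅, hle₅, hx₅, y₂, Tk.sup_span h𝔛 t ((hy₁T.res _).sub (hw₂T.map _)) hy₂, ?_⟩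
  rw [map_sub, d_d_apply, sub_zero, ← rm_apm, hy₁, rm_rm]

theorem surjJ_step {t : RS h𝔛.1 V} (ht : t ∈ idl h𝔛.1 V) (hI : InjJ h𝔛 K J) (hS : SurjJ h𝔛 K J) :
    SurjJ h𝔛 K (J ⊔ Ideal.span {t}) := by
  intro a b c hab hbc W hW z hz x hx
  obtain ⟨W₁, h₁, hx₁, z₁, y, hz₁T, hz₁, hzy⟩ := hS a b c hab hbc W hW z hz x hx
  obtain ⟨W₂, h₂, hx₂, q, w, hw⟩ := exists_pow_boundary h𝔛 hT hV ht hab hbc (h₁.trans hW) z₁ hz₁ hx₁
  obtain ⟨W₃, h₃, hx₃, w₁, hw₁T, hw₁⟩ := hI a b hab W₂ ((h₂.trans h₁).trans hW) _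
    ((hz₁T.res h₂).smul _) w hw x hx₂
  obtain ⟨W₄, h₄, hx₄, r, w₂, hw₂T, hw₂⟩ := exists_div h𝔛 (hK a) _ t q w₁ hw₁T hx₃
  have hle₄ := ((h₄.trans h₃).trans h₂).trans h₁
  let z₂ := rm (K.X b) ((h₄.trans h₃).trans h₂) z₁ - apm (K.d a b).val W₄ w₂
  have hz₂ : rr (hle₄.trans hW) t ^ (q + r) • z₂ = 0 := by
    rw [smul_sub, sub_eq_zero, ← map_smul (apm (K.d a b).val W₄), hw₂, map_smul, ← rm_apm, hw₁, rm_rm,
      rm_smul, map_pow, rr_rr, rm_rm, smul_smul, ← pow_add, add_comm r]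
  refine ⟨W₄, hle₄, hx₄, z₂, rm (K.X a) ((h₄.trans h₃).trans h₂) y + w₂,
    Tk.sup_span h𝔛 t ((hz₁T.res _).sub (hw₂T.map _)) hz₂, ?_, ?_⟩
  · rw [map_sub, d_d_apply, sub_zero, ← rm_apm, hz₁, map_zero]
  · rw [← rm_rm (K.X b) h₁ ((h₄.trans h₃).trans h₂), hzy, map_add, rm_apm, map_add]
    simp only [z₂]
    abel

/-- The two properties for the ideal of definition. -/
theorem injJ_surjJ_idl : InjJ h𝔛 K (idl h𝔛.1 V) ∧ SurjJ h𝔛 K (idl h𝔛.1 V) := by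
  classical
  haveI := isNoetherianRing h𝔛 hV
  obtain ⟨s, hs⟩ := (IsNoetherian.noetherian (idl h𝔛.1 V) : (idl h𝔛.1 V).FG)
  have key : ∀ s' : Finset (RS h𝔛.1 V), s' ⊆ s →
      InjJ h𝔛 K (Ideal.span (s' : Set (RS h𝔛.1 V))) ∧ SurjJ h𝔛 K (Ideal.span (s' : Set (RS h𝔛.1 V))) := by
    intro s'
    induction s' using Finset.induction_on with
    | empty => intro _; rw [Finset.coe_empty, Ideal.span_empty]; exact ⟨injJ_bot h𝔛, surjJ_bot h𝔛⟩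
    | insert t s'' hts ih =>
      intro hsub
      rw [Finset.insert_subset_iff] at hsub
      obtain ⟨hI, hS⟩ := ih hsub.2
      have ht : t ∈ idl h𝔛.1 V := hs ▸ Ideal.subset_span hsub.1
      rw [Finset.coe_insert, Ideal.span_insert, sup_comm]
      exact ⟨injJ_step h𝔛 hK hT hV ht hI, surjJ_step h𝔛 hK hT hV ht hI hS⟩
  rw [← hs]
  exact key s Finset.Subset.rfl

omit hT in
/-- Torsion sections are the sections of the torsion part. -/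
theorem tk_idl_of_gamma (i : ℤ) {W : (𝔛.X 0).Opens} (hW : W ≤ V)
    (s : sc ((FTors.gammaT 𝔛 h𝔛.1).obj (K.X i)).val W) :
    Tk h𝔛 (idl h𝔛.1 V) hW (apm ((FTors.gammaι (FTors.openIdealFam 𝔛 h𝔛.1)).app (K.X i)).val W s) := fun y hy => by
  have _ := hK
  obtain ⟨W₁, h₁, hy₁, n, hn⟩ := exists_nhd_of_mem
    (show FTors.killSieve (FTors.openIdealFam 𝔛 h𝔛.1) (K.X i)
      (apm ((FTors.gammaι (FTors.openIdealFam 𝔛 h𝔛.1)).app (K.X i)).val W s) ∈ _ from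
      (s : FTors.torsSub (FTors.openIdealFam 𝔛 h𝔛.1) (K.X i) W).2) hy
  refine ⟨W₁, h₁, hy₁, n + 1, fun a ha => ?_⟩
  have h1 := hn (𝟙 W₁) (rr (h₁.trans hW) a)
    ((FTors.openIdealFam 𝔛 h𝔛.1).map_mem n (homOfLE (h₁.trans hW)) ((mem_pow_iff h𝔛 hV n a).1 ha))
  change rr (h₁.trans hW) a • rm (K.X i) le_rfl (rm (K.X i) h₁ _) = 0 at h1
  rw [rm_self] at h1
  exact h1

omit hT in
theorem exists_gamma_of_tk (i : ℤ) {W : (𝔛.X 0).Opens} (hW : W ≤ V) {s : sc (K.X i).val W}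
    (hs : Tk h𝔛 (idl h𝔛.1 V) hW s) :
    ∃ s' : sc ((FTors.gammaT 𝔛 h𝔛.1).obj (K.X i)).val W,
      apm ((FTors.gammaι (FTors.openIdealFam 𝔛 h𝔛.1)).app (K.X i)).val W s' = s := by
  have _ := hK
  refine ⟨(show FTors.torsSub (FTors.openIdealFam 𝔛 h𝔛.1) (K.X i) W from ⟨s, ?_⟩), rfl⟩
  refine mem_of_nhds (FTors.killSieve (FTors.openIdealFam 𝔛 h𝔛.1) (K.X i) s) fun z hz => ?_
  obtain ⟨W₁, h₁, hz₁, n, hn⟩ := hs z hz
  obtain ⟨W₂, hW₂, hz₂, h₂⟩ := (IndCoh.goodBasis h𝔛).exists_mem z W₁ hz₁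
  refine ⟨W₂, h₂.trans h₁, hz₂, n, (killed_iff h𝔛 hW₂ n _).2 fun b hb => ?_⟩
  rw [← map_idl h𝔛 hV hW₂ ((h₂.trans h₁).trans hW), ← Ideal.map_pow] at hb
  refine smul_eq_zero_of_mem_map h𝔛 _ (fun a ha => ?_) hb
  have e := congrArg (rm (K.X i) h₂) (hn a (Ideal.pow_le_pow_right (Nat.le_succ n) ha))
  simp only [rm_smul, rm_rm, rr_rr, map_zero] at e
  exact e

omit hV

/-- The inclusion of the torsion subcomplex. -/
noncomputable def incl (K : CochainComplex (FSch.ModF 𝔛 h𝔛.1) ℤ) :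
    ((FTors.gammaT 𝔛 h𝔛.1).mapHomologicalComplex (ComplexShape.up ℤ)).obj K ⟶ K where
  f i := (FTors.gammaι (FTors.openIdealFam 𝔛 h𝔛.1)).app (K.X i)
  comm' i j _ := ((FTors.gammaι (FTors.openIdealFam 𝔛 h𝔛.1)).naturality (K.d i j)).symm

/-- The torsion subcomplex is quasi-isomorphic to a complex with torsion cohomology. -/
theorem quasiIso_gammaι : QuasiIso (incl h𝔛 K) := by
  let ι' : ∀ i, (FTors.gammaT 𝔛 h𝔛.1).obj (K.X i) ⟶ K.X i := fun i =>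
    (FTors.gammaι (FTors.openIdealFam 𝔛 h𝔛.1)).app (K.X i)
  haveI hm : ∀ i, Mono (ι' i) := fun i => TorsColim.mono_gammaι _ _
  have hcomm : ∀ (i j : ℤ), (((FTors.gammaT 𝔛 h𝔛.1).mapHomologicalComplex (ComplexShape.up ℤ)).obj K).d i j ≫ ι' j =
      ι' i ≫ K.d i j := fun i j => (FTors.gammaι (FTors.openIdealFam 𝔛 h𝔛.1)).naturality (K.d i j)
  refine quasiIso_of_sections _ (fun a b c hab hbc W z hz y hy x hx => ?_) fun a b c hab hbc W z hz x hx => ?_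
  · obtain ⟨V, hV, hxV, hVW⟩ := (IndCoh.goodBasis h𝔛).exists_mem x W hx
    obtain ⟨W₁, h₁, hx₁, y', hy'T, hy'⟩ := (injJ_surjJ_idl h𝔛 hK hT hV).1 a b hab V le_rfl
      (rm (K.X b) hVW (apm (ι' b).val W z))
      (by rw [rm_apm]; exact tk_idl_of_gamma h𝔛 hK hV b le_rfl _) (rm (K.X a) hVW y)
      (by rw [← rm_apm]; exact congrArg (rm (K.X b) hVW) hy) x hxV
    obtain ⟨w, hw⟩ := exists_gamma_of_tk h𝔛 hK hV a _ hy'T
    refine ⟨W₁, h₁.trans hVW, hx₁, w, injective_of_mono (ι' b) W₁ ?_⟩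
    refine Eq.trans (congrArg (fun f : (FTors.gammaT 𝔛 h𝔛.1).obj (K.X a) ⟶ K.X b => apm f.val W₁ w) (hcomm a b)) ?_
    show apm (K.d a b).val W₁ (apm (ι' a).val W₁ w) = _
    rw [show apm (ι' a).val W₁ w = y' from hw, hy', rm_rm]
    exact rm_apm _ _ _
  · obtain ⟨V, hV, hxV, hVW⟩ := (IndCoh.goodBasis h𝔛).exists_mem x W hx
    obtain ⟨W₁, h₁, hx₁, z', y, hz'T, hz', hzy⟩ := (injJ_surjJ_idl h𝔛 hK hT hV).2 a b c hab hbc V le_rfl
      (rm (K.X b) hVW z) (by rw [← rm_apm, hz, map_zero]) x hxV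
    obtain ⟨w, hw⟩ := exists_gamma_of_tk h𝔛 hK hV b _ hz'T
    refine ⟨W₁, h₁.trans hVW, hx₁, w, y, injective_of_mono (ι' c) W₁ ?_, ?_⟩
    · refine Eq.trans (congrArg (fun f : (FTors.gammaT 𝔛 h𝔛.1).obj (K.X b) ⟶ K.X c => apm f.val W₁ w) (hcomm b c)) ?_
      show apm (K.d b c).val W₁ (apm (ι' b).val W₁ w) = _
      rw [show apm (ι' b).val W₁ w = z' from hw, hz']
      exact (map_zero _).symm
    · rw [← rm_rm (K.X b) hVW h₁, hzy]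
      exact congrArg (· + _) hw.symm

end Groth.AdicLinTop.TorsAcyclic
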