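import Groth.Agent.AdicLinTop.AffineGens
import Groth.Agent.AdicLinTop.GlobalGen
import Groth.Prelude.Def_FTors2
import Mathlib.Topology.Sheaves.SheafCondition.UniqueGluing

/-!
# Quasi-coherent torsion modules over affine opens of formal schemes

A torsion section over an affine open is killed by a power of the ideal of definition; quasi-coherent
torsion modules are generated by their sections over every affine open.
-/

set_option autoImplicit false

universe u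

open CategoryTheory CategoryTheory.Limits AlgebraicGeometry TopologicalSpace Opposite

set_option backward.defeqAttrib.useBackward true
set_option backward.isDefEq.respectTransparency false
set_option backward.isDefEq.respectTransparency.types false
set_option synthInstance.maxHeartbeats 400000
set_option maxHeartbeats 1000000

namespace Groth.AdicLinTop.TorsAff

open Groth.SitesTopoi.ModH Groth.AdicLinTop.SpacePres Groth.AdicLinTop.CohKer Groth.AdicLinTop.QcohLocal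
open Groth.AdicLinTop.FormalAffine Groth.AdicLinTop.AffineGlue Groth.AdicLinTop.AffineSections

variable {𝔛 : FSch.Sys.{u}} (h𝔛 : 𝔛.IsLocNoethFormal) {F : FSch.ModF 𝔛 h𝔛.1} {U W : (𝔛.X 0).Opens}

/-- A section killed by an open ideal. -/
abbrev Killed (n : ℕ) (s : sc F.val U) : Prop := FTors.KilledBy (FTors.openIdealFam 𝔛 h𝔛.1) F n (V := U) s

/-- Killing is local. -/
theorem killed_of_local {n : ℕ} {s : sc F.val U}
    (h : ∀ x ∈ U, ∃ (V : (𝔛.X 0).Opens) (hV : V ≤ U), x ∈ V ∧ Killed h𝔛 n (rm F hV s)) : Killed h𝔛 n s := by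
  intro W g a ha
  show a • rm F g.le s = 0
  refine eq_zero_of_local fun x hx => ?_
  obtain ⟨V, hV, hxV, hk⟩ := h x (g.le hx)
  refine ⟨W ⊓ V, inf_le_left, ⟨hx, hxV⟩, ?_⟩
  rw [rm_smul, rm_rm]
  have h1 := hk (homOfLE (inf_le_right : W ⊓ V ≤ V)) (rr inf_le_left a)
    ((FTors.openIdealFam 𝔛 h𝔛.1).map_mem n (homOfLE (inf_le_left : W ⊓ V ≤ W)) ha)
  change rr (inf_le_left : W ⊓ V ≤ W) a • rm F (inf_le_right : W ⊓ V ≤ V) (rm F hV s) = 0 at h1
  rw [rm_rm] at h1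
  exact h1

/-- Over an affine open the open ideals are the powers of the ideal of definition. -/
theorem killed_iff (hU : IsAffineOpen U) (n : ℕ) (s : sc F.val U) :
    Killed h𝔛 n s ↔ ∀ a ∈ idl h𝔛.1 U ^ (n + 1), a • s = 0 := by
  refine ⟨fun h a ha => ?_, fun h W g a ha => ?_⟩
  · have h1 : a • rm F le_rfl s = 0 := h (𝟙 U) a ((mem_pow_iff h𝔛 hU n a).1 ha)
    rwa [rm_self] at h1
  · show a • rm F g.le s = 0
    refine eq_zero_of_local fun x hx => ?_
    obtain ⟨V, hV, hxV, hVW⟩ := (IndCoh.goodBasis h𝔛).exists_mem x W hx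
    refine ⟨V, hVW, hxV, ?_⟩
    rw [rm_smul, rm_rm]
    have h1 : rr hVW a ∈ idl h𝔛.1 V ^ (n + 1) :=
      (mem_pow_iff h𝔛 hV n _).2 ((FTors.openIdealFam 𝔛 h𝔛.1).map_mem n (homOfLE hVW) ha)
    rw [← map_idl h𝔛 hU hV (hVW.trans g.le), ← Ideal.map_pow, Ideal.map] at h1
    refine Submodule.span_induction (p := fun b _ => b • rm F (hVW.trans g.le) s = 0) ?_ (zero_smul _ _)
      (fun b c _ _ hb hc => by rw [add_smul, hb, hc, add_zero])
      (fun b c _ hc => by rw [smul_assoc, hc, smul_zero]) h1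
    rintro _ ⟨b, hb, rfl⟩
    show rr (hVW.trans g.le) b • rm F (hVW.trans g.le) s = 0
    rw [← rm_smul, h b hb, map_zero]

/-- Torsion sections over a quasi-compact open are killed by one open ideal. -/
theorem exists_killed (hF : FTors.IsTorsF 𝔛 h𝔛.1 F) (hU : IsCompact (U : Set (𝔛.X 0))) (s : sc F.val U) :
    ∃ n, Killed h𝔛 n s := by
  classical
  have h0 : ∀ x : U, ∃ (V : (𝔛.X 0).Opens) (hV : V ≤ U), x.1 ∈ V ∧ ∃ n, Killed h𝔛 n (rm F hV s) := fun x => by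
    obtain ⟨V, hV, hxV, hg⟩ := exists_nhd_of_mem (hF U s) x.2
    exact ⟨V, hV, hxV, hg⟩
  choose V hV hxV n hn using h0
  obtain ⟨t, ht⟩ := hU.elim_finite_subcover (fun x : U => (V x : Set (𝔛.X 0))) (fun x => (V x).2)
    fun x hx => Set.mem_iUnion.2 ⟨⟨x, hx⟩, hxV ⟨x, hx⟩⟩
  refine ⟨t.sup n, killed_of_local h𝔛 fun x hx => ?_⟩
  obtain ⟨i, hi, hxi⟩ := Set.mem_iUnion₂.1 (ht hx)
  exact ⟨V i, hV i, hxi, (hn i).mono (Finset.le_sup hi)⟩

/-- A section which is locally a combination of finitely many sections over an affine open is a combination. -/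
theorem mem_span_of_comb (hW : IsAffineOpen W) (hF : RelFin (O := 𝔛.Osh h𝔛.1) F) {n : ℕ}
    (c : Fin n → sc F.val W) (g : sc F.val W)
    (hg : ∀ x ∈ W, ∃ (V : (𝔛.X 0).Opens) (hV : V ≤ W), x ∈ V ∧ ∃ a : Fin n → RS h𝔛.1 V,
      rm F hV g = ∑ i, a i • rm F hV (c i)) :
    g ∈ Submodule.span (RS h𝔛.1 W) (Set.range c) := by
  classical
  obtain ⟨l, ⟨R⟩⟩ := exists_relData_of_relFin h𝔛 hW hF (Fin.append c fun _ : Fin 1 => g)
  have h1 : (fun _ : Fin 1 => (1 : RS h𝔛.1 W)) ∈ Submodule.span (RS h𝔛.1 W)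
      (Set.range fun q => fun i : Fin 1 => R.e q (Fin.natAdd n i)) := by
    refine mem_span_of_local h𝔛 hW _ _ fun x hx => ?_
    obtain ⟨V, hV, hxV, a, ha⟩ := hg x hx
    obtain ⟨V', hV', hxV', d, hd⟩ := R.rel V hV (Fin.append (fun i => -a i) fun _ => 1) (by
      simp only [Fin.sum_univ_add, Fin.append_left, Fin.append_right, Fin.sum_univ_one, neg_smul, one_smul,
        Finset.sum_neg_distrib]
      rw [← ha, neg_add_cancel]) x hxV
    refine ⟨V', hV'.trans hV, hxV', d, fun i => ?_⟩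
    have h := hd (Fin.natAdd n i)
    simp only [Fin.append_right, map_one] at h
    rw [map_one]
    exact h
  obtain ⟨d, hd⟩ := (Submodule.mem_span_range_iff_exists_fun _).1 h1
  have hd0 : ∑ q, d q * R.e q (Fin.natAdd n 0) = 1 := by
    have h := congrFun hd 0
    simpa only [Finset.sum_apply, Pi.smul_apply, smul_eq_mul] using h
  have h : ∀ q, R.e q (Fin.natAdd n 0) • g = -∑ i, R.e q (Fin.castAdd 1 i) • c i := fun q => by
    have h := R.zero q
    simp only [Fin.sum_univ_add, Fin.append_left, Fin.append_right, Fin.sum_univ_one] at h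
    exact eq_neg_of_add_eq_zero_right h
  have e : g = ∑ q, d q • -∑ i, R.e q (Fin.castAdd 1 i) • c i := by
    conv_lhs => rw [← one_smul (RS h𝔛.1 W) g, ← hd0, Finset.sum_smul]
    exact Finset.sum_congr rfl fun q _ => by rw [mul_smul, h]
  rw [e]
  exact Submodule.sum_mem _ fun q _ => Submodule.smul_mem _ _ (neg_mem (Submodule.sum_mem _ fun i _ =>
    Submodule.smul_mem _ _ (Submodule.subset_span ⟨i, rfl⟩)))

/-- Local generators over an affine open generate the module of sections. -/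
theorem span_eq_top_of_gens (hW : IsAffineOpen W) (hF : RelFin (O := 𝔛.Osh h𝔛.1) F) {κ : Type u}
    {g : κ → sc F.val W} (hg : Gens (O := 𝔛.Osh h𝔛.1) g) :
    Submodule.span (RS h𝔛.1 W) (Set.range g) = ⊤ := by
  classical
  rw [eq_top_iff]
  intro x _
  choose V hV hxV s a ha using fun y : W => hg W le_rfl x y.1 y.2
  obtain ⟨t, ht⟩ := hW.isCompact.elim_finite_subcover (fun y : W => (V y : Set (𝔛.X 0))) (fun y => (V y).2)
    fun y hy => Set.mem_iUnion.2 ⟨⟨y, hy⟩, hxV ⟨y, hy⟩⟩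
  let T := t.biUnion s
  refine Submodule.span_mono ?_
    (mem_span_of_comb h𝔛 hW hF (fun i : Fin T.card => g (T.equivFin.symm i).1) x fun y hy => ?_)
  · rintro _ ⟨i, rfl⟩
    exact ⟨_, rfl⟩
  obtain ⟨i, hi, hyi⟩ := Set.mem_iUnion₂.1 (ht hy)
  refine ⟨V i, hV i, hyi, fun j => if (T.equivFin.symm j).1 ∈ s i then a i (T.equivFin.symm j).1 else 0, ?_⟩
  rw [show rm F (hV i) x = _ from ha i]
  have hsub : s i ⊆ T := Finset.subset_biUnion_of_mem s hi
  rw [Equiv.sum_comp T.equivFin.symm (fun k : T => (if k.1 ∈ s i then a i k.1 else 0) • rm F (hV i) (g k.1)),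
    Finset.sum_coe_sort T (fun k => (if k ∈ s i then a i k else 0) • rm F (hV i) (g k))]
  refine (Finset.sum_subset hsub fun k _ hk => by rw [if_neg hk, zero_smul]).symm.trans ?_ |>.symm
  exact Finset.sum_congr rfl fun k hk => by rw [if_pos hk]

/-- A finite family of torsion sections is killed by one power. -/
theorem exists_killed_finset (hF : FTors.IsTorsF 𝔛 h𝔛.1 F) (hW : IsAffineOpen W) {κ : Type*} (g : κ → sc F.val W)
    (s : Finset κ) : ∃ N, ∀ i ∈ s, ∀ a ∈ idl h𝔛.1 W ^ (N + 1), a • g i = 0 := by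
  choose n hn using fun i => exists_killed h𝔛 hF hW.isCompact (g i)
  exact ⟨s.sup n, fun i hi => (killed_iff h𝔛 hW _ _).1 ((hn i).mono (Finset.le_sup hi))⟩

/-- Torsion sections over a basic open extend up to a power of the element. -/
theorem exists_extend {W' : (𝔛.X 0).Opens} (hW : IsAffineOpen W) (hR : RelFin (O := 𝔛.Osh h𝔛.1) F)
    (hT : FTors.IsTorsF 𝔛 h𝔛.1 F) {κ : Type u} {g : κ → sc F.val W} (hg : Gens (O := 𝔛.Osh h𝔛.1) g)
    (p : RS h𝔛.1 W) (e : W' ≤ W) (he : W' = bas h𝔛 p) (x : sc F.val W') :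
    ∃ (q : ℕ) (y : sc F.val W), resR h𝔛.1 e p ^ q • x = rm F e y := by
  classical
  subst he
  have hW' := isAffineOpen_bas h𝔛 hW p
  obtain ⟨c, rfl⟩ := (Finsupp.mem_span_range_iff_exists_finsupp).1
    (span_eq_top_of_gens h𝔛 hW' hR (hg.restrict e) ▸ Submodule.mem_top :
      x ∈ Submodule.span (RS h𝔛.1 (bas h𝔛 p)) (Set.range fun i => rm F e (g i)))
  obtain ⟨N, hN⟩ := exists_killed_finset h𝔛 hT hW g c.support
  let m := c.support.card
  let idx : Fin m → κ := fun k => (c.support.equivFin.symm k).1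
  obtain ⟨q, b, hb⟩ := (locMod h𝔛 hW p N).surj_vec (fun k => c (idx k))
  refine ⟨q, ∑ k, b k • g (idx k), ?_⟩
  rw [Finsupp.sum, sum_fin c.support c fun i => rm F e (g i), Finset.smul_sum, map_sum]
  refine Finset.sum_congr rfl fun k _ => ?_
  rw [rm_smul, smul_smul, ← sub_eq_zero, ← sub_smul]
  have h1 : Killed h𝔛 N (rm F e (g (idx k))) :=
    ((killed_iff h𝔛 hW N _).2 (hN _ (c.support.equivFin.symm k).2)).res (homOfLE e)
  refine (killed_iff h𝔛 hW' N _).1 h1 _ ?_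
  have h2 := mem_vI.1 hb k
  simpa only [Pi.sub_apply, Pi.smul_apply, smul_eq_mul, Function.comp_apply] using h2

/-- Torsion sections vanishing on a basic open are killed by a power of the element. -/
theorem exists_pow_smul {W' : (𝔛.X 0).Opens} (hW : IsAffineOpen W) (hR : RelFin (O := 𝔛.Osh h𝔛.1) F)
    (hT : FTors.IsTorsF 𝔛 h𝔛.1 F) {κ : Type u} {g : κ → sc F.val W} (hg : Gens (O := 𝔛.Osh h𝔛.1) g)
    (p : RS h𝔛.1 W) (e : W' ≤ W) (he : W' = bas h𝔛 p) {x : sc F.val W} (hx : rm F e x = 0) :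
    ∃ q : ℕ, p ^ q • x = 0 := by
  classical
  subst he
  have hW' := isAffineOpen_bas h𝔛 hW p
  obtain ⟨c, rfl⟩ := (Finsupp.mem_span_range_iff_exists_finsupp).1
    (span_eq_top_of_gens h𝔛 hW hR hg ▸ Submodule.mem_top : x ∈ Submodule.span (RS h𝔛.1 W) (Set.range g))
  obtain ⟨N, hN⟩ := exists_killed_finset h𝔛 hT hW g c.support
  let m := c.support.card
  let gs : Fin m → sc F.val W := fun k => g (c.support.equivFin.symm k).1
  let a : Fin m → RS h𝔛.1 W := fun k => c (c.support.equivFin.symm k).1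
  have hxa : (c.sum fun i r => r • g i) = ∑ k, a k • gs k := by
    rw [Finsupp.sum]
    exact sum_fin c.support c g
  rw [hxa] at hx ⊢
  obtain ⟨l, ⟨R⟩⟩ := exists_relData_of_relFin h𝔛 hW hR gs
  simp only [map_sum, rm_smul] at hx
  have hmem : resR h𝔛.1 e ∘ a ∈ ext (resR h𝔛.1 e)
      (Submodule.span (RS h𝔛.1 W) (Set.range R.e) ⊔ vI (idl h𝔛.1 W ^ (N + 1))) := by
    refine ext_mono le_sup_left (Submodule.span_le.2 ?_ (mem_span_of_local h𝔛 hW'
      (fun q i => resR h𝔛.1 e (R.e q i)) (resR h𝔛.1 e ∘ a) fun y hy => ?_))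
    · rintro _ ⟨q, rfl⟩
      exact mem_ext _ (Submodule.subset_span ⟨q, rfl⟩)
    · obtain ⟨V, hV, hyV, cc, hcc⟩ := R.rel (bas h𝔛 p) e (resR h𝔛.1 e ∘ a) hx y hy
      exact ⟨V, hV, hyV, cc, fun i => (hcc i).trans (Finset.sum_congr rfl fun q _ => congrArg _ (rr_rr _ _ _).symm)⟩
  obtain ⟨q, hq⟩ := (locMod h𝔛 hW p N).mem_of_ext le_sup_right (Submodule.mem_sup_left hmem)
  obtain ⟨r, hr, r', hr', hrr⟩ := Submodule.mem_sup.1 hq
  refine ⟨q, ?_⟩
  have h0 : ∑ k, r k • gs k = 0 := by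
    obtain ⟨w, rfl⟩ := (Submodule.mem_span_range_iff_exists_fun _).1 hr
    simp only [Finset.sum_apply, Pi.smul_apply, smul_eq_mul, Finset.sum_smul, mul_smul]
    rw [Finset.sum_comm]
    simp only [← Finset.smul_sum, R.zero, smul_zero, Finset.sum_const_zero]
  have h := fun k => congrFun hrr k
  simp only [Pi.add_apply, Pi.smul_apply, smul_eq_mul] at h
  simp only [Finset.smul_sum, smul_smul, ← h, add_smul, Finset.sum_add_distrib, h0, zero_add]
  exact Finset.sum_eq_zero fun k _ => hN _ (c.support.equivFin.symm k).2 _ (mem_vI.1 hr' k)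

/-- The element is invertible on a torsion section over its basic open. -/
theorem exists_inv (hU : IsAffineOpen U) (hT : FTors.IsTorsF 𝔛 h𝔛.1 F) (f : RS h𝔛.1 U) (M : ℕ)
    (x : sc F.val (bas h𝔛 f)) : ∃ c : RS h𝔛.1 (bas h𝔛 f), c • (resR h𝔛.1 (bas_le h𝔛 f) f ^ M • x) = x := by
  have hV := isAffineOpen_bas h𝔛 hU f
  obtain ⟨n, hn⟩ := exists_killed h𝔛 hT hV.isCompact x
  obtain ⟨c, hc⟩ := (locMod h𝔛 hU f n).unit_pow M
  refine ⟨c, ?_⟩
  have h1 := (killed_iff h𝔛 hV n x).1 hn _ hc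
  rw [sub_smul, one_smul, sub_eq_zero, mul_comm] at h1
  rw [smul_smul]
  exact h1

section Glue

variable {J : Type u} [Finite J] (f : J → RS h𝔛.1 U) {κ : J → Type u}
  {g : ∀ l, κ l → sc F.val (bas h𝔛 (f l))} (hg : ∀ l, Gens (O := 𝔛.Osh h𝔛.1) (g l))

include hg in
/-- A torsion section over one of the basic opens of a covering extends up to a power of the element. -/
theorem exists_global (hU : IsAffineOpen U) (hR : RelFin (O := 𝔛.Osh h𝔛.1) F) (hT : FTors.IsTorsF 𝔛 h𝔛.1 F)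
    (hcov : ∀ x ∈ U, ∃ l, x ∈ bas h𝔛 (f l)) (l₀ : J) (s : sc F.val (bas h𝔛 (f l₀))) :
    ∃ (M : ℕ) (y : sc F.val U), rm F (bas_le h𝔛 (f l₀)) y = resR h𝔛.1 (bas_le h𝔛 (f l₀)) (f l₀) ^ M • s := by
  classical
  have := Fintype.ofFinite J
  have hV := fun l => isAffineOpen_bas h𝔛 hU (f l)
  have hext := fun l => exists_extend h𝔛 (hV l) hR hT (hg l) (resR h𝔛.1 (bas_le h𝔛 (f l)) (f l₀))
    (inf_le_left : GlobalGen.ov2 h𝔛 f l l₀ ≤ _) (GlobalGen.ov2_eq h𝔛 f l l₀)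
    (rm F (inf_le_right : GlobalGen.ov2 h𝔛 f l l₀ ≤ _) s)
  choose q y hy using hext
  let N := Finset.univ.sup q
  let y' : ∀ l, sc F.val (bas h𝔛 (f l)) := fun l => resR h𝔛.1 (bas_le h𝔛 (f l)) (f l₀) ^ (N - q l) • y l
  have hy' : ∀ l, resR h𝔛.1 (inf_le_left.trans (bas_le h𝔛 (f l)) : GlobalGen.ov2 h𝔛 f l l₀ ≤ U) (f l₀) ^ N •
      rm F (inf_le_right : GlobalGen.ov2 h𝔛 f l l₀ ≤ _) s =
      rm F (inf_le_left : GlobalGen.ov2 h𝔛 f l l₀ ≤ _) (y' l) := fun l => by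
    simp only [y', rm_smul, map_pow, ← hy l, smul_smul, rr_rr, ← pow_add]
    rw [Nat.sub_add_cancel (Finset.le_sup (Finset.mem_univ l) : q l ≤ N)]
  have hag : ∀ l m, ∃ r : ℕ,
      resR h𝔛.1 (inf_le_left.trans (bas_le h𝔛 (f l)) : GlobalGen.ov2 h𝔛 f l m ≤ U) (f l₀) ^ r •
      (rm F (inf_le_left : GlobalGen.ov2 h𝔛 f l m ≤ _) (y' l) -
        rm F (inf_le_right : GlobalGen.ov2 h𝔛 f l m ≤ _) (y' m)) = 0 := fun l m => by
    refine exists_pow_smul h𝔛 (GlobalGen.isAffineOpen_ov2 h𝔛 f hU l m) hR hT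
      ((hg l).restrict (inf_le_left : GlobalGen.ov2 h𝔛 f l m ≤ _)) _
      (inf_le_left : GlobalGen.ov2 h𝔛 f l m ⊓ bas h𝔛 (f l₀) ≤ _) (GlobalGen.ov3_eq h𝔛 f l m l₀) ?_
    have hl : GlobalGen.ov2 h𝔛 f l m ⊓ bas h𝔛 (f l₀) ≤ GlobalGen.ov2 h𝔛 f l l₀ :=
      le_inf (inf_le_left.trans inf_le_left) inf_le_right
    have hm : GlobalGen.ov2 h𝔛 f l m ⊓ bas h𝔛 (f l₀) ≤ GlobalGen.ov2 h𝔛 f m l₀ :=
      le_inf (inf_le_left.trans inf_le_right) inf_le_right
    have a := congrArg (rm F hl) (hy' l)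
    have b := congrArg (rm F hm) (hy' m)
    simp only [map_sub, rm_smul, map_pow, rm_rm, rr_rr] at a b ⊢
    rw [← a, ← b, sub_self]
  choose r hr using hag
  let M := Finset.univ.sup fun lm : J × J => r lm.1 lm.2
  let σ : ∀ l, sc F.val (bas h𝔛 (f l)) := fun l => resR h𝔛.1 (bas_le h𝔛 (f l)) (f l₀) ^ M • y' l
  have hσ : ∀ l m, rm F (inf_le_left : GlobalGen.ov2 h𝔛 f l m ≤ _) (σ l) =
      rm F (inf_le_right : GlobalGen.ov2 h𝔛 f l m ≤ _) (σ m) := fun l m => by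
    have h := congrArg
      (resR h𝔛.1 (inf_le_left.trans (bas_le h𝔛 (f l)) : GlobalGen.ov2 h𝔛 f l m ≤ U) (f l₀) ^ (M - r l m) • ·) (hr l m)
    simp only [smul_zero, smul_smul, ← pow_add] at h
    rw [Nat.sub_add_cancel (Finset.le_sup (f := fun lm : J × J => r lm.1 lm.2)
      (Finset.mem_univ (l, m)) : r l m ≤ M), smul_sub, sub_eq_zero] at h
    simp only [σ, rm_smul, map_pow, rr_rr]
    exact h
  obtain ⟨z, hz, -⟩ := TopCat.Sheaf.existsUnique_gluing'
    (⟨F.val.presheaf, F.isSheaf⟩ : TopCat.Sheaf AddCommGrpCat.{u} (TopCat.of (𝔛.X 0)))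
    (fun l => bas h𝔛 (f l)) U (fun l => homOfLE (bas_le h𝔛 (f l)))
    (fun p hp => let ⟨l, hl⟩ := hcov p hp; Opens.mem_iSup.2 ⟨l, hl⟩) σ (by exact hσ)
  have hz : ∀ l, rm F (bas_le h𝔛 (f l)) z = σ l := hz
  refine ⟨M + N, z, ?_⟩
  have h := congrArg (rm F (le_inf le_rfl le_rfl : bas h𝔛 (f l₀) ≤ GlobalGen.ov2 h𝔛 f l₀ l₀)) (hy' l₀)
  simp only [rm_smul, map_pow, rm_rm, rr_rr, rm_self] at h
  rw [hz l₀]
  simp only [σ]
  rw [pow_add, mul_smul, h]

end Glue

/-- Quasi-coherent torsion modules are generated by sections over every affine open. -/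
theorem affGen_of_isQCT (hF : FTors.IsQCT 𝔛 h𝔛.1 F) : AffineGens.affGen h𝔛 F := by
  classical
  haveI := hF.2
  have hR := QcohLocal.relFin h𝔛 (F := F)
  refine ⟨hR, fun U hU => ⟨sc F.val U, id, ?_⟩⟩
  have h0 : ∀ x : U, ∃ f : RS h𝔛.1 U, x.1 ∈ bas h𝔛 f ∧
      ∃ (κ : Type u) (g : κ → sc F.val (bas h𝔛 f)), Gens (O := 𝔛.Osh h𝔛.1) g := fun x => by
    obtain ⟨V, hV, hxV, hVU, κ, g, hg⟩ := exists_gens_affine h𝔛 (F := F) x.1 U x.2
    obtain ⟨f, hxf, hfV⟩ := exists_bas_le h𝔛 hU x.2 V hxV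
    exact ⟨f, hxf, κ, _, hg.restrict hfV⟩
  choose f hxf κ g hg using h0
  obtain ⟨t, ht⟩ := hU.isCompact.elim_finite_subcover (fun x : U => (bas h𝔛 (f x) : Set (𝔛.X 0)))
    (fun x => (bas h𝔛 (f x)).2) fun x hx => Set.mem_iUnion.2 ⟨⟨x, hx⟩, hxf ⟨x, hx⟩⟩
  have hcov : ∀ x ∈ U, ∃ l : t, x ∈ bas h𝔛 (f l.1) := fun x hx => by
    obtain ⟨i, hi, hxi⟩ := Set.mem_iUnion₂.1 (ht hx)
    exact ⟨⟨i, hi⟩, hxi⟩
  have hgl : ∀ (l : t) (i : κ l.1), ∃ (c : RS h𝔛.1 (bas h𝔛 (f l.1))) (y : sc F.val U),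
      g l.1 i = c • rm F (bas_le h𝔛 (f l.1)) y := fun l i => by
    obtain ⟨M, y, hy⟩ := exists_global h𝔛 (fun l : t => f l.1) (fun l => hg l.1) hU hR hF.1 hcov l (g l.1 i)
    obtain ⟨c, hc⟩ := exists_inv h𝔛 hU hF.1 (f l.1) M (g l.1 i)
    exact ⟨c, y, by rw [hy, hc]⟩
  choose c y hy using hgl
  intro W hW z x hx
  obtain ⟨l, hl⟩ := hcov x (hW hx)
  obtain ⟨V, hV, hxV, s, a, ha⟩ := hg l.1 (W ⊓ bas h𝔛 (f l.1)) inf_le_right (rm F inf_le_left z) x ⟨hx, hl⟩
  have hVl : V ≤ bas h𝔛 (f l.1) := hV.trans inf_le_right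
  refine ⟨V, hV.trans inf_le_left, hxV, s.image (y l),
    fun w => ∑ i ∈ s.filter (fun i => y l i = w), a i * rr hVl (c l i), ?_⟩
  rw [rm_rm] at ha
  rw [show rm F (hV.trans inf_le_left) z = _ from ha, ← Finset.sum_fiberwise_of_maps_to
    (fun i hi => Finset.mem_image_of_mem (y l) hi)]
  refine Finset.sum_congr rfl fun w _ => ?_
  rw [Finset.sum_smul]
  refine Finset.sum_congr rfl fun i hi => ?_
  rw [← (Finset.mem_filter.1 hi).2, hy l i, rm_smul, rm_rm, smul_smul]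
  rfl

end Groth.AdicLinTop.TorsAff
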