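import Groth.Agent.AdicLinTop.TorsAff
import Groth.Agent.AdicLinTop.IndSubAdj
import Groth.Prelude.Def_WeakSerre

/-!
# Torsion and quasi-coherent torsion modules: extensions and colimits
-/

set_option autoImplicit false

universe u

open CategoryTheory CategoryTheory.Limits AlgebraicGeometry TopologicalSpace Opposite

set_option backward.defeqAttrib.useBackward true
set_option backward.isDefEq.respectTransparency false
set_option backward.isDefEq.respectTransparency.types false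
set_option synthInstance.maxHeartbeats 400000
set_option maxHeartbeats 1000000

namespace Groth.AdicLinTop.TorsColim

open Groth.SitesTopoi.ModH Groth.AdicLinTop.SpacePres Groth.AdicLinTop.CohKer Groth.AdicLinTop.QcohLocal
open Groth.AdicLinTop.FormalAffine Groth.AdicLinTop.TorsAff Groth.SitesTopoi

section Site

variable {C : Type u} [SmallCategory C] {J : GrothendieckTopology C} {O : Sheaf J CommRingCat.{u}}
  (I : FTors.IdealFam O) {F G : ModSite.Mod O}

/-- The inclusion of the torsion part is a monomorphism. -/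
theorem mono_gammaι (F : ModSite.Mod O) : Mono ((FTors.gammaι I).app F) :=
  mono_of_injective _ fun _ _ _ h => Subtype.ext h

/-- Subobjects of torsion modules are torsion. -/
theorem isTors_of_mono (i : G ⟶ F) [Mono i] (hF : FTors.IsTors I F) : FTors.IsTors I G := fun U s => by
  refine J.superset_covering ?_ (hF U (apm i.val U s))
  rintro V g ⟨n, hn⟩
  refine ⟨n, fun W h a ha => injective_of_mono i W ?_⟩
  have h1 := hn h a ha
  rw [map_smul, map_zero]
  change a • FTors.res F h (FTors.res F g (i.val.app (op U) s)) = 0 at h1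
  rw [FTors.res_hom, FTors.res_hom] at h1
  exact h1

/-- A module whose torsion part maps onto it is torsion. -/
theorem isTors_of_epi_gammaι (F : ModSite.Mod O) [Epi ((FTors.gammaι I).app F)] : FTors.IsTors I F := fun U s => by
  haveI := mono_gammaι I F
  haveI : IsIso ((FTors.gammaι I).app F) := isIso_of_mono_of_epi _
  have h : apm ((FTors.gammaι I).app F).val U (apm (inv ((FTors.gammaι I).app F)).val U s) = s :=
    congrArg (fun φ => apm (SheafOfModules.Hom.val φ) U s) (IsIso.inv_hom_id ((FTors.gammaι I).app F))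
  rw [← h]
  exact Subtype.prop _

/-- For a torsion module the torsion part is everything. -/
theorem isIso_gammaι (hF : FTors.IsTors I F) : IsIso ((FTors.gammaι I).app F) := by
  haveI := mono_gammaι I F
  haveI : Epi ((FTors.gammaι I).app F) := ⟨fun g h e => mod_hom_ext fun U s =>
    congrArg (fun φ => apm (SheafOfModules.Hom.val φ) U
      (show FTors.torsSub I F U from ⟨s, hF U s⟩)) e⟩
  exact isIso_of_mono_of_epi _

/-- A module jointly covered by torsion modules is torsion. -/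
theorem isTors_of_jointly_epi {κ : Type*} {X : κ → ModSite.Mod O} (a : ∀ k, X k ⟶ F)
    (hX : ∀ k, FTors.IsTors I (X k))
    (ha : ∀ {Z : ModSite.Mod O} (g : F ⟶ Z), (∀ k, a k ≫ g = 0) → g = 0) : FTors.IsTors I F := by
  haveI : Epi ((FTors.gammaι I).app F) := Preadditive.epi_of_cancel_zero _ fun {Z} g hg => ha g fun k => by
    haveI := isIso_gammaι I (hX k)
    rw [← cancel_epi ((FTors.gammaι I).app (X k)), comp_zero, ← Category.assoc]
    erw [← (FTors.gammaι I).naturality (a k)]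
    rw [Category.assoc, hg, comp_zero]
  exact isTors_of_epi_gammaι I F

theorem isTors_of_isZero (hF : IsZero F) : FTors.IsTors I F :=
  isTors_of_jointly_epi I (κ := PEmpty.{1}) (X := fun k => k.elim) (fun k => k.elim) (fun k => k.elim)
    fun g _ => hF.eq_of_src _ _

theorem isTors_of_epi (π : G ⟶ F) [Epi π] (hG : FTors.IsTors I G) : FTors.IsTors I F :=
  isTors_of_jointly_epi I (κ := Unit) (fun _ => π) (fun _ => hG) fun g hg =>
    (cancel_epi π).1 ((hg ()).trans comp_zero.symm)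

end Site

variable {𝔛 : FSch.Sys.{u}} (h𝔛 : 𝔛.IsLocNoethFormal)

/-- Extensions of torsion modules are torsion. -/
theorem isTorsF_of_ext {S : ShortComplex (FSch.ModF 𝔛 h𝔛.1)} (hS : S.ShortExact)
    (h₁ : FTors.IsTorsF 𝔛 h𝔛.1 S.X₁) (h₃ : FTors.IsTorsF 𝔛 h𝔛.1 S.X₃) : FTors.IsTorsF 𝔛 h𝔛.1 S.X₂ := by
  classical
  haveI := hS.mono_f
  have hk : FTors.IsTorsF 𝔛 h𝔛.1 (kernel S.g) :=
    isTors_of_epi _ (IsLimit.conePointUniqueUpToIso hS.fIsKernel (limit.isLimit _)).hom h₁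
  intro U (s : sc S.X₂.val U)
  refine mem_of_nhds _ fun x hx => ?_
  obtain ⟨V, hV, hxV, hVU⟩ := (IndCoh.goodBasis h𝔛).exists_mem x U hx
  refine ⟨V, hVU, hxV, ?_⟩
  obtain ⟨n, hn⟩ := exists_killed h𝔛 h₃ hV.isCompact (apm S.g.val V (rm S.X₂ hVU s))
  haveI := isNoetherianRing h𝔛 hV
  obtain ⟨t, ht⟩ := IsNoetherian.noetherian (idl h𝔛.1 V ^ (n + 1))
  have hm : ∀ a : t, ∃ m, Killed h𝔛 m (a.1 • rm S.X₂ hVU s) := fun a => by
    have h0 : apm S.g.val V (a.1 • rm S.X₂ hVU s) = 0 := by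
      rw [map_smul]
      exact (killed_iff h𝔛 hV n _).1 hn _ (ht ▸ Submodule.subset_span a.2)
    obtain ⟨y, hy⟩ := exists_kernel_sec S.g _ h0
    obtain ⟨m, hm⟩ := exists_killed h𝔛 hk hV.isCompact y
    exact ⟨m, hy ▸ hm.hom (kernel.ι S.g)⟩
  choose m hm using hm
  let M := Finset.univ.sup m
  refine ⟨n + M + 1, ((killed_iff h𝔛 hV _ (rm S.X₂ hVU s)).2 fun b hb => ?_)⟩
  have hb' : b ∈ idl h𝔛.1 V ^ (M + 1) * idl h𝔛.1 V ^ (n + 1) := by
    rw [← pow_add]
    rwa [show M + 1 + (n + 1) = n + M + 1 + 1 by omega]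
  refine Submodule.mul_induction_on hb' (fun c hc a ha => ?_) (fun c d hc hd => by rw [add_smul, hc, hd, add_zero])
  rw [mul_smul]
  rw [← ht] at ha
  refine Submodule.span_induction (p := fun a _ => c • a • rm S.X₂ hVU s = 0) (fun a ha => ?_)
    (by rw [zero_smul, smul_zero]) (fun a a' _ _ h h' => by rw [add_smul, smul_add, h, h', add_zero])
    (fun r a _ h => by rw [smul_assoc, smul_comm, h, smul_zero]) ha
  exact (killed_iff h𝔛 hV M _).1 ((hm ⟨a, ha⟩).mono (Finset.le_sup (Finset.mem_univ _))) c hc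

/-- A filtered colimit of modules generated by sections over affine opens is one. -/
theorem affGen_colimit {Λ : Type u} [SmallCategory Λ] [IsFiltered Λ] {D : Λ ⥤ FSch.ModF 𝔛 h𝔛.1}
    (c : Cocone D) (hc : IsColimit c) (hD : ∀ l, AffineGens.affGen h𝔛 (D.obj l)) :
    AffineGens.affGen h𝔛 c.pt := by
  classical
  refine ⟨IndCoh.relFin_colimit h𝔛 c hc fun l => (hD l).1, fun U hU => ?_⟩
  choose κ g hg using fun l => (hD l).2 U hU
  refine ⟨Σ l, κ l, fun p => apm (c.ι.app p.1).val U (g p.1 p.2), fun W hW z x hx => ?_⟩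
  obtain ⟨S, hS, hS'⟩ := FiltColim.exists_local_stage_fin (O := 𝔛.Osh h𝔛.1) c hc W (fun _ : Fin 1 => z)
  obtain ⟨V₁, hV₁, hxV₁, hSV⟩ := exists_nhd_of_mem hS hx
  obtain ⟨l, t, ht⟩ := hS' (homOfLE hV₁) hSV
  obtain ⟨V, hV, hxV, s, a, ha⟩ := hg l V₁ (hV₁.trans hW) (t 0) x hxV₁
  refine ⟨V, hV.trans hV₁, hxV, s.image (fun i => (⟨l, i⟩ : Σ l, κ l)),
    fun p => if h : p.1 = l then a (h ▸ p.2) else 0, ?_⟩
  rw [Finset.sum_image fun i _ j _ h => by simpa using h]
  have h1 := congrArg (apm (c.ι.app l).val V) ha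
  rw [apm_rsm, ht 0, map_sum] at h1
  refine ((rm_rm c.pt hV₁ hV z).symm.trans h1).trans (Finset.sum_congr rfl fun i _ => ?_)
  rw [map_smul, apm_rsm]
  simp only [dif_pos]
  rfl

/-- Quasi-coherent torsion modules as torsion modules generated by sections over affine opens. -/
theorem isQCT_iff {F : FSch.ModF 𝔛 h𝔛.1} :
    FTors.IsQCT 𝔛 h𝔛.1 F ↔ FTors.IsTorsF 𝔛 h𝔛.1 F ∧ AffineGens.affGen h𝔛 F :=
  ⟨fun h => ⟨h.1, affGen_of_isQCT h𝔛 h⟩, fun h => ⟨h.1, h.2.isQuasicoherent⟩⟩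

/-- Torsion modules form a weak Serre class. -/
theorem isWeakSerre_isTorsF : WSerre.IsWeakSerre (FTors.IsTorsF 𝔛 h𝔛.1) where
  exists_zero := ⟨_, isZero_zero _, isTors_of_isZero _ (isZero_zero _)⟩
  kernels_le := by
    rintro _ ⟨f, k, hk, hX, -⟩
    exact isTors_of_mono _ (IsLimit.conePointUniqueUpToIso hk (kernelIsKernel f)).hom
      (isTors_of_mono _ (kernel.ι f) hX)
  cokernels_le := by
    rintro _ ⟨f, k, hk, -, hY⟩
    exact isTors_of_epi _ (IsColimit.coconePointUniqueUpToIso (cokernelIsCokernel f) hk).hom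
      (isTors_of_epi _ (cokernel.π f) hY)
  prop_X₂_of_shortExact hS h₁ h₃ := isTorsF_of_ext h𝔛 hS h₁ h₃

/-- Quasi-coherent torsion modules form a weak Serre class. -/
theorem isWeakSerre_isQCT : WSerre.IsWeakSerre (FTors.IsQCT 𝔛 h𝔛.1) where
  exists_zero := ⟨_, isZero_zero _, (isQCT_iff h𝔛).2
    ⟨isTors_of_isZero _ (isZero_zero _), (AffineGens.affGen h𝔛).prop_of_isZero (isZero_zero _)⟩⟩
  kernels_le := by
    haveI := isWeakSerre_isTorsF h𝔛
    rintro _ ⟨f, k, hk, hX, hY⟩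
    exact (isQCT_iff h𝔛).2 ⟨(FTors.IsTorsF 𝔛 h𝔛.1).prop_of_isLimit_kernelFork hk hX.1 hY.1,
      (AffineGens.affGen h𝔛).prop_of_isLimit_kernelFork hk (affGen_of_isQCT h𝔛 hX) (affGen_of_isQCT h𝔛 hY)⟩
  cokernels_le := by
    haveI := isWeakSerre_isTorsF h𝔛
    rintro _ ⟨f, k, hk, hX, hY⟩
    exact (isQCT_iff h𝔛).2 ⟨(FTors.IsTorsF 𝔛 h𝔛.1).prop_of_isColimit_cokernelCofork hk hX.1 hY.1,
      (AffineGens.affGen h𝔛).prop_of_isColimit_cokernelCofork hk (affGen_of_isQCT h𝔛 hX) (affGen_of_isQCT h𝔛 hY)⟩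
  prop_X₂_of_shortExact hS h₁ h₃ := (isQCT_iff h𝔛).2 ⟨isTorsF_of_ext h𝔛 hS h₁.1 h₃.1,
    (AffineGens.affGen h𝔛).prop_X₂_of_shortExact hS (affGen_of_isQCT h𝔛 h₁) (affGen_of_isQCT h𝔛 h₃)⟩

section Closure

variable {A : Type*} [Category A] [Abelian A] (P : ObjectProperty A) [WSerre.IsWeakSerre P]

theorem prop_biprod' {X Y : A} (hX : P X) (hY : P Y) : P (X ⊞ Y) :=
  P.prop_X₂_of_shortExact (S := ShortComplex.mk (biprod.inl : X ⟶ X ⊞ Y) biprod.snd (by simp))
    (ShortComplex.Splitting.shortExact ⟨biprod.fst, biprod.inr, by simp, by simp, biprod.total⟩) hX hY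

end Closure

/-- Quasi-coherent torsion modules are closed under small colimits. -/
theorem isClosedUnderColimitsOfShape_isQCT (K : Type u) [SmallCategory K] :
    (FTors.IsQCT 𝔛 h𝔛.1).IsClosedUnderColimitsOfShape K := by
  classical
  haveI := isWeakSerre_isQCT h𝔛
  have hfin : ∀ {S : Type u} (X : S → FSch.ModF 𝔛 h𝔛.1), (∀ s, FTors.IsQCT 𝔛 h𝔛.1 (X s)) →
      ∀ t : Finset (Discrete S), FTors.IsQCT 𝔛 h𝔛.1 (∐ fun x : t => X x.1.as) := by
    intro S X hX t
    have hbc : (FTors.IsQCT 𝔛 h𝔛.1).IsClosedUnderBinaryCoproducts := by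
      refine ⟨?_⟩
      rintro Z ⟨p⟩
      let A := p.diag.obj ⟨WalkingPair.left⟩
      let B := p.diag.obj ⟨WalkingPair.right⟩
      have e : A ⊞ B ≅ Z := biprod.isoCoprod A B ≪≫
        IsColimit.coconePointsIsoOfNatIso (colimit.isColimit _) p.isColimit (diagramIsoPair p.diag).symm
      exact (FTors.IsQCT 𝔛 h𝔛.1).prop_of_iso e (prop_biprod' _ (p.prop_diag_obj _) (p.prop_diag_obj _))
    haveI : (FTors.IsQCT 𝔛 h𝔛.1).IsClosedUnderFiniteCoproducts :=
      ObjectProperty.IsClosedUnderFiniteCoproducts.mk'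
    exact (FTors.IsQCT 𝔛 h𝔛.1).prop_coproduct fun x : t => hX x.1.as
  have hcop : ∀ {S : Type u} (X : S → FSch.ModF 𝔛 h𝔛.1), (∀ s, FTors.IsQCT 𝔛 h𝔛.1 (X s)) →
      FTors.IsQCT 𝔛 h𝔛.1 (∐ X) := by
    intro S X hX
    refine (isQCT_iff h𝔛).2 ⟨isTors_of_jointly_epi _ (Sigma.ι X) (fun s => (hX s).1)
      fun g hg => Sigma.hom_ext _ _ fun s => (hg s).trans comp_zero.symm, ?_⟩
    exact affGen_colimit h𝔛 (CoproductsFromFiniteFiltered.finiteSubcoproductsCocone X)
      (CoproductsFromFiniteFiltered.isColimitFiniteSubproductsCocone X) fun t => affGen_of_isQCT h𝔛 (hfin X hX t)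
  refine ⟨?_⟩
  rintro X ⟨p⟩
  obtain ⟨J₁, J₀, K₁, K₀, a, π, h, h₁, h₀, ⟨hc⟩⟩ :=
    IndSubAdj.exists_cokernel_of_pres (FTors.IsQCT 𝔛 h𝔛.1) p.toColimitPresentation p.prop_diag_obj
  exact (FTors.IsQCT 𝔛 h𝔛.1).prop_of_iso
    (IsColimit.coconePointUniqueUpToIso (cokernelIsCokernel a) hc)
    ((FTors.IsQCT 𝔛 h𝔛.1).prop_cokernel a (hcop K₁ h₁) (hcop K₀ h₀))

end Groth.AdicLinTop.TorsColim
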