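import Groth.Agent.AdicLinTop.TorsDerived
import Groth.Agent.AdicLinTop.CoprodRF
import Groth.Agent.SitesTopoi.Mod.QcSum

/-!
# The derived torsion functor commutes with direct sums

On a locally Noetherian formal scheme direct sums of modules with the extension property have it, the torsion
functor commutes with direct sums, and so does its total right derived functor.
-/

set_option autoImplicit false

universe u

open CategoryTheory CategoryTheory.Limits AlgebraicGeometry TopologicalSpace Opposite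

attribute [local instance] HasDerivedCategory.standard

set_option backward.defeqAttrib.useBackward true
set_option backward.isDefEq.respectTransparency false
set_option backward.isDefEq.respectTransparency.types false
set_option synthInstance.maxHeartbeats 400000
set_option maxHeartbeats 1000000

namespace Groth.AdicLinTop.TorsCoprod

open Groth.SitesTopoi.ModH Groth.AdicLinTop.SpacePres Groth.AdicLinTop.CohKer Groth.AdicLinTop.QcohLocal
open Groth.AdicLinTop.FormalAffine Groth.AdicLinTop.AffineGlue Groth.AdicLinTop.TorsAff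
open Groth.AdicLinTop.TorsExt Groth.AdicLinTop.ModHomology Groth.AdicLinTop.TorsAcyclic
open Groth.AdicLinTop.TorsDerived Groth.SitesTopoi

section Space

variable {T : Type u} [TopologicalSpace T] {O : Sheaf (Opens.grothendieckTopology T) CommRingCat.{u}}
  {κ : Type u} (F : κ → ModSite.Mod O)

/-- Locally a section of a direct sum is the sum of finitely many of its components. -/
theorem exists_local_sum {W : Opens T} (s : sc (∐ F).val W) {x : T} (hx : x ∈ W) :
    ∃ (W' : Opens T) (h : W' ≤ W), x ∈ W' ∧ ∃ S : Finset κ,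
      rm (∐ F) h s = ∑ i ∈ S, apm (Sigma.ι F i).val W' (rm (F i) h (apm (QcSum.proj F i).val W s)) := by
  classical
  obtain ⟨R, hR, hR'⟩ := QcSum.locSurj_sumTo F W s
  obtain ⟨W', h, hxW', hRW⟩ := exists_nhd_of_mem hR hx
  obtain ⟨z, hz⟩ := hR' (homOfLE h) hRW
  obtain ⟨S, t, ht⟩ := QcSum.exists_finset_sum_pm _ _ z
  have e : rm (∐ F) h s = ∑ i ∈ S, apm (Sigma.ι F i).val W' (t i) := by
    refine Eq.trans hz.symm ?_
    rw [ht, map_sum]
    exact Finset.sum_congr rfl fun i _ => congrArg (fun φ => apm φ W' (t i))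
      (Sigma.ι_desc (fun i => (Sigma.ι F i).val) i)
  refine ⟨W', h, hxW', S, e.trans (Finset.sum_congr rfl fun i hi => congrArg _ ?_)⟩
  rw [rm_apm, e, QcSum.apm_proj_sum, if_pos hi]

end Space

variable {𝔛 : FSch.Sys.{u}} (h𝔛 : 𝔛.IsLocNoethFormal)

/-- Direct sums keep the extension property. -/
theorem extP_sigma {κ : Type u} (G : κ → FSch.ModF 𝔛 h𝔛.1) (hG : ∀ i, ExtP h𝔛 (G i)) : ExtP h𝔛 (∐ G) := by
  classical
  intro V hV ι _ k E s hs x hx
  choose W₀ h₀ hx₀ S₀ hS₀ using fun q => exists_local_sum G (s q) hx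
  have hcomp : ∀ i, ∃ (W : (𝔛.X 0).Opens) (hW : W ≤ V), x ∈ W ∧ ∃ y : Fin k → sc (G i).val W,
      ∀ q, rm (G i) hW (apm (QcSum.proj G i).val V (s q)) = ∑ j, rr hW (E q j) • y j := fun i =>
    hG i V hV ι k E (fun q => apm (QcSum.proj G i).val V (s q)) (fun v hv => by
      have h := congrArg (apm (QcSum.proj G i).val V) (hs v hv)
      simp only [map_sum, map_smul, map_zero] at h
      exact h) x hx
  choose W₁ h₁ hx₁ y hy using hcomp
  let S : Finset κ := Finset.univ.biUnion S₀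
  let W : (𝔛.X 0).Opens := (V ⊓ Finset.univ.inf W₀) ⊓ S.inf W₁
  have hWV : W ≤ V := inf_le_left.trans inf_le_left
  have hW₀ : ∀ q, W ≤ W₀ q := fun q =>
    inf_le_left.trans (inf_le_right.trans (Finset.inf_le (Finset.mem_univ q)))
  have hW₁ : ∀ i : {i // i ∈ S}, W ≤ W₁ i.1 := fun i => inf_le_right.trans (Finset.inf_le i.2)
  have hxW : x ∈ W := by
    refine ⟨⟨hx, ?_⟩, ?_⟩
    · exact (show x ∈ ((Finset.univ.inf W₀ : (𝔛.X 0).Opens) : Set (𝔛.X 0)) by
        rw [Opens.coe_finset_inf]; simpa using hx₀)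
    · exact (show x ∈ ((S.inf W₁ : (𝔛.X 0).Opens) : Set (𝔛.X 0)) by
        rw [Opens.coe_finset_inf]; simpa using fun i _ => hx₁ i)
  refine ⟨W, hWV, hxW, fun j => ∑ i ∈ S.attach, apm (Sigma.ι G i.1).val W (rm (G i.1) (hW₁ i) (y i.1 j)), fun q => ?_⟩
  have e : rm (∐ G) hWV (s q) =
      ∑ i ∈ S, apm (Sigma.ι G i).val W (rm (G i) hWV (apm (QcSum.proj G i).val V (s q))) := by
    have h2 : rm (∐ G) hWV (s q) =
        ∑ i ∈ S₀ q, apm (Sigma.ι G i).val W (rm (G i) hWV (apm (QcSum.proj G i).val V (s q))) := by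
      rw [← rm_rm (∐ G) (h₀ q) (hW₀ q), hS₀ q, map_sum]
      refine Finset.sum_congr rfl fun i _ => ?_
      rw [rm_apm, rm_rm]
    refine h2.trans (Finset.sum_subset (Finset.subset_biUnion_of_mem S₀ (Finset.mem_univ q)) fun i _ hi => ?_)
    have h3 := congrArg (apm (QcSum.proj G i).val W) h2
    rw [← rm_apm, QcSum.apm_proj_sum, if_neg hi] at h3
    rw [h3, map_zero]
  rw [e, ← Finset.sum_attach S]
  simp only [Finset.smul_sum]
  rw [Finset.sum_comm]
  refine Finset.sum_congr rfl fun i _ => ?_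
  rw [← rm_rm (G i.1) (h₁ i.1) (hW₁ i), hy i.1 q, map_sum, map_sum]
  refine Finset.sum_congr rfl fun j _ => ?_
  rw [rm_smul, map_smul, rr_rr]

/-- Binary sums keep the extension property. -/
theorem extP_biprod {A B : FSch.ModF 𝔛 h𝔛.1} (hA : ExtP h𝔛 A) (hB : ExtP h𝔛 B) : ExtP h𝔛 (A ⊞ B) := by
  intro V hV ι _ k E s hs x hx
  obtain ⟨W₁, h₁, hx₁, y, hy⟩ := hA V hV ι k E (fun q => apm (biprod.fst : A ⊞ B ⟶ A).val V (s q)) (fun v hv => by
    have h := congrArg (apm (biprod.fst : A ⊞ B ⟶ A).val V) (hs v hv)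
    simp only [map_sum, map_smul, map_zero] at h
    exact h) x hx
  obtain ⟨W₂, h₂, hx₂, z, hz⟩ := hB V hV ι k E (fun q => apm (biprod.snd : A ⊞ B ⟶ B).val V (s q)) (fun v hv => by
    have h := congrArg (apm (biprod.snd : A ⊞ B ⟶ B).val V) (hs v hv)
    simp only [map_sum, map_smul, map_zero] at h
    exact h) x hx
  refine ⟨W₁ ⊓ W₂, inf_le_left.trans h₁, ⟨hx₁, hx₂⟩,
    fun j => apm (biprod.inl : A ⟶ A ⊞ B).val _ (rm A inf_le_left (y j)) +
      apm (biprod.inr : B ⟶ A ⊞ B).val _ (rm B inf_le_right (z j)), fun q => ?_⟩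
  have e := congrArg (fun φ : A ⊞ B ⟶ A ⊞ B => apm (SheafOfModules.Hom.val φ) (W₁ ⊓ W₂)
    (rm (A ⊞ B) (inf_le_left.trans h₁) (s q))) (biprod.total (X := A) (Y := B))
  refine e.symm.trans ?_
  show apm (biprod.inl : A ⟶ A ⊞ B).val _ (apm (biprod.fst : A ⊞ B ⟶ A).val _ (rm (A ⊞ B) _ (s q))) +
    apm (biprod.inr : B ⟶ A ⊞ B).val _ (apm (biprod.snd : A ⊞ B ⟶ B).val _ (rm (A ⊞ B) _ (s q))) = _
  simp only [smul_add, Finset.sum_add_distrib]
  rw [← rm_apm (biprod.fst : A ⊞ B ⟶ A), ← rm_apm (biprod.snd : A ⊞ B ⟶ B), ← rm_rm A h₁ (inf_le_left : W₁ ⊓ W₂ ≤ W₁), hy q,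
    ← rm_rm B h₂ (inf_le_right : W₁ ⊓ W₂ ≤ W₂), hz q]
  simp only [map_sum, rm_smul, map_smul, rr_rr]

/-- The extension property is invariant under isomorphism. -/
theorem extP_of_iso {A B : FSch.ModF 𝔛 h𝔛.1} (e : A ≅ B) (hA : ExtP h𝔛 A) : ExtP h𝔛 B := by
  intro V hV ι _ k E s hs x hx
  obtain ⟨W, hW, hxW, y, hy⟩ := hA V hV ι k E (fun q => apm e.inv.val V (s q)) (fun v hv => by
    have h := congrArg (apm e.inv.val V) (hs v hv)
    simp only [map_sum, map_smul, map_zero] at h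
    exact h) x hx
  refine ⟨W, hW, hxW, fun j => apm e.hom.val W (y j), fun q => ?_⟩
  have h := congrArg (apm e.hom.val W) (hy q)
  simp only [map_sum, map_smul] at h
  refine Eq.trans ?_ h
  rw [← rm_apm]
  exact congrArg (rm B hW) (congrArg (fun φ : B ⟶ B => apm (SheafOfModules.Hom.val φ) V (s q)) e.inv_hom_id).symm

/-- The torsion functor commutes with direct sums. -/
theorem preservesCoproducts_gammaT (κ : Type u) :
    PreservesColimitsOfShape (Discrete κ) (FTors.gammaT 𝔛 h𝔛.1) := by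
  classical
  let Γ := FTors.gammaT 𝔛 h𝔛.1
  let gι := FTors.gammaι (FTors.openIdealFam 𝔛 h𝔛.1)
  haveI : ∀ F, Mono (gι.app F) := fun F => TorsColim.mono_gammaι _ F
  suffices ∀ G : κ → FSch.ModF 𝔛 h𝔛.1, PreservesColimit (Discrete.functor G) Γ from
    ⟨fun {K} => haveI := this (K.obj ∘ Discrete.mk)
      preservesColimit_of_iso_diagram Γ (Discrete.natIsoFunctor (F := K)).symm⟩
  intro G
  haveI : IsIso (sigmaComparison Γ G) := by
    have hm : sigmaComparison Γ G ≫ gι.app (∐ G) = Limits.Sigma.map fun i => gι.app (G i) := Sigma.hom_ext _ _ fun i => by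
      rw [ι_comp_sigmaComparison_assoc, Sigma.ι_map]
      exact gι.naturality (Sigma.ι G i)
    haveI : Mono (Limits.Sigma.map fun i => gι.app (G i)) := by
      haveI : HasFiniteBiproducts (FSch.ModF 𝔛 h𝔛.1) := Abelian.hasFiniteBiproducts
      haveI : HasExactColimitsOfShape (Discrete κ) (FSch.ModF 𝔛 h𝔛.1) := (AB4.of_AB5 (FSch.ModF 𝔛 h𝔛.1)).ofShape κ
      haveI : ∀ j, Mono ((Discrete.natTrans fun i : Discrete κ => gι.app (G i.as) :
          (Discrete.functor fun i => Γ.obj (G i)) ⟶ Discrete.functor G).app j) :=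
        fun j => inferInstanceAs (Mono (gι.app (G j.as)))
      haveI := NatTrans.mono_of_mono_app (Discrete.natTrans fun i : Discrete κ => gι.app (G i.as) :
          (Discrete.functor fun i => Γ.obj (G i)) ⟶ Discrete.functor G)
      exact (colim : (Discrete κ ⥤ FSch.ModF 𝔛 h𝔛.1) ⥤ _).map_mono (Discrete.natTrans fun i : Discrete κ => gι.app (G i.as) :
          (Discrete.functor fun i => Γ.obj (G i)) ⟶ Discrete.functor G)
    haveI : Mono (sigmaComparison Γ G) := mono_of_mono_fac hm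
    haveI : Epi (sigmaComparison Γ G) := Preadditive.epi_of_cancel_zero _ fun {Z} g hg => mod_hom_ext fun W s => by
      refine Eq.trans (eq_zero_of_local fun x hx => ?_) (show (0 : sc Z.val W) = apm (0 : Γ.obj (∐ G) ⟶ Z).val W s from rfl)
      obtain ⟨W', h, hxW', S, hS⟩ := exists_local_sum G (apm (gι.app (∐ G)).val W s) hx
      have hs : rm (Γ.obj (∐ G)) h s =
          ∑ i ∈ S, apm (Γ.map (Sigma.ι G i)).val W' (rm (Γ.obj (G i)) h (apm (Γ.map (QcSum.proj G i)).val W s)) := by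
        refine injective_of_mono (gι.app (∐ G)) W' ?_
        rw [map_sum, ← rm_apm]
        refine hS.trans ?_
        refine Finset.sum_congr rfl fun i _ => ?_
        rfl
      refine ⟨W', h, hxW', ?_⟩
      rw [rm_apm, hs, map_sum]
      refine Finset.sum_eq_zero fun i _ => ?_
      have h0 : Γ.map (Sigma.ι G i) ≫ g = 0 := by
        rw [← ι_comp_sigmaComparison, Category.assoc, hg, comp_zero]
      exact congrArg (fun φ : Γ.obj (G i) ⟶ Z => apm (SheafOfModules.Hom.val φ) W' _) h0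
    exact isIso_of_mono_of_epi _
  exact PreservesCoproduct.of_iso_comparison Γ G

/-- Quasi-isomorphisms between complexes with the extension property stay quasi-isomorphisms on torsion parts. -/
theorem quasiIso_map_of_extP {K M : CochainComplex (FSch.ModF 𝔛 h𝔛.1) ℤ} (φ : K ⟶ M) [QuasiIso φ]
    (hK : ∀ i, ExtP h𝔛 (K.X i)) (hM : ∀ i, ExtP h𝔛 (M.X i)) : QuasiIso ((Γc h𝔛).map φ) := by
  let P := HomotopyCategory.subcategoryAcyclic (FSch.ModF 𝔛 h𝔛.1)
  let q := HomotopyCategory.quotient (FSch.ModF 𝔛 h𝔛.1) (ComplexShape.up ℤ)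
  have key : ∀ {A B : CochainComplex (FSch.ModF 𝔛 h𝔛.1) ℤ} (ψ : A ⟶ B),
      QuasiIso ψ ↔ ∀ n, (CochainComplex.mappingCone ψ).ExactAt n := fun {A B} ψ => by
    rw [← HomologicalComplex.mem_quasiIso_iff, ← HomotopyCategory.quotient_map_mem_quasiIso_iff,
      HomotopyCategory.quasiIso_eq_trW_subcategoryAcyclic]
    refine (P.trW_iff_of_distinguished _ (HomotopyCategory.mappingCone_triangleh_distinguished ψ)).trans ?_
    exact HomotopyCategory.quotient_obj_mem_subcategoryAcyclic_iff_acyclic _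
  let C := CochainComplex.mappingCone φ
  have hC : ∀ n, C.ExactAt n := (key φ).1 inferInstance
  have hCX : ∀ i, ExtP h𝔛 (C.X i) := fun i => by
    haveI : HomologicalComplex.HasHomotopyCofiber φ := inferInstance
    exact extP_of_iso h𝔛 (HomologicalComplex.homotopyCofiber.XIsoBiprod φ i (i + 1) rfl).symm
      (extP_biprod h𝔛 (hK (i + 1)) (hM i))
  have hincl := quasiIso_gammaι h𝔛 hCX (torsCoh_of_isTorsF h𝔛 C fun b =>
    TorsColim.isTors_of_isZero _ ((hC b).isZero_homology))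
  refine (key _).2 fun n => ?_
  haveI : QuasiIsoAt (incl h𝔛 C) n := hincl.quasiIsoAt n
  exact HomologicalComplex.ExactAt.of_iso ((exactAt_iff_of_quasiIsoAt (incl h𝔛 C) n).2 (hC n))
    (CochainComplex.mappingCone.mapHomologicalComplexIso φ (FTors.gammaT 𝔛 h𝔛.1))

variable [FTors.HasRgammaT 𝔛 h𝔛.1]

/-- The comparison of the torsion subcomplex with the derived torsion. -/
noncomputable abbrev comp : Γc h𝔛 ⋙ DerivedCategory.Q ⟶ DerivedCategory.Q ⋙ FTors.RgammaT 𝔛 h𝔛.1 :=
  Misc4.RFSingle.comp (FTors.gammaT 𝔛 h𝔛.1) (FTors.RgammaT 𝔛 h𝔛.1) (unit h𝔛)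

/-- Complexes with the extension property compute their derived torsion. -/
theorem isIso_comp_of_extP {K : CochainComplex (FSch.ModF 𝔛 h𝔛.1) ℤ} (hK : ∀ i, ExtP h𝔛 (K.X i)) :
    IsIso ((comp h𝔛).app K) := by
  obtain ⟨M, φ, -, hφ, hM, hMi⟩ := Groth.DerivedCoh.KInjRes.exists_resolution K
  haveI := hM
  haveI := quasiIso_map_of_extP h𝔛 φ hK fun i => extP_of_injective h𝔛 (hMi i)
  haveI := Misc4.RFSingle.isIso_comp (FTors.gammaT 𝔛 h𝔛.1) (FTors.RgammaT 𝔛 h𝔛.1) (unit h𝔛) M
  have hn := (comp h𝔛).naturality φ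
  simp only [Functor.comp_map] at hn
  have e : (comp h𝔛).app K = (DerivedCategory.Q.map ((Γc h𝔛).map φ) ≫ (comp h𝔛).app M) ≫
      inv ((FTors.RgammaT 𝔛 h𝔛.1).map (DerivedCategory.Q.map φ)) := by
    rw [IsIso.eq_comp_inv]
    exact hn.symm
  rw [e]
  infer_instance

/-- The derived torsion functor commutes with direct sums. -/
theorem preservesCoproducts_RgammaT (κ : Type u) :
    PreservesColimitsOfShape (Discrete κ) (FTors.RgammaT 𝔛 h𝔛.1) := by
  let R := FTors.RgammaT 𝔛 h𝔛.1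
  suffices ∀ E : κ → DerivedCategory (FSch.ModF 𝔛 h𝔛.1), PreservesColimit (Discrete.functor E) R from
    ⟨fun {K} => haveI := this (K.obj ∘ Discrete.mk)
      preservesColimit_of_iso_diagram R (Discrete.natIsoFunctor (F := K)).symm⟩
  intro E
  choose C hC hCi hCe using fun t => exists_rep h𝔛 (E t)
  haveI := preservesCoproducts_gammaT h𝔛 κ
  haveI : PreservesColimitsOfShape (Discrete κ) (Γc h𝔛) :=
    ⟨fun {F} => ⟨fun {c} hc => ⟨HomologicalComplex.isColimitOfEval _ _ fun n =>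
      isColimitOfPreserves (FTors.gammaT 𝔛 h𝔛.1)
        (isColimitOfPreserves (HomologicalComplex.eval (FSch.ModF 𝔛 h𝔛.1) (ComplexShape.up ℤ) n) hc)⟩⟩⟩
  haveI : IsIso ((comp h𝔛).app (∐ C)) := isIso_comp_of_extP h𝔛 fun n =>
    extP_of_iso h𝔛 ((isColimitOfPreserves (HomologicalComplex.eval (FSch.ModF 𝔛 h𝔛.1) (ComplexShape.up ℤ) n)
      (colimit.isColimit (Discrete.functor C))).coconePointsIsoOfNatIso
        (colimit.isColimit (Discrete.functor fun t => (C t).X n)) (Discrete.natIso fun _ => Iso.refl _)).symm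
      (extP_sigma h𝔛 _ fun t => extP_of_injective h𝔛 (hCi t n))
  haveI : ∀ t, IsIso ((comp h𝔛).app (C t)) := fun t =>
    isIso_comp_of_extP h𝔛 fun n => extP_of_injective h𝔛 (hCi t n)
  let F : CochainComplex (FSch.ModF 𝔛 h𝔛.1) ℤ ⥤ DerivedCategory (FSch.ModF 𝔛 h𝔛.1) := Γc h𝔛 ⋙ DerivedCategory.Q
  obtain ⟨hA⟩ := Misc4.QCoprod.nonempty_isColimit C
  haveI := Misc4.QCoprod.preservesColimitsOfShape (A := FSch.ModF 𝔛 h𝔛.1) κ
  have hF : IsColimit (Cofan.mk (F.obj (∐ C)) fun t => F.map (Sigma.ι C t)) :=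
    isColimitMapCoconeCofanMkEquiv _ _ _ (isColimitOfPreserves F (coproductIsCoproduct C))
  have hB : IsColimit (Cofan.mk (R.obj (DerivedCategory.Q.obj (∐ C)))
      fun t => R.map (DerivedCategory.Q.map (Sigma.ι C t))) :=
    Cofan.IsColimit.mk _
      (fun s => inv ((comp h𝔛).app (∐ C)) ≫ Cofan.IsColimit.desc hF fun t => (comp h𝔛).app (C t) ≫ s.inj t)
      (fun s t => by
        show R.map (DerivedCategory.Q.map (Sigma.ι C t)) ≫ inv ((comp h𝔛).app (∐ C)) ≫ _ = _
        rw [← cancel_epi ((comp h𝔛).app (C t))]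
        have hn := (comp h𝔛).naturality (Sigma.ι C t)
        simp only [Functor.comp_map] at hn
        rw [← reassoc_of% hn, IsIso.hom_inv_id_assoc]
        exact Cofan.IsColimit.fac hF _ t)
      (fun s m hm => by
        rw [IsIso.eq_inv_comp]
        refine Cofan.IsColimit.hom_ext hF _ _ fun t => ?_
        rw [Cofan.IsColimit.fac]
        have hn := (comp h𝔛).naturality (Sigma.ι C t)
        simp only [Functor.comp_map] at hn
        show F.map (Sigma.ι C t) ≫ (comp h𝔛).app (∐ C) ≫ m = _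
        rw [← Category.assoc]
        erw [hn]
        rw [Category.assoc]
        exact congrArg ((comp h𝔛).app (C t) ≫ ·) (hm t))
  haveI : PreservesColimit (Discrete.functor fun t => DerivedCategory.Q.obj (C t)) R :=
    preservesColimit_of_preserves_colimit_cocone hA ((Cofan.isColimitMapCoconeEquiv _ _ _).symm hB)
  exact preservesColimit_of_iso_diagram R
    (Discrete.natIso fun ⟨t⟩ => ((DerivedCategory.quotientCompQhIso _).app (C t)).symm ≪≫ (hCe t).some :
      Discrete.functor (fun t => DerivedCategory.Q.obj (C t)) ≅ Discrete.functor E)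

end Groth.AdicLinTop.TorsCoprod
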