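import Groth.Agent.AdicLinTop.TorsAcyclic
import Groth.Agent.DerivedAdj.Basic
import Groth.Agent.DerivedCoh.KInj.Resolution
import Groth.Agent.SiteCohomology.ModulesGrothendieck

/-!
# The derived torsion functor on a locally Noetherian formal scheme
-/

set_option autoImplicit false

universe u

open CategoryTheory CategoryTheory.Limits AlgebraicGeometry TopologicalSpace Opposite

attribute [local instance] HasDerivedCategory.standard

set_option backward.defeqAttrib.useBackward true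
set_option backward.isDefEq.respectTransparency false
set_option backward.isDefEq.respectTransparency.types false
set_option synthInstance.maxHeartbeats 400000
set_option maxHeartbeats 1000000

namespace Groth.AdicLinTop.TorsDerived

open Groth.AdicLinTop.TorsAcyclic Groth.AdicLinTop.TorsExt

variable {𝔛 : FSch.Sys.{u}} (h𝔛 : 𝔛.IsLocNoethFormal)

/-- The torsion subcomplex. -/
noncomputable abbrev Γc : CochainComplex (FSch.ModF 𝔛 h𝔛.1) ℤ ⥤ CochainComplex (FSch.ModF 𝔛 h𝔛.1) ℤ :=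
  (FTors.gammaT 𝔛 h𝔛.1).mapHomologicalComplex (ComplexShape.up ℤ)

theorem incl_natural {K L : CochainComplex (FSch.ModF 𝔛 h𝔛.1) ℤ} (φ : K ⟶ L) :
    (Γc h𝔛).map φ ≫ incl h𝔛 L = incl h𝔛 K ≫ φ := by
  ext i : 1
  exact (FTors.gammaι (FTors.openIdealFam 𝔛 h𝔛.1)).naturality (φ.f i)

theorem isTorsF_gammaT (F : FSch.ModF 𝔛 h𝔛.1) : FTors.IsTorsF 𝔛 h𝔛.1 ((FTors.gammaT 𝔛 h𝔛.1).obj F) := fun U s => by
  refine (Opens.grothendieckTopology _).superset_covering ?_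
    (show FTors.killSieve (FTors.openIdealFam 𝔛 h𝔛.1) F
      (Groth.SitesTopoi.ModH.apm ((FTors.gammaι (FTors.openIdealFam 𝔛 h𝔛.1)).app F).val U s) ∈ _ from
      (s : FTors.torsSub (FTors.openIdealFam 𝔛 h𝔛.1) F U).2)
  rintro V g ⟨n, hn⟩
  exact ⟨n, fun W h a ha => Subtype.ext (hn h a ha)⟩

/-- Complexes of torsion modules have torsion cohomology. -/
theorem isTorsF_homology {K : CochainComplex (FSch.ModF 𝔛 h𝔛.1) ℤ} (hK : ∀ i, FTors.IsTorsF 𝔛 h𝔛.1 (K.X i))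
    (b : ℤ) : FTors.IsTorsF 𝔛 h𝔛.1 (K.homology b) :=
  TorsColim.isTors_of_epi _ (K.homologyπ b) (TorsColim.isTors_of_mono _ (K.iCycles b) (hK b))

theorem isTorsF_homology_Γc (K : CochainComplex (FSch.ModF 𝔛 h𝔛.1) ℤ) (b : ℤ) :
    FTors.IsTorsF 𝔛 h𝔛.1 (((Γc h𝔛).obj K).homology b) :=
  isTorsF_homology h𝔛 (fun i => isTorsF_gammaT h𝔛 (K.X i)) b

theorem isIso_incl {K : CochainComplex (FSch.ModF 𝔛 h𝔛.1) ℤ} (hK : ∀ i, FTors.IsTorsF 𝔛 h𝔛.1 (K.X i)) :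
    IsIso (incl h𝔛 K) := by
  haveI : ∀ i, IsIso ((incl h𝔛 K).f i) := fun i => TorsColim.isIso_gammaι _ (hK i)
  exact HomologicalComplex.Hom.isIso_of_components _

theorem isTorsF_of_iso {F G : FSch.ModF 𝔛 h𝔛.1} (e : F ≅ G) (hF : FTors.IsTorsF 𝔛 h𝔛.1 F) :
    FTors.IsTorsF 𝔛 h𝔛.1 G :=
  TorsColim.isTors_of_mono _ e.inv hF

theorem isTorsF_homology_of_quasiIso {K L : CochainComplex (FSch.ModF 𝔛 h𝔛.1) ℤ} (φ : K ⟶ L) [QuasiIso φ]
    (b : ℤ) (hK : FTors.IsTorsF 𝔛 h𝔛.1 (K.homology b)) : FTors.IsTorsF 𝔛 h𝔛.1 (L.homology b) :=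
  haveI : IsIso (HomologicalComplex.homologyMap φ b) := (quasiIsoAt_iff_isIso_homologyMap φ b).1 (‹QuasiIso φ›.quasiIsoAt b)
  isTorsF_of_iso h𝔛 (asIso (HomologicalComplex.homologyMap φ b)) hK

/-- On a complex of injectives with torsion cohomology the torsion part is everything up to quasi-isomorphism. -/
theorem quasiIso_incl_of_injective {M : CochainComplex (FSch.ModF 𝔛 h𝔛.1) ℤ} (hM : ∀ i, Injective (M.X i))
    (hT : ∀ b, FTors.IsTorsF 𝔛 h𝔛.1 (M.homology b)) : QuasiIso (incl h𝔛 M) :=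
  quasiIso_gammaι h𝔛 (fun i => extP_of_injective h𝔛 (hM i)) (torsCoh_of_isTorsF h𝔛 M hT)

/-- A resolution of a complex of torsion modules stays one after taking torsion parts. -/
theorem quasiIso_map_of_tors {K M : CochainComplex (FSch.ModF 𝔛 h𝔛.1) ℤ} (hK : ∀ i, FTors.IsTorsF 𝔛 h𝔛.1 (K.X i))
    (φ : K ⟶ M) [QuasiIso φ] (hM : ∀ i, Injective (M.X i)) : QuasiIso ((Γc h𝔛).map φ) := by
  haveI := quasiIso_incl_of_injective h𝔛 hM fun b => isTorsF_homology_of_quasiIso h𝔛 φ b (isTorsF_homology h𝔛 hK b)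
  haveI := isIso_incl h𝔛 hK
  haveI : QuasiIso ((Γc h𝔛).map φ ≫ incl h𝔛 M) := by
    rw [incl_natural]
    infer_instance
  exact quasiIso_of_comp_right _ (incl h𝔛 M)

theorem enoughKInj : Groth.DerivedAdj.EnoughKInj (FSch.ModF 𝔛 h𝔛.1) := fun K => by
  obtain ⟨L, i, -, hi, hL, -⟩ := Groth.DerivedCoh.KInjRes.exists_resolution K
  exact ⟨L, i, hL, hi⟩

variable [FTors.HasRgammaT 𝔛 h𝔛.1]

/-- The unit of the derived torsion functor. -/
noncomputable abbrev unit : FTors.gammaKh (FTors.openIdealFam 𝔛 h𝔛.1) ⟶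
    DerivedCategory.Qh ⋙ FTors.RgammaT 𝔛 h𝔛.1 :=
  (FTors.gammaKh (FTors.openIdealFam 𝔛 h𝔛.1)).totalRightDerivedUnit DerivedCategory.Qh
    (HomotopyCategory.quasiIso (FSch.ModF 𝔛 h𝔛.1) (ComplexShape.up ℤ))

/-- The object of the homotopy category. -/
noncomputable abbrev qK (K : CochainComplex (FSch.ModF 𝔛 h𝔛.1) ℤ) :=
  (HomotopyCategory.quotient (FSch.ModF 𝔛 h𝔛.1) (ComplexShape.up ℤ)).obj K

theorem isIso_unit_of_kInjective (M : CochainComplex (FSch.ModF 𝔛 h𝔛.1) ℤ) [M.IsKInjective] :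
    IsIso ((unit h𝔛).app (qK h𝔛 M)) :=
  Groth.DerivedAdj.isIso_app_of_bijective (HomotopyCategory.quasiIso (FSch.ModF 𝔛 h𝔛.1) (ComplexShape.up ℤ))
    (FTors.RgammaT 𝔛 h𝔛.1) (unit h𝔛) (Groth.DerivedAdj.exists_good (enoughKInj h𝔛)) _
    fun K => CochainComplex.IsKInjective.Qh_map_bijective K M

/-- Complexes of torsion modules compute their derived torsion. -/
theorem isIso_unit_of_tors {K : CochainComplex (FSch.ModF 𝔛 h𝔛.1) ℤ} (hK : ∀ i, FTors.IsTorsF 𝔛 h𝔛.1 (K.X i)) :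
    IsIso ((unit h𝔛).app (qK h𝔛 K)) := by
  obtain ⟨M, φ, -, hφ, hM, hMi⟩ := Groth.DerivedCoh.KInjRes.exists_resolution K
  haveI := quasiIso_map_of_tors h𝔛 hK φ hMi
  haveI := isIso_unit_of_kInjective h𝔛 M
  have h := (unit h𝔛).naturality ((HomotopyCategory.quotient _ _).map φ)
  haveI : IsIso ((FTors.gammaKh (FTors.openIdealFam 𝔛 h𝔛.1)).map ((HomotopyCategory.quotient _ _).map φ)) := by
    change IsIso (DerivedCategory.Qh.map ((HomotopyCategory.quotient _ _).map ((Γc h𝔛).map φ)))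
    exact Localization.inverts DerivedCategory.Qh (HomotopyCategory.quasiIso _ (ComplexShape.up ℤ)) _
      ((HomotopyCategory.quotient_map_mem_quasiIso_iff _).2
        ((HomologicalComplex.mem_quasiIso_iff _).2 inferInstance))
  haveI : IsIso (DerivedCategory.Qh.map ((HomotopyCategory.quotient _ _).map φ)) :=
    Localization.inverts DerivedCategory.Qh (HomotopyCategory.quasiIso _ (ComplexShape.up ℤ)) _
      ((HomotopyCategory.quotient_map_mem_quasiIso_iff _).2 hφ)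
  haveI : IsIso ((unit h𝔛).app (qK h𝔛 K) ≫ (DerivedCategory.Qh ⋙ FTors.RgammaT 𝔛 h𝔛.1).map
      ((HomotopyCategory.quotient _ _).map φ)) := by
    rw [← h]
    infer_instance
  haveI : IsIso ((DerivedCategory.Qh ⋙ FTors.RgammaT 𝔛 h𝔛.1).map ((HomotopyCategory.quotient _ _).map φ)) :=
    inferInstanceAs (IsIso ((FTors.RgammaT 𝔛 h𝔛.1).map (DerivedCategory.Qh.map ((HomotopyCategory.quotient _ _).map φ))))
  exact IsIso.of_isIso_comp_right _ ((DerivedCategory.Qh ⋙ FTors.RgammaT 𝔛 h𝔛.1).map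
    ((HomotopyCategory.quotient _ _).map φ))

/-- The counit on a represented object. -/
theorem unit_ε (K : CochainComplex (FSch.ModF 𝔛 h𝔛.1) ℤ) :
    (unit h𝔛).app (qK h𝔛 K) ≫ (FTors.RgammaTε 𝔛 h𝔛.1).app (DerivedCategory.Qh.obj (qK h𝔛 K)) =
      DerivedCategory.Qh.map ((HomotopyCategory.quotient _ _).map (incl h𝔛 K)) := by
  refine (Functor.rightDerived_fac_app _ _ (HomotopyCategory.quasiIso (FSch.ModF 𝔛 h𝔛.1) (ComplexShape.up ℤ))
    _ _ _).trans ?_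
  show (FTors.gammaτ (FTors.openIdealFam 𝔛 h𝔛.1)).app (qK h𝔛 K) ≫ 𝟙 _ = _
  rw [Category.comp_id]
  show (FTors.gammaτ0 (FTors.openIdealFam 𝔛 h𝔛.1)).app K = _
  unfold FTors.gammaτ0
  dsimp
  erw [CategoryTheory.Functor.map_id]
  simp
  erw [← Functor.map_comp, ← Functor.map_comp]
  refine congrArg (fun f => DerivedCategory.Qh.map ((HomotopyCategory.quotient (FSch.ModF 𝔛 h𝔛.1) (ComplexShape.up ℤ)).map f)) ?_
  ext i : 1
  exact (Category.comp_id _)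

theorem isIso_ε_iff_of_kInjective (M : CochainComplex (FSch.ModF 𝔛 h𝔛.1) ℤ) [M.IsKInjective] :
    IsIso ((FTors.RgammaTε 𝔛 h𝔛.1).app (DerivedCategory.Qh.obj (qK h𝔛 M))) ↔ QuasiIso (incl h𝔛 M) := by
  haveI := isIso_unit_of_kInjective h𝔛 M
  rw [← isIso_comp_left_iff ((unit h𝔛).app (qK h𝔛 M)) ((FTors.RgammaTε 𝔛 h𝔛.1).app _), unit_ε]
  exact (DerivedCategory.isIso_Qh_map_iff _).trans
    ((HomotopyCategory.quotient_map_mem_quasiIso_iff _).trans (HomologicalComplex.mem_quasiIso_iff _))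

omit [FTors.HasRgammaT 𝔛 h𝔛.1] in
/-- Every object is represented by a K-injective complex of injectives. -/
theorem exists_rep (E : DerivedCategory (FSch.ModF 𝔛 h𝔛.1)) :
    ∃ M : CochainComplex (FSch.ModF 𝔛 h𝔛.1) ℤ, M.IsKInjective ∧ (∀ i, Injective (M.X i)) ∧
      Nonempty (DerivedCategory.Qh.obj (qK h𝔛 M) ≅ E) := by
  have hK : ∀ Y : DerivedCategory (FSch.ModF 𝔛 h𝔛.1), ∃ K : CochainComplex (FSch.ModF 𝔛 h𝔛.1) ℤ,
      Nonempty (DerivedCategory.Qh.obj (qK h𝔛 K) ≅ Y) := fun Y => by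
    obtain ⟨K, hK⟩ := HomotopyCategory.quotient_obj_surjective
      ((DerivedCategory.Qh (C := FSch.ModF 𝔛 h𝔛.1)).objPreimage Y)
    exact ⟨K, ⟨DerivedCategory.Qh.mapIso (eqToIso hK) ≪≫ DerivedCategory.Qh.objObjPreimageIso Y⟩⟩
  obtain ⟨K, ⟨e⟩⟩ := hK E
  obtain ⟨M, φ, -, hφ, hM, hMi⟩ := Groth.DerivedCoh.KInjRes.exists_resolution K
  haveI : IsIso (DerivedCategory.Qh.map ((HomotopyCategory.quotient _ _).map φ)) :=
    Localization.inverts DerivedCategory.Qh (HomotopyCategory.quasiIso _ (ComplexShape.up ℤ)) _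
      ((HomotopyCategory.quotient_map_mem_quasiIso_iff _).2 hφ)
  exact ⟨M, hM, hMi, ⟨(asIso (DerivedCategory.Qh.map ((HomotopyCategory.quotient _ _).map φ))).symm ≪≫ e⟩⟩

omit [FTors.HasRgammaT 𝔛 h𝔛.1] in
/-- Cohomology sheaves of a represented object. -/
noncomputable def homologyIso {M : CochainComplex (FSch.ModF 𝔛 h𝔛.1) ℤ} {E : DerivedCategory (FSch.ModF 𝔛 h𝔛.1)}
    (e : DerivedCategory.Qh.obj (qK h𝔛 M) ≅ E) (i : ℤ) : M.homology i ≅ SiteCmp.HMod E i :=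
  ((DerivedCategory.homologyFunctorFactors (FSch.ModF 𝔛 h𝔛.1) i).app M).symm ≪≫
    (DerivedCategory.homologyFunctor (FSch.ModF 𝔛 h𝔛.1) i).mapIso
      (((DerivedCategory.quotientCompQhIso (FSch.ModF 𝔛 h𝔛.1)).app M).symm ≪≫ e)

/-- Torsion cohomology is detected by the counit. -/
theorem isDTorsF_iff (E : DerivedCategory (FSch.ModF 𝔛 h𝔛.1)) :
    FTors.IsDTorsF 𝔛 h𝔛.1 E ↔ IsIso ((FTors.RgammaTε 𝔛 h𝔛.1).app E) := by
  obtain ⟨M, hM, hMi, ⟨e⟩⟩ := exists_rep h𝔛 E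
  rw [← NatTrans.isIso_app_iff_of_iso (FTors.RgammaTε 𝔛 h𝔛.1) e, isIso_ε_iff_of_kInjective]
  constructor
  · intro h
    exact quasiIso_incl_of_injective h𝔛 hMi fun b => isTorsF_of_iso h𝔛 (homologyIso h𝔛 e b).symm (h b)
  · intro h b
    exact isTorsF_of_iso h𝔛 (homologyIso h𝔛 e b)
      (isTorsF_homology_of_quasiIso h𝔛 (incl h𝔛 M) b (isTorsF_homology_Γc h𝔛 M b))

/-- The derived torsion of any object has torsion cohomology. -/
theorem isDTorsF_RgammaT (E : DerivedCategory (FSch.ModF 𝔛 h𝔛.1)) :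
    FTors.IsDTorsF 𝔛 h𝔛.1 ((FTors.RgammaT 𝔛 h𝔛.1).obj E) := fun b => by
  obtain ⟨M, hM, hMi, ⟨e⟩⟩ := exists_rep h𝔛 E
  haveI := isIso_unit_of_kInjective h𝔛 M
  exact isTorsF_of_iso h𝔛 (homologyIso h𝔛 (show DerivedCategory.Qh.obj (qK h𝔛 ((Γc h𝔛).obj M)) ≅ _ from
    asIso ((unit h𝔛).app (qK h𝔛 M)) ≪≫ (FTors.RgammaT 𝔛 h𝔛.1).mapIso e) b) (isTorsF_homology_Γc h𝔛 M b)

/-- The derived torsion functor inverts its counit. -/
theorem isIso_map_ε (E : DerivedCategory (FSch.ModF 𝔛 h𝔛.1)) :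
    IsIso ((FTors.RgammaT 𝔛 h𝔛.1).map ((FTors.RgammaTε 𝔛 h𝔛.1).app E)) := by
  obtain ⟨M, hM, hMi, ⟨e⟩⟩ := exists_rep h𝔛 E
  suffices IsIso ((FTors.RgammaT 𝔛 h𝔛.1).map
      ((FTors.RgammaTε 𝔛 h𝔛.1).app (DerivedCategory.Qh.obj (qK h𝔛 M)))) by
    have h := congrArg (FTors.RgammaT 𝔛 h𝔛.1).map ((FTors.RgammaTε 𝔛 h𝔛.1).naturality e.hom)
    simp only [Functor.map_comp, Functor.id_map] at h
    haveI : IsIso ((FTors.RgammaT 𝔛 h𝔛.1).map ((FTors.RgammaT 𝔛 h𝔛.1).map e.hom) ≫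
        (FTors.RgammaT 𝔛 h𝔛.1).map ((FTors.RgammaTε 𝔛 h𝔛.1).app E)) := by
      rw [h]
      infer_instance
    exact IsIso.of_isIso_comp_left ((FTors.RgammaT 𝔛 h𝔛.1).map ((FTors.RgammaT 𝔛 h𝔛.1).map e.hom)) _
  haveI := isIso_unit_of_kInjective h𝔛 M
  haveI := isIso_unit_of_tors h𝔛 (K := (Γc h𝔛).obj M) fun i => isTorsF_gammaT h𝔛 (M.X i)
  haveI : IsIso ((Γc h𝔛).map (incl h𝔛 M)) := by
    have h : (Γc h𝔛).map (incl h𝔛 M) = incl h𝔛 ((Γc h𝔛).obj M) := by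
      haveI : ∀ i, Mono ((incl h𝔛 M).f i) := fun i => TorsColim.mono_gammaι _ _
      haveI : Mono (incl h𝔛 M) := HomologicalComplex.mono_of_mono_f _ inferInstance
      exact (cancel_mono (incl h𝔛 M)).1 (incl_natural h𝔛 (incl h𝔛 M))
    rw [h]
    exact isIso_incl h𝔛 fun i => isTorsF_gammaT h𝔛 (M.X i)
  haveI : IsIso ((FTors.gammaKh (FTors.openIdealFam 𝔛 h𝔛.1)).map
      ((HomotopyCategory.quotient _ _).map (incl h𝔛 M))) := by
    change IsIso (DerivedCategory.Qh.map ((HomotopyCategory.quotient _ _).map ((Γc h𝔛).map (incl h𝔛 M))))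
    infer_instance
  have h := (unit h𝔛).naturality ((HomotopyCategory.quotient _ _).map (incl h𝔛 M))
  haveI : IsIso ((unit h𝔛).app (qK h𝔛 ((Γc h𝔛).obj M)) ≫ (DerivedCategory.Qh ⋙ FTors.RgammaT 𝔛 h𝔛.1).map
      ((HomotopyCategory.quotient _ _).map (incl h𝔛 M))) := by
    rw [← h]
    infer_instance
  haveI : IsIso ((FTors.RgammaT 𝔛 h𝔛.1).map (DerivedCategory.Qh.map ((HomotopyCategory.quotient _ _).map (incl h𝔛 M)))) :=
    (isIso_comp_left_iff ((unit h𝔛).app (qK h𝔛 ((Γc h𝔛).obj M))) _).1 (by assumption)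
  rw [← unit_ε, Functor.map_comp] at this
  exact IsIso.of_isIso_comp_left ((FTors.RgammaT 𝔛 h𝔛.1).map ((unit h𝔛).app (qK h𝔛 M))) _

end Groth.AdicLinTop.TorsDerived
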