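import Groth.Agent.AdicLinTop.TorsSub
import Mathlib.RingTheory.Flat.EquationalCriterion
import Mathlib.RingTheory.Filtration
import Mathlib.CategoryTheory.Preadditive.Injective.Basic

/-!
# Extension of sections along finitely generated submodules of free modules

Modules in which a family of sections respecting the linear relations of a family of vectors locally extends:
injective modules have this property, and it passes to torsion parts (Artin-Rees) and to quotients.
-/

set_option autoImplicit false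

universe u

open CategoryTheory CategoryTheory.Limits AlgebraicGeometry TopologicalSpace Opposite

set_option backward.defeqAttrib.useBackward true
set_option backward.isDefEq.respectTransparency false
set_option backward.isDefEq.respectTransparency.types false
set_option synthInstance.maxHeartbeats 400000
set_option maxHeartbeats 1000000

namespace Groth.AdicLinTop.TorsExt

open Groth.SitesTopoi.ModH Groth.AdicLinTop.SpacePres Groth.AdicLinTop.CohKer Groth.AdicLinTop.QcohLocal
open Groth.AdicLinTop.FormalAffine Groth.AdicLinTop.AffineGlue Groth.AdicLinTop.TorsAff Groth.AdicLinTop.TorsSub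

section Space

variable {T : Type u} [TopologicalSpace T] (O : Sheaf (Opens.grothendieckTopology T) CommRingCat.{u}) (k : ℕ)

/-- Vectors of sections of the structure sheaf. -/
noncomputable def powAb : (Opens T)ᵒᵖ ⥤ AddCommGrpCat.{u} where
  obj U := AddCommGrpCat.of (Fin k → rsec O U.unop)
  map {U V} i := AddCommGrpCat.ofHom
    (AddMonoidHom.mk' (fun a j => rr i.unop.le (a j)) fun _ _ => funext fun _ => map_add _ _ _)
  map_id U := by
    refine AddCommGrpCat.hom_ext (AddMonoidHom.ext fun a => funext fun j => ?_)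
    exact rm_self (ModSite.unit O) (U := U.unop) (a j)
  map_comp i j := by
    refine AddCommGrpCat.hom_ext (AddMonoidHom.ext fun a => funext fun l => ?_)
    exact (rr_rr i.unop.le j.unop.le (a l)).symm

noncomputable instance (U : (Opens T)ᵒᵖ) : Module ((ModSite.ringSh O).obj.obj U) ((powAb O k).obj U) :=
  inferInstanceAs (Module (rsec O U.unop) (Fin k → rsec O U.unop))

/-- The free module of finite rank. -/
noncomputable def powUnit : ModSite.Mod O where
  val := PresheafOfModules.ofPresheaf (powAb O k) fun _ _ i r a => funext fun j =>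
    map_mul (rr (O := O) i.unop.le) r (a j)
  isSheaf := by
    change TopCat.Presheaf.IsSheaf (X := TopCat.of T) (powAb O k)
    rw [TopCat.Presheaf.isSheaf_iff_isSheafUniqueGluing]
    intro ι U sf hsf
    let g : ∀ (i : ι), Fin k → rsec O (U i) := fun i => sf i
    have hg : ∀ (i l : ι) (j : Fin k), rr (inf_le_left : U i ⊓ U l ≤ U i) (g i j) =
        rr (inf_le_right : U i ⊓ U l ≤ U l) (g l j) := fun i l j => congrFun (hsf i l) j
    have h : ∀ j, ∃! s : rsec O (iSup U), ∀ i, rr (le_iSup U i) s = g i j := fun j => by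
      exact TopCat.Sheaf.existsUnique_gluing' (⟨(ModSite.unit O).val.presheaf, (ModSite.unit O).isSheaf⟩ :
        TopCat.Sheaf AddCommGrpCat.{u} (TopCat.of T)) U (iSup U) (fun i => homOfLE (le_iSup U i)) le_rfl
        (fun i => (show sc (ModSite.unit O).val (U i) from g i j)) (by exact fun i l => hg i l j)
    choose s hs hu using h
    exact ⟨s, fun i => funext fun j => hs j i, fun t ht => funext fun j => hu j (t j) fun i => congrFun (ht i) j⟩

variable {O k}

lemma rm_powUnit {U V : Opens T} (h : V ≤ U) (a : Fin k → rsec O U) :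
    (show Fin k → rsec O V from rm (powUnit O k) h a) = fun j => rr h (a j) := rfl

variable {G : ModSite.Mod O} {V : Opens T} {ι : Type*} [Fintype ι]

/-- Near the point, either a combination of the vectors or zero. -/
def Loc (E : ι → Fin k → rsec O V) {U : Opens T} (a : Fin k → rsec O U) (x : T) : Prop :=
  ∃ (W : Opens T) (hWU : W ≤ U), x ∈ W ∧
    ((∃ (hWV : W ≤ V) (c : ι → rsec O W), ∀ j, rr hWU (a j) = ∑ q, c q * rr hWV (E q j)) ∨
      ∀ j, rr hWU (a j) = 0)

lemma Loc.restrict {E : ι → Fin k → rsec O V} {U U' : Opens T} (h : U' ≤ U) {a : Fin k → rsec O U} {x : T}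
    (hx : x ∈ U') (ha : Loc E a x) : Loc E (fun j => rr h (a j)) x := by
  obtain ⟨W, hW, hxW, hc⟩ := ha
  refine ⟨W ⊓ U', inf_le_right, ⟨hxW, hx⟩, ?_⟩
  rcases hc with ⟨hWV, c, hc⟩ | h0
  · refine Or.inl ⟨inf_le_left.trans hWV, fun q => rr inf_le_left (c q), fun j => ?_⟩
    have := congrArg (rr (inf_le_left : W ⊓ U' ≤ W)) (hc j)
    simp only [map_sum, map_mul, rr_rr] at this ⊢
    exact this
  · refine Or.inr fun j => ?_
    have := congrArg (rr (inf_le_left : W ⊓ U' ≤ W)) (h0 j)
    simp only [rr_rr, map_zero] at this ⊢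
    exact this

/-- The extension by zero of the submodule spanned by the vectors. -/
noncomputable def extZeroSpan (E : ι → Fin k → rsec O V) : SubSh (powUnit O k) where
  mem U :=
    { carrier := {a | ∀ x ∈ U, Loc E (show Fin k → rsec O U from a) x}
      zero_mem' := fun x hx => ⟨U, le_rfl, hx, Or.inr fun j => map_zero _⟩
      add_mem' := fun {a b} ha hb x hx => by
        obtain ⟨W, hW, hxW, hc⟩ := ha x hx
        obtain ⟨W', hW', hxW', hd⟩ := hb x hx
        refine ⟨W ⊓ W', inf_le_left.trans hW, ⟨hxW, hxW'⟩, ?_⟩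
        have ea : ∀ j, rr (inf_le_left.trans hW : W ⊓ W' ≤ U) ((a + b : Fin k → rsec O U) j) =
            rr inf_le_left (rr hW ((show Fin k → rsec O U from a) j)) +
              rr inf_le_right (rr hW' ((show Fin k → rsec O U from b) j)) := fun j => by
          rw [rr_rr, rr_rr]
          exact map_add _ _ _
        rcases hc with ⟨hWV, c, hc⟩ | h0 <;> rcases hd with ⟨hWV', d, hd⟩ | h0'
        · refine Or.inl ⟨inf_le_left.trans hWV, fun q => rr inf_le_left (c q) + rr inf_le_right (d q), fun j => ?_⟩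
          refine (ea j).trans ?_
          rw [hc, hd]
          simp only [map_sum, map_mul, rr_rr, add_mul, Finset.sum_add_distrib]
        · refine Or.inl ⟨inf_le_left.trans hWV, fun q => rr inf_le_left (c q), fun j => ?_⟩
          refine (ea j).trans ?_
          rw [hc, h0', map_zero, add_zero]
          simp only [map_sum, map_mul, rr_rr]
        · refine Or.inl ⟨inf_le_right.trans hWV', fun q => rr inf_le_right (d q), fun j => ?_⟩
          refine (ea j).trans ?_
          rw [h0, hd, map_zero, zero_add]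
          simp only [map_sum, map_mul, rr_rr]
        · refine Or.inr fun j => (ea j).trans ?_
          rw [h0, h0', map_zero, map_zero, add_zero]
      smul_mem' := fun r a ha x hx => by
        obtain ⟨W, hW, hxW, hc⟩ := ha x hx
        refine ⟨W, hW, hxW, ?_⟩
        have ea : ∀ j, rr hW ((show Fin k → rsec O U from r • a) j) =
            rr hW r * rr hW ((show Fin k → rsec O U from a) j) := fun j => map_mul _ _ _
        rcases hc with ⟨hWV, c, hc⟩ | h0
        · exact Or.inl ⟨hWV, fun q => rr hW r * c q, fun j => by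
            rw [ea, hc, Finset.mul_sum]
            simp only [mul_assoc]⟩
        · exact Or.inr fun j => by rw [ea, h0, mul_zero] }
  res_mem h s hs x hx := (hs x (h hx)).restrict h hx
  local_mem s hs x hx := by
    obtain ⟨U', h, hxU', hs'⟩ := hs x hx
    obtain ⟨W, hW, hxW, hc⟩ := hs' x hxU'
    refine ⟨W, hW.trans h, hxW, ?_⟩
    simp only [rm_powUnit, rr_rr] at hc
    exact hc

/-- Injective modules extend sections respecting relations. -/
theorem exists_ext_of_injective (hG : Injective G) (E : ι → Fin k → rsec O V) (s : ι → sc G.val V)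
    (hs : ∀ (W : Opens T) (hW : W ≤ V) (c : ι → rsec O W), (∀ j, ∑ q, c q * rr hW (E q j) = 0) →
      ∑ q, c q • rm G hW (s q) = 0) :
    ∃ y : Fin k → sc G.val V, ∀ q, s q = ∑ j, E q j • y j := by
  classical
  let P := extZeroSpan E
  -- the value near a point
  have hval : ∀ (U : Opens T) (a : P.mem U), ∃! z : sc G.val U, ∀ (W : Opens T) (hW : W ≤ U),
      (∀ (hWV : W ≤ V) (c : ι → rsec O W),
        (∀ j, rr hW ((show Fin k → rsec O U from a.1) j) = ∑ q, c q * rr hWV (E q j)) →
          rm G hW z = ∑ q, c q • rm G hWV (s q)) ∧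
        ((∀ j, rr hW ((show Fin k → rsec O U from a.1) j) = 0) → rm G hW z = 0) := by
    intro U a
    choose W hW hxW hc using fun x : U => a.2 x.1 x.2
    have hz : ∀ x : U, ∃ z : sc G.val (W x), ∀ (W' : Opens T) (hW' : W' ≤ W x),
        (∀ (hWV : W' ≤ V) (c : ι → rsec O W'),
          (∀ j, rr (hW'.trans (hW x)) ((show Fin k → rsec O U from a.1) j) = ∑ q, c q * rr hWV (E q j)) →
            rm G hW' z = ∑ q, c q • rm G hWV (s q)) ∧
        ((∀ j, rr (hW'.trans (hW x)) ((show Fin k → rsec O U from a.1) j) = 0) → rm G hW' z = 0) := fun x => by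
      rcases hc x with ⟨hWV, c₀, hc₀⟩ | h0
      · refine ⟨∑ q, c₀ q • rm G hWV (s q), fun W' hW' => ?_⟩
        have e : ∀ j, rr (hW'.trans (hW x)) ((show Fin k → rsec O U from a.1) j) =
            ∑ q, rr hW' (c₀ q) * rr (hW'.trans hWV) (E q j) := fun j => by
          rw [← rr_rr (hW x) hW', hc₀]
          simp only [map_sum, map_mul, rr_rr]
        constructor
        · intro hWV' c hc'
          have h := hs W' hWV' (fun q => rr hW' (c₀ q) - c q) fun j => by
            simp only [sub_mul, Finset.sum_sub_distrib]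
            rw [← e, hc', sub_self]
          simp only [sub_smul, Finset.sum_sub_distrib, sub_eq_zero] at h
          simp only [map_sum, rm_smul, rm_rm]
          exact h
        · intro h0
          simp only [map_sum, rm_smul, rm_rm]
          exact hs W' (hW'.trans hWV) _ fun j => (e j).symm.trans (h0 j)
      · refine ⟨0, fun W' hW' => ⟨fun hWV' c hc' => ?_, fun _ => map_zero _⟩⟩
        rw [map_zero]
        refine (hs W' hWV' c fun j => ?_).symm
        rw [← hc', ← rr_rr (hW x) hW', h0, map_zero]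
    choose z hz using hz
    have hcov : ∀ y : T, y ∈ U → ∃ x : U, y ∈ W x := fun y hy => ⟨⟨y, hy⟩, hxW _⟩
    have hag : ∀ x y, rm G (inf_le_left : W x ⊓ W y ≤ W x) (z x) = rm G (inf_le_right : W x ⊓ W y ≤ W y) (z y) :=
      fun x y => by
      rcases hc y with ⟨hWV, c, hc'⟩ | h0
      · have e : ∀ j, rr (inf_le_left.trans (hW x) : W x ⊓ W y ≤ U) ((show Fin k → rsec O U from a.1) j) =
            ∑ q, rr (inf_le_right : W x ⊓ W y ≤ W y) (c q) * rr (inf_le_right.trans hWV) (E q j) := fun j => by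
          have h1 := congrArg (rr (inf_le_right : W x ⊓ W y ≤ W y)) (hc' j)
          simp only [map_sum, map_mul, rr_rr] at h1
          exact h1
        exact ((hz x _ inf_le_left).1 _ _ e).trans ((hz y _ inf_le_right).1 _ _ e).symm
      · have e : ∀ j, rr (inf_le_left.trans (hW x) : W x ⊓ W y ≤ U) ((show Fin k → rsec O U from a.1) j) = 0 :=
          fun j => by
            have h1 := congrArg (rr (inf_le_right : W x ⊓ W y ≤ W y)) (h0 j)
            simp only [map_zero, rr_rr] at h1
            exact h1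
        exact ((hz x _ inf_le_left).2 e).trans ((hz y _ inf_le_right).2 e).symm
    obtain ⟨w, hw, hu⟩ := TopCat.Sheaf.existsUnique_gluing'
      (⟨G.val.presheaf, G.isSheaf⟩ : TopCat.Sheaf AddCommGrpCat.{u} (TopCat.of T))
      W U (fun x => homOfLE (hW x)) (fun y hy => Opens.mem_iSup.2 (hcov y hy)) z (by exact hag)
    have hw : ∀ x, rm G (hW x) w = z x := hw
    refine ⟨w, fun W' hW' => ?_, fun w' hw' => hu w' fun x => ?_⟩
    · have hres : ∀ x, rm G (inf_le_left : W' ⊓ W x ≤ W') (rm G hW' w) = rm G inf_le_right (z x) := fun x => by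
        rw [← hw, rm_rm, rm_rm]
      constructor
      · intro hWV c hc'
        refine sub_eq_zero.1 (eq_zero_of_local fun y hy => ?_)
        obtain ⟨x, hx⟩ := hcov y (hW' hy)
        refine ⟨W' ⊓ W x, inf_le_left, ⟨hy, hx⟩, ?_⟩
        rw [map_sub, sub_eq_zero, hres, (hz x _ inf_le_right).1 (inf_le_left.trans hWV)
          (fun q => rr inf_le_left (c q)) fun j => by
            have h1 := congrArg (rr (inf_le_left : W' ⊓ W x ≤ W')) (hc' j)
            simp only [map_sum, map_mul, rr_rr] at h1 ⊢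
            exact h1]
        simp only [map_sum, rm_smul, rm_rm]
      · intro h0
        refine eq_zero_of_local fun y hy => ?_
        obtain ⟨x, hx⟩ := hcov y (hW' hy)
        refine ⟨W' ⊓ W x, inf_le_left, ⟨hy, hx⟩, ?_⟩
        rw [hres]
        exact (hz x _ inf_le_right).2 fun j => by
          have h1 := congrArg (rr (inf_le_left : W' ⊓ W x ≤ W')) (h0 j)
          simp only [map_zero, rr_rr] at h1 ⊢
          exact h1
    · show rm G (hW x) w' = z x
      rcases hc x with ⟨hWV, c, hc'⟩ | h0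
      · exact ((hw' _ (hW x)).1 hWV c hc').trans
          ((hz x _ le_rfl).1 hWV c hc').symm |>.trans (rm_self G _)
      · exact ((hw' _ (hW x)).2 h0).trans ((hz x _ le_rfl).2 h0).symm |>.trans (rm_self G _)
  choose f hf hfu using hval
  let φ : P.toMod ⟶ G := ⟨PresheafOfModules.homMk
    { app := fun U => AddCommGrpCat.ofHom (AddMonoidHom.mk' (f U.unop) fun a b => by
        symm
        refine hfu U.unop (a + b) _ fun W hW => ?_
        have hab : ∀ x ∈ W, ∃ (W' : Opens T) (h : W' ≤ W), x ∈ W' ∧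
          ((∃ (hV : W' ≤ V) (c d : ι → rsec O W'),
              (∀ j, rr (h.trans hW) ((show Fin k → rsec O U.unop from a.1) j) = ∑ q, c q * rr hV (E q j)) ∧
              ∀ j, rr (h.trans hW) ((show Fin k → rsec O U.unop from b.1) j) = ∑ q, d q * rr hV (E q j)) ∨
            (∃ (hV : W' ≤ V) (c : ι → rsec O W'),
              (∀ j, rr (h.trans hW) ((show Fin k → rsec O U.unop from a.1) j) = ∑ q, c q * rr hV (E q j)) ∧
              ∀ j, rr (h.trans hW) ((show Fin k → rsec O U.unop from b.1) j) = 0) ∨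
            (∃ (hV : W' ≤ V) (d : ι → rsec O W'),
              (∀ j, rr (h.trans hW) ((show Fin k → rsec O U.unop from a.1) j) = 0) ∧
              ∀ j, rr (h.trans hW) ((show Fin k → rsec O U.unop from b.1) j) = ∑ q, d q * rr hV (E q j)) ∨
            ((∀ j, rr (h.trans hW) ((show Fin k → rsec O U.unop from a.1) j) = 0) ∧
              ∀ j, rr (h.trans hW) ((show Fin k → rsec O U.unop from b.1) j) = 0)) := fun x hx => by
          obtain ⟨W₁, h₁, hx₁, hca⟩ := (P.res_mem hW _ a.2) x hx
          obtain ⟨W₂, h₂, hx₂, hcb⟩ := (P.res_mem hW _ b.2) x hx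
          simp only [rm_powUnit, rr_rr] at hca hcb
          refine ⟨W₁ ⊓ W₂, inf_le_left.trans h₁, ⟨hx₁, hx₂⟩, ?_⟩
          have ra : ∀ j, rr ((inf_le_left.trans h₁).trans hW : W₁ ⊓ W₂ ≤ U.unop)
              ((show Fin k → rsec O U.unop from a.1) j) =
              rr inf_le_left (rr (h₁.trans hW) ((show Fin k → rsec O U.unop from a.1) j)) := fun j => (rr_rr _ _ _).symm
          have rb : ∀ j, rr ((inf_le_left.trans h₁).trans hW : W₁ ⊓ W₂ ≤ U.unop)
              ((show Fin k → rsec O U.unop from b.1) j) =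
              rr inf_le_right (rr (h₂.trans hW) ((show Fin k → rsec O U.unop from b.1) j)) := fun j => (rr_rr _ _ _).symm
          rcases hca with ⟨hV₁, c, hca⟩ | ha0 <;> rcases hcb with ⟨hV₂, d, hcb⟩ | hb0
          · exact Or.inl ⟨inf_le_left.trans hV₁, fun q => rr inf_le_left (c q), fun q => rr inf_le_right (d q),
              fun j => by rw [ra, hca]; simp only [map_sum, map_mul, rr_rr],
              fun j => by rw [rb, hcb]; simp only [map_sum, map_mul, rr_rr]⟩
          · exact Or.inr (Or.inl ⟨inf_le_left.trans hV₁, fun q => rr inf_le_left (c q),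
              fun j => by rw [ra, hca]; simp only [map_sum, map_mul, rr_rr],
              fun j => by rw [rb, hb0, map_zero]⟩)
          · exact Or.inr (Or.inr (Or.inl ⟨inf_le_right.trans hV₂, fun q => rr inf_le_right (d q),
              fun j => by rw [ra, ha0, map_zero],
              fun j => by rw [rb, hcb]; simp only [map_sum, map_mul, rr_rr]⟩))
          · exact Or.inr (Or.inr (Or.inr ⟨fun j => by rw [ra, ha0, map_zero], fun j => by rw [rb, hb0, map_zero]⟩))
        have radd : ∀ {W'' : Opens T} (e : W'' ≤ U.unop) (j : Fin k),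
            rr e ((show Fin k → rsec O U.unop from (a + b).1) j) =
              rr e ((show Fin k → rsec O U.unop from a.1) j) + rr e ((show Fin k → rsec O U.unop from b.1) j) :=
          fun e j => map_add _ _ _
        constructor
        · intro hWV c hc'
          refine sub_eq_zero.1 (eq_zero_of_local fun x hx => ?_)
          obtain ⟨W', h, hxW', hcase⟩ := hab x hx
          refine ⟨W', h, hxW', ?_⟩
          rw [map_sub, sub_eq_zero, rm_rm, map_add]
          have hc'' : ∀ j, rr (h.trans hW) ((show Fin k → rsec O U.unop from a.1) j) +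
              rr (h.trans hW) ((show Fin k → rsec O U.unop from b.1) j) =
              ∑ q, rr h (c q) * rr (h.trans hWV) (E q j) := fun j => by
            rw [← radd, ← rr_rr hW h, hc']
            simp only [map_sum, map_mul, rr_rr]
          simp only [map_sum, rm_smul, rm_rm]
          rcases hcase with ⟨hV, c₁, c₂, e₁, e₂⟩ | ⟨hV, c₁, e₁, e₂⟩ | ⟨hV, c₂, e₁, e₂⟩ | ⟨e₁, e₂⟩
          · rw [(hf _ a W' _).1 hV c₁ e₁, (hf _ b W' _).1 hV c₂ e₂]
            have := hs W' hV (fun q => c₁ q + c₂ q - rr h (c q)) fun j => by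
              simp only [sub_mul, add_mul, Finset.sum_sub_distrib, Finset.sum_add_distrib]
              rw [← e₁, ← e₂, hc'', sub_self]
            simp only [sub_smul, add_smul, Finset.sum_sub_distrib, Finset.sum_add_distrib, sub_eq_zero] at this
            exact this
          · rw [(hf _ a W' _).1 hV c₁ e₁, (hf _ b W' _).2 e₂, add_zero]
            have := hs W' hV (fun q => c₁ q - rr h (c q)) fun j => by
              simp only [sub_mul, Finset.sum_sub_distrib]
              rw [← e₁, ← hc'', e₂, add_zero, sub_self]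
            simp only [sub_smul, Finset.sum_sub_distrib, sub_eq_zero] at this
            exact this
          · rw [(hf _ a W' _).2 e₁, (hf _ b W' _).1 hV c₂ e₂, zero_add]
            have := hs W' hV (fun q => c₂ q - rr h (c q)) fun j => by
              simp only [sub_mul, Finset.sum_sub_distrib]
              rw [← e₂, ← hc'', e₁, zero_add, sub_self]
            simp only [sub_smul, Finset.sum_sub_distrib, sub_eq_zero] at this
            exact this
          · rw [(hf _ a W' _).2 e₁, (hf _ b W' _).2 e₂, add_zero]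
            exact (hs W' (h.trans hWV) _ fun j => by rw [← hc'', e₁, e₂, add_zero]).symm
        · intro h0
          refine eq_zero_of_local fun x hx => ?_
          obtain ⟨W', h, hxW', hcase⟩ := hab x hx
          refine ⟨W', h, hxW', ?_⟩
          rw [rm_rm, map_add]
          have h0' : ∀ j, rr (h.trans hW) ((show Fin k → rsec O U.unop from a.1) j) +
              rr (h.trans hW) ((show Fin k → rsec O U.unop from b.1) j) = 0 := fun j => by
            rw [← radd, ← rr_rr hW h, h0, map_zero]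
          rcases hcase with ⟨hV, c₁, c₂, e₁, e₂⟩ | ⟨hV, c₁, e₁, e₂⟩ | ⟨hV, c₂, e₁, e₂⟩ | ⟨e₁, e₂⟩
          · rw [(hf _ a W' _).1 hV c₁ e₁, (hf _ b W' _).1 hV c₂ e₂]
            have := hs W' hV (fun q => c₁ q + c₂ q) fun j => by
              simp only [add_mul, Finset.sum_add_distrib]
              rw [← e₁, ← e₂, h0']
            simp only [add_smul, Finset.sum_add_distrib] at this
            exact this
          · rw [(hf _ a W' _).1 hV c₁ e₁, (hf _ b W' _).2 e₂, add_zero]
            exact hs W' hV c₁ fun j => by rw [← e₁, ← h0' j, e₂, add_zero]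
          · rw [(hf _ a W' _).2 e₁, (hf _ b W' _).1 hV c₂ e₂, zero_add]
            exact hs W' hV c₂ fun j => by rw [← e₂, ← h0' j, e₁, zero_add]
          · rw [(hf _ a W' _).2 e₁, (hf _ b W' _).2 e₂, add_zero])
      naturality := fun U U' i => by
        ext a
        symm
        refine hfu U'.unop _ _ fun W hW => ?_
        have h := hf U.unop a W (hW.trans i.unop.le)
        constructor
        · intro hWV c hc
          exact (rm_rm G i.unop.le hW (f U.unop a)).trans (h.1 hWV c fun j => (rr_rr i.unop.le hW _).symm.trans (hc j))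
        · intro h0
          exact (rm_rm G i.unop.le hW (f U.unop a)).trans (h.2 fun j => (rr_rr i.unop.le hW _).symm.trans (h0 j)) }
    fun U r a => by
      symm
      refine hfu U.unop _ _ fun W hW => ?_
      have ea : ∀ {W'' : Opens T} (e : W'' ≤ U.unop) (j : Fin k),
          rr e ((show Fin k → rsec O U.unop from (r • a : P.mem U.unop).1) j) =
            rr e (show rsec O U.unop from r) * rr e ((show Fin k → rsec O U.unop from a.1) j) :=
        fun e j => map_mul _ _ _
      have hres : rm G hW ((show rsec O U.unop from r) • f U.unop a) =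
          rr hW (show rsec O U.unop from r) • rm G hW (f U.unop a) := rm_smul G hW _ _
      constructor
      · intro hWV c hc
        refine hres.trans (sub_eq_zero.1 (eq_zero_of_local fun x hx => ?_))
        obtain ⟨W', h, hxW', hca⟩ := (P.res_mem hW _ a.2) x hx
        simp only [rm_powUnit, rr_rr] at hca
        refine ⟨W', h, hxW', ?_⟩
        rw [map_sub, sub_eq_zero, rm_smul, rr_rr, rm_rm]
        simp only [map_sum, rm_smul, rm_rm]
        have hc' : ∀ j, rr (h.trans hW) (show rsec O U.unop from r) *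
            rr (h.trans hW) ((show Fin k → rsec O U.unop from a.1) j) =
            ∑ q, rr h (c q) * rr (h.trans hWV) (E q j) := fun j => by
          rw [← ea, ← rr_rr hW h, hc]
          simp only [map_sum, map_mul, rr_rr]
        rcases hca with ⟨hV, c₁, e₁⟩ | e₁
        · rw [(hf _ a W' _).1 hV c₁ e₁, Finset.smul_sum]
          have := hs W' hV (fun q => rr (h.trans hW) (show rsec O U.unop from r) * c₁ q - rr h (c q)) fun j => by
            simp only [sub_mul, Finset.sum_sub_distrib, mul_assoc, ← Finset.mul_sum]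
            rw [← e₁, hc', sub_self]
          simp only [sub_smul, Finset.sum_sub_distrib, sub_eq_zero, mul_smul] at this
          exact this
        · rw [(hf _ a W' _).2 e₁, smul_zero]
          exact (hs W' (h.trans hWV) _ fun j => by rw [← hc', e₁, mul_zero]).symm
      · intro h0
        refine hres.trans (eq_zero_of_local fun x hx => ?_)
        obtain ⟨W', h, hxW', hca⟩ := (P.res_mem hW _ a.2) x hx
        simp only [rm_powUnit, rr_rr] at hca
        refine ⟨W', h, hxW', ?_⟩
        rw [rm_smul, rr_rr, rm_rm]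
        have h0' : ∀ j, rr (h.trans hW) (show rsec O U.unop from r) *
            rr (h.trans hW) ((show Fin k → rsec O U.unop from a.1) j) = 0 := fun j => by
          rw [← ea, ← rr_rr hW h, h0, map_zero]
        rcases hca with ⟨hV, c₁, e₁⟩ | e₁
        · rw [(hf _ a W' _).1 hV c₁ e₁, Finset.smul_sum]
          have := hs W' hV (fun q => rr (h.trans hW) (show rsec O U.unop from r) * c₁ q) fun j => by
            simp only [mul_assoc, ← Finset.mul_sum]
            rw [← e₁, h0']
          simp only [mul_smul] at this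
          exact this
        · rw [(hf _ a W' _).2 e₁, smul_zero]⟩
  haveI := hG
  let Ψ := Injective.factorThru φ P.incl
  have hΨ : P.incl ≫ Ψ = φ := Injective.comp_factorThru _ _
  refine ⟨fun j => apm Ψ.val V (show sc (powUnit O k).val V from (Pi.single j 1 : Fin k → rsec O V)), fun q => ?_⟩
  have hmem : (show sc (powUnit O k).val V from E q) ∈ P.mem V := fun x hx =>
    ⟨V, le_rfl, hx, Or.inl ⟨le_rfl, Pi.single q 1, fun j => by simp [Pi.single_apply]⟩⟩
  have h1 : f V ⟨_, hmem⟩ = s q := by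
    have h2 := (hf V ⟨_, hmem⟩ V le_rfl).1 le_rfl (Pi.single q 1) fun j => by simp [Pi.single_apply]
    rw [rm_self] at h2
    refine h2.trans ?_
    simp [Pi.single_apply, ite_smul, rm_self]
  have h3 : apm Ψ.val V (show sc (powUnit O k).val V from E q) = s q :=
    (congrArg (fun ψ : P.toMod ⟶ G => apm (SheafOfModules.Hom.val ψ) V
      (show sc P.toMod.val V from (⟨_, hmem⟩ : P.mem V))) hΨ).trans h1
  rw [← h3]
  conv_lhs => rw [pi_eq_sum_univ' (E q)]
  refine (map_sum (apm Ψ.val V) _ _).trans (Finset.sum_congr rfl fun j _ => ?_)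
  exact map_smul (apm Ψ.val V) (E q j) (show sc (powUnit O k).val V from (Pi.single j 1 : Fin k → rsec O V))

end Space

section Formal

variable {𝔛 : FSch.Sys.{u}} (h𝔛 : 𝔛.IsLocNoethFormal) {F G : FSch.ModF 𝔛 h𝔛.1} {U V W : (𝔛.X 0).Opens}

/-- Sections respecting the relations of a family of vectors over an affine open locally extend. -/
def ExtP (G : FSch.ModF 𝔛 h𝔛.1) : Prop :=
  ∀ (V : (𝔛.X 0).Opens), IsAffineOpen V → ∀ (ι : Type) [Fintype ι] (k : ℕ) (E : ι → Fin k → RS h𝔛.1 V)
    (s : ι → sc G.val V), (∀ v : ι → RS h𝔛.1 V, (∀ j, ∑ q, v q * E q j = 0) → ∑ q, v q • s q = 0) →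
    ∀ x ∈ V, ∃ (W : (𝔛.X 0).Opens) (hW : W ≤ V), x ∈ W ∧
      ∃ y : Fin k → sc G.val W, ∀ q, rm G hW (s q) = ∑ j, rr hW (E q j) • y j

variable {ι : Type} [Fintype ι] {k : ℕ}

/-- Relations over a smaller open are locally combinations of relations over the affine open. -/
theorem exists_rel (hV : IsAffineOpen V) (E : ι → Fin k → RS h𝔛.1 V) (hW : W ≤ V) (c : ι → RS h𝔛.1 W)
    (hc : ∀ j, ∑ q, c q * rr hW (E q j) = 0) {x : 𝔛.X 0} (hx : x ∈ W) :
    ∃ (W' : (𝔛.X 0).Opens) (h : W' ≤ W), x ∈ W' ∧ ∃ (n : ℕ) (C : Fin n → ι → RS h𝔛.1 V) (d : Fin n → RS h𝔛.1 W'),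
      (∀ t j, ∑ q, C t q * E q j = 0) ∧ ∀ q, rr h (c q) = ∑ t, d t * rr (h.trans hW) (C t q) := by
  classical
  obtain ⟨p, hxp, hpW⟩ := exists_bas_le h𝔛 hV (hW hx) W hx
  refine ⟨bas h𝔛 p, hpW, hxp, ?_⟩
  let φ := resR h𝔛.1 (bas_le h𝔛 p)
  letI := φ.toAlgebra
  haveI : Module.Flat (RS h𝔛.1 V) (RS h𝔛.1 (bas h𝔛 p)) := flat_resR h𝔛 hV (isAffineOpen_bas h𝔛 hV p) (bas_le h𝔛 p)
  let e : (Fin k → RS h𝔛.1 V) →ₗ[RS h𝔛.1 V] (ι → RS h𝔛.1 V) :=
    Fintype.linearCombination (RS h𝔛.1 V) fun j q => E q j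
  let z : (ι → RS h𝔛.1 V) →ₗ[RS h𝔛.1 V] RS h𝔛.1 (bas h𝔛 p) :=
    Fintype.linearCombination (RS h𝔛.1 V) fun q => rr hpW (c q)
  have hze : z ∘ₗ e = 0 := by
    refine LinearMap.ext fun w => ?_
    rw [LinearMap.comp_apply, Fintype.linearCombination_apply (RS h𝔛.1 V) (fun j q => E q j), map_sum,
      LinearMap.zero_apply]
    refine Finset.sum_eq_zero fun j _ => ?_
    rw [map_smul, show z (fun q => E q j) = 0 from ?_, smul_zero]
    refine (Fintype.linearCombination_apply (RS h𝔛.1 V) _ _).trans ?_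
    have h1 := congrArg (rr hpW) (hc j)
    simp only [map_sum, map_mul, map_zero, rr_rr] at h1
    exact (Finset.sum_congr rfl fun q _ => (Algebra.smul_def _ _).trans (mul_comm _ _)).trans h1
  obtain ⟨n, a, y, hzy, hae⟩ := Module.Flat.exists_factorization_of_comp_eq_zero_of_free hze
  refine ⟨n, fun t q => a (Pi.single q 1) t, fun t => y (Finsupp.single t 1), fun t j => ?_, fun q => ?_⟩
  · have h1 := congrArg (fun w : Fin n →₀ RS h𝔛.1 V => w t) (LinearMap.congr_fun hae (Pi.single j 1))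
    simp only [LinearMap.comp_apply, LinearMap.zero_apply, Finsupp.zero_apply] at h1
    refine Eq.trans ?_ h1
    rw [Fintype.linearCombination_apply_single, one_smul]
    conv_rhs => rw [pi_eq_sum_univ' (fun q => E q j), map_sum]
    rw [Finsupp.finsetSum_apply]
    refine Finset.sum_congr rfl fun q _ => ?_
    rw [map_smul, Finsupp.smul_apply, smul_eq_mul, mul_comm]
  · have h1 := LinearMap.congr_fun hzy (Pi.single q 1)
    rw [LinearMap.comp_apply, show z (Pi.single q 1) = rr hpW (c q) from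
      (Fintype.linearCombination_apply_single _ _ _ _).trans (one_smul _ _)] at h1
    rw [h1]
    conv_lhs => rw [← Finsupp.univ_sum_single (a (Pi.single q 1)), map_sum]
    refine Finset.sum_congr rfl fun t _ => ?_
    rw [← Finsupp.smul_single_one, map_smul, Algebra.smul_def, mul_comm]
    rfl

/-- Relations respected over the affine open are respected on all smaller opens. -/
theorem rel_local (hV : IsAffineOpen V) (E : ι → Fin k → RS h𝔛.1 V) (s : ι → sc G.val V)
    (hs : ∀ v : ι → RS h𝔛.1 V, (∀ j, ∑ q, v q * E q j = 0) → ∑ q, v q • s q = 0)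
    (hW : W ≤ V) (c : ι → RS h𝔛.1 W) (hc : ∀ j, ∑ q, c q * rr hW (E q j) = 0) :
    ∑ q, c q • rm G hW (s q) = 0 := eq_zero_of_local fun x hx => by
  obtain ⟨W', h, hxW', n, C, d, hC, hd⟩ := exists_rel h𝔛 hV E hW c hc hx
  refine ⟨W', h, hxW', ?_⟩
  simp only [map_sum, rm_smul, rm_rm, hd, Finset.sum_smul, mul_smul]
  rw [Finset.sum_comm]
  refine Finset.sum_eq_zero fun t _ => ?_
  have h1 := congrArg (rm G (h.trans hW)) (hs (C t) (hC t))
  simp only [map_sum, rm_smul, map_zero] at h1
  rw [← Finset.smul_sum]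
  exact (congrArg (d t • ·) h1).trans (smul_zero _)

/-- Injective modules have the extension property. -/
theorem extP_of_injective (hG : Injective G) : ExtP h𝔛 G := fun V hV ι _ k E s hs x hx => by
  obtain ⟨y, hy⟩ := exists_ext_of_injective (O := 𝔛.Osh h𝔛.1) hG E s
    fun W hW c hc => rel_local h𝔛 hV E s hs hW c hc
  refine ⟨V, le_rfl, hx, y, fun q => (rm_self G _).trans ((hy q).trans (Finset.sum_congr rfl fun j _ => ?_))⟩
  exact congrArg (· • y j) (rm_self (ModSite.unit (𝔛.Osh h𝔛.1)) (U := V) (E q j)).symm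

/-- Locally killed by a power of an ideal of sections over an affine open. -/
def Tk (J : Ideal (RS h𝔛.1 V)) (hW : W ≤ V) (s : sc G.val W) : Prop :=
  ∀ x ∈ W, ∃ (W' : (𝔛.X 0).Opens) (h : W' ≤ W), x ∈ W' ∧ ∃ n : ℕ, ∀ a ∈ J ^ n, rr (h.trans hW) a • rm G h s = 0

namespace Tk

variable {h𝔛} {J : Ideal (RS h𝔛.1 V)} {hW : W ≤ V} {s t : sc G.val W}

theorem zero : Tk h𝔛 J hW (0 : sc G.val W) := fun x hx =>
  ⟨W, le_rfl, hx, 0, fun a _ => by rw [map_zero, smul_zero]⟩

theorem add (hs : Tk h𝔛 J hW s) (ht : Tk h𝔛 J hW t) : Tk h𝔛 J hW (s + t) := fun x hx => by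
  obtain ⟨W₁, h₁, hx₁, n, hn⟩ := hs x hx
  obtain ⟨W₂, h₂, hx₂, m, hm⟩ := ht x hx
  refine ⟨W₁ ⊓ W₂, inf_le_left.trans h₁, ⟨hx₁, hx₂⟩, max n m, fun a ha => ?_⟩
  have e₁ := congrArg (rm G (inf_le_left : W₁ ⊓ W₂ ≤ W₁)) (hn a (Ideal.pow_le_pow_right (le_max_left n m) ha))
  have e₂ := congrArg (rm G (inf_le_right : W₁ ⊓ W₂ ≤ W₂)) (hm a (Ideal.pow_le_pow_right (le_max_right n m) ha))
  simp only [rm_smul, rm_rm, rr_rr, map_zero] at e₁ e₂
  rw [map_add, smul_add, e₁, e₂, add_zero]

theorem smul (r : RS h𝔛.1 W) (hs : Tk h𝔛 J hW s) : Tk h𝔛 J hW (r • s) := fun x hx => by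
  obtain ⟨W₁, h₁, hx₁, n, hn⟩ := hs x hx
  exact ⟨W₁, h₁, hx₁, n, fun a ha => by rw [rm_smul, smul_comm, hn a ha, smul_zero]⟩

theorem neg (hs : Tk h𝔛 J hW s) : Tk h𝔛 J hW (-s) := by
  rw [← neg_one_smul (RS h𝔛.1 W) s]
  exact hs.smul _

theorem sub (hs : Tk h𝔛 J hW s) (ht : Tk h𝔛 J hW t) : Tk h𝔛 J hW (s - t) :=
  sub_eq_add_neg s t ▸ hs.add ht.neg

theorem res {W' : (𝔛.X 0).Opens} (h : W' ≤ W) (hs : Tk h𝔛 J hW s) : Tk h𝔛 J (h.trans hW) (rm G h s) :=
  fun x hx => by
    obtain ⟨W₁, h₁, hx₁, n, hn⟩ := hs x (h hx)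
    refine ⟨W₁ ⊓ W', inf_le_right, ⟨hx₁, hx⟩, n, fun a ha => ?_⟩
    have e₁ := congrArg (rm G (inf_le_left : W₁ ⊓ W' ≤ W₁)) (hn a ha)
    simp only [rm_smul, rm_rm, rr_rr, map_zero] at e₁
    rw [rm_rm]
    exact e₁

theorem map (φ : G ⟶ F) (hs : Tk h𝔛 J hW s) : Tk h𝔛 J hW (apm φ.val W s) := fun x hx => by
  obtain ⟨W₁, h₁, hx₁, n, hn⟩ := hs x hx
  refine ⟨W₁, h₁, hx₁, n, fun a ha => ?_⟩
  have h := congrArg (apm φ.val W₁) (hn a ha)
  rw [map_smul, map_zero, apm_rsm] at h
  exact h

end Tk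

/-- An ideal generated from a larger ring kills what the generators kill. -/
theorem smul_eq_zero_of_mem_map {V' : (𝔛.X 0).Opens} (e : V' ≤ V) {J : Ideal (RS h𝔛.1 V)} {z : sc G.val V'}
    (hz : ∀ a ∈ J, rr e a • z = 0) {b : RS h𝔛.1 V'} (hb : b ∈ J.map (resR h𝔛.1 e)) : b • z = 0 := by
  rw [Ideal.map] at hb
  refine Submodule.span_induction (p := fun b _ => b • z = 0) ?_ (zero_smul _ _)
    (fun b c _ _ hb hc => by rw [add_smul, hb, hc, add_zero])
    (fun b c _ hc => by rw [smul_assoc, hc, smul_zero]) hb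
  rintro _ ⟨a, ha, rfl⟩
  exact hz a ha

omit [Fintype ι] in
/-- Members of `J • span` are combinations with coefficients in `J`. -/
theorem exists_comb_of_mem_smul [Fintype ι] {A M : Type*} [CommRing A] [AddCommGroup M] [Module A M] (J : Ideal A)
    (f : ι → M) {z : M} (hz : z ∈ J • Submodule.span A (Set.range f)) :
    ∃ c : ι → A, (∀ q, c q ∈ J) ∧ z = ∑ q, c q • f q := by
  refine Submodule.smul_induction_on hz (fun a ha w hw => ?_) fun w w' ⟨c, hc, e⟩ ⟨c', hc', e'⟩ =>
    ⟨c + c', fun q => add_mem (hc q) (hc' q), by simp [e, e', add_smul, Finset.sum_add_distrib]⟩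
  obtain ⟨c, rfl⟩ := (Submodule.mem_span_range_iff_exists_fun A).1 hw
  exact ⟨fun q => a * c q, fun q => J.mul_mem_right _ ha, by simp [Finset.smul_sum, smul_smul]⟩

/-- Torsion sections extend to torsion sections (Artin-Rees). -/
theorem exists_ext_tors (hG : ExtP h𝔛 G) (J : Ideal (RS h𝔛.1 V)) (hW : W ≤ V) (hWa : IsAffineOpen W)
    (E : ι → Fin k → RS h𝔛.1 W) (s : ι → sc G.val W)
    (hs : ∀ v : ι → RS h𝔛.1 W, (∀ j, ∑ q, v q * E q j = 0) → ∑ q, v q • s q = 0)
    (ht : ∀ q, Tk h𝔛 J hW (s q)) {x : 𝔛.X 0} (hx : x ∈ W) :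
    ∃ (W' : (𝔛.X 0).Opens) (h : W' ≤ W), x ∈ W' ∧ ∃ y : Fin k → sc G.val W',
      (∀ q, rm G h (s q) = ∑ j, rr h (E q j) • y j) ∧ ∀ j, Tk h𝔛 J (h.trans hW) (y j) := by
  classical
  choose Wq hWq hxq n hn using fun q => ht q x hx
  let W₀ : (𝔛.X 0).Opens := W ⊓ Finset.univ.inf Wq
  have hx₀ : x ∈ W₀ := ⟨hx, Finset.inf_induction (p := fun U : (𝔛.X 0).Opens => x ∈ U) trivial
    (fun _ h₁ _ h₂ => ⟨h₁, h₂⟩) fun q _ => hxq q⟩
  obtain ⟨W₁, hW₁, hx₁, hW₁'⟩ := (IndCoh.goodBasis h𝔛).exists_mem x W₀ hx₀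
  have h₁ : W₁ ≤ W := hW₁'.trans inf_le_left
  let N := Finset.univ.sup n
  let J₁ := J.map (resR h𝔛.1 (h₁.trans hW))
  have hkill : ∀ q, ∀ a ∈ J₁ ^ N, a • rm G h₁ (s q) = 0 := fun q a ha => by
    rw [show J₁ ^ N = (J ^ N).map (resR h𝔛.1 (h₁.trans hW)) from (Ideal.map_pow _ _ _).symm] at ha
    refine smul_eq_zero_of_mem_map h𝔛 _ (fun b hb => ?_) ha
    have hle : W₁ ≤ Wq q := hW₁'.trans (inf_le_right.trans (Finset.inf_le (Finset.mem_univ q)))
    have e₁ := congrArg (rm G hle) (hn q b (Ideal.pow_le_pow_right (Finset.le_sup (Finset.mem_univ q)) hb))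
    simp only [rm_smul, rm_rm, rr_rr, map_zero] at e₁
    exact e₁
  haveI := isNoetherianRing h𝔛 hW₁
  let E₁ : ι → Fin k → RS h𝔛.1 W₁ := fun q j => rr h₁ (E q j)
  obtain ⟨k₀, hk₀⟩ := Ideal.exists_pow_inf_eq_pow_smul J₁ (Submodule.span (RS h𝔛.1 W₁) (Set.range E₁))
  obtain ⟨r, f, hf⟩ := Submodule.fg_iff_exists_fin_generating_family.1
    (IsNoetherian.noetherian (J₁ ^ (N + k₀)))
  let E₂ : ι ⊕ (Fin k × Fin r) → Fin k → RS h𝔛.1 W₁ := Sum.elim E₁ fun p => Pi.single p.1 (f p.2)
  let s₂ : ι ⊕ (Fin k × Fin r) → sc G.val W₁ := Sum.elim (fun q => rm G h₁ (s q)) fun _ => 0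
  have hrel : ∀ v : ι ⊕ (Fin k × Fin r) → RS h𝔛.1 W₁, (∀ j, ∑ q, v q * E₂ q j = 0) → ∑ q, v q • s₂ q = 0 := by
    intro v hv
    simp only [Fintype.sum_sum_type, E₂, s₂, Sum.elim_inl, Sum.elim_inr, smul_zero, Finset.sum_const_zero,
      add_zero] at hv ⊢
    let c : ι → RS h𝔛.1 W₁ := fun q => v (Sum.inl q)
    have hz : (∑ q, c q • E₁ q) ∈ J₁ ^ N • Submodule.span (RS h𝔛.1 W₁) (Set.range E₁) := by
      have h1 : (∑ q, c q • E₁ q) ∈ J₁ ^ (N + k₀) • (⊤ : Submodule (RS h𝔛.1 W₁) (Fin k → RS h𝔛.1 W₁)) := by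
        have e : (∑ q, c q • E₁ q) = -∑ p : Fin k × Fin r, v (Sum.inr p) • Pi.single p.1 (f p.2) :=
          funext fun j => by
            simp only [Finset.sum_apply, Pi.smul_apply, Pi.neg_apply, smul_eq_mul]
            exact eq_neg_of_add_eq_zero_left (hv j)
        rw [e]
        refine neg_mem (Submodule.sum_mem _ fun p _ => Submodule.smul_mem _ _ ?_)
        refine FormalSpan.mem_smul_top_of_apply_mem _ fun i => ?_
        rcases eq_or_ne i p.1 with rfl | hne
        · rw [Pi.single_eq_same]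
          exact hf ▸ Submodule.subset_span ⟨p.2, rfl⟩
        · rw [Pi.single_eq_of_ne hne]
          exact zero_mem _
      have h2 := (hk₀ (N + k₀) (Nat.le_add_left _ _)).le
        (Submodule.mem_inf.2 ⟨h1, Submodule.sum_mem _ fun q _ => Submodule.smul_mem _ _ (Submodule.subset_span ⟨q, rfl⟩)⟩)
      rw [Nat.add_sub_cancel] at h2
      exact Submodule.smul_mono le_rfl inf_le_right h2
    obtain ⟨c', hc', hcc⟩ := exists_comb_of_mem_smul _ _ hz
    have h3 : ∑ q, (c q - c' q) • rm G h₁ (s q) = 0 :=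
      rel_local h𝔛 hWa E s hs h₁ _ fun j => by
        have h := congrFun hcc j
        simp only [Finset.sum_apply, Pi.smul_apply, smul_eq_mul] at h
        simp only [sub_mul, Finset.sum_sub_distrib]
        exact sub_eq_zero.2 h
    simp only [sub_smul, Finset.sum_sub_distrib, sub_eq_zero] at h3
    exact h3.trans (Finset.sum_eq_zero fun q _ => hkill q _ (hc' q))
  obtain ⟨W', hW', hxW', y, hy⟩ := hG W₁ hW₁ _ k E₂ s₂ hrel x hx₁
  refine ⟨W', hW'.trans h₁, hxW', y, fun q => ?_, fun j z hz => ⟨W', le_rfl, hz, N + k₀, fun a ha => ?_⟩⟩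
  · have h := hy (Sum.inl q)
    simp only [E₂, s₂, Sum.elim_inl, rm_rm, E₁, rr_rr] at h
    exact h
  · rw [rm_self]
    have hb : rr (h₁.trans hW) a ∈ J₁ ^ (N + k₀) := by
      rw [← Ideal.map_pow]
      exact Ideal.mem_map_of_mem _ ha
    rw [← hf] at hb
    obtain ⟨c, hc⟩ := (Submodule.mem_span_range_iff_exists_fun _).1 hb
    have e : rr ((hW'.trans h₁).trans hW) a = ∑ p, rr hW' (c p) * rr hW' (f p) := by
      rw [← rr_rr (h₁.trans hW) hW', ← hc]
      simp only [smul_eq_mul, map_sum, map_mul]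
    rw [e, Finset.sum_smul]
    refine Finset.sum_eq_zero fun p _ => ?_
    have h := hy (Sum.inr (j, p))
    simp only [E₂, s₂, Sum.elim_inr, map_zero] at h
    rw [Finset.sum_eq_single j (fun i _ hi => by rw [Pi.single_eq_of_ne hi, map_zero, zero_smul])
      (fun h' => (h' (Finset.mem_univ j)).elim), Pi.single_eq_same] at h
    rw [mul_smul, ← h, smul_zero]

/-- Torsion parts keep the extension property. -/
theorem extP_gammaT (hG : ExtP h𝔛 G) : ExtP h𝔛 ((FTors.gammaT 𝔛 h𝔛.1).obj G) := fun V hV ι _ k E s hs x hx => by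
  let ι' := (FTors.gammaι (FTors.openIdealFam 𝔛 h𝔛.1)).app G
  have hT : ∀ q, Tk h𝔛 (idl h𝔛.1 V) le_rfl (apm ι'.val V (s q)) := fun q y hy => by
    obtain ⟨W, hW, hyW, n, hn⟩ := exists_nhd_of_mem
      (show FTors.killSieve (FTors.openIdealFam 𝔛 h𝔛.1) G (apm ι'.val V (s q)) ∈ _ from
        (s q : FTors.torsSub (FTors.openIdealFam 𝔛 h𝔛.1) G V).2) hy
    obtain ⟨W', hW', hyW', hW'W⟩ := (IndCoh.goodBasis h𝔛).exists_mem y W hyW
    refine ⟨W', hW'W.trans hW, hyW', n + 1, fun a ha => ?_⟩
    have h1 := (killed_iff h𝔛 hW' n _).1 (hn.res (homOfLE hW'W)) (rr (hW'W.trans hW) a) (by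
      rw [← map_idl h𝔛 hV hW' (hW'W.trans hW), ← Ideal.map_pow]
      exact Ideal.mem_map_of_mem _ ha)
    change rr _ a • rm G hW'W (rm G hW _) = 0 at h1
    rw [rm_rm] at h1
    exact h1
  obtain ⟨W₀, h₀, hx₀, y, hy, hyT⟩ := exists_ext_tors h𝔛 hG (idl h𝔛.1 V) le_rfl hV E (fun q => apm ι'.val V (s q))
    (fun v hv => by
      refine Eq.trans ?_ ((congrArg (apm ι'.val V) (hs v hv)).trans (map_zero _))
      rw [map_sum]
      exact Finset.sum_congr rfl fun q _ => (map_smul _ _ _).symm) hT hx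
  let y' : Fin k → sc ((FTors.gammaT 𝔛 h𝔛.1).obj G).val W₀ := fun j =>
    show FTors.torsSub (FTors.openIdealFam 𝔛 h𝔛.1) G W₀ from ⟨y j, by
      refine mem_of_nhds (FTors.killSieve (FTors.openIdealFam 𝔛 h𝔛.1) G (y j)) fun z hz => ?_
      obtain ⟨W₁, h₁, hz₁, n, hn⟩ := hyT j z hz
      obtain ⟨W₂, hW₂, hz₂, h₂⟩ := (IndCoh.goodBasis h𝔛).exists_mem z W₁ hz₁
      refine ⟨W₂, h₂.trans h₁, hz₂, n, ?_⟩
      refine (killed_iff h𝔛 hW₂ n _).2 fun b hb => ?_
      rw [← map_idl h𝔛 hV hW₂ ((h₂.trans h₁).trans h₀), ← Ideal.map_pow] at hb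
      refine smul_eq_zero_of_mem_map h𝔛 _ (fun a ha => ?_) hb
      have e := congrArg (rm G h₂) (hn a (Ideal.pow_le_pow_right (Nat.le_succ n) ha))
      simp only [rm_smul, rm_rm, rr_rr, map_zero] at e
      exact e⟩
  haveI : Mono ι' := TorsColim.mono_gammaι _ G
  refine ⟨W₀, h₀, hx₀, y', fun q => Groth.SitesTopoi.ModH.injective_of_mono ι' _ ?_⟩
  rw [apm_rsm, map_sum]
  refine (hy q).trans (Finset.sum_congr rfl fun j _ => ?_)
  rw [map_smul]
  rfl

/-- Quotients of a module with the extension property by a submodule with the property have it. -/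
theorem extP_cokernel {I : FSch.ModF 𝔛 h𝔛.1} (φ : G ⟶ I) [Mono φ] (hG : ExtP h𝔛 G) (hI : ExtP h𝔛 I) :
    ExtP h𝔛 (cokernel φ) := fun V hV ι _ k E s hs x hx => by
  classical
  let eι := Fintype.equivFin ι
  obtain ⟨W₀, hW₀, hx₀, g, hg⟩ := exists_lifts (cokernel.π φ) hx (fun i => s (eι.symm i))
  obtain ⟨W, hWa, hxW, hWW₀⟩ := (IndCoh.goodBasis h𝔛).exists_mem x W₀ hx₀
  let e : ι → sc I.val W := fun q => rm I hWW₀ (g (eι q))
  have he : ∀ q, apm (cokernel.π φ).val W (e q) = rm (cokernel φ) (hWW₀.trans hW₀) (s q) := fun q => by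
    refine (apm_rsm _ _ _).trans ?_
    rw [hg, Equiv.symm_apply_apply]
    exact rm_rm _ hW₀ hWW₀ _
  haveI := isNoetherianRing h𝔛 hWa
  let E' : ι → Fin k → RS h𝔛.1 W := fun q j => rr (hWW₀.trans hW₀) (E q j)
  let K := LinearMap.ker (Fintype.linearCombination (RS h𝔛.1 W) E')
  have hK : ∀ v : ι → RS h𝔛.1 W, v ∈ K ↔ ∀ j, ∑ q, v q * E' q j = 0 := fun v => by
    rw [LinearMap.mem_ker, Fintype.linearCombination_apply, funext_iff]
    simp only [Finset.sum_apply, Pi.smul_apply, smul_eq_mul, Pi.zero_apply]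
  obtain ⟨l, C, hC⟩ := Submodule.fg_iff_exists_fin_generating_family.1 (IsNoetherian.noetherian K)
  have hCe : ∀ t, ∀ j, ∑ q, C t q * E' q j = 0 := fun t => (hK _).1 (hC ▸ Submodule.subset_span ⟨t, rfl⟩)
  have hz : ∀ t, apm (cokernel.π φ).val W (∑ q, C t q • e q) = 0 := fun t => by
    rw [map_sum]
    refine Eq.trans (Finset.sum_congr rfl fun q _ => ?_) (rel_local h𝔛 hV E s hs (hWW₀.trans hW₀) (C t) (hCe t))
    rw [map_smul, he]
  have hpre : ∀ t, ∃ w : sc G.val W, apm φ.val W w = ∑ q, C t q • e q := fun t => by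
    obtain ⟨w₀, hw₀⟩ := exists_kernel_sec (cokernel.π φ) _ (hz t)
    refine ⟨apm (Abelian.monoLift φ (kernel.ι (cokernel.π φ)) (kernel.condition _)).val W w₀, ?_⟩
    exact (congrArg (fun ψ : kernel (cokernel.π φ) ⟶ I => apm (SheafOfModules.Hom.val ψ) W w₀)
      (Abelian.monoLift_comp _ _ _)).trans hw₀
  choose w hw using hpre
  obtain ⟨W₁, h₁, hx₁, z, hz'⟩ := hG W hWa (Fin l) (Fintype.card ι) (fun t i => C t (eι.symm i)) w
    (fun v hv => injective_of_mono φ W (by
      simp only [map_sum, map_smul, map_zero, hw, Finset.smul_sum, smul_smul]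
      rw [Finset.sum_comm]
      refine Finset.sum_eq_zero fun q _ => ?_
      have h := hv (eι q)
      simp only [Equiv.symm_apply_apply] at h
      rw [← Finset.sum_smul, h, zero_smul])) x hxW
  obtain ⟨W₂, hW₂a, hx₂, hW₂₁⟩ := (IndCoh.goodBasis h𝔛).exists_mem x W₁ hx₁
  let e' : ι → sc I.val W₂ := fun q => rm I (hW₂₁.trans h₁) (e q) - apm φ.val W₂ (rm G hW₂₁ (z (eι q)))
  have hCz : ∀ t, ∑ q, rr (hW₂₁.trans h₁) (C t q) • e' q = 0 := fun t => by
    have h := congrArg (apm φ.val W₂) (congrArg (rm G hW₂₁) (hz' t))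
    rw [rm_rm, map_sum, map_sum, ← Equiv.sum_comp eι] at h
    simp only [rm_smul, map_smul, rr_rr, Equiv.symm_apply_apply] at h
    simp only [e', smul_sub, Finset.sum_sub_distrib]
    rw [← h]
    refine sub_eq_zero.2 ?_
    refine Eq.trans ?_ ((congrArg (rm I (hW₂₁.trans h₁)) (hw t).symm).trans (apm_rsm _ _ _).symm)
    rw [map_sum]
    exact Finset.sum_congr rfl fun q _ => (rm_smul _ _ _ _).symm
  have hrel : ∀ v : ι → RS h𝔛.1 W₂, (∀ j, ∑ q, v q * rr (hW₂₁.trans h₁) (E' q j) = 0) →
      ∑ q, v q • e' q = 0 := fun v hv => eq_zero_of_local fun y hy => by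
    obtain ⟨W', h', hyW', n, C', d, hC', hd⟩ := exists_rel h𝔛 hWa E' (hW₂₁.trans h₁) v hv hy
    refine ⟨W', h', hyW', ?_⟩
    have hzero : ∀ t, ∑ q, rr (h'.trans (hW₂₁.trans h₁)) (C' t q) • rm I h' (e' q) = 0 := fun t => by
      obtain ⟨a, ha⟩ := (Submodule.mem_span_range_iff_exists_fun _).1 (hC.symm ▸ (hK _).2 (hC' t) :
        C' t ∈ Submodule.span (RS h𝔛.1 W) (Set.range C))
      simp only [← ha, Finset.sum_apply, Pi.smul_apply, smul_eq_mul, map_sum, map_mul, Finset.sum_smul, mul_smul]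
      rw [Finset.sum_comm]
      refine Finset.sum_eq_zero fun t' _ => ?_
      have h1 := congrArg (rm I h') (hCz t')
      simp only [map_sum, rm_smul, rr_rr, map_zero] at h1
      rw [← Finset.smul_sum, h1, smul_zero]
    simp only [map_sum, rm_smul, hd, Finset.sum_smul, mul_smul]
    rw [Finset.sum_comm]
    refine Finset.sum_eq_zero fun t _ => ?_
    rw [← Finset.smul_sum]
    exact (congrArg (d t • ·) (hzero t)).trans (smul_zero _)
  obtain ⟨W₃, h₃, hx₃, y, hy⟩ := hI W₂ hW₂a ι k _ e' hrel x hx₂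
  have hle := h₃.trans (hW₂₁.trans h₁)
  refine ⟨W₃, (hle.trans hWW₀).trans hW₀, hx₃, fun j => apm (cokernel.π φ).val W₃ (y j), fun q => ?_⟩
  have h := congrArg (apm (cokernel.π φ).val W₃) (hy q)
  have h0 : ∀ (U : (𝔛.X 0).Opens) (a : sc G.val U), apm (cokernel.π φ).val U (apm φ.val U a) = 0 := fun U a =>
    congrArg (fun ψ : G ⟶ cokernel φ => apm (SheafOfModules.Hom.val ψ) U a) (cokernel.condition φ)
  rw [apm_rsm, map_sub, h0, sub_zero, apm_rsm, he, rm_rm, rm_rm, map_sum] at h
  refine h.trans (Finset.sum_congr rfl fun j _ => ?_)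
  rw [map_smul, rr_rr]
  exact congrArg (· • _) (rr_rr _ _ _)

end Formal

end Groth.AdicLinTop.TorsExt
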