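import Groth.Agent.AdicLinTop.TorsSub
import Groth.Agent.AdicLinTop.IndGroth
import Mathlib.CategoryTheory.Adjunction.AdjointFunctorTheorems

/-!
# Quasi-coherent torsion modules form a Grothendieck category, coreflective in all modules
-/

set_option autoImplicit false

universe u

open CategoryTheory CategoryTheory.Limits

set_option backward.defeqAttrib.useBackward true
set_option backward.isDefEq.respectTransparency false
set_option backward.isDefEq.respectTransparency.types false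
set_option synthInstance.maxHeartbeats 400000
set_option maxHeartbeats 1000000

namespace Groth.AdicLinTop.TorsGroth

open Groth.SitesTopoi.ModH IndCoh

variable {𝔛 : FSch.Sys.{u}} (h𝔛 : 𝔛.IsLocNoethFormal)

/-- A coherent submodule of a quasi-coherent torsion module is quasi-coherent torsion. -/
theorem isQCT_of_cohP_mono {G F : FSch.ModF 𝔛 h𝔛.1} (i : G ⟶ F) [Mono i] (hG : cohP h𝔛 G)
    (hF : FTors.IsQCT 𝔛 h𝔛.1 F) : FTors.IsQCT 𝔛 h𝔛.1 G :=
  haveI : SheafOfModules.IsFinitePresentation.{u} G := hG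
  ⟨TorsColim.isTors_of_mono _ i hF.1, inferInstance⟩

/-- A small separating family of coherent torsion modules. -/
theorem exists_separating_family :
    ∃ (I : Type u) (G : I → (FTors.IsQCT 𝔛 h𝔛.1).FullSubcategory),
      (ObjectProperty.ofObj G).IsSeparating := by
  obtain ⟨I, G, hG, hrep⟩ := FPSmall.exists_small_family (𝔛.Osh h𝔛.1)
  let G' : {i : I // FTors.IsQCT 𝔛 h𝔛.1 (G i)} → (FTors.IsQCT 𝔛 h𝔛.1).FullSubcategory :=
    fun i => ⟨G i.1, i.2⟩
  refine ⟨_, G', fun X Y f g hfg => ObjectProperty.hom_ext _ (mod_hom_ext fun U t => ?_)⟩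
  obtain ⟨P, hP, ht⟩ := TorsSub.exists_coh_sub h𝔛 X.property t
  obtain ⟨i, ⟨e⟩⟩ := hrep _ hP
  haveI : (FTors.IsQCT 𝔛 h𝔛.1).IsClosedUnderIsomorphisms :=
    haveI := TorsColim.isWeakSerre_isQCT h𝔛
    inferInstance
  have hi : FTors.IsQCT 𝔛 h𝔛.1 (G i) :=
    (FTors.IsQCT 𝔛 h𝔛.1).prop_of_iso e.symm (isQCT_of_cohP_mono h𝔛 P.incl hP X.property)
  have h1 := congrArg (fun φ => e.inv ≫ φ.hom)
    (hfg (G' ⟨i, hi⟩) (ObjectProperty.ofObj_apply G' ⟨i, hi⟩) ((FTors.IsQCT 𝔛 h𝔛.1).homMk (e.hom ≫ P.incl)))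
  have h2 : P.incl ≫ f.hom = P.incl ≫ g.hom := by simpa using h1
  exact congrArg (fun φ => apm (SheafOfModules.Hom.val φ) U (show P.mem U from ⟨t, ht⟩)) h2

/-- The inclusion of quasi-coherent torsion modules is a left adjoint. -/
theorem isLeftAdjoint_ι : (FTors.IsQCT 𝔛 h𝔛.1).ι.IsLeftAdjoint := by
  let Q := FTors.IsQCT 𝔛 h𝔛.1
  haveI hS : WSerre.IsWeakSerre Q := TorsColim.isWeakSerre_isQCT h𝔛
  have hcl : ∀ (J : Type u) [SmallCategory J], Q.IsClosedUnderColimitsOfShape J := fun J _ =>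
    TorsColim.isClosedUnderColimitsOfShape_isQCT h𝔛 J
  haveI : HasColimitsOfSize.{u, u} Q.FullSubcategory :=
    ⟨fun J _ => haveI := hcl J; hasColimitsOfShape_of_closedUnderColimits J Q⟩
  haveI : PreservesColimitsOfSize.{u, u} Q.ι := ⟨fun {J} _ =>
    haveI := hcl J
    let _ := createsColimitsOfShapeFullSubcategoryInclusion (P := Q) J
    preservesColimitOfShape_of_createsColimitsOfShape_and_hasColimitsOfShape _⟩
  haveI : Q.ContainsZero := inferInstance
  haveI : Q.IsClosedUnderKernels := inferInstance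
  haveI : Q.IsClosedUnderCokernels := inferInstance
  haveI : Q.IsClosedUnderFiniteProducts := inferInstance
  letI : Abelian Q.FullSubcategory := inferInstance
  obtain ⟨I, G, hsep⟩ := exists_separating_family h𝔛
  haveI : LocallySmall.{u} Q.FullSubcategory :=
    ⟨fun X Y => small_of_injective fun a b h => ObjectProperty.hom_ext _ h⟩
  haveI : WellPowered.{u} Q.FullSubcategory := wellPowered_of_isDetecting hsep.isDetecting
  exact isLeftAdjoint_of_preservesColimits_of_isSeparating hsep Q.ι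

/-- Quasi-coherent torsion modules form a Grothendieck abelian category. -/
theorem isGrothendieckAbelian [(FTors.IsQCT 𝔛 h𝔛.1).ContainsZero] [(FTors.IsQCT 𝔛 h𝔛.1).IsClosedUnderKernels]
    [(FTors.IsQCT 𝔛 h𝔛.1).IsClosedUnderCokernels] [(FTors.IsQCT 𝔛 h𝔛.1).IsClosedUnderFiniteProducts]
    [PreservesFiniteLimits (FTors.IsQCT 𝔛 h𝔛.1).ι] :
    IsGrothendieckAbelian.{u} (FTors.IsQCT 𝔛 h𝔛.1).FullSubcategory := by
  let Q := FTors.IsQCT 𝔛 h𝔛.1
  haveI : ∀ (J : Type u) [SmallCategory J], HasColimitsOfShape J Q.FullSubcategory := fun J _ =>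
    haveI := TorsColim.isClosedUnderColimitsOfShape_isQCT h𝔛 J
    hasColimitsOfShape_of_closedUnderColimits J Q
  haveI : ∀ (J : Type u) [SmallCategory J], PreservesColimitsOfShape J Q.ι := fun J _ =>
    haveI := TorsColim.isClosedUnderColimitsOfShape_isQCT h𝔛 J
    let _ := createsColimitsOfShapeFullSubcategoryInclusion (P := Q) J
    preservesColimitOfShape_of_createsColimitsOfShape_and_hasColimitsOfShape _
  haveI : HasFilteredColimitsOfSize.{u, u} Q.FullSubcategory := ⟨fun J _ _ => inferInstance⟩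
  haveI : AB5OfSize.{u, u} Q.FullSubcategory :=
    ⟨fun J _ _ =>
      haveI : HasExactColimitsOfShape J (FSch.ModF 𝔛 h𝔛.1) := inferInstance
      haveI : ReflectsFiniteLimits Q.ι := ⟨fun J _ _ => inferInstance⟩
      HasExactColimitsOfShape.domain_of_functor J Q.ι⟩
  obtain ⟨I, G, hsep⟩ := exists_separating_family h𝔛
  haveI : LocallySmall.{u} Q.FullSubcategory :=
    ⟨fun X Y => small_of_injective fun a b h => ObjectProperty.hom_ext _ h⟩
  exact { hasSeparator := ⟨∐ G, ObjectProperty.IsSeparating.isSeparator_coproduct hsep⟩ }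

end Groth.AdicLinTop.TorsGroth
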