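import Groth.Agent.AdicLinTop.LevelPush
import Groth.Agent.AdicLinTop.TorsGroth
import Groth.Agent.QCohMod.QCohCatAbelian
import Groth.Agent.SiteCohomology.OpensEquiv
import Groth.Agent.S0988

/-!
# Injective quasi-coherent torsion modules are flasque

On a Noetherian formal scheme every section of an injective quasi-coherent torsion module comes from a flasque
quasi-coherent module on a level.
-/

set_option autoImplicit false

universe u

open CategoryTheory CategoryTheory.Limits AlgebraicGeometry TopologicalSpace Opposite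

set_option backward.defeqAttrib.useBackward true
set_option backward.isDefEq.respectTransparency false
set_option backward.isDefEq.respectTransparency.types false
set_option synthInstance.maxHeartbeats 400000
set_option maxHeartbeats 1000000

namespace Groth.AdicLinTop.TorsFlasque

open Groth.SitesTopoi.ModH Groth.AdicLinTop.SpacePres Groth.AdicLinTop.CohKer Groth.AdicLinTop.QcohLocal
open Groth.AdicLinTop.FormalAffine Groth.AdicLinTop.AffineGlue Groth.AdicLinTop.TorsAff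
open Groth.AdicLinTop.LevelPush Groth.AdicLinTop.FormalPull

variable {𝔛 : FSch.Sys.{u}} (h𝔛 : 𝔛.IsLocNoethFormal) (N : ℕ)

/-- The direct image of quasi-coherent modules from a level. -/
noncomputable abbrev pk : QCohCat.QCoh (𝔛.X N) ⥤ FSch.ModF 𝔛 h𝔛.1 :=
  (QCohCat.isQCoh (𝔛.X N)).ι ⋙ FormalReal.push h𝔛.1 N

/-- The inverse homeomorphism of a level is bijective on opens. -/
theorem bijective_map_gInv : Function.Bijective fun U : Opens (𝔛.X 0) => (Opens.map (𝔛.gInv h𝔛.1 N)).obj U := by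
  refine ⟨fun U V h => ?_, fun W => ⟨𝔛.toX N ⁻¹ᵁ W, lvU_toX_preimage h𝔛 N W⟩⟩
  have h2 := congrArg (fun W => 𝔛.toX N ⁻¹ᵁ W) h
  exact (FormalLevels.toX_preimage_lvU h𝔛.1 N U).symm.trans (h2.trans (FormalLevels.toX_preimage_lvU h𝔛.1 N V))

/-- The direct image from a level commutes with colimits. -/
theorem preservesColimits_push (J : Type u) [SmallCategory J] :
    PreservesColimitsOfShape J (FormalReal.push h𝔛.1 N) := by
  haveI := Groth.SiteCohomology.OpensEquiv.isDenseSubsite (𝔛.gInv h𝔛.1 N) (bijective_map_gInv h𝔛 N)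
  haveI : (CohTop.push (𝔛.gInv h𝔛.1 N)).IsEquivalence :=
    inferInstanceAs ((Opens.map (𝔛.gInv h𝔛.1 N)).sheafPushforwardContinuous AddCommGrpCat.{u}
      (Opens.grothendieckTopology _) (Opens.grothendieckTopology _)).IsEquivalence
  let T := SheafOfModules.toSheaf.{u} (ModSite.ringSh (𝔛.Osh h𝔛.1))
  haveI : PreservesColimitsOfShape J (SheafOfModules.toSheaf.{u} (ModSite.ringSh (𝔛.X N).sheaf)) :=
    Groth.QCohMod.preservesColimitsOfShape_toSheaf (ModSite.ringSh (𝔛.X N).sheaf) J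
  haveI : PreservesColimitsOfShape J T :=
    Groth.QCohMod.preservesColimitsOfShape_toSheaf (ModSite.ringSh (𝔛.Osh h𝔛.1)) J
  haveI : PreservesColimitsOfShape J (CohTop.push (𝔛.gInv h𝔛.1 N)) := inferInstance
  haveI : PreservesColimitsOfShape J (FormalReal.push h𝔛.1 N ⋙ T) := preservesColimitsOfShape_of_natIso
    (show SheafOfModules.toSheaf.{u} (ModSite.ringSh (𝔛.X N).sheaf) ⋙ CohTop.push (𝔛.gInv h𝔛.1 N) ≅
      FormalReal.push h𝔛.1 N ⋙ T from Iso.refl _)
  haveI : ReflectsColimitsOfShape J T := reflectsColimitsOfShape_of_reflectsIsomorphisms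
  exact preservesColimitsOfShape_of_reflects_of_preserves (FormalReal.push h𝔛.1 N) T

/-- The direct image of quasi-coherent modules from a level is a left adjoint. -/
theorem isLeftAdjoint_pk : (pk h𝔛 N).IsLeftAdjoint := by
  haveI : PreservesColimitsOfSize.{u, u} (FormalReal.push h𝔛.1 N) := ⟨fun {J} _ => preservesColimits_push h𝔛 N J⟩
  haveI : PreservesColimitsOfSize.{u, u} (QCohCat.isQCoh (𝔛.X N)).ι :=
    haveI := Groth.QCohMod.ι_isLeftAdjoint (𝔛.X N)
    (Adjunction.ofIsLeftAdjoint (QCohCat.isQCoh (𝔛.X N)).ι).leftAdjoint_preservesColimits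
  obtain ⟨G, hG⟩ := HasSeparator.hasSeparator (C := QCohCat.QCoh (𝔛.X N))
  exact isLeftAdjoint_of_preservesColimits_of_isSeparating (P := ObjectProperty.singleton G) hG _

/-- The direct image with values in quasi-coherent torsion modules. -/
noncomputable abbrev pkq : QCohCat.QCoh (𝔛.X N) ⥤ (FTors.IsQCT 𝔛 h𝔛.1).FullSubcategory :=
  (FTors.IsQCT 𝔛 h𝔛.1).lift (pk h𝔛 N) fun G =>
    haveI : G.obj.IsQuasicoherent := G.property
    isQCT_push_level h𝔛 N G.obj

variable [CompactSpace (𝔛.X 0)]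

/-- Injective quasi-coherent torsion modules are flasque. -/
theorem surjective_rm (I : (FTors.IsQCT 𝔛 h𝔛.1).FullSubcategory) (hI : Injective I)
    {U V : (𝔛.X 0).Opens} (hUV : U ≤ V) : Function.Surjective (rm I.obj hUV) := fun s => by
  obtain ⟨P, hP, hs⟩ := TorsSub.exists_coh_sub h𝔛 I.property s
  have hPq := TorsGroth.isQCT_of_cohP_mono h𝔛 P.incl hP I.property
  obtain ⟨N, hN⟩ := TorsPushCoh.exists_killed_all h𝔛 hP hPq.1
  let Pk : QCohCat.QCoh (𝔛.X N) := ⟨pullk h𝔛.1 P.toMod N, (FormalCoh.isCoh_sys h𝔛 hP N).1⟩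
  haveI := isLeftAdjoint_pk h𝔛 N
  let a := Adjunction.ofIsLeftAdjoint (pk h𝔛 N)
  let aq : pkq h𝔛 N ⊣ (FTors.IsQCT 𝔛 h𝔛.1).ι ⋙ (pk h𝔛 N).rightAdjoint :=
    a.restrictFullyFaithful (iC := 𝟭 _) (iD := (FTors.IsQCT 𝔛 h𝔛.1).ι)
      (Functor.FullyFaithful.id _) (ObjectProperty.fullyFaithfulι _) (Iso.refl _) (Iso.refl _)
  haveI : (pk h𝔛 N).PreservesMonomorphisms := by
    haveI : (FormalReal.push h𝔛.1 N).PreservesMonomorphisms :=
      haveI := (FSch.levelMor 𝔛 h𝔛.1 N).adj.rightAdjoint_preservesLimits.{u, u}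
      inferInstance
    infer_instance
  haveI : (pkq h𝔛 N).PreservesMonomorphisms := ⟨fun {A B} φ _ =>
    (FTors.IsQCT 𝔛 h𝔛.1).ι.mono_of_mono_map (inferInstanceAs (Mono ((pk h𝔛 N).map φ)))⟩
  let J := ((FTors.IsQCT 𝔛 h𝔛.1).ι ⋙ (pk h𝔛 N).rightAdjoint).obj I
  haveI : Injective J := Injective.injective_of_adjoint aq I
  haveI : IsIso ((FSch.levelMor 𝔛 h𝔛.1 N).adj.unit.app P.toMod) := by
    have hb := TorsPushCoh.ηk_bijective h𝔛 hP hN
    haveI : Mono ((FSch.levelMor 𝔛 h𝔛.1 N).adj.unit.app P.toMod) := mono_of_injective _ fun W => (hb W).1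
    haveI : Epi ((FSch.levelMor 𝔛 h𝔛.1 N).adj.unit.app P.toMod) := ⟨fun g g' h => mod_hom_ext fun W z => by
      obtain ⟨y, hy⟩ := (hb W).2 z
      rw [← show apm ((FSch.levelMor 𝔛 h𝔛.1 N).adj.unit.app P.toMod).val W y = z from hy]
      exact congrArg (fun φ : P.toMod ⟶ _ => apm (SheafOfModules.Hom.val φ) W y) h⟩
    exact isIso_of_mono_of_epi _
  let e := asIso ((FSch.levelMor 𝔛 h𝔛.1 N).adj.unit.app P.toMod)
  let ψ : (pk h𝔛 N).obj Pk ⟶ I.obj := e.inv ≫ P.incl
  have hψ : (pk h𝔛 N).map ((a.homEquiv Pk I.obj) ψ) ≫ a.counit.app I.obj = ψ :=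
    (a.homEquiv_counit _ _ _).symm.trans (Equiv.symm_apply_apply _ _)
  haveI := h𝔛.2.2 N
  haveI : CompactSpace (𝔛.X N) := (𝔛.levelHomeo h𝔛.1 N).compactSpace
  haveI : AlgebraicGeometry.IsNoetherian (𝔛.X N) := AlgebraicGeometry.IsNoetherian.mk
  obtain ⟨t', ht'⟩ := Groth.Agent.S0988.result (𝔛.X N) J (inferInstanceAs (Injective J))
    (𝔛.lvU h𝔛.1 N U) (𝔛.lvU h𝔛.1 N V) (lvU_mono h𝔛.1 N hUV)
    (apm ((a.homEquiv Pk I.obj) ψ).hom.val _
      (show sc Pk.obj.val (𝔛.lvU h𝔛.1 N U) from apm e.hom.val U (show P.mem U from ⟨s, hs⟩)))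
  refine ⟨apm (a.counit.app I.obj).val V (show sc ((pk h𝔛 N).obj J).val V from t'), ?_⟩
  refine (ModHomology.rm_apm _ hUV _).trans ?_
  refine (congrArg (apm (a.counit.app I.obj).val U) ht').trans ?_
  refine (congrArg (fun φ : (pk h𝔛 N).obj Pk ⟶ I.obj => apm (SheafOfModules.Hom.val φ) U
    (apm e.hom.val U (show P.mem U from ⟨s, hs⟩))) hψ).trans ?_
  exact congrArg (fun φ : P.toMod ⟶ I.obj => apm (SheafOfModules.Hom.val φ) U (show P.mem U from ⟨s, hs⟩))
    (e.hom_inv_id_assoc P.incl)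

end Groth.AdicLinTop.TorsFlasque
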