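import Groth.Agent.AdicLinTop.TorsDerived
import Groth.Agent.SiteCohomology.ShriekExact
import Groth.Agent.DerivedAdj.Devissage

/-!
# The derived category of torsion modules
-/

set_option autoImplicit false

universe u

open CategoryTheory CategoryTheory.Limits AlgebraicGeometry TopologicalSpace Opposite

attribute [local instance] HasDerivedCategory.standard

set_option backward.defeqAttrib.useBackward true
set_option backward.isDefEq.respectTransparency false
set_option backward.isDefEq.respectTransparency.types false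
set_option synthInstance.maxHeartbeats 400000
set_option maxHeartbeats 1000000

namespace Groth.AdicLinTop.TorsFullDerived

open Groth.AdicLinTop.TorsAcyclic Groth.AdicLinTop.TorsDerived

variable {𝔛 : FSch.Sys.{u}} (h𝔛 : 𝔛.IsLocNoethFormal)

/-- The coreflection into torsion modules. -/
noncomputable def tau : FSch.ModF 𝔛 h𝔛.1 ⥤ (FTors.IsTorsF 𝔛 h𝔛.1).FullSubcategory :=
  (FTors.IsTorsF 𝔛 h𝔛.1).lift (FTors.gammaT 𝔛 h𝔛.1) (isTorsF_gammaT h𝔛)

/-- The coreflection adjunction. -/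
noncomputable def adj : (FTors.IsTorsF 𝔛 h𝔛.1).ι ⊣ tau h𝔛 :=
  haveI : ∀ T : (FTors.IsTorsF 𝔛 h𝔛.1).FullSubcategory,
      IsIso ((FTors.gammaι (FTors.openIdealFam 𝔛 h𝔛.1)).app T.obj) := fun T => TorsColim.isIso_gammaι _ T.property
  haveI : ∀ F, Mono ((FTors.gammaι (FTors.openIdealFam 𝔛 h𝔛.1)).app F) := fun F => TorsColim.mono_gammaι _ F
  { unit :=
      { app := fun T => (FTors.IsTorsF 𝔛 h𝔛.1).homMk (inv ((FTors.gammaι (FTors.openIdealFam 𝔛 h𝔛.1)).app T.obj))
        naturality := fun S T f => by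
          apply ObjectProperty.hom_ext
          show f.hom ≫ inv ((FTors.gammaι (FTors.openIdealFam 𝔛 h𝔛.1)).app T.obj) =
            inv ((FTors.gammaι (FTors.openIdealFam 𝔛 h𝔛.1)).app S.obj) ≫ (FTors.gammaT 𝔛 h𝔛.1).map f.hom
          rw [IsIso.eq_inv_comp, ← Category.assoc, IsIso.comp_inv_eq]
          exact ((FTors.gammaι (FTors.openIdealFam 𝔛 h𝔛.1)).naturality f.hom).symm }
    counit :=
      { app := fun F => (FTors.gammaι (FTors.openIdealFam 𝔛 h𝔛.1)).app F
        naturality := fun F G f => (FTors.gammaι (FTors.openIdealFam 𝔛 h𝔛.1)).naturality f }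
    left_triangle_components := fun T => by
      show inv ((FTors.gammaι (FTors.openIdealFam 𝔛 h𝔛.1)).app T.obj) ≫ _ = 𝟙 _
      exact IsIso.inv_hom_id _
    right_triangle_components := fun F => by
      haveI := TorsColim.isIso_gammaι (FTors.openIdealFam 𝔛 h𝔛.1) (isTorsF_gammaT h𝔛 F)
      apply ObjectProperty.hom_ext
      show inv ((FTors.gammaι (FTors.openIdealFam 𝔛 h𝔛.1)).app ((FTors.gammaT 𝔛 h𝔛.1).obj F)) ≫
        (FTors.gammaT 𝔛 h𝔛.1).map ((FTors.gammaι (FTors.openIdealFam 𝔛 h𝔛.1)).app F) = 𝟙 _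
      rw [IsIso.inv_comp_eq, Category.comp_id]
      exact (cancel_mono ((FTors.gammaι (FTors.openIdealFam 𝔛 h𝔛.1)).app F)).1
        ((FTors.gammaι (FTors.openIdealFam 𝔛 h𝔛.1)).naturality _) }

theorem additive_tau : (tau h𝔛).Additive := (adj h𝔛).right_adjoint_additive

variable [(FTors.IsTorsF 𝔛 h𝔛.1).ContainsZero] [(FTors.IsTorsF 𝔛 h𝔛.1).IsClosedUnderKernels]
  [(FTors.IsTorsF 𝔛 h𝔛.1).IsClosedUnderCokernels] [(FTors.IsTorsF 𝔛 h𝔛.1).IsClosedUnderFiniteProducts]
  [PreservesFiniteLimits (FTors.IsTorsF 𝔛 h𝔛.1).ι] [PreservesFiniteColimits (FTors.IsTorsF 𝔛 h𝔛.1).ι]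

/-- Torsion complexes. -/
noncomputable abbrev ιc := (FTors.IsTorsF 𝔛 h𝔛.1).ι.mapHomologicalComplex (ComplexShape.up ℤ)

/-- Every complex of torsion modules is quasi-isomorphic to the torsion part of a K-injective complex. -/
theorem exists_tau_resolution (S : CochainComplex (FTors.IsTorsF 𝔛 h𝔛.1).FullSubcategory ℤ) :
    haveI := additive_tau h𝔛
    ∃ M : CochainComplex (FSch.ModF 𝔛 h𝔛.1) ℤ, M.IsKInjective ∧ QuasiIso (incl h𝔛 M) ∧
      ∃ j : S ⟶ ((tau h𝔛).mapHomologicalComplex (ComplexShape.up ℤ)).obj M, QuasiIso j := by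
  haveI := additive_tau h𝔛
  obtain ⟨M, φ, -, hφ, hM, hMi⟩ := Groth.DerivedCoh.KInjRes.exists_resolution ((ιc h𝔛).obj S)
  have hS : ∀ i, FTors.IsTorsF 𝔛 h𝔛.1 (((ιc h𝔛).obj S).X i) := fun i => (S.X i).property
  have hincl : QuasiIso (incl h𝔛 M) := quasiIso_incl_of_injective h𝔛 hMi fun b =>
    isTorsF_homology_of_quasiIso h𝔛 φ b (isTorsF_homology h𝔛 hS b)
  let j : S ⟶ ((tau h𝔛).mapHomologicalComplex (ComplexShape.up ℤ)).obj M :=
    { f := fun i => (adj h𝔛).homEquiv _ _ (φ.f i)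
      comm' := fun i k _ => by
        change (adj h𝔛).homEquiv _ _ (φ.f i) ≫ (tau h𝔛).map (M.d i k) = S.d i k ≫ (adj h𝔛).homEquiv _ _ (φ.f k)
        rw [← Adjunction.homEquiv_naturality_right, ← Adjunction.homEquiv_naturality_left]
        exact congrArg ((adj h𝔛).homEquiv _ _) (φ.comm i k) }
  refine ⟨M, hM, hincl, j, ?_⟩
  haveI : QuasiIso ((ιc h𝔛).map j ≫ incl h𝔛 M) := by
    have h : (ιc h𝔛).map j ≫ incl h𝔛 M = φ := by
      ext i : 1
      exact ((adj h𝔛).homEquiv_counit _ _ _).symm.trans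
        (((adj h𝔛).homEquiv _ _).symm_apply_apply (φ.f i))
    rw [h]
    exact hφ
  haveI : QuasiIso ((ιc h𝔛).map j) := quasiIso_of_comp_right _ (incl h𝔛 M)
  exact (HomologicalComplex.quasiIso_map_iff_of_preservesHomology j (FTors.IsTorsF 𝔛 h𝔛.1).ι).1 inferInstance

/-- The derived inclusion is fully faithful. -/
theorem bijective_map (X Y : DerivedCategory (FTors.IsTorsF 𝔛 h𝔛.1).FullSubcategory) :
    Function.Bijective ((FTors.IsTorsF 𝔛 h𝔛.1).ι.mapDerivedCategory.map : (X ⟶ Y) → _) := by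
  haveI := additive_tau h𝔛
  let P := FTors.IsTorsF 𝔛 h𝔛.1
  let L := P.ι.mapDerivedCategory
  let qB := HomotopyCategory.quotient P.FullSubcategory (ComplexShape.up ℤ)
  have hrep : ∀ Z : DerivedCategory P.FullSubcategory, ∃ K, Nonempty (DerivedCategory.Qh.obj (qB.obj K) ≅ Z) := fun Z => by
    obtain ⟨K, hK⟩ := HomotopyCategory.quotient_obj_surjective
      ((DerivedCategory.Qh (C := P.FullSubcategory)).objPreimage Z)
    exact ⟨K, ⟨DerivedCategory.Qh.mapIso (eqToIso hK) ≪≫ DerivedCategory.Qh.objObjPreimageIso Z⟩⟩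
  obtain ⟨T, ⟨eX⟩⟩ := hrep X
  obtain ⟨S, ⟨eY₀⟩⟩ := hrep Y
  obtain ⟨M, hM, hincl, j, hj⟩ := exists_tau_resolution h𝔛 S
  let J := ((tau h𝔛).mapHomologicalComplex (ComplexShape.up ℤ)).obj M
  haveI : CochainComplex.IsKInjective J := Groth.SiteCohomology.isKInjective_map_of_adjunction (adj h𝔛) M hM
  haveI : IsIso (DerivedCategory.Qh.map (qB.map j)) :=
    Localization.inverts DerivedCategory.Qh (HomotopyCategory.quasiIso _ (ComplexShape.up ℤ)) _
      ((HomotopyCategory.quotient_map_mem_quasiIso_iff _).2 ((HomologicalComplex.mem_quasiIso_iff _).2 hj))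
  let eY : DerivedCategory.Qh.obj (qB.obj J) ≅ Y := (asIso (DerivedCategory.Qh.map (qB.map j))).symm ≪≫ eY₀
  suffices key : Function.Bijective
      (L.map : (DerivedCategory.Qh.obj (qB.obj T) ⟶ DerivedCategory.Qh.obj (qB.obj J)) → _) by
    have h : (L.map : (X ⟶ Y) → _) = (Iso.homCongr (L.mapIso eX) (L.mapIso eY)) ∘ L.map ∘
        (Iso.homCongr eX eY).symm := by
      funext f
      simp [Iso.homCongr]
    rw [h]
    exact ((Equiv.bijective _).comp key).comp (Equiv.bijective _)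
  let hmap := P.ι.mapHomotopyCategory (ComplexShape.up ℤ)
  let hadj := Groth.DerivedAdj.mapHomotopyCategoryAdj (adj h𝔛) (ComplexShape.up ℤ)
  let qA := HomotopyCategory.quotient (FSch.ModF 𝔛 h𝔛.1) (ComplexShape.up ℤ)
  haveI : IsIso (DerivedCategory.Qh.map (hadj.counit.app (qA.obj M))) := by
    change IsIso (DerivedCategory.Qh.map (qA.map (incl h𝔛 M)))
    exact Localization.inverts DerivedCategory.Qh (HomotopyCategory.quasiIso _ (ComplexShape.up ℤ)) _
      ((HomotopyCategory.quotient_map_mem_quasiIso_iff _).2 ((HomologicalComplex.mem_quasiIso_iff _).2 hincl))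
  haveI := hM
  have hQ := CochainComplex.IsKInjective.Qh_map_bijective (hmap.obj (qB.obj T)) M
  have hQB := CochainComplex.IsKInjective.Qh_map_bijective (qB.obj T) J
  have h1 : Function.Bijective fun g : qB.obj T ⟶ qB.obj J => DerivedCategory.Qh.map (hmap.map g) := by
    have h2 : (fun g : qB.obj T ⟶ qB.obj J => DerivedCategory.Qh.map (hmap.map g)) =
        (fun z => z ≫ inv (DerivedCategory.Qh.map (hadj.counit.app (qA.obj M)))) ∘
          DerivedCategory.Qh.map ∘ (hadj.homEquiv (qB.obj T) (qA.obj M)).symm := by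
      funext g
      refine (IsIso.eq_comp_inv _).2 ?_
      rw [← Functor.map_comp]
      exact congrArg DerivedCategory.Qh.map (hadj.homEquiv_counit _ _ g).symm
    rw [h2]
    exact ((asIso (DerivedCategory.Qh.map (hadj.counit.app (qA.obj M)))).symm.homToEquiv.bijective.comp hQ).comp
      (Equiv.bijective _)
  let e := P.ι.mapDerivedCategoryFactorsh
  refine (Function.Bijective.of_comp_iff _ hQB).1 ?_
  have h3 : (L.map ∘ (DerivedCategory.Qh.map : (qB.obj T ⟶ qB.obj J) → _)) =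
      (Iso.homCongr (e.app (qB.obj T)).symm (e.app (qB.obj J)).symm) ∘
        fun g => DerivedCategory.Qh.map (hmap.map g) := by
    funext g
    show L.map (DerivedCategory.Qh.map g) =
      e.hom.app (qB.obj T) ≫ DerivedCategory.Qh.map (hmap.map g) ≫ e.inv.app (qB.obj J)
    have hn := e.hom.naturality g
    simp only [Functor.comp_map] at hn
    rw [← Category.assoc, ← hn, Category.assoc, Iso.hom_inv_id_app]
    exact (Category.comp_id _).symm
  rw [h3]
  exact (Equiv.bijective _).comp h1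

/-- The essential image consists of the complexes with torsion cohomology. -/
theorem essImage_iff (G : DerivedCategory (FSch.ModF 𝔛 h𝔛.1)) :
    (FTors.IsTorsF 𝔛 h𝔛.1).ι.mapDerivedCategory.essImage G ↔ FTors.IsDTorsF 𝔛 h𝔛.1 G := by
  haveI := additive_tau h𝔛
  refine ⟨fun ⟨K, ⟨e⟩⟩ b => ?_, fun hG => ?_⟩
  · exact isTorsF_of_iso h𝔛 ((Groth.DerivedAdj.homologyMapDerivedIso _ K b).symm ≪≫
      (DerivedCategory.homologyFunctor (FSch.ModF 𝔛 h𝔛.1) b).mapIso e)
      ((_ : (FTors.IsTorsF 𝔛 h𝔛.1).FullSubcategory).property)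
  · obtain ⟨M, hM, hMi, ⟨e⟩⟩ := exists_rep h𝔛 G
    haveI := quasiIso_incl_of_injective h𝔛 hMi fun b => isTorsF_of_iso h𝔛 (homologyIso h𝔛 e b).symm (hG b)
    haveI : IsIso (DerivedCategory.Qh.map ((HomotopyCategory.quotient _ _).map (incl h𝔛 M))) :=
      Localization.inverts DerivedCategory.Qh (HomotopyCategory.quasiIso _ (ComplexShape.up ℤ)) _
        ((HomotopyCategory.quotient_map_mem_quasiIso_iff _).2 ((HomologicalComplex.mem_quasiIso_iff _).2 inferInstance))
    exact ⟨DerivedCategory.Qh.obj ((HomotopyCategory.quotient _ _).obj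
        (((tau h𝔛).mapHomologicalComplex (ComplexShape.up ℤ)).obj M)),
      ⟨(FTors.IsTorsF 𝔛 h𝔛.1).ι.mapDerivedCategoryFactorsh.app _ ≪≫
        asIso (DerivedCategory.Qh.map ((HomotopyCategory.quotient _ _).map (incl h𝔛 M))) ≪≫ e⟩⟩

end Groth.AdicLinTop.TorsFullDerived
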