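import Groth.Agent.AdicLinTop.TorsAff
import Groth.Agent.AdicLinTop.TorsColim
import Mathlib.RingTheory.Flat.EquationalCriterion

/-!
# The torsion part of a quasi-coherent module is quasi-coherent

Colon submodules commute with flat base change; this gives local generators of torsion parts.
-/

set_option autoImplicit false

universe u

open CategoryTheory CategoryTheory.Limits AlgebraicGeometry TopologicalSpace Opposite

set_option backward.defeqAttrib.useBackward true
set_option backward.isDefEq.respectTransparency false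
set_option backward.isDefEq.respectTransparency.types false
set_option synthInstance.maxHeartbeats 400000
set_option maxHeartbeats 1000000

namespace Groth.AdicLinTop.TorsGamma

open Groth.SitesTopoi.ModH Groth.AdicLinTop.SpacePres Groth.AdicLinTop.CohKer Groth.AdicLinTop.QcohLocal
open Groth.AdicLinTop.FormalAffine Groth.AdicLinTop.AffineGlue Groth.AdicLinTop.TorsAff

/-- A colon submodule commutes with flat base change. -/
theorem mem_ext_colon {A A' : Type u} [CommRing A] [CommRing A'] (φ : A →+* A') (hφ : φ.Flat)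
    {m l r : ℕ} (E : Fin l → Fin m → A) (e : Fin r → A) (v : Fin m → A')
    (hv : ∀ j, φ (e j) • v ∈ ext φ (Submodule.span A (Set.range E))) :
    v ∈ ext φ
      ({ carrier := {w | ∀ j, e j • w ∈ Submodule.span A (Set.range E)}
         add_mem' := fun hx hy j => by rw [smul_add]; exact add_mem (hx j) (hy j)
         zero_mem' := fun j => by rw [smul_zero]; exact zero_mem _
         smul_mem' := fun a x hx j => by rw [smul_comm]; exact Submodule.smul_mem _ _ (hx j) } :
        Submodule A (Fin m → A)) := by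
  classical
  letI := φ.toAlgebra
  haveI : Module.Flat A A' := hφ
  have hle : ext φ (Submodule.span A (Set.range E)) ≤ Submodule.span A' (Set.range fun q => φ ∘ E q) := by
    refine Submodule.span_le.2 ?_
    rintro _ ⟨w, hw, rfl⟩
    obtain ⟨a, rfl⟩ := (Submodule.mem_span_range_iff_exists_fun _).1 hw
    refine (Submodule.mem_span_range_iff_exists_fun _).2 ⟨fun q => φ (a q), funext fun i => ?_⟩
    simp [Finset.sum_apply, map_sum, map_mul]
  choose c hc using fun j => (Submodule.mem_span_range_iff_exists_fun _).1 (hle (hv j))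
  let Ix := Fin m ⊕ (Fin r × Fin l)
  let x : (Ix → A) →ₗ[A] A' := Fintype.linearCombination A (Sum.elim v fun p => c p.1 p.2)
  let col : Fin r × Fin m → (Ix → A) := fun p =>
    Pi.single (Sum.inl p.2) (e p.1) + ∑ q : Fin l, Pi.single (Sum.inr (p.1, q)) (-E q p.2)
  have hxf : x ∘ₗ Fintype.linearCombination A col = 0 := by
    refine LinearMap.ext fun w => ?_
    rw [LinearMap.comp_apply, Fintype.linearCombination_apply A col, map_sum, LinearMap.zero_apply]
    refine Finset.sum_eq_zero fun p _ => ?_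
    rw [map_smul, show x (col p) = 0 from ?_, smul_zero]
    have h := congrFun (hc p.1) p.2
    simp only [Finset.sum_apply, Pi.smul_apply, smul_eq_mul, Function.comp_apply] at h
    simp only [x, col, map_add, map_sum, Fintype.linearCombination_apply_single, Sum.elim_inl, Sum.elim_inr,
      neg_smul, Finset.sum_neg_distrib]
    rw [← sub_eq_add_neg, sub_eq_zero, Algebra.smul_def]
    exact h.symm.trans (Finset.sum_congr rfl fun q _ => (mul_comm _ _).trans (Algebra.smul_def _ _).symm)
  obtain ⟨k, a, y, hxy, haf⟩ := Module.Flat.exists_factorization_of_comp_eq_zero_of_free hxf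
  let u : Fin k → Fin m → A := fun t i => a (Pi.single (Sum.inl i) 1) t
  have hsingle : ∀ (b : Ix) (z : A), a (Pi.single b z) = z • a (Pi.single b 1) := fun b z => by
    rw [← map_smul, ← Pi.single_smul', smul_eq_mul, mul_one]
  have hu : ∀ t j, e j • u t ∈ Submodule.span A (Set.range E) := fun t j => by
    refine (Submodule.mem_span_range_iff_exists_fun _).2
      ⟨fun q => a (Pi.single (Sum.inr (j, q)) 1) t, funext fun i => ?_⟩
    have h : a (col (j, i)) = 0 := by
      have h1 := LinearMap.congr_fun haf (Pi.single (j, i) 1)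
      rwa [LinearMap.comp_apply, Fintype.linearCombination_apply_single, one_smul] at h1
    simp only [col, map_add, map_sum] at h
    rw [hsingle] at h
    have h' := congrArg (fun z : Fin k →₀ A => z t) h
    simp only [Finsupp.add_apply, Finsupp.finsetSum_apply, Finsupp.zero_apply] at h'
    simp only [hsingle _ (-E _ _), Finsupp.smul_apply, smul_eq_mul, neg_mul, Finset.sum_neg_distrib] at h'
    rw [← sub_eq_add_neg, sub_eq_zero] at h'
    simp only [Finset.sum_apply, Pi.smul_apply, smul_eq_mul, u]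
    exact (Finset.sum_congr rfl fun q _ => mul_comm _ _).trans h'.symm
  have e1 : v = ∑ t, y (Finsupp.single t 1) • (φ ∘ u t) := funext fun i => by
    have h1 : v i = y (a (Pi.single (Sum.inl i) 1)) := by
      have h2 := LinearMap.congr_fun hxy (Pi.single (Sum.inl i) 1)
      rw [LinearMap.comp_apply, show x (Pi.single (Sum.inl i) 1) = v i from
        (Fintype.linearCombination_apply_single A _ _ _).trans (one_smul A _)] at h2
      exact h2
    rw [h1]
    conv_lhs => rw [← Finsupp.univ_sum_single (a (Pi.single (Sum.inl i) 1)), map_sum]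
    simp only [Finset.sum_apply, Pi.smul_apply, Function.comp_apply, smul_eq_mul]
    refine Finset.sum_congr rfl fun t _ => ?_
    rw [← Finsupp.smul_single_one, map_smul, Algebra.smul_def, mul_comm]
    rfl
  rw [e1]
  exact Submodule.sum_mem _ fun t _ => Submodule.smul_mem _ _ (mem_ext φ (fun j => hu t j))

variable {𝔛 : FSch.Sys.{u}} (h𝔛 : 𝔛.IsLocNoethFormal) {F : FSch.ModF 𝔛 h𝔛.1}

/-- The torsion part of a quasi-coherent module is quasi-coherent torsion. -/
theorem isQCT_gammaT [SheafOfModules.IsQuasicoherent.{u} F] :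
    FTors.IsQCT 𝔛 h𝔛.1 ((FTors.gammaT 𝔛 h𝔛.1).obj F) := by
  classical
  let ι := (FTors.gammaι (FTors.openIdealFam 𝔛 h𝔛.1)).app F
  haveI : Mono ι := TorsColim.mono_gammaι _ F
  have hR := QcohLocal.relFin h𝔛 (F := F)
  have hT : FTors.IsTorsF 𝔛 h𝔛.1 ((FTors.gammaT 𝔛 h𝔛.1).obj F) := fun U s => by
    refine (Opens.grothendieckTopology _).superset_covering ?_
      (show FTors.killSieve (FTors.openIdealFam 𝔛 h𝔛.1) F (apm ι.val U s) ∈ _ from
        (s : FTors.torsSub (FTors.openIdealFam 𝔛 h𝔛.1) F U).2)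
    rintro V g ⟨n, hn⟩
    exact ⟨n, fun W h a ha => Subtype.ext (hn h a ha)⟩
  refine ⟨hT, isQuasicoherent_of_gens h𝔛 (relFin_of_mono ι hR) fun x => ?_⟩
  obtain ⟨V, hV, hxV, -, κ, g, hg⟩ := exists_gens_affine h𝔛 (F := F) x ⊤ trivial
  refine ⟨V, sc ((FTors.gammaT 𝔛 h𝔛.1).obj F).val V, id, hxV, fun U hUV t z hz => ?_⟩
  obtain ⟨p, hzp, hpU⟩ := exists_bas_le h𝔛 hV (hUV hz) U hz
  have hVp := isAffineOpen_bas h𝔛 hV p
  let x' := rm F hpU (apm ι.val U t)
  obtain ⟨N, hN⟩ : ∃ N, Killed h𝔛 N x' := by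
    obtain ⟨N, hN⟩ := exists_killed h𝔛 hT hVp.isCompact (rm ((FTors.gammaT 𝔛 h𝔛.1).obj F) hpU t)
    have h := hN.hom ι
    change Killed h𝔛 N (apm ι.val (bas h𝔛 p) (rsm ((FTors.gammaT 𝔛 h𝔛.1).obj F).val (homOfLE hpU) t)) at h
    rw [apm_rsm] at h
    exact ⟨N, h⟩
  haveI := isNoetherianRing h𝔛 hV
  obtain ⟨r, e, he⟩ := Submodule.fg_iff_exists_fin_generating_family.1
    (IsNoetherian.noetherian (idl h𝔛.1 V ^ (N + 1)))
  obtain ⟨c, hc⟩ := (Finsupp.mem_span_range_iff_exists_finsupp).1
    (span_eq_top_of_gens h𝔛 hVp hR (hg.restrict (bas_le h𝔛 p)) ▸ Submodule.mem_top :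
      x' ∈ Submodule.span (RS h𝔛.1 (bas h𝔛 p)) (Set.range fun i => rm F (bas_le h𝔛 p) (g i)))
  let m := c.support.card
  let gs : Fin m → sc F.val V := fun k => g (c.support.equivFin.symm k).1
  let a : Fin m → RS h𝔛.1 (bas h𝔛 p) := fun k => c (c.support.equivFin.symm k).1
  have hxa : x' = ∑ k, a k • rm F (bas_le h𝔛 p) (gs k) := by
    rw [← hc, Finsupp.sum]
    exact sum_fin c.support c fun i => rm F (bas_le h𝔛 p) (g i)
  obtain ⟨l, ⟨R⟩⟩ := AffineSections.exists_relData_of_relFin h𝔛 hV hR gs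
  have hmem : ∀ j, resR h𝔛.1 (bas_le h𝔛 p) (e j) • a ∈
      ext (resR h𝔛.1 (bas_le h𝔛 p)) (Submodule.span (RS h𝔛.1 V) (Set.range R.e)) := fun j => by
    refine Submodule.span_le.2 ?_ (AffineSections.mem_span_of_local h𝔛 hVp
      (fun q i => resR h𝔛.1 (bas_le h𝔛 p) (R.e q i)) _ fun y hy => ?_)
    · rintro _ ⟨q, rfl⟩
      exact mem_ext _ (Submodule.subset_span ⟨q, rfl⟩)
    · have hz0 : ∑ i, (resR h𝔛.1 (bas_le h𝔛 p) (e j) • a) i • rm F (bas_le h𝔛 p) (gs i) = 0 := by
        simp only [Pi.smul_apply, smul_eq_mul, mul_smul, ← Finset.smul_sum, ← hxa]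
        refine (killed_iff h𝔛 hVp N x').1 hN _ ?_
        rw [← map_idl h𝔛 hV hVp (bas_le h𝔛 p), ← Ideal.map_pow]
        exact Ideal.mem_map_of_mem _ (he ▸ Submodule.subset_span ⟨j, rfl⟩)
      obtain ⟨W, hW, hyW, cc, hcc⟩ := R.rel (bas h𝔛 p) (bas_le h𝔛 p) _ hz0 y hy
      exact ⟨W, hW, hyW, cc, fun i => (hcc i).trans (Finset.sum_congr rfl fun q _ => congrArg _ (rr_rr _ _ _).symm)⟩
  let Col : Submodule (RS h𝔛.1 V) (Fin m → RS h𝔛.1 V) :=
    { carrier := {w | ∀ j, e j • w ∈ Submodule.span (RS h𝔛.1 V) (Set.range R.e)}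
      add_mem' := fun hx hy j => by rw [smul_add]; exact add_mem (hx j) (hy j)
      zero_mem' := fun j => by rw [smul_zero]; exact zero_mem _
      smul_mem' := fun a x hx j => by rw [smul_comm]; exact Submodule.smul_mem _ _ (hx j) }
  have hcol := mem_ext_colon (resR h𝔛.1 (bas_le h𝔛 p)) (flat_resR h𝔛 hV hVp (bas_le h𝔛 p)) R.e e a hmem
  obtain ⟨k, d, w, hdw⟩ := Submodule.mem_span_set'.1
    (hcol : a ∈ Submodule.span (RS h𝔛.1 (bas h𝔛 p))
      ((fun v => resR h𝔛.1 (bas_le h𝔛 p) ∘ v) '' (Col : Set (Fin m → RS h𝔛.1 V))))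
  choose u hu huw using fun t => (w t).2
  have hkill : ∀ t, Killed h𝔛 N (∑ i, u t i • gs i) := fun t => by
    refine (killed_iff h𝔛 hV N _).2 fun b hb => ?_
    rw [← he] at hb
    refine Submodule.span_induction (p := fun b _ => b • ∑ i, u t i • gs i = 0) ?_ (zero_smul _ _)
      (fun b c _ _ hb hc => by rw [add_smul, hb, hc, add_zero])
      (fun b c _ hc => by rw [smul_assoc, hc, smul_zero]) hb
    rintro _ ⟨j, rfl⟩
    obtain ⟨q, hq⟩ := (Submodule.mem_span_range_iff_exists_fun _).1 (hu t j)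
    have h1 : e j • ∑ i, u t i • gs i = ∑ i, (∑ s, q s • R.e s) i • gs i := by
      rw [hq, Finset.smul_sum]
      exact Finset.sum_congr rfl fun i _ => smul_smul _ _ _
    rw [h1]
    simp only [Finset.sum_apply, Pi.smul_apply, smul_eq_mul, Finset.sum_smul, mul_smul]
    rw [Finset.sum_comm]
    simp only [← Finset.smul_sum, R.zero, smul_zero, Finset.sum_const_zero]
  let Y : Fin k → sc ((FTors.gammaT 𝔛 h𝔛.1).obj F).val V := fun t =>
    show FTors.torsSub (FTors.openIdealFam 𝔛 h𝔛.1) F V from ⟨_, FTors.IsTorsSect.of_killedBy (hkill t)⟩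
  refine ⟨bas h𝔛 p, hpU, hzp, Finset.univ.image Y,
    fun s => ∑ t ∈ Finset.univ.filter (fun t => Y t = s), d t, injective_of_mono ι _ ?_⟩
  rw [apm_rsm, map_sum]
  refine Eq.trans (show x' = ∑ t, d t • rm F (bas_le h𝔛 p) (∑ i, u t i • gs i) from ?_) ?_
  · rw [hxa, ← hdw]
    simp only [Finset.sum_apply, Pi.smul_apply, smul_eq_mul, Finset.sum_smul, map_sum, rm_smul, Finset.smul_sum]
    rw [Finset.sum_comm]
    refine Finset.sum_congr rfl fun t _ => Finset.sum_congr rfl fun i _ => ?_
    rw [smul_smul, ← huw t]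
    rfl
  · rw [← Finset.sum_fiberwise_of_maps_to (fun t _ => Finset.mem_image_of_mem Y (Finset.mem_univ t))]
    refine Finset.sum_congr rfl fun s _ => ?_
    rw [map_smul, apm_rsm, Finset.sum_smul]
    refine Finset.sum_congr rfl fun t ht => ?_
    rw [← (Finset.mem_filter.1 ht).2]
    rfl

end Groth.AdicLinTop.TorsGamma
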