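import Groth.Agent.AdicLinTop.TorsColim
import Groth.Agent.AdicLinTop.FinitePush

/-!
# Direct images of quasi-coherent torsion modules

Sections over a quasi-compact open localise at a global function; hence direct images of quasi-coherent torsion
modules between Noetherian formal schemes are quasi-coherent torsion.
-/

set_option autoImplicit false

universe u

open CategoryTheory CategoryTheory.Limits AlgebraicGeometry TopologicalSpace Opposite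

set_option backward.defeqAttrib.useBackward true
set_option backward.isDefEq.respectTransparency false
set_option backward.isDefEq.respectTransparency.types false
set_option synthInstance.maxHeartbeats 400000
set_option maxHeartbeats 1000000

namespace Groth.AdicLinTop.TorsPush

open Groth.SitesTopoi.ModH Groth.AdicLinTop.SpacePres Groth.AdicLinTop.CohKer Groth.AdicLinTop.QcohLocal
open Groth.AdicLinTop.FormalAffine Groth.AdicLinTop.FormalReal Groth.AdicLinTop.AffineGlue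
open Groth.AdicLinTop.TorsAff Groth.AdicLinTop.FinitePush

section Source

variable {𝔛 : FSch.Sys.{u}} (h𝔛 : 𝔛.IsLocNoethFormal) {F : FSch.ModF 𝔛 h𝔛.1} {U W' : (𝔛.X 0).Opens}

include h𝔛 in
/-- Opens of a quasi-compact locally Noetherian formal scheme are quasi-compact. -/
theorem isCompact_opens [CompactSpace (𝔛.X 0)] (U : (𝔛.X 0).Opens) : IsCompact (U : Set (𝔛.X 0)) := by
  haveI := h𝔛.2.2 0
  haveI : AlgebraicGeometry.IsNoetherian (𝔛.X 0) := AlgebraicGeometry.IsNoetherian.mk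
  haveI : NoetherianSpace ↥(𝔛.X 0).carrier := inferInstance
  exact NoetherianSpace.isCompact _

include h𝔛 in
/-- A finite affine covering of a quasi-compact open. -/
theorem exists_cover (hU : IsCompact (U : Set (𝔛.X 0))) :
    ∃ (t : Finset {V : (𝔛.X 0).Opens // IsAffineOpen V ∧ V ≤ U}), ∀ x ∈ U, ∃ i : t, x ∈ i.1.1 := by
  obtain ⟨t, ht⟩ := hU.elim_finite_subcover
    (fun i : {V : (𝔛.X 0).Opens // IsAffineOpen V ∧ V ≤ U} => (i.1 : Set (𝔛.X 0))) (fun i => i.1.2)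
    fun x hx => by
      obtain ⟨V, hV, hxV, hVU⟩ := (IndCoh.goodBasis h𝔛).exists_mem x U hx
      exact Set.mem_iUnion.2 ⟨⟨V, hV, hVU⟩, hxV⟩
  exact ⟨t, fun x hx => let ⟨i, hi, hxi⟩ := Set.mem_iUnion₂.1 (ht hx); ⟨⟨i, hi⟩, hxi⟩⟩

/-- A section vanishing where a function is invertible is killed by a power of it. -/
theorem exists_pow_smul_qc (hF : FTors.IsQCT 𝔛 h𝔛.1 F) (hU : IsCompact (U : Set (𝔛.X 0))) (p : RS h𝔛.1 U)
    (e : W' ≤ U) (he : W' = bas h𝔛 p) {x : sc F.val U} (hx : rm F e x = 0) : ∃ q : ℕ, p ^ q • x = 0 := by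
  classical
  subst he
  haveI := hF.2
  obtain ⟨t, ht⟩ := exists_cover h𝔛 hU
  have h0 : ∀ i : t, ∃ q : ℕ, resR h𝔛.1 i.1.2.2 p ^ q • rm F i.1.2.2 x = 0 := fun i => by
    obtain ⟨κ, g, hg⟩ := (affGen_of_isQCT h𝔛 hF).2 i.1.1 i.1.2.1
    refine exists_pow_smul h𝔛 i.1.2.1 (QcohLocal.relFin h𝔛) hF.1 hg _ (inf_le_left : i.1.1 ⊓ bas h𝔛 p ≤ _)
      (bas_res h𝔛 i.1.2.2 p).symm ?_
    rw [rm_rm]
    exact (rm_rm F e (inf_le_right : i.1.1 ⊓ bas h𝔛 p ≤ _) x).symm.trans (by rw [hx, map_zero])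
  choose q hq using h0
  refine ⟨Finset.univ.sup q, eq_zero_of_local fun y hy => ?_⟩
  obtain ⟨i, hi⟩ := ht y hy
  refine ⟨i.1.1, i.1.2.2, hi, ?_⟩
  rw [rm_smul, map_pow, ← pow_sub_mul_pow _ (Finset.le_sup (Finset.mem_univ i) : q i ≤ Finset.univ.sup q),
    mul_smul]
  exact (congrArg _ (hq i)).trans (smul_zero _)

/-- A section where a function is invertible extends up to a power of it. -/
theorem exists_extend_qc [CompactSpace (𝔛.X 0)] (hF : FTors.IsQCT 𝔛 h𝔛.1 F) (p : RS h𝔛.1 U)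
    (e : W' ≤ U) (he : W' = bas h𝔛 p) (x : sc F.val W') :
    ∃ (q : ℕ) (y : sc F.val U), resR h𝔛.1 e p ^ q • x = rm F e y := by
  classical
  subst he
  haveI := hF.2
  obtain ⟨t, ht⟩ := exists_cover h𝔛 (isCompact_opens h𝔛 U)
  have h0 : ∀ i : t, ∃ (q : ℕ) (y : sc F.val i.1.1),
      resR h𝔛.1 (inf_le_left.trans i.1.2.2 : i.1.1 ⊓ bas h𝔛 p ≤ U) p ^ q •
        rm F (inf_le_right : i.1.1 ⊓ bas h𝔛 p ≤ _) x = rm F (inf_le_left : i.1.1 ⊓ bas h𝔛 p ≤ _) y := fun i => by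
    obtain ⟨κ, g, hg⟩ := (affGen_of_isQCT h𝔛 hF).2 i.1.1 i.1.2.1
    obtain ⟨q, y, h⟩ := exists_extend h𝔛 i.1.2.1 (QcohLocal.relFin h𝔛) hF.1 hg (resR h𝔛.1 i.1.2.2 p)
      (inf_le_left : i.1.1 ⊓ bas h𝔛 p ≤ _) (bas_res h𝔛 i.1.2.2 p).symm
      (rm F (inf_le_right : i.1.1 ⊓ bas h𝔛 p ≤ _) x)
    refine ⟨q, y, ?_⟩
    rw [← h, rr_rr]
  choose q y hy using h0
  let N := Finset.univ.sup q
  let y' : ∀ i : t, sc F.val i.1.1 := fun i => resR h𝔛.1 i.1.2.2 p ^ (N - q i) • y i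
  have hy' : ∀ i : t, resR h𝔛.1 (inf_le_left.trans i.1.2.2 : i.1.1 ⊓ bas h𝔛 p ≤ U) p ^ N •
      rm F (inf_le_right : i.1.1 ⊓ bas h𝔛 p ≤ _) x = rm F (inf_le_left : i.1.1 ⊓ bas h𝔛 p ≤ _) (y' i) := fun i => by
    simp only [y', rm_smul, map_pow, ← hy i, smul_smul, rr_rr, ← pow_add]
    rw [Nat.sub_add_cancel (Finset.le_sup (Finset.mem_univ i) : q i ≤ N)]
  have hag : ∀ i j : t, ∃ r : ℕ, resR h𝔛.1 (inf_le_left.trans i.1.2.2 : i.1.1 ⊓ j.1.1 ≤ U) p ^ r •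
      (rm F (inf_le_left : i.1.1 ⊓ j.1.1 ≤ _) (y' i) - rm F (inf_le_right : i.1.1 ⊓ j.1.1 ≤ _) (y' j)) = 0 :=
    fun i j => by
    refine exists_pow_smul_qc h𝔛 hF (isCompact_opens h𝔛 _) _
      (inf_le_left : i.1.1 ⊓ j.1.1 ⊓ bas h𝔛 p ≤ _) (bas_res h𝔛 _ p).symm ?_
    have hl : i.1.1 ⊓ j.1.1 ⊓ bas h𝔛 p ≤ i.1.1 ⊓ bas h𝔛 p := le_inf (inf_le_left.trans inf_le_left) inf_le_right
    have hm : i.1.1 ⊓ j.1.1 ⊓ bas h𝔛 p ≤ j.1.1 ⊓ bas h𝔛 p := le_inf (inf_le_left.trans inf_le_right) inf_le_right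
    have a := congrArg (rm F hl) (hy' i)
    have b := congrArg (rm F hm) (hy' j)
    simp only [map_sub, rm_smul, map_pow, rm_rm, rr_rr] at a b ⊢
    rw [← a, ← b, sub_self]
  choose r hr using hag
  let M := Finset.univ.sup fun ij : t × t => r ij.1 ij.2
  let σ : ∀ i : t, sc F.val i.1.1 := fun i => resR h𝔛.1 i.1.2.2 p ^ M • y' i
  have hσ : ∀ i j, rm F (inf_le_left : i.1.1 ⊓ j.1.1 ≤ _) (σ i) = rm F (inf_le_right : i.1.1 ⊓ j.1.1 ≤ _) (σ j) :=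
    fun i j => by
    have h := congrArg (resR h𝔛.1 (inf_le_left.trans i.1.2.2 : i.1.1 ⊓ j.1.1 ≤ U) p ^ (M - r i j) • ·) (hr i j)
    simp only [smul_zero, smul_smul, ← pow_add] at h
    rw [Nat.sub_add_cancel (Finset.le_sup (f := fun ij : t × t => r ij.1 ij.2)
      (Finset.mem_univ (i, j)) : r i j ≤ M), smul_sub, sub_eq_zero] at h
    simp only [σ, rm_smul, map_pow, rr_rr]
    exact h
  obtain ⟨z, hz, -⟩ := TopCat.Sheaf.existsUnique_gluing'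
    (⟨F.val.presheaf, F.isSheaf⟩ : TopCat.Sheaf AddCommGrpCat.{u} (TopCat.of (𝔛.X 0)))
    (fun i : t => i.1.1) U (fun i => homOfLE i.1.2.2)
    (fun z hz => let ⟨i, hi⟩ := ht z hz; Opens.mem_iSup.2 ⟨i, hi⟩) σ (by exact hσ)
  have hz : ∀ i : t, rm F i.1.2.2 z = σ i := hz
  refine ⟨M + N, z, sub_eq_zero.1 (eq_zero_of_local fun w hw => ?_)⟩
  obtain ⟨i, hi⟩ := ht w (e hw)
  refine ⟨i.1.1 ⊓ bas h𝔛 p, inf_le_right, ⟨hi, hw⟩, ?_⟩
  rw [map_sub, sub_eq_zero, rm_smul, rm_rm, ← rm_rm F i.1.2.2 (inf_le_left : i.1.1 ⊓ bas h𝔛 p ≤ _), hz i]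
  simp only [σ, rm_smul, map_pow, rr_rr, ← hy' i, smul_smul, ← pow_add]

end Source

variable {𝔛 𝔜 : FSch.Sys.{u}} (f : 𝔛 ⟶ 𝔜) (h𝔛 : 𝔛.IsLocNoethFormal) (h𝔜 : 𝔜.IsLocNoethFormal)
  {M : FSch.ModF 𝔛 h𝔛.1} {U V : (𝔜.X 0).Opens}

/-- Sections of the direct image. -/
noncomputable def pe (U : (𝔜.X 0).Opens) :
    sc ((FSch.pushF f h𝔛.1 h𝔜.1).obj M).val U ≃+ sc M.val (pre f U) := AddEquiv.refl _

theorem pe_smul (a : RS h𝔜.1 U) (s : sc ((FSch.pushF f h𝔛.1 h𝔜.1).obj M).val U) :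
    pe f h𝔛 h𝔜 U (a • s) = shp f h𝔛 h𝔜 U a • pe f h𝔛 h𝔜 U s := rfl

theorem pe_rm (e : V ≤ U) (s : sc ((FSch.pushF f h𝔛.1 h𝔜.1).obj M).val U) :
    pe f h𝔛 h𝔜 V (rm _ e s) = rm M (((f : FSch.Hom 𝔛 𝔜).app 0).preimage_mono e) (pe f h𝔛 h𝔜 U s) := rfl

/-- Killed sections of a module give killed sections of the direct image. -/
theorem killed_push {n : ℕ} {s : sc ((FSch.pushF f h𝔛.1 h𝔜.1).obj M).val U}
    (hs : Killed h𝔛 n (pe f h𝔛 h𝔜 U s)) : Killed h𝔜 n s := fun W g a ha => by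
  show a • rm _ g.le s = 0
  refine (pe f h𝔛 h𝔜 W).injective ?_
  rw [pe_smul, pe_rm, map_zero]
  refine hs (homOfLE (((f : FSch.Hom 𝔛 𝔜).app 0).preimage_mono g.le)) _ ?_
  rw [FTors.mem_openIdealFam_iff] at ha ⊢
  exact (projR_shp f h𝔛 h𝔜 n W a).trans ((congrArg _ ha).trans (map_zero _))

variable [CompactSpace (𝔛.X 0)]

/-- Sections of the direct image of a torsion module are killed by an open ideal. -/
theorem exists_killed_push (hM : FTors.IsTorsF 𝔛 h𝔛.1 M)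
    (s : sc ((FSch.pushF f h𝔛.1 h𝔜.1).obj M).val U) : ∃ n, Killed h𝔜 n s :=
  (exists_killed h𝔛 hM (isCompact_opens h𝔛 _) (pe f h𝔛 h𝔜 U s)).imp fun _ hn => killed_push f h𝔛 h𝔜 hn

/-- Direct images of torsion modules are torsion. -/
theorem isTorsF_pushF (hM : FTors.IsTorsF 𝔛 h𝔛.1 M) :
    FTors.IsTorsF 𝔜 h𝔜.1 ((FSch.pushF f h𝔛.1 h𝔜.1).obj M) := fun U s => by
  obtain ⟨n, hn⟩ := exists_killed_push f h𝔛 h𝔜 hM s
  exact FTors.IsTorsSect.of_killedBy hn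

variable {W : (𝔜.X 0).Opens}

/-- A section of the direct image over a basic open extends up to a power. -/
theorem exists_extend_push (hM : FTors.IsQCT 𝔛 h𝔛.1 M) (p : RS h𝔜.1 U)
    (z : sc ((FSch.pushF f h𝔛.1 h𝔜.1).obj M).val (bas h𝔜 p)) :
    ∃ (q : ℕ) (y : sc ((FSch.pushF f h𝔛.1 h𝔜.1).obj M).val U),
      resR h𝔜.1 (bas_le h𝔜 p) p ^ q • z = rm _ (bas_le h𝔜 p) y := by
  obtain ⟨q, y, h⟩ := exists_extend_qc h𝔛 hM (shp f h𝔛 h𝔜 U p)
    (((f : FSch.Hom 𝔛 𝔜).app 0).preimage_mono (bas_le h𝔜 p)) (pre_bas f h𝔛 h𝔜 p).symm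
    (pe f h𝔛 h𝔜 _ z)
  refine ⟨q, (pe f h𝔛 h𝔜 U).symm y, (pe f h𝔛 h𝔜 _).injective ?_⟩
  rw [pe_smul, pe_rm, AddEquiv.apply_symm_apply, map_pow, ← res_shp f h𝔛 h𝔜 (bas_le h𝔜 p)
    (((f : FSch.Hom 𝔛 𝔜).app 0).preimage_mono (bas_le h𝔜 p))]
  exact h

/-- A section of the direct image vanishing on a basic open is killed by a power. -/
theorem exists_pow_smul_push (hM : FTors.IsQCT 𝔛 h𝔛.1 M) (p : RS h𝔜.1 U)
    {x : sc ((FSch.pushF f h𝔛.1 h𝔜.1).obj M).val U} (hx : rm _ (bas_le h𝔜 p) x = 0) :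
    ∃ q : ℕ, p ^ q • x = 0 := by
  obtain ⟨q, h⟩ := exists_pow_smul_qc h𝔛 hM (isCompact_opens h𝔛 _) (shp f h𝔛 h𝔜 U p)
    (((f : FSch.Hom 𝔛 𝔜).app 0).preimage_mono (bas_le h𝔜 p)) (pre_bas f h𝔛 h𝔜 p).symm
    (x := pe f h𝔛 h𝔜 U x) (by rw [← pe_rm f h𝔛 h𝔜 (bas_le h𝔜 p), hx, map_zero])
  refine ⟨q, (pe f h𝔛 h𝔜 _).injective ?_⟩
  rw [pe_smul, map_pow, h, map_zero]

/-- Sections over an affine open generate the direct image there. -/
theorem gens_pushF (hM : FTors.IsQCT 𝔛 h𝔛.1 M) (hV : IsAffineOpen V) :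
    Gens (O := 𝔜.Osh h𝔜.1) (id : sc ((FSch.pushF f h𝔛.1 h𝔜.1).obj M).val V → _) := fun W hW t x hx => by
  classical
  obtain ⟨p, hxp, hpW⟩ := exists_bas_le h𝔜 hV (hW hx) W hx
  obtain ⟨q, y, hy⟩ := exists_extend_push f h𝔛 h𝔜 hM p (rm _ hpW t)
  obtain ⟨c, hc⟩ := exists_inv h𝔜 hV (isTorsF_pushF f h𝔛 h𝔜 hM.1) p q (rm _ hpW t)
  refine ⟨bas h𝔜 p, hpW, hxp, {y}, fun _ => c, ?_⟩
  rw [Finset.sum_singleton]
  exact hc.symm.trans (congrArg (c • ·) hy)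

/-- Relations in the direct image are finitely generated over every affine open. -/
theorem exists_relData_pushF (hM : FTors.IsQCT 𝔛 h𝔛.1 M) (hV : IsAffineOpen V) {N : ℕ}
    (c : Fin N → sc ((FSch.pushF f h𝔛.1 h𝔜.1).obj M).val V) : ∃ l, Nonempty (RelData c l) := by
  classical
  haveI : IsNoetherianRing (rsec (𝔜.Osh h𝔜.1) V) := isNoetherianRing h𝔜 hV
  choose n hn using fun i => exists_killed_push f h𝔛 h𝔜 hM.1 (c i)
  let k := Finset.univ.sup n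
  have hk : ∀ i, ∀ a ∈ idl h𝔜.1 V ^ (k + 1), a • c i = 0 := fun i =>
    (killed_iff h𝔜 hV k _).1 ((hn i).mono (Finset.le_sup (Finset.mem_univ i)))
  let K := LinearMap.ker (Fintype.linearCombination (RS h𝔜.1 V) c)
  have hK : ∀ v, v ∈ K ↔ ∑ i, v i • c i = 0 := fun v => by rw [LinearMap.mem_ker, Fintype.linearCombination_apply]
  refine exists_relData_of_global c fun W hW a ha x hx => ?_
  obtain ⟨p, hxp, hpW⟩ := exists_bas_le h𝔜 hV (hW hx) W hx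
  obtain ⟨q, b, hb⟩ := (locMod h𝔜 hV p k).surj_vec (fun i => rr hpW (a i))
  have hres : ∀ i, ∀ d ∈ idl h𝔜.1 (bas h𝔜 p) ^ (k + 1), d • rm _ (bas_le h𝔜 p) (c i) = 0 := fun i =>
    (killed_iff h𝔜 (isAffineOpen_bas h𝔜 hV p) k _).1
      (((killed_iff h𝔜 hV k _).2 (hk i)).res (homOfLE (bas_le h𝔜 p)))
  have h0 : rm _ (bas_le h𝔜 p) (∑ i, b i • c i) = 0 := by
    have h1 := congrArg (rm _ hpW) ha
    simp only [map_sum, rm_smul, rm_rm, map_zero] at h1 ⊢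
    refine Eq.trans (Finset.sum_congr rfl fun i _ => ?_)
      ((Finset.smul_sum (r := resR h𝔜.1 (bas_le h𝔜 p) p ^ q)).symm.trans ((congrArg _ h1).trans (smul_zero _)))
    rw [smul_smul, eq_comm, ← sub_eq_zero, ← sub_smul]
    exact hres i _ (mem_vI.1 hb i)
  obtain ⟨r, hr⟩ := exists_pow_smul_push f h𝔛 h𝔜 hM p h0
  have hmem : (fun i => rr hpW (a i)) ∈ ext (resR h𝔜.1 (bas_le h𝔜 p)) K := by
    obtain ⟨d, hd⟩ := (locMod h𝔜 hV p k).unit_pow (q + r)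
    have hI : vI (idl h𝔜.1 (bas h𝔜 p) ^ (k + 1)) ≤ ext (resR h𝔜.1 (bas_le h𝔜 p)) K := fun v hv => by
      have he : v = ∑ i, Pi.single i (v i) := (Finset.univ_sum_single v).symm
      rw [he]
      refine Submodule.sum_mem _ fun i _ => ?_
      have h1 := mem_vI.1 hv i
      rw [← map_idl h𝔜 hV (isAffineOpen_bas h𝔜 hV p) (bas_le h𝔜 p), ← Ideal.map_pow, Ideal.map] at h1
      refine Submodule.span_induction (p := fun z _ => Pi.single i z ∈ ext (resR h𝔜.1 (bas_le h𝔜 p)) K) ?_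
        (by rw [Pi.single_zero]; exact zero_mem _) (fun z z' _ _ hz hz' => by rw [Pi.single_add]; exact add_mem hz hz')
        (fun z z' _ hz => by rw [Pi.single_smul']; exact Submodule.smul_mem _ _ hz) h1
      rintro _ ⟨z, hz, rfl⟩
      have hzK : Pi.single i z ∈ K := (hK (Pi.single i z)).2 ((Finset.sum_eq_single i (fun j _ hj => by
          rw [Pi.single_eq_of_ne hj, zero_smul]) (fun h => (h (Finset.mem_univ i)).elim)).trans
            (by rw [Pi.single_eq_same]; exact hk i z hz))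
      have hm := mem_ext (resR h𝔜.1 (bas_le h𝔜 p)) hzK
      rw [show resR h𝔜.1 (bas_le h𝔜 p) ∘ (Pi.single i z : Fin N → RS h𝔜.1 V) =
        Pi.single i (resR h𝔜.1 (bas_le h𝔜 p) z) from funext fun j =>
          Pi.apply_single (fun _ => resR h𝔜.1 (bas_le h𝔜 p)) (fun _ => map_zero _) i z j] at hm
      exact hm
    have hbr : p ^ r • b ∈ K := (hK _).2 (by
      refine Eq.trans ?_ hr
      rw [Finset.smul_sum]
      exact Finset.sum_congr rfl fun i _ => (smul_smul _ _ _).symm)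
    have hrest : (fun i => rr hpW (a i)) - d • (resR h𝔜.1 (bas_le h𝔜 p) ∘ (p ^ r • b)) ∈
        vI (idl h𝔜.1 (bas h𝔜 p) ^ (k + 1)) := mem_vI.2 fun i => by
      have h := Ideal.sub_mem _ (Ideal.mul_mem_left _ (d * resR h𝔜.1 (bas_le h𝔜 p) p ^ r) (mem_vI.1 hb i))
        (Ideal.mul_mem_right (rr hpW (a i)) _ hd)
      simp only [Pi.sub_apply, Pi.smul_apply, Function.comp_apply, smul_eq_mul, map_mul, map_pow] at h ⊢
      convert h using 1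
      ring
    have := add_mem (hI hrest) (Submodule.smul_mem _ d (mem_ext (resR h𝔜.1 (bas_le h𝔜 p)) hbr))
    rwa [sub_add_cancel] at this
  obtain ⟨m, w, v, hwv⟩ := Submodule.mem_span_set'.1 hmem
  choose v' hv' hv'' using fun t => (v t).2
  refine ⟨bas h𝔜 p, hpW, hxp, m, v', w, fun t => (hK _).1 (hv' t), fun i => ?_⟩
  have h := congrFun hwv i
  simp only [Finset.sum_apply, Pi.smul_apply, smul_eq_mul] at h
  refine h.symm.trans (Finset.sum_congr rfl fun t _ => ?_)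
  rw [← hv'' t]
  rfl

/-- Direct images of quasi-coherent torsion modules are quasi-coherent torsion. -/
theorem isQCT_pushF (hM : FTors.IsQCT 𝔛 h𝔛.1 M) :
    FTors.IsQCT 𝔜 h𝔜.1 ((FSch.pushF f h𝔛.1 h𝔜.1).obj M) := by
  refine ⟨isTorsF_pushF f h𝔛 h𝔜 hM.1, isQuasicoherent_of_gens h𝔜 (fun U N g x hx => ?_) fun x => ?_⟩
  · obtain ⟨V, hV, hxV, hVU⟩ := (IndCoh.goodBasis h𝔜).exists_mem x U hx
    obtain ⟨l, hl⟩ := exists_relData_pushF f h𝔛 h𝔜 hM hV fun i => rm _ hVU (g i)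
    exact ⟨V, hVU, l, hxV, hl⟩
  · obtain ⟨V, hV, hxV, -⟩ := (IndCoh.goodBasis h𝔜).exists_mem x ⊤ trivial
    exact ⟨V, _, _, hxV, gens_pushF f h𝔛 h𝔜 hM hV⟩

end Groth.AdicLinTop.TorsPush
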