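import Groth.Agent.AdicLinTop.TorsFlasque
import Groth.Agent.AdicLinTop.RpushVanish
import Groth.Agent.SiteCohomology.Flasque

/-!
# Higher direct images of quasi-coherent torsion modules

Along a morphism of Noetherian formal schemes they are quasi-coherent torsion: injective quasi-coherent torsion
modules are flasque, so they compute them.
-/

set_option autoImplicit false

universe u

open CategoryTheory CategoryTheory.Limits AlgebraicGeometry TopologicalSpace Opposite

set_option backward.defeqAttrib.useBackward true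
set_option backward.isDefEq.respectTransparency false
set_option backward.isDefEq.respectTransparency.types false
set_option synthInstance.maxHeartbeats 400000
set_option maxHeartbeats 1000000

namespace Groth.AdicLinTop.TorsRpush

open Groth.SitesTopoi.ModH Groth.AdicLinTop.TorsFlasque

variable {𝔛 𝔜 : FSch.Sys.{u}} (h𝔛 : 𝔛.IsLocNoethFormal) (f : 𝔛 ⟶ 𝔜)

/-- A module with surjective restrictions has no higher direct images. -/
theorem isZero_rightDerived_of_surjective (h𝔜 : 𝔜.IsFormal) (M : FSch.ModF 𝔛 h𝔛.1)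
    (hM : ∀ {U V : (𝔛.X 0).Opens} (h : U ≤ V), Function.Surjective (SpacePres.rm M h)) (q : ℕ) :
    IsZero (((FSch.pushF f h𝔛.1 h𝔜).rightDerived (q + 1)).obj M) :=
  haveI : TopCat.Sheaf.IsFlasque (ModSite.toAb M) :=
    ⟨fun {U V} i => (AddCommGrpCat.epi_iff_surjective _).2 (hM i.unop.le)⟩
  RpushVanish.isZero_rightDerived_push ((f : FSch.Hom 𝔛 𝔜).app 0).base (O' := 𝔛.Osh h𝔛.1) (O := 𝔜.Osh h𝔜)
    (FSch.pushF f h𝔛.1 h𝔜) (Iso.refl _) M q fun V y hy =>
      ⟨V, le_rfl, hy, Groth.SiteCohomology.subsingleton_HU_succ_of_flasque _ _ q⟩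

variable (h𝔜 : 𝔜.IsLocNoethFormal) [CompactSpace (𝔛.X 0)]

/-- Higher direct images of quasi-coherent torsion modules are quasi-coherent torsion. -/
theorem isQCT_rightDerived (M : FSch.ModF 𝔛 h𝔛.1) (hM : FTors.IsQCT 𝔛 h𝔛.1 M) (p : ℕ) :
    FTors.IsQCT 𝔜 h𝔜.1 (((FSch.pushF f h𝔛.1 h𝔜.1).rightDerived p).obj M) := by
  let P := FTors.IsQCT 𝔛 h𝔛.1
  let P' := FTors.IsQCT 𝔜 h𝔜.1
  haveI : WSerre.IsWeakSerre P := TorsColim.isWeakSerre_isQCT h𝔛
  haveI : WSerre.IsWeakSerre P' := TorsColim.isWeakSerre_isQCT h𝔜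
  haveI : P.IsClosedUnderFiniteProducts := inferInstance
  haveI : P'.IsClosedUnderFiniteProducts := inferInstance
  letI : Abelian P.FullSubcategory := inferInstance
  letI : Abelian P'.FullSubcategory := inferInstance
  haveI : PreservesFiniteLimits P.ι :=
    ((Functor.preservesFiniteLimits_tfae P.ι).out 2 3).mp fun _ _ g => P.preservesKernels_ι g
  haveI : PreservesFiniteLimits P'.ι :=
    ((Functor.preservesFiniteLimits_tfae P'.ι).out 2 3).mp fun _ _ g => P'.preservesKernels_ι g
  haveI : PreservesFiniteColimits P.ι :=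
    haveI := TorsGroth.isLeftAdjoint_ι h𝔛
    (Adjunction.ofIsLeftAdjoint P.ι).leftAdjoint_preservesColimits.{0, 0}.preservesFiniteColimits
  haveI : PreservesFiniteColimits P'.ι :=
    haveI := TorsGroth.isLeftAdjoint_ι h𝔜
    (Adjunction.ofIsLeftAdjoint P'.ι).leftAdjoint_preservesColimits.{0, 0}.preservesFiniteColimits
  haveI : IsGrothendieckAbelian.{u} P.FullSubcategory := TorsGroth.isGrothendieckAbelian h𝔛
  let F := FSch.pushF f h𝔛.1 h𝔜.1
  haveI : PreservesFiniteLimits F :=
    (FSch.homMor f h𝔛.1 h𝔜.1).adj.rightAdjoint_preservesLimits.{0, 0}.preservesFiniteLimits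
  let Fq : P.FullSubcategory ⥤ P'.FullSubcategory :=
    P'.lift (P.ι ⋙ F) fun X => TorsPush.isQCT_pushF f h𝔛 h𝔜 X.property
  haveI : Fq.Additive := ⟨fun {X Y a b} => ObjectProperty.hom_ext _ ((P.ι ⋙ F).map_add)⟩
  let R : InjectiveResolution (⟨M, hM⟩ : P.FullSubcategory) := injectiveResolution _
  let A := (P.ι.mapHomologicalComplex (ComplexShape.up ℕ)).obj R.cocomplex
  haveI : Mono (R.ι.f 0) := inferInstance
  obtain ⟨i⟩ := Groth.LocCohZBase.nonempty_homology_iso_of_acyclic F p A M (P.ι.map (R.ι.f 0))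
    ((P.ι.map_comp _ _).symm.trans ((congrArg P.ι.map R.ι_f_zero_comp_complex_d).trans (P.ι.map_zero _ _)))
    (P.ι.map_mono _) (R.exact₀.map P.ι)
    (fun m => by
      rw [HomologicalComplex.exactAt_iff' _ m (m + 1) (m + 2) (by simp) (by simp)]
      exact (R.exact_succ m).map P.ι)
    (fun m j => isZero_rightDerived_of_surjective h𝔛 f h𝔜.1 _
      (fun h => surjective_rm h𝔛 (R.cocomplex.X m) (R.injective m) h) j)
  let B := (Fq.mapHomologicalComplex (ComplexShape.up ℕ)).obj R.cocomplex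
  exact P'.prop_of_iso ((ShortComplex.mapHomologyIso (B.sc p) P'.ι).symm ≪≫ i) (B.sc p).homology.property

end Groth.AdicLinTop.TorsRpush
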