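import Groth.Agent.AdicLinTop.TorsColim

/-!
# Submodules of quasi-coherent torsion modules given on sections

A quasi-coherent torsion module on a locally Noetherian formal scheme is the union of its coherent submodules:
a submodule of finite type over an open subset extends to a maximal one, which is again quasi-coherent.
-/

set_option autoImplicit false

universe u

open CategoryTheory CategoryTheory.Limits AlgebraicGeometry TopologicalSpace Opposite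

set_option backward.defeqAttrib.useBackward true
set_option backward.isDefEq.respectTransparency false
set_option backward.isDefEq.respectTransparency.types false
set_option synthInstance.maxHeartbeats 400000
set_option maxHeartbeats 1000000

namespace Groth.AdicLinTop.TorsSub

open Groth.SitesTopoi.ModH Groth.AdicLinTop.SpacePres Groth.AdicLinTop.CohKer Groth.AdicLinTop.QcohLocal

section Space

variable {T : Type u} [TopologicalSpace T] {O : Sheaf (Opens.grothendieckTopology T) CommRingCat.{u}}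

/-- A sheaf of submodules, given on sections. -/
structure SubSh (F : ModSite.Mod O) where
  mem : ∀ U : Opens T, Submodule (rsec O U) (sc F.val U)
  res_mem : ∀ {U V : Opens T} (h : V ≤ U) (s : sc F.val U), s ∈ mem U → rm F h s ∈ mem V
  local_mem : ∀ {U : Opens T} (s : sc F.val U),
    (∀ x ∈ U, ∃ (V : Opens T) (h : V ≤ U), x ∈ V ∧ rm F h s ∈ mem V) → s ∈ mem U

namespace SubSh

variable {F : ModSite.Mod O}

/-- The presheaf of abelian groups of a sheaf of submodules. -/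
noncomputable def ab (P : SubSh F) : (Opens T)ᵒᵖ ⥤ AddCommGrpCat.{u} where
  obj U := AddCommGrpCat.of (P.mem U.unop)
  map {U V} i := AddCommGrpCat.ofHom
    (AddMonoidHom.mk' (fun s => ⟨rm F i.unop.le s.1, P.res_mem _ _ s.2⟩) fun _ _ => Subtype.ext (map_add _ _ _))
  map_id U := by
    ext s
    exact rm_self F _
  map_comp i j := by
    ext s
    exact (rm_rm F i.unop.le j.unop.le _).symm

noncomputable instance (P : SubSh F) (U : (Opens T)ᵒᵖ) : Module ((ModSite.ringSh O).obj.obj U) (P.ab.obj U) :=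
  inferInstanceAs (Module (rsec O U.unop) (P.mem U.unop))

/-- The module of a sheaf of submodules. -/
noncomputable def toMod (P : SubSh F) : ModSite.Mod O where
  val := PresheafOfModules.ofPresheaf P.ab fun _ _ i r s => Subtype.ext (rm_smul F i.unop.le r s.1)
  isSheaf := by
    change TopCat.Presheaf.IsSheaf (X := TopCat.of T) P.ab
    rw [TopCat.Presheaf.isSheaf_iff_isSheafUniqueGluing]
    intro ι U sf hsf
    obtain ⟨s, hs, -⟩ := TopCat.Sheaf.existsUnique_gluing'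
      (⟨F.val.presheaf, F.isSheaf⟩ : TopCat.Sheaf AddCommGrpCat.{u} (TopCat.of T)) U (iSup U)
      (fun i => homOfLE (le_iSup U i)) le_rfl (fun i => (sf i).1) (fun i j => congrArg Subtype.val (hsf i j))
    have hs : ∀ i, rm F (le_iSup U i) s = (sf i).1 := hs
    have hv : s ∈ P.mem (iSup U) := P.local_mem s fun x hx => by
      obtain ⟨i, hi⟩ := Opens.mem_iSup.1 hx
      exact ⟨U i, le_iSup U i, hi, hs i ▸ (sf i).2⟩
    refine ⟨⟨s, hv⟩, fun i => Subtype.ext (hs i), fun t ht => Subtype.ext ?_⟩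
    refine sub_eq_zero.1 (eq_zero_of_local (M := F) fun x hx => ?_)
    obtain ⟨i, hi⟩ := Opens.mem_iSup.1 hx
    exact ⟨U i, le_iSup U i, hi, by
      rw [map_sub, sub_eq_zero]
      exact (congrArg Subtype.val (ht i)).trans (hs i).symm⟩

/-- The inclusion. -/
noncomputable def incl (P : SubSh F) : P.toMod ⟶ F :=
  ⟨PresheafOfModules.homMk
    { app := fun _ => AddCommGrpCat.ofHom (AddMonoidHom.mk' (fun s => s.1) fun _ _ => rfl)
      naturality := fun _ _ _ => rfl }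
    (fun _ _ _ => rfl)⟩

instance (P : SubSh F) : Mono P.incl := mono_of_injective _ fun _ _ _ h => Subtype.ext h

/-- Combinations of given sections over an open, near every point of that open. -/
noncomputable def spanSh {V : Opens T} {n : ℕ} (c : Fin n → sc F.val V) : SubSh F where
  mem U :=
    { carrier := {t | ∀ x ∈ U ⊓ V, ∃ (W : Opens T) (hW : W ≤ U ⊓ V), x ∈ W ∧ ∃ a : Fin n → rsec O W,
        rm F (hW.trans inf_le_left) t = ∑ i, a i • rm F (hW.trans inf_le_right) (c i)}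
      zero_mem' := fun x hx => ⟨U ⊓ V, le_rfl, hx, 0, by simp⟩
      add_mem' := fun {s t} hs ht x hx => by
        obtain ⟨W, hW, hxW, a, ha⟩ := hs x hx
        obtain ⟨W', hW', hxW', b, hb⟩ := ht x hx
        refine ⟨W ⊓ W', inf_le_left.trans hW, ⟨hxW, hxW'⟩, fun i => rr inf_le_left (a i) + rr inf_le_right (b i), ?_⟩
        have h1 := congrArg (rm F (inf_le_left : W ⊓ W' ≤ W)) ha
        have h2 := congrArg (rm F (inf_le_right : W ⊓ W' ≤ W')) hb
        simp only [map_sum, rm_smul, rm_rm] at h1 h2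
        simp only [map_add, add_smul, Finset.sum_add_distrib, h1, h2]
      smul_mem' := fun r t ht x hx => by
        obtain ⟨W, hW, hxW, a, ha⟩ := ht x hx
        refine ⟨W, hW, hxW, fun i => rr (hW.trans inf_le_left) r * a i, ?_⟩
        rw [rm_smul, ha, Finset.smul_sum]
        exact Finset.sum_congr rfl fun i _ => smul_smul _ _ _ }
  res_mem {U U'} h t ht x hx := by
    obtain ⟨W, hW, hxW, a, ha⟩ := ht x ⟨h hx.1, hx.2⟩
    refine ⟨W ⊓ U', le_inf inf_le_right (inf_le_left.trans (hW.trans inf_le_right)), ⟨hxW, hx.1⟩,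
      fun i => rr inf_le_left (a i), ?_⟩
    have h1 := congrArg (rm F (inf_le_left : W ⊓ U' ≤ W)) ha
    simp only [map_sum, rm_smul, rm_rm] at h1
    rw [rm_rm]
    exact h1
  local_mem {U} t ht x hx := by
    obtain ⟨U', h, hxU', ht'⟩ := ht x hx.1
    obtain ⟨W, hW, hxW, a, ha⟩ := ht' x ⟨hxU', hx.2⟩
    refine ⟨W, hW.trans (inf_le_inf_right V h), hxW, a, ?_⟩
    rw [rm_rm] at ha
    exact ha

theorem mem_spanSh_gen {V : Opens T} {n : ℕ} (c : Fin n → sc F.val V) (i : Fin n) : c i ∈ (spanSh c).mem V :=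
  fun x hx => ⟨V ⊓ V, le_rfl, hx, fun j => if j = i then 1 else 0, by simp⟩

/-- The intersection of a family. -/
noncomputable def iInfSh {κ : Sort*} (P : κ → SubSh F) : SubSh F where
  mem U := ⨅ k, (P k).mem U
  res_mem h s hs := Submodule.mem_iInf _ |>.2 fun k => (P k).res_mem h s (Submodule.mem_iInf _ |>.1 hs k)
  local_mem s hs := Submodule.mem_iInf _ |>.2 fun k => (P k).local_mem s fun x hx => by
    obtain ⟨V, h, hxV, h'⟩ := hs x hx
    exact ⟨V, h, hxV, Submodule.mem_iInf _ |>.1 h' k⟩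

/-- The intersection of two. -/
noncomputable def infSh (P Q : SubSh F) : SubSh F where
  mem U := P.mem U ⊓ Q.mem U
  res_mem h s hs := ⟨P.res_mem h s hs.1, Q.res_mem h s hs.2⟩
  local_mem s hs := ⟨P.local_mem s fun x hx => let ⟨V, h, hxV, h'⟩ := hs x hx; ⟨V, h, hxV, h'.1⟩,
    Q.local_mem s fun x hx => let ⟨V, h, hxV, h'⟩ := hs x hx; ⟨V, h, hxV, h'.2⟩⟩

/-- The largest extension of what it is on `W`. -/
def Full (P : SubSh F) (W : Opens T) : Prop :=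
  ∀ (U : Opens T) (t : sc F.val U), rm F (inf_le_left : U ⊓ W ≤ U) t ∈ P.mem (U ⊓ W) → t ∈ P.mem U

/-- Finite type near the points of `W`. -/
def FTOn (P : SubSh F) (W : Opens T) : Prop :=
  ∀ x ∈ W, ∃ (V : Opens T) (n : ℕ) (c : Fin n → sc F.val V), x ∈ V ∧ V ≤ W ∧ (∀ i, c i ∈ P.mem V) ∧
    ∀ U ≤ V, P.mem U ≤ (spanSh c).mem U

theorem full_spanSh {V : Opens T} {n : ℕ} (c : Fin n → sc F.val V) : (spanSh c).Full V := fun U t ht x hx => by
  obtain ⟨W, hW, hxW, a, ha⟩ := ht x ⟨⟨hx.1, hx.2⟩, hx.2⟩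
  refine ⟨W, hW.trans (inf_le_inf_right V inf_le_left), hxW, a, ?_⟩
  rw [rm_rm] at ha
  exact ha

theorem ftOn_spanSh {V : Opens T} {n : ℕ} (c : Fin n → sc F.val V) : (spanSh c).FTOn V := fun _ hx =>
  ⟨V, n, c, hx, le_rfl, mem_spanSh_gen c, fun _ _ => le_rfl⟩

/-- Finite type everywhere and finitely generated relations give finite presentation. -/
theorem genData_toMod (P : SubSh F) {V : Opens T} {n : ℕ} (c : Fin n → sc F.val V) (hc : ∀ i, c i ∈ P.mem V)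
    (hP : ∀ U ≤ V, P.mem U ≤ (spanSh c).mem U) : Nonempty (GenData P.toMod V n) :=
  ⟨{ s := fun i => (⟨c i, hc i⟩ : P.mem V)
     gen := fun W hW t x hx => by
      obtain ⟨W', hW', hxW', a, ha⟩ := hP W hW (t : P.mem W).2 x ⟨hx, hW hx⟩
      refine ⟨W', hW'.trans inf_le_left, hxW', a, injective_of_mono P.incl W' ?_⟩
      rw [map_sum]
      refine Eq.trans (apm_rsm P.incl.val _ t) (ha.trans (Finset.sum_congr rfl fun i _ => ?_))
      rw [map_smul]
      rfl }⟩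

end SubSh

end Space

open Groth.AdicLinTop.FormalAffine Groth.AdicLinTop.AffineGlue Groth.AdicLinTop.TorsAff

variable {𝔛 : FSch.Sys.{u}} (h𝔛 : 𝔛.IsLocNoethFormal) {F : FSch.ModF 𝔛 h𝔛.1}

include h𝔛 in
/-- Parts of affine opens are quasi-compact. -/
theorem isCompact_of_le {U V : (𝔛.X 0).Opens} (hV : IsAffineOpen V) (h : U ≤ V) : IsCompact (U : Set (𝔛.X 0)) := by
  haveI := h𝔛.2.2 0
  haveI : IsNoetherianRing Γ(𝔛.X 0, V) := IsLocallyNoetherian.component_noetherian ⟨V, hV⟩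
  haveI : NoetherianSpace (V : Set (𝔛.X 0)) := noetherianSpace_of_isAffineOpen V hV
  have e : (U : Set (𝔛.X 0)) = Subtype.val '' {z : (V : Set (𝔛.X 0)) | z.1 ∈ U} :=
    Set.ext fun x => ⟨fun hx => ⟨⟨x, h hx⟩, hx, rfl⟩, fun ⟨z, hz, hzx⟩ => hzx ▸ hz⟩
  rw [e]
  exact (NoetherianSpace.isCompact _).image continuous_subtype_val

open SubSh

/-- The maximal extension of a submodule of finite type over an open is quasi-coherent. -/
theorem isQCT_toMod (hF : FTors.IsQCT 𝔛 h𝔛.1 F) (P : SubSh F) {W : (𝔛.X 0).Opens} (hP : P.Full W)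
    (hW : P.FTOn W) : FTors.IsQCT 𝔛 h𝔛.1 P.toMod := by
  classical
  haveI := hF.2
  have hR := QcohLocal.relFin h𝔛 (F := F)
  have hT := hF.1
  refine ⟨TorsColim.isTors_of_mono _ P.incl hT,
    isQuasicoherent_of_gens h𝔛 (relFin_of_mono P.incl hR) fun y => ?_⟩
  obtain ⟨_, ⟨V, hV, rfl⟩, hyV, -⟩ :=
    (𝔛.X 0).isBasis_affineOpens.exists_subset_of_mem_open (Set.mem_univ y) isOpen_univ
  obtain ⟨κ, g, hg⟩ := (affGen_of_isQCT h𝔛 hF).2 V hV
  refine ⟨V, P.mem V, fun m => (m : P.mem V), hyV, fun U hUV (t : P.mem U) z hz => ?_⟩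
  obtain ⟨p, hzp, hpU⟩ := exists_bas_le h𝔛 hV (hUV hz) U hz
  obtain ⟨q, y₀, hy₀⟩ := exists_extend h𝔛 hV hR hT hg p (bas_le h𝔛 p) rfl (rm F hpU t.1)
  -- a power of `p` moves `y₀` into `P` near every point of `W`
  have h0 : ∀ w : (W ⊓ V : (𝔛.X 0).Opens), ∃ f : RS h𝔛.1 V, w.1 ∈ bas h𝔛 f ∧ bas h𝔛 f ≤ W ∧
      ∃ r : ℕ, rm F (bas_le h𝔛 f) (p ^ r • y₀) ∈ P.mem (bas h𝔛 f) := fun w => by
    obtain ⟨Vw, n, c, hwV, hVW, hc, hle⟩ := hW w.1 w.2.1
    obtain ⟨f, hwf, hfV⟩ := exists_bas_le h𝔛 hV w.2.2 Vw hwV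
    refine ⟨f, hwf, hfV.trans hVW, ?_⟩
    have hVf := isAffineOpen_bas h𝔛 hV f
    let p' := resR h𝔛.1 (bas_le h𝔛 f) p
    have hfp : bas h𝔛 p' = bas h𝔛 f ⊓ bas h𝔛 p := bas_res h𝔛 _ _
    have hle' : bas h𝔛 p' ≤ bas h𝔛 p := hfp.le.trans inf_le_right
    have hVp := isAffineOpen_bas h𝔛 hVf p'
    let cf : Fin n → sc F.val (bas h𝔛 f) := fun i => rm F hfV (c i)
    let ξ := rm F ((bas_le h𝔛 p').trans (bas_le h𝔛 f)) y₀
    have hξP : ξ ∈ P.mem (bas h𝔛 p') := by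
      have h1 : rm F (bas_le h𝔛 p) y₀ ∈ P.mem (bas h𝔛 p) :=
        hy₀ ▸ Submodule.smul_mem _ _ (P.res_mem hpU _ t.2)
      have h2 := P.res_mem hle' _ h1
      rwa [rm_rm] at h2
    obtain ⟨b, hb⟩ := (Submodule.mem_span_range_iff_exists_fun _).1
      (mem_span_of_comb h𝔛 hVp hR (fun i => rm F (bas_le h𝔛 p') (cf i)) ξ fun x hx => by
        obtain ⟨W', hW', hxW', a, ha⟩ :=
          hle (bas h𝔛 p') ((bas_le h𝔛 p').trans hfV) hξP x ⟨hx, ((bas_le h𝔛 p').trans hfV) hx⟩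
        refine ⟨W', hW'.trans inf_le_left, hxW', a, ?_⟩
        simp only [cf, rm_rm]
        exact ha)
    obtain ⟨N, hN⟩ := exists_killed_finset h𝔛 hT hVf cf Finset.univ
    obtain ⟨s, β, hβ⟩ := (locMod h𝔛 hVf p' N).surj_vec b
    let η := p' ^ s • rm F (bas_le h𝔛 f) y₀ - ∑ i, β i • cf i
    obtain ⟨r, hr⟩ := exists_pow_smul h𝔛 hVf hR hT (hg.restrict (bas_le h𝔛 f)) p' (bas_le h𝔛 p') rfl
      (x := η) (by
        simp only [η, map_sub, map_sum, rm_smul, rm_rm, map_pow]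
        rw [show rm F ((bas_le h𝔛 p').trans (bas_le h𝔛 f)) y₀ = ∑ i, b i • rm F (bas_le h𝔛 p') (cf i) from hb.symm,
          Finset.smul_sum, ← Finset.sum_sub_distrib]
        refine Finset.sum_eq_zero fun i _ => ?_
        rw [smul_smul, ← sub_smul]
        refine (killed_iff h𝔛 hVp N _).1
          (((killed_iff h𝔛 hVf N _).2 (hN i (Finset.mem_univ i))).res (homOfLE (bas_le h𝔛 p'))) _ ?_
        have h2 := mem_vI.1 hβ i
        simpa only [Pi.sub_apply, Pi.smul_apply, smul_eq_mul, Function.comp_apply] using h2)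
    refine ⟨r + s, ?_⟩
    have e : rm F (bas_le h𝔛 f) (p ^ (r + s) • y₀) = ∑ i, (p' ^ r * β i) • cf i := by
      simp only [η, smul_sub, sub_eq_zero, Finset.smul_sum, smul_smul] at hr
      rw [rm_smul, map_pow, pow_add]
      exact hr
    rw [e]
    exact Submodule.sum_mem _ fun i _ => Submodule.smul_mem _ _ (P.res_mem hfV _ (hc i))
  choose f hwf hfW r hr using h0
  obtain ⟨T₀, hT₀⟩ := (isCompact_of_le h𝔛 hV (inf_le_right : W ⊓ V ≤ V)).elim_finite_subcover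
    (fun w => (bas h𝔛 (f w) : Set (𝔛.X 0))) (fun w => (bas h𝔛 (f w)).2)
    fun w hw => Set.mem_iUnion.2 ⟨⟨w, hw⟩, hwf ⟨w, hw⟩⟩
  let M := T₀.sup r
  have hm : p ^ M • y₀ ∈ P.mem V := hP V _ (P.local_mem _ fun x hx => by
    obtain ⟨i, hi, hxi⟩ := Set.mem_iUnion₂.1 (hT₀ ⟨hx.2, hx.1⟩)
    refine ⟨bas h𝔛 (f i), le_inf (bas_le h𝔛 _) (hfW i), hxi, ?_⟩
    rw [rm_rm, ← pow_sub_mul_pow p (Finset.le_sup hi : r i ≤ M), mul_smul, rm_smul]
    exact Submodule.smul_mem _ _ (hr i))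
  obtain ⟨d, hd⟩ := exists_inv h𝔛 hV hT p (M + q) (rm F hpU t.1)
  refine ⟨bas h𝔛 p, hpU, hzp, {(⟨_, hm⟩ : P.mem V)}, fun _ => d, injective_of_mono P.incl _ ?_⟩
  rw [Finset.sum_singleton, map_smul, apm_rsm, apm_rsm]
  refine hd.symm.trans ?_
  rw [pow_add, mul_smul, hy₀]
  show d • _ = d • rm F (hpU.trans hUV) (p ^ M • y₀)
  rw [rm_smul, map_pow]

/-- Finitely many sections generate an extension over a further affine open. -/
theorem exists_step (hF : FTors.IsQCT 𝔛 h𝔛.1 F) (P : SubSh F) {W : (𝔛.X 0).Opens} (hP : P.Full W)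
    (hW : P.FTOn W) {V : (𝔛.X 0).Opens} (hV : IsAffineOpen V) :
    ∃ Q : SubSh F, Q.Full (W ⊔ V) ∧ Q.FTOn (W ⊔ V) ∧ (∀ U, Q.mem U ≤ P.mem U) ∧
      ∀ U ≤ W, P.mem U ≤ Q.mem U := by
  classical
  obtain ⟨κ, g, hg⟩ := (affGen_of_isQCT h𝔛 (isQCT_toMod h𝔛 hF P hP hW)).2 V hV
  let g' : κ → sc F.val V := fun k => apm P.incl.val V (g k)
  have h0 : ∀ w : (W ⊓ V : (𝔛.X 0).Opens), ∃ (Ω : (𝔛.X 0).Opens) (hΩ : Ω ≤ V), w.1 ∈ Ω ∧
      ∃ S : Finset κ, ∀ U ≤ Ω, ∀ t ∈ P.mem U, ∀ x ∈ U, ∃ (U' : (𝔛.X 0).Opens) (hU' : U' ≤ U)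
        (hU'V : U' ≤ V), x ∈ U' ∧ ∃ a : κ → RS h𝔛.1 U', rm F hU' t = ∑ k ∈ S, a k • rm F hU'V (g' k) := fun w => by
    obtain ⟨Vw, n, c, hwV, -, hc, hle⟩ := hW w.1 w.2.1
    have hci : ∀ i, ∃ (Ω : (𝔛.X 0).Opens) (hΩ : Ω ≤ Vw ⊓ V), w.1 ∈ Ω ∧ ∃ (S : Finset κ) (a : κ → RS h𝔛.1 Ω),
        rm F (hΩ.trans inf_le_left) (c i) = ∑ k ∈ S, a k • rm F (hΩ.trans inf_le_right) (g' k) := fun i => by
      obtain ⟨Ω, hΩ, hwΩ, S, a, ha⟩ := hg (Vw ⊓ V) inf_le_right
        (show P.mem (Vw ⊓ V) from ⟨_, P.res_mem inf_le_left _ (hc i)⟩) w.1 ⟨hwV, w.2.2⟩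
      refine ⟨Ω, hΩ, hwΩ, S, a, ?_⟩
      have h1 := congrArg (apm P.incl.val Ω) ha
      rw [apm_rsm, map_sum] at h1
      refine (rm_rm F inf_le_left hΩ (c i)).symm.trans (h1.trans (Finset.sum_congr rfl fun k _ => ?_))
      rw [map_smul, apm_rsm]
    choose Ω hΩ hwΩ S a ha using hci
    let Ω₀ := (Vw ⊓ V) ⊓ Finset.univ.inf Ω
    refine ⟨Ω₀, inf_le_left.trans inf_le_right, ⟨⟨hwV, w.2.2⟩, by simpa [Opens.coe_finset_inf] using hwΩ⟩,
      Finset.univ.biUnion S, fun U hU t ht x hx => ?_⟩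
    have hUV : U ≤ Vw := hU.trans (inf_le_left.trans inf_le_left)
    obtain ⟨U', hU', hxU', b, hb⟩ := hle U hUV ht x ⟨hx, hUV hx⟩
    have hU'Ω : ∀ i, U' ≤ Ω i := fun i =>
      (hU'.trans inf_le_left).trans (hU.trans (inf_le_right.trans (Finset.inf_le (Finset.mem_univ i))))
    refine ⟨U', hU'.trans inf_le_left, (hU'.trans inf_le_left).trans (hU.trans (inf_le_left.trans inf_le_right)),
      hxU', fun k => ∑ i, b i * (if k ∈ S i then rr (hU'Ω i) (a i k) else 0), ?_⟩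
    rw [hb]
    simp only [Finset.sum_smul, mul_smul, ite_smul, zero_smul]
    rw [Finset.sum_comm]
    refine Finset.sum_congr rfl fun i _ => ?_
    have h1 := congrArg (rm F (hU'Ω i)) (ha i)
    simp only [map_sum, rm_smul, rm_rm] at h1
    rw [h1, ← Finset.smul_sum, Finset.sum_ite_mem,
      Finset.inter_eq_right.2 (Finset.subset_biUnion_of_mem S (Finset.mem_univ i))]
  choose Ω hΩ hwΩ S hS using h0
  obtain ⟨T₀, hT₀⟩ := (isCompact_of_le h𝔛 hV (inf_le_right : W ⊓ V ≤ V)).elim_finite_subcover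
    (fun w => (Ω w : Set (𝔛.X 0))) (fun w => (Ω w).2) fun w hw => Set.mem_iUnion.2 ⟨⟨w, hw⟩, hwΩ ⟨w, hw⟩⟩
  let S₀ := T₀.biUnion S
  let c : Fin S₀.card → sc F.val V := fun i => g' (S₀.equivFin.symm i).1
  have hcP : ∀ i, c i ∈ P.mem V := fun i => (g (S₀.equivFin.symm i).1 : P.mem V).2
  let Q := infSh P (spanSh c)
  have hWQ : ∀ U ≤ W, P.mem U ≤ Q.mem U := fun U hU t ht => ⟨ht, fun x hx => by
    obtain ⟨i, hi, hxi⟩ := Set.mem_iUnion₂.1 (hT₀ ⟨hU hx.1, hx.2⟩)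
    obtain ⟨U', hU', hU'V, hxU', a, ha⟩ :=
      hS i (U ⊓ Ω i) inf_le_right (rm F inf_le_left t) (P.res_mem _ _ ht) x ⟨hx.1, hxi⟩
    refine ⟨U', le_inf (hU'.trans inf_le_left) hU'V, hxU',
      fun j => if (S₀.equivFin.symm j).1 ∈ S i then a (S₀.equivFin.symm j).1 else 0, ?_⟩
    rw [rm_rm] at ha
    rw [ha, Equiv.sum_comp S₀.equivFin.symm (fun k : S₀ => (if k.1 ∈ S i then a k.1 else 0) • rm F hU'V (g' k.1)),
      Finset.sum_coe_sort S₀ (fun k => (if k ∈ S i then a k else 0) • rm F hU'V (g' k))]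
    simp only [ite_smul, zero_smul]
    rw [Finset.sum_ite_mem, Finset.inter_eq_right.2 (Finset.subset_biUnion_of_mem S hi)]⟩
  refine ⟨Q, fun U t ht => ⟨hP U t ?_, fun x hx => ?_⟩, fun x hx => ?_, fun U => inf_le_left, hWQ⟩
  · have h1 := P.res_mem (inf_le_inf_left U (le_sup_left : W ≤ W ⊔ V)) _ ht.1
    rwa [rm_rm] at h1
  · obtain ⟨U', hU', hxU', a, ha⟩ := ht.2 x ⟨⟨hx.1, Or.inr hx.2⟩, hx.2⟩
    refine ⟨U', hU'.trans (inf_le_inf_right V inf_le_left), hxU', a, ?_⟩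
    rw [rm_rm] at ha
    exact ha
  · rcases hx with hxW | hxV
    · obtain ⟨V', n, c', hxV', hV'W, hc', hle'⟩ := hW x hxW
      exact ⟨V', n, c', hxV', hV'W.trans le_sup_left, fun i => hWQ V' hV'W (hc' i),
        fun U hU t ht => hle' U hU ht.1⟩
    · exact ⟨V, _, c, hxV, le_sup_right, fun i => ⟨hcP i, mem_spanSh_gen c i⟩, fun U _ t ht => ht.2⟩

/-- Every section over an affine open lies in a coherent submodule. -/
theorem exists_coh_sub (hF : FTors.IsQCT 𝔛 h𝔛.1 F) {V₀ : (𝔛.X 0).Opens} (s : sc F.val V₀) :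
    ∃ P : SubSh F, FSch.IsCohF 𝔛 h𝔛.1 P.toMod ∧ s ∈ P.mem V₀ := by
  classical
  let St := {p : (𝔛.X 0).Opens × SubSh F // p.2.Full p.1 ∧ p.2.FTOn p.1 ∧ V₀ ≤ p.1 ∧ s ∈ p.2.mem V₀}
  let R : St → St → Prop := fun a b => a.1.1 ≤ b.1.1 ∧ (∀ U, b.1.2.mem U ≤ a.1.2.mem U) ∧
    ∀ U ≤ a.1.1, a.1.2.mem U ≤ b.1.2.mem U
  have htrans : ∀ {a b c}, R a b → R b c → R a c := fun {a b c} h h' =>
    ⟨h.1.trans h'.1, fun U => (h'.2.1 U).trans (h.2.1 U),
      fun U hU => (h.2.2 U hU).trans (h'.2.2 U (hU.trans h.1))⟩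
  let st₀ : St := ⟨(V₀, spanSh fun _ : Fin 1 => s), full_spanSh _, ftOn_spanSh _, le_rfl, mem_spanSh_gen _ 0⟩
  obtain ⟨m, hm⟩ : ∃ m : St, ∀ b, R m b → R b m := exists_maximal_of_chains_bounded (fun ch hch => by
    rcases ch.eq_empty_or_nonempty with rfl | ⟨a₀, ha₀⟩
    · exact ⟨st₀, fun a ha => absurd ha (Set.notMem_empty a)⟩
    let W : (𝔛.X 0).Opens := ⨆ a : ch, a.1.1.1
    let P : SubSh F := iInfSh fun a : ch => a.1.1.2
    have hWP : ∀ (a : ch) (U : (𝔛.X 0).Opens), U ≤ a.1.1.1 → a.1.1.2.mem U ≤ P.mem U := fun a U hU t ht =>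
      Submodule.mem_iInf _ |>.2 fun b => by
        by_cases hab : a.1 = b.1
        · obtain rfl : a = b := Subtype.ext hab
          exact ht
        · rcases hch a.2 b.2 hab with h | h
          · exact h.2.2 U hU ht
          · exact h.2.1 U ht
    refine ⟨⟨(W, P), fun U t ht => ?_, fun x hx => ?_,
      (a₀.2.2.2.1).trans (le_iSup (fun a : ch => a.1.1.1) ⟨a₀, ha₀⟩),
      hWP ⟨a₀, ha₀⟩ V₀ a₀.2.2.2.1 a₀.2.2.2.2⟩, fun a ha => ?_⟩
    · refine Submodule.mem_iInf _ |>.2 fun a => a.1.2.1 U t ?_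
      have h1 := a.1.1.2.res_mem (inf_le_inf_left U (le_iSup (fun a : ch => a.1.1.1) a)) _
        (Submodule.mem_iInf _ |>.1 ht a)
      rwa [rm_rm] at h1
    · obtain ⟨a, hxa⟩ := Opens.mem_iSup.1 hx
      obtain ⟨V, n, c, hxV, hVW, hc, hle⟩ := a.1.2.2.1 x hxa
      exact ⟨V, n, c, hxV, hVW.trans (le_iSup (fun a : ch => a.1.1.1) a), fun i => hWP a V hVW (hc i),
        fun U hU t ht => hle U hU (Submodule.mem_iInf _ |>.1 ht a)⟩
    · exact ⟨le_iSup (fun a : ch => a.1.1.1) ⟨a, ha⟩, fun U t ht => Submodule.mem_iInf _ |>.1 ht ⟨a, ha⟩,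
        fun U hU => hWP ⟨a, ha⟩ U hU⟩) htrans
  obtain ⟨⟨W, P⟩, hP, hW, hV₀, hs⟩ := m
  have htop : ∀ x : 𝔛.X 0, x ∈ W := fun x => by
    obtain ⟨_, ⟨V, hV, rfl⟩, hxV, -⟩ :=
      (𝔛.X 0).isBasis_affineOpens.exists_subset_of_mem_open (Set.mem_univ x) isOpen_univ
    obtain ⟨Q, hQ, hQW, hQP, hPQ⟩ := exists_step h𝔛 hF P hP hW hV
    exact (hm ⟨(W ⊔ V, Q), hQ, hQW, hV₀.trans le_sup_left, hPQ V₀ hV₀ hs⟩ ⟨le_sup_left, hQP, hPQ⟩).1 (Or.inr hxV)
  haveI := hF.2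
  have hR : RelFin (O := 𝔛.Osh h𝔛.1) P.toMod := relFin_of_mono P.incl (QcohLocal.relFin h𝔛)
  refine ⟨P, FPSmall.fp_of_presData fun x => ?_, hs⟩
  obtain ⟨V, n, c, hxV, -, hc, hle⟩ := hW x (htop x)
  obtain ⟨V', hV', hxV', hV'V⟩ := (IndCoh.goodBasis h𝔛).exists_mem x V hxV
  obtain ⟨D⟩ := genData_toMod P c hc hle
  obtain ⟨l, ⟨E⟩⟩ := AffineSections.exists_relData_of_relFin h𝔛 hV' hR (D.restrict hV'V).s
  exact ⟨V', n, l, hxV', ⟨{ D.restrict hV'V with r := E.e, zero := E.zero, rel := E.rel }⟩⟩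

/-- Quasi-coherent torsion modules are filtered colimits of coherent modules. -/
theorem ind_of_isQCT (hF : FTors.IsQCT 𝔛 h𝔛.1 F) : ObjectProperty.ind.{u} (IndCoh.cohP h𝔛) F := by
  haveI := hF.2
  choose P hP hs using fun p : Σ V : (𝔛.X 0).Opens, sc F.val V => exists_coh_sub h𝔛 hF p.2
  refine IndCoh.ind_of_cover h𝔛 (QcohLocal.relFin h𝔛) (fun p => (P p).toMod) hP (fun p => (P p).incl)
    fun g hg => mod_hom_ext fun U t => ?_
  have h := congrArg (fun φ => apm (SheafOfModules.Hom.val φ) U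
    (show (P ⟨U, t⟩).mem U from ⟨t, hs ⟨U, t⟩⟩)) (hg ⟨U, t⟩)
  exact h.trans rfl

end Groth.AdicLinTop.TorsSub
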