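import Groth.Agent.AdicLinTop.RigClosed
import Groth.Agent.AdicLinTop.Adic
import Mathlib.RingTheory.Valuation.ValuationRing
import Mathlib.RingTheory.Flat.TorsionFree
import Mathlib.RingTheory.LocalRing.Module
import Mathlib.RingTheory.IntegralClosure.IsIntegralClosure.Basic
import Mathlib.RingTheory.Artinian.Module
import Mathlib.RingTheory.Localization.Integral
import Mathlib.RingTheory.LocalRing.ResidueField.Basic

/-!
Over a complete valuation ring of height one, an algebraic element or its inverse is integral.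
-/

universe u v

open Polynomial

namespace Groth.AdicLinTop.ValIntegral

variable {R : Type u} [CommRing R] [IsDomain R] [ValuationRing R] [Ring.KrullDimLE 1 R]
  {t : R} [IsAdicComplete (Ideal.span {t}) R]

include t in
theorem isLocalRing_of_finite (ht : t ≠ 0) (T : Type v) [CommRing T] [IsDomain T] [Algebra R T]
    [Module.Finite R T] (hinj : Function.Injective (algebraMap R T)) : IsLocalRing T := by
  classical
  haveI : Module.Flat R T := by
    rw [Module.Flat.flat_iff_torsion_eq_bot_of_isBezout, eq_bot_iff]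
    rintro x ⟨⟨r, hr⟩, hrx⟩
    replace hrx : r • x = 0 := hrx
    rw [Algebra.smul_def, mul_eq_zero] at hrx
    exact hrx.resolve_left fun h => nonZeroDivisors.ne_zero hr (hinj (h.trans (map_zero _).symm))
  haveI : Module.Free R T := Module.free_of_flat_of_isLocalRing
  set J := (Ideal.span {t}).map (algebraMap R T) with hJ
  haveI : IsAdicComplete J T := by
    refine (IsAdicComplete.map_algebraMap_iff (S := T) (I := Ideal.span {t}) T).mpr ?_
    let b := Module.Free.chooseBasis R T
    haveI : IsPrecomplete (Ideal.span {t}) T := Groth.AdicLinTop.Adic.isPrecomplete_of_finite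
    haveI : IsHausdorff (Ideal.span {t}) T := ⟨fun x hx => b.equivFun.injective (funext fun i => by
      rw [map_zero, Pi.zero_apply]
      refine IsHausdorff.haus' (I := Ideal.span {t}) _ fun n => ?_
      rw [SModEq.zero]
      have h1 : ((LinearMap.proj i).comp b.equivFun.toLinearMap) x ∈
          ((Ideal.span {t}) ^ n • (⊤ : Submodule R T)).map
            ((LinearMap.proj i).comp b.equivFun.toLinearMap) :=
        Submodule.mem_map_of_mem (SModEq.zero.mp (hx n))
      rw [Submodule.map_smul''] at h1
      exact Submodule.smul_mono le_rfl le_top h1)⟩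
    exact { }
  haveI : Algebra.IsIntegral R T := Algebra.IsIntegral.of_finite R T
  have hJmax : ∀ m : Ideal T, m.IsMaximal → J ≤ m := fun m hm =>
    (IsAdicComplete.le_jacobson_bot J).trans (sInf_le ⟨bot_le, hm⟩)
  let M := IsLocalRing.maximalIdeal R
  let N := M.map (algebraMap R T)
  have hmax : ∀ P : Ideal T, P.IsPrime → J ≤ P → P.IsMaximal ∧ N ≤ P := by
    intro P hP hJP
    haveI := hP
    have hne : P.comap (algebraMap R T) ≠ ⊥ := fun h0 => ht (by
      have : t ∈ P.comap (algebraMap R T) :=
        hJP (Ideal.mem_map_of_mem _ (Ideal.mem_span_singleton_self t))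
      rw [h0] at this
      exact Ideal.mem_bot.mp this)
    have hm : (P.comap (algebraMap R T)).IsMaximal :=
      (hP.comap _).isMaximal_of_ne_bot hne
    exact ⟨Ideal.isMaximal_of_isIntegral_of_isMaximal_comap P hm,
      Ideal.map_le_iff_le_comap.mpr (IsLocalRing.eq_maximalIdeal hm).ge⟩
  have hfin : {m : Ideal T | m.IsMaximal}.Finite := by
    letI : Field (R ⧸ M) := Ideal.Quotient.field M
    haveI : Module.Finite (R ⧸ M) (T ⧸ N) := Module.Finite.of_restrictScalars_finite R _ _
    haveI : IsArtinianRing (T ⧸ N) := IsArtinianRing.of_finite (R ⧸ M) (T ⧸ N)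
    have h2 : {m : Ideal (T ⧸ N) | m.IsMaximal}.Finite := IsArtinianRing.setOfPred_isMaximal_finite _
    refine (h2.image (Ideal.comap (Ideal.Quotient.mk N))).subset fun m hm => ?_
    have hNm : N ≤ m := (hmax m (Ideal.IsMaximal.isPrime hm) (hJmax m hm)).2
    have hc : (m.map (Ideal.Quotient.mk N)).comap (Ideal.Quotient.mk N) = m := by
      rw [Ideal.comap_map_of_surjective _ Ideal.Quotient.mk_surjective, ← RingHom.ker_eq_comap_bot,
        Ideal.mk_ker, sup_eq_left]
      exact hNm
    refine ⟨m.map (Ideal.Quotient.mk N), ?_, hc⟩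
    haveI : m.IsMaximal := hm
    exact Ideal.IsMaximal.map_of_surjective_of_ker_le Ideal.Quotient.mk_surjective
      (by rwa [Ideal.mk_ker])
  obtain ⟨m, hm⟩ := Ideal.exists_maximal T
  exact IsLocalRing.of_unique_max_ideal ⟨m, hm, fun m' hm' =>
    Groth.AdicLinTop.RigClosed.maximal_unique J hfin (fun y hy => by
      rw [Ideal.radical_eq_sInf, Ideal.mem_sInf]
      exact fun {P} hP => hy P (hmax P hP.2 hP.1).1) m' m hm' hm⟩

variable {L : Type v} [Field L] [Algebra R L]

/-- A unit of the integral closure. -/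
def IsUnitInt (R : Type u) [CommRing R] {L : Type v} [Field L] [Algebra R L] (a : L) : Prop :=
  a ≠ 0 ∧ IsIntegral R a⁻¹

include t in
theorem unit_or_unit (ht : t ≠ 0) (hinj : Function.Injective (algebraMap R L)) {u : L}
    (hu : IsIntegral R u) : IsUnitInt R u ∨ IsUnitInt R (1 - u) := by
  let T := Algebra.adjoin R ({u} : Set L)
  haveI : Module.Finite R T := Module.Finite.iff_fg.mpr hu.fg_adjoin_singleton
  haveI : IsLocalRing T := isLocalRing_of_finite (t := t) ht T (fun a b h => hinj (congrArg Subtype.val h))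
  have key : ∀ z : T, IsUnit z → IsUnitInt R (z : L) := by
    rintro _ ⟨w, rfl⟩
    have h1 : ((w : T) : L) * ((↑w⁻¹ : T) : L) = 1 := congrArg Subtype.val w.mul_inv
    refine ⟨left_ne_zero_of_mul_eq_one h1, ?_⟩
    rw [inv_eq_of_mul_eq_one_right h1]
    exact (IsIntegral.of_finite R (↑w⁻¹ : T)).map T.val
  rcases IsLocalRing.isUnit_or_isUnit_one_sub_self (⟨u, Algebra.self_mem_adjoin_singleton R u⟩ : T) with h | h
  · exact Or.inl (key _ h)
  · exact Or.inr (key _ h)

include t in
theorem isUnitInt_add (ht : t ≠ 0) (hinj : Function.Injective (algebraMap R L)) {a b : L}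
    (ha : IsUnitInt R a) (hb : IsIntegral R b) (hb' : ¬ IsUnitInt R b) : IsUnitInt R (a + b) := by
  obtain ⟨ha0, hai⟩ := ha
  rcases unit_or_unit (t := t) ht hinj (u := -b * a⁻¹) (hb.neg.mul hai) with ⟨h0, hi⟩ | ⟨h0, hi⟩
  · exfalso
    have hb0 : b ≠ 0 := by simpa using left_ne_zero_of_mul h0
    refine hb' ⟨hb0, ?_⟩
    rw [show b⁻¹ = -((-b * a⁻¹)⁻¹ * a⁻¹) by field_simp]
    exact (hi.mul hai).neg
  · have he : a + b = a * (1 - -b * a⁻¹) := by field_simp; ring
    refine ⟨he ▸ mul_ne_zero ha0 h0, ?_⟩
    rw [he, mul_inv]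
    exact hai.mul hi

include t in
theorem isIntegral_or_inv (ht : t ≠ 0) (hinj : Function.Injective (algebraMap R L)) (x : L) :
    ∀ (n : ℕ) (c : ℕ → L), (∀ i, IsIntegral R (c i)) →
      (∑ i ∈ Finset.range (n + 1), c i * x ^ i) = 0 → (∃ i ≤ n, IsUnitInt R (c i)) →
      IsIntegral R x ∨ IsIntegral R x⁻¹ := by
  intro n
  induction n with
  | zero =>
    rintro c - hsum ⟨i, hi, hu⟩
    obtain rfl : i = 0 := by omega
    simp only [zero_add, Finset.sum_range_one, pow_zero, mul_one] at hsum
    exact absurd hsum hu.1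
  | succ n ih =>
    intro c hc hsum hu
    classical
    set S := integralClosure R L
    set z := c (n + 1) * x with hz
    have hzi : IsIntegral R z := by
      let p : S[X] := X ^ (n + 1) +
        ∑ i ∈ Finset.range (n + 1), C (⟨c i, hc i⟩ * ⟨c (n + 1), hc _⟩ ^ (n - i) : S) * X ^ i
      have hp : p.Monic := by
        refine monic_X_pow_add ?_
        refine (degree_sum_le _ _).trans_lt ((Finset.sup_lt_iff (WithBot.bot_lt_coe _)).mpr fun i hi => ?_)
        exact (degree_C_mul_X_pow_le _ _).trans_lt (WithBot.coe_lt_coe.mpr (Finset.mem_range.mp hi))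
      refine isIntegral_trans (A := S) z ⟨p, hp, ?_⟩
      rw [← aeval_def]
      simp only [p, map_add, map_sum, map_mul, map_pow, aeval_X, aeval_C]
      rw [← mul_zero (c (n + 1) ^ n), ← hsum, Finset.sum_range_succ _ (n + 1), mul_add,
        Finset.mul_sum, add_comm]
      congr 1
      · refine Finset.sum_congr rfl fun i hi => ?_
        have hin : i ≤ n := Nat.lt_succ_iff.mp (Finset.mem_range.mp hi)
        show c i * c (n + 1) ^ (n - i) * z ^ i = c (n + 1) ^ n * (c i * x ^ i)
        have h2 : c (n + 1) ^ n = c (n + 1) ^ (n - i) * c (n + 1) ^ i := by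
          rw [← pow_add, Nat.sub_add_cancel hin]
        rw [h2, hz, mul_pow]
        ring
      · rw [hz, mul_pow, pow_succ (c (n + 1))]
        ring
    by_cases htop : IsUnitInt R (c (n + 1))
    · left
      rw [show x = (c (n + 1))⁻¹ * z by rw [hz, inv_mul_cancel_left₀ htop.1]]
      exact htop.2.mul hzi
    by_cases hzu : IsUnitInt R z
    · right
      have hx0 : x ≠ 0 := fun h0 => hzu.1 (by rw [hz, h0, mul_zero])
      rw [show x⁻¹ = c (n + 1) * z⁻¹ by
        have hc0 : c (n + 1) ≠ 0 := left_ne_zero_of_mul hzu.1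
        rw [hz]; field_simp]
      exact (hc _).mul hzu.2
    refine ih (fun i => if i = n then c n + z else c i) (fun i => ?_) ?_ ?_
    · by_cases hin : i = n
      · simpa [hin] using (hc n).add hzi
      · simpa [hin] using hc i
    · rw [← hsum, Finset.sum_range_succ _ (n + 1), Finset.sum_range_succ, Finset.sum_range_succ _ n]
      rw [Finset.sum_congr rfl (fun i hi => by
        rw [if_neg (Finset.mem_range.mp hi).ne] : ∀ i ∈ Finset.range n, _ = c i * x ^ i)]
      simp only [if_pos, hz, pow_succ]
      ring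
    · obtain ⟨i, hi, hiu⟩ := hu
      have hin : i ≤ n := Nat.lt_succ_iff.mp (lt_of_le_of_ne hi (fun h => htop (by subst h; exact hiu)))
      refine ⟨i, hin, ?_⟩
      by_cases hieq : i = n
      · simp only [if_pos hieq]
        exact isUnitInt_add (t := t) ht hinj (hieq ▸ hiu) hzi hzu
      · simpa [hieq] using hiu

omit [Ring.KrullDimLE 1 R] in
/-- A nonzero polynomial is a scalar multiple of one with a unit coefficient. -/
theorem exists_primitive (p : R[X]) (hp : p ≠ 0) :
    ∃ (r : R) (c : ℕ → R), r ≠ 0 ∧ (∀ i, p.coeff i = r * c i) ∧ ∃ i ≤ p.natDegree, c i = 1 := by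
  classical
  have key : ∀ s : Finset ℕ, s.Nonempty → ∃ j ∈ s, ∀ i ∈ s, p.coeff j ∣ p.coeff i := by
    intro s hs
    induction hs using Finset.Nonempty.cons_induction with
    | singleton a => exact ⟨a, Finset.mem_singleton_self a, fun i hi => by rw [Finset.mem_singleton.mp hi]⟩
    | cons a s ha hs ih =>
      obtain ⟨j, hj, hjs⟩ := ih
      rcases ValuationRing.dvd_total (p.coeff j) (p.coeff a) with h | h
      · exact ⟨j, Finset.mem_cons_of_mem hj, fun i hi => by
          rcases Finset.mem_cons.mp hi with rfl | hi'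
          · exact h
          · exact hjs i hi'⟩
      · exact ⟨a, Finset.mem_cons_self a s, fun i hi => by
          rcases Finset.mem_cons.mp hi with rfl | hi'
          · exact dvd_refl _
          · exact h.trans (hjs i hi')⟩
  obtain ⟨j, hj, hdvd⟩ := key p.support (Polynomial.support_nonempty.mpr hp)
  have hall : ∀ i, ∃ c, p.coeff i = p.coeff j * c := fun i => by
    by_cases hi : i ∈ p.support
    · exact hdvd i hi
    · exact ⟨0, by rw [Polynomial.notMem_support_iff.mp hi, mul_zero]⟩
  choose c hc using hall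
  have hj0 : p.coeff j ≠ 0 := Polynomial.mem_support_iff.mp hj
  refine ⟨p.coeff j, c, hj0, hc, j, Polynomial.le_natDegree_of_ne_zero hj0, ?_⟩
  exact (mul_eq_left₀ hj0).mp (hc j).symm

include t in
theorem isIntegral_or_isIntegral_inv (ht : t ≠ 0) (hinj : Function.Injective (algebraMap R L))
    {x : L} (hx : IsAlgebraic R x) : IsIntegral R x ∨ IsIntegral R x⁻¹ := by
  obtain ⟨p, hp, hpx⟩ := hx
  obtain ⟨r, c, hr, hc, i, hi, hci⟩ := exists_primitive p hp
  refine isIntegral_or_inv (t := t) ht hinj x p.natDegree (fun i => algebraMap R L (c i))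
    (fun i => isIntegral_algebraMap) ?_ ⟨i, hi, by simp [IsUnitInt, hci, isIntegral_one]⟩
  rw [Polynomial.aeval_eq_sum_range] at hpx
  simp only [hc, Algebra.smul_def, map_mul, mul_assoc, ← Finset.mul_sum] at hpx
  exact (mul_eq_zero.mp hpx).resolve_left fun h => hr (hinj (h.trans (map_zero _).symm))

end Groth.AdicLinTop.ValIntegral
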